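import Cfsg.Agent.Mrg.Omega.NOThreeL.RRed.Blk.Dich
import Cfsg.Agent.Mrg.Omega.TC.No

section


/-!
# NO-3L, box R: two orbits of rank one blocks (#23492, (G2))

`S` a Sylow 2-subgroup, `Dec S L U N E R₀`, `One S L U N E z`; `O : Set ι` an `S`-orbit of blocks (`Orb`), `V_O =
⨆ b ∈ O, N b` :

* `Dec.sup_eq` : `R` a minimal parabolic in `L`, `E b ≤ R ⊔ C` for some `b` : `R = (R ⊓ EO) ⊔ S`,
  `EO = ⨆_{E b ≤ R ⊔ C} E b`;
* `Dec.comp_z` : the components of an `S`-fixed `v ≠ 1` of `V_O` are the `z b`;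
* `Two` : `ι = O 0 ∪ O 1`, `v i ∈ V (O i)` fixed by `S`; for a minimal parabolic `R ≤ L` which fixes `v j` and moves
  `v i` : `Two.main` (`R` is (K1) with blocks `O i`), `Two.uni`, `Two.odd`, `Two.irr`, `Two.same`.
-/

set_option autoImplicit false
set_option linter.unusedSectionVars false

namespace Cfsg.Agent.Omega.NOThreeL.RRed.Blk

open Subgroup Cfsg Cfsg.Agent.ZN
open Cfsg.Agent.MinSimple.MinParabolic (IsMinPar)
open scoped Pointwise

universe u v

variable {G : Type u} [Group G] {ι : Type v}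

/-- The blocks of `R`. -/
def EO (C : Subgroup G) (E : ι → Subgroup G) (R : Subgroup G) : Subgroup G := ⨆ b : {b // E b ≤ R ⊔ C}, E b

/-- An `S`-orbit of blocks. -/
structure Orb (S : Subgroup G) (N : ι → Subgroup G) (O : Set ι) : Prop where
  ne : O.Nonempty
  inv : ∀ s ∈ S, ∀ b ∈ O, ∀ c, MulAut.conj s • N b = N c → c ∈ O
  tr : ∀ b ∈ O, ∀ c ∈ O, ∃ s ∈ S, MulAut.conj s • N b = N c

theorem le_norm_of {A W : Subgroup G} (h : ∀ a ∈ A, ∀ x ∈ W, a * x * a⁻¹ ∈ W) : A ≤ normalizer (W : Set G) := by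
  intro a ha
  rw [mem_normalizer_iff]
  intro x
  refine ⟨h a ha x, fun hx => ?_⟩
  have e : x = a⁻¹ * (a * x * a⁻¹) * a⁻¹⁻¹ := by group
  rw [e]
  exact h a⁻¹ (inv_mem ha) _ hx

namespace Dec

variable {L U : Subgroup G} {N E : ι → Subgroup G} {R₀ : Subgroup G} {z : ι → G}

section
variable {S : Subgroup G} (h : Dec S L U N E R₀)
include h

/-- `b ↦ c` under `g` determines `c ↦ b` under `g⁻¹`. -/
theorem inv_smul_N {g : G} {b c : ι} (e : MulAut.conj g • N b = N c) : MulAut.conj g⁻¹ • N c = N b := by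
  rw [← e, map_inv, inv_smul_smul]

theorem ex_pre {g : G} (hg : g ∈ L) (c : ι) : ∃ b, MulAut.conj g • N b = N c ∧ MulAut.conj g • E b = E c := by
  obtain ⟨b, h1, h2⟩ := h.perm g⁻¹ (inv_mem hg) c
  refine ⟨b, ?_, ?_⟩
  · rw [← h1, map_inv, smul_inv_smul]
  · rw [← h2, map_inv, smul_inv_smul]

theorem E_of_N {g : G} (hg : g ∈ L) {b c : ι} (e : MulAut.conj g • N b = N c) : MulAut.conj g • E b = E c := by
  obtain ⟨d, h1, h2⟩ := h.perm g hg b
  have : d = c := h.Ninj (by rw [← h1, e])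
  rw [← this]; exact h2

end

section
variable [Finite G] {S : Sylow 2 G} (h : Dec (S : Subgroup G) L U N E R₀) (o : One (S : Subgroup G) L U N E z)
include h

/-- `R` normalises `EO`. -/
theorem norm_EO {R : Subgroup G} (hRL : R ≤ L) :
    R ≤ normalizer ((EO (L ⊓ centralizer (U : Set G)) E R : Subgroup G) : Set G) := by
  refine le_norm_of fun r hr x hx => ?_
  have h1 : MulAut.conj r • EO (L ⊓ centralizer (U : Set G)) E R ≤ EO (L ⊓ centralizer (U : Set G)) E R := by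
    unfold EO
    rw [show MulAut.conj r • (⨆ b : {b // E b ≤ R ⊔ (L ⊓ centralizer (U : Set G))}, E b) =
      ⨆ b : {b // E b ≤ R ⊔ (L ⊓ centralizer (U : Set G))}, MulAut.conj r • E b from Subgroup.map_iSup _ _]
    refine iSup_le fun b => ?_
    obtain ⟨c, _, hc⟩ := h.perm r (hRL hr) b
    rw [hc]
    refine le_iSup (fun d : {d // E d ≤ R ⊔ (L ⊓ centralizer (U : Set G))} => E d) ⟨c, ?_⟩
    rw [← hc]
    have h2 : MulAut.conj r • (R ⊔ (L ⊓ centralizer (U : Set G))) = R ⊔ (L ⊓ centralizer (U : Set G)) :=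
      smul_of_mem (le_normalizer (mem_sup_left hr))
    exact (Subgroup.pointwise_smul_le_pointwise_smul_iff.2 b.2).trans h2.le
  exact h1 ((conj_smul rfl).1 hx)

include o

/-- `R = (R ⊓ EO) S` -/
theorem sup_eq {R : Subgroup G} (hRL : R ≤ L) (hR : IsMinPar (S : Subgroup G) R) {b : ι}
    (hb : E b ≤ R ⊔ (L ⊓ centralizer (U : Set G))) :
    (R ⊓ EO (L ⊓ centralizer (U : Set G)) E R) ⊔ (S : Subgroup G) = R := by
  refine (dich hR (h.norm_EO hRL)).resolve_left fun h1 => ?_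
  have hbE : E b ≤ EO (L ⊓ centralizer (U : Set G)) E R :=
    le_iSup (fun d : {d // E d ≤ R ⊔ (L ⊓ centralizer (U : Set G))} => E d) ⟨b, hb⟩
  have hCn : R ≤ normalizer ((L ⊓ centralizer (U : Set G) : Subgroup G) : Set G) := hRL.trans h.C_normal
  have key : ∀ e ∈ E b, ∀ x ∈ ((S : Subgroup G) ⊓ E b) ⊔ (L ⊓ centralizer (U : Set G)),
      e * x * e⁻¹ ∈ ((S : Subgroup G) ⊓ E b) ⊔ (L ⊓ centralizer (U : Set G)) := by
    intro e he x hx
    obtain ⟨r, hr, c, hc, rfl⟩ := mem_sup_of hCn (hb he)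
    have hcx : c * x * c⁻¹ ∈ ((S : Subgroup G) ⊓ E b) ⊔ (L ⊓ centralizer (U : Set G)) :=
      mul_mem (mul_mem (mem_sup_right hc) hx) (inv_mem (mem_sup_right hc))
    have hrE : r ∈ E b := by
      have e1 : r = (r * c) * c⁻¹ := by group
      rw [e1]; exact mul_mem he (inv_mem (h.CE b hc))
    have e2 : r * c * x * (r * c)⁻¹ = r * (c * x * c⁻¹) * r⁻¹ := by group
    rw [e2]
    have hn : r ∈ normalizer ((((S : Subgroup G) ⊓ E b) ⊔ (L ⊓ centralizer (U : Set G)) : Subgroup G) : Set G) := by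
      have h3 : (zpowers r) ≤ normalizer ((((S : Subgroup G) ⊓ E b) ⊔ (L ⊓ centralizer (U : Set G)) :
          Subgroup G) : Set G) := by
        refine le_norm_of fun a ha y hy => ?_
        have haR : a ∈ R := (zpowers_le.2 hr) ha
        have haE : a ∈ E b := (zpowers_le.2 hrE) ha
        have hSn : (S : Subgroup G) ⊓ E b ≤ normalizer ((L ⊓ centralizer (U : Set G) : Subgroup G) : Set G) :=
          inf_le_left.trans (hR.le.trans hCn)
        obtain ⟨s, hs, d, hd, rfl⟩ := mem_sup_of hSn hy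
        have e3 : a * (s * d) * a⁻¹ = (a * s * a⁻¹) * (a * d * a⁻¹) := by group
        rw [e3]
        refine mul_mem (mem_sup_left ?_) (mem_sup_right (conj_of (hCn haR) hd))
        refine mem_inf.2 ⟨?_, mul_mem (mul_mem haE hs.2) (inv_mem haE)⟩
        exact (conj_of (h1 haR) (mem_inf.2 ⟨hs.1, hbE hs.2⟩)).1
      exact h3 (mem_zpowers r)
    exact conj_of hn hcx
  have h4 := o.gen b _ (sup_le inf_le_right (h.CE b)) le_sup_left le_sup_right (le_norm_of key)
  obtain ⟨e, he, hez⟩ := o.mv b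
  have hSn : (S : Subgroup G) ⊓ E b ≤ normalizer ((L ⊓ centralizer (U : Set G) : Subgroup G) : Set G) :=
    inf_le_left.trans (hR.le.trans hCn)
  obtain ⟨s, hs, c, hc, rfl⟩ := mem_sup_of hSn (h4 he)
  apply hez
  have e5 : s * c * z b * (s * c)⁻¹ = s * (c * z b * c⁻¹) * s⁻¹ := by group
  rw [e5, cent hc.2 (h.NU b (o.zN b))]
  exact o.zS b s hs

/-- An `S`-fixed element of `V_O` has components `z b`. -/
theorem comp_z [Finite ι] {O : Set ι} (hO : Orb (S : Subgroup G) N O) {x : G} (hx : x ∈ ⨆ b ∈ O, N b) (hx1 : x ≠ 1)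
    (hS : ∀ s ∈ (S : Subgroup G), s * x * s⁻¹ = x) :
    (∀ b ∈ O, IsC N R₀ b x (z b)) ∧ ∀ b, b ∉ O → IsC N R₀ b x 1 := by
  have hN : (⨆ b ∈ O, N b) ≤ ⨆ b, N b := iSup₂_le fun b _ => le_iSup N b
  have hU : (⨆ b ∈ O, N b) ≤ U := hN.trans (iSup_le h.NU)
  have h2 : ∀ b, b ∉ O → IsC N R₀ b x 1 := fun b hb => by
    refine h.comp_one ?_
    have : (⨆ c ∈ O, N c) ≤ Co N R₀ b := iSup₂_le fun c hc => h.N_le_Co fun e => hb (e ▸ hc)
    exact this hx
  refine ⟨fun b hb => ?_, h2⟩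
  obtain ⟨n, hn⟩ := h.ex_comp b (hU hx)
  have h3 : n = 1 ∨ n = z b := by
    refine o.fix b n hn.1 fun s hs => ?_
    have h4 := h.comp_conj (h.SL hs.1) (smul_of_mem (h.EN b hs.2)) hn
    rw [hS s hs.1] at h4
    exact h.uniq h4 hn
  rcases h3 with rfl | rfl
  · exfalso
    apply hx1
    refine h.ext (hN hx) (one_mem _) fun c => ⟨1, ?_, h.comp_one (one_mem _)⟩
    by_cases hc : c ∈ O
    · obtain ⟨s, hs, e⟩ := hO.tr b hb c hc
      have h4 := h.comp_conj (h.SL hs) e hn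
      rw [hS s hs, mul_one, mul_inv_cancel] at h4
      exact h4
    · exact h2 c hc
  · exact hn

end

end Dec

/-- Two orbits of rank one blocks. -/
structure TwoO [Finite G] (S : Sylow 2 G) (L U : Subgroup G) (N E : ι → Subgroup G) (R₀ : Subgroup G) (z : ι → G)
    (O : Fin 2 → Set ι) (v : Fin 2 → G) : Prop where
  dec : Dec (S : Subgroup G) L U N E R₀
  one : One (S : Subgroup G) L U N E z
  orb : ∀ i, Orb (S : Subgroup G) N (O i)
  cov : ∀ b, b ∈ O 0 ∨ b ∈ O 1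
  dis : ∀ b, b ∈ O 0 → b ∉ O 1
  vV : ∀ i, v i ∈ ⨆ b ∈ O i, N b
  v1 : ∀ i, v i ≠ 1
  vS : ∀ i, ∀ s ∈ (S : Subgroup G), s * v i * s⁻¹ = v i

/-- `V_i` -/
def VO (N : ι → Subgroup G) (O : Fin 2 → Set ι) (i : Fin 2) : Subgroup G := ⨆ b ∈ O i, N b

namespace TwoO

variable [Finite G] [Finite ι] {S : Sylow 2 G} {L U : Subgroup G} {N E : ι → Subgroup G} {R₀ : Subgroup G} {z : ι → G}
  {O : Fin 2 → Set ι} {v : Fin 2 → G} (t : TwoO S L U N E R₀ z O v)
include t

theorem mem_or {i j : Fin 2} (hij : i ≠ j) (b : ι) : b ∈ O i ∨ b ∈ O j := by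
  have h2 : ∀ k : Fin 2, k = 0 ∨ k = 1 := by decide
  rcases h2 i with rfl | rfl <;> rcases h2 j with rfl | rfl
  · exact absurd rfl hij
  · exact t.cov b
  · exact (t.cov b).symm
  · exact absurd rfl hij

theorem notMem {i j : Fin 2} (hij : i ≠ j) {b : ι} (hb : b ∈ O i) : b ∉ O j := by
  have h2 : ∀ k : Fin 2, k = 0 ∨ k = 1 := by decide
  rcases h2 i with rfl | rfl <;> rcases h2 j with rfl | rfl
  · exact absurd rfl hij
  · exact t.dis b hb
  · exact fun h => t.dis b h hb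
  · exact absurd rfl hij

theorem comp (i : Fin 2) {b : ι} (hb : b ∈ O i) : IsC N R₀ b (v i) (z b) :=
  (t.dec.comp_z t.one (t.orb i) (t.vV i) (t.v1 i) (t.vS i)).1 b hb

theorem comp' (i : Fin 2) {b : ι} (hb : b ∉ O i) : IsC N R₀ b (v i) 1 :=
  (t.dec.comp_z t.one (t.orb i) (t.vV i) (t.v1 i) (t.vS i)).2 b hb

theorem VN (i : Fin 2) : VO N O i ≤ ⨆ b, N b := iSup₂_le fun b _ => le_iSup N b

theorem VU (i : Fin 2) : VO N O i ≤ U := (t.VN i).trans (iSup_le t.dec.NU)

/-- `r ∈ L` maps the blocks of `O j` to blocks of `O j` if it fixes `v j`. -/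
theorem maps {r : G} (hr : r ∈ L) {j : Fin 2} (hv : r * v j * r⁻¹ = v j) {b c : ι} (hb : b ∈ O j)
    (e : MulAut.conj r • N b = N c) : c ∈ O j := by
  by_contra hc
  have h1 := t.dec.comp_conj hr e (t.comp j hb)
  rw [hv] at h1
  have h2 := t.dec.uniq h1 (t.comp' j hc)
  exact t.one.z1 b (conj_eq_one_iff.1 h2)

theorem maps' {r : G} (hr : r ∈ L) {j : Fin 2} (hv : r * v j * r⁻¹ = v j) {b c : ι} (hc : c ∈ O j)
    (e : MulAut.conj r • N b = N c) : b ∈ O j := by
  refine t.maps (inv_mem hr) (r := r⁻¹) ?_ hc (t.dec.inv_smul_N e)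
  calc r⁻¹ * v j * r⁻¹⁻¹ = r⁻¹ * (r * v j * r⁻¹) * r := by rw [hv]; group
    _ = v j := by group

/-- (K2) fixing `v j` fixes `v i`. -/
theorem fix_of_k2 {i j : Fin 2} (hij : i ≠ j) {r : G} (hr : r ∈ L)
    (hn : r ∈ normalizer (((S : Subgroup G) ⊓ ⨆ b, E b : Subgroup G) : Set G)) (hv : r * v j * r⁻¹ = v j) :
    r * v i * r⁻¹ = v i := by
  have hVN := t.VN i
  have h0 : r * v i * r⁻¹ ∈ ⨆ b, N b := by
    have h1 : MulAut.conj r • (⨆ b, N b) ≤ ⨆ b, N b := by
      rw [show MulAut.conj r • (⨆ b, N b) = ⨆ b, MulAut.conj r • N b from Subgroup.map_iSup _ _]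
      refine iSup_le fun b => ?_
      obtain ⟨c, hc, _⟩ := t.dec.perm r hr b
      rw [hc]; exact le_iSup N c
    exact h1 ((conj_smul rfl).1 (hVN (t.vV i)))
  refine t.dec.ext h0 (hVN (t.vV i)) fun c => ?_
  obtain ⟨b, hb, _⟩ := t.dec.ex_pre hr c
  by_cases hc : c ∈ O i
  · have hbi : b ∈ O i := (t.mem_or hij b).resolve_right fun h1 => t.notMem hij hc (t.maps hr hv h1 hb)
    have h1 := t.dec.comp_conj hr hb (t.comp i hbi)
    rw [t.dec.k2 t.one hr hn hb] at h1
    exact ⟨_, h1, t.comp i hc⟩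
  · have hcj : c ∈ O j := (t.mem_or hij c).resolve_left hc
    have hbi : b ∉ O i := fun h1 => t.notMem hij h1 (t.maps' hr hv hcj hb)
    have h1 := t.dec.comp_conj hr hb (t.comp' i hbi)
    rw [mul_one, mul_inv_cancel] at h1
    exact ⟨_, h1, t.comp' i hc⟩

variable {i j : Fin 2} {R : Subgroup G}

/-- **The blocks of `R` are those of `O i`.** -/
theorem main (hij : i ≠ j) (hRL : R ≤ L) (hR : IsMinPar (S : Subgroup G) R) (hj : ∀ r ∈ R, r * v j * r⁻¹ = v j)
    (hi : ∃ r ∈ R, r * v i * r⁻¹ ≠ v i) :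
    (∀ b, E b ≤ R ⊔ (L ⊓ centralizer (U : Set G)) ↔ b ∈ O i) ∧
      (R ⊓ EO (L ⊓ centralizer (U : Set G)) E R) ⊔ (S : Subgroup G) = R := by
  have hk := (dich hR (hRL.trans t.dec.iSup_normal)).resolve_left fun h1 => by
    obtain ⟨r, hr, hri⟩ := hi
    exact hri (t.fix_of_k2 hij (hRL hr) (h1 hr) (hj r hr))
  -- some `e ∈ R ⊓ E₀` moves `v i`
  obtain ⟨e, he, hev⟩ : ∃ e ∈ R ⊓ ⨆ b, E b, e * v i * e⁻¹ ≠ v i := by
    by_contra hcon
    push Not at hcon
    obtain ⟨r, hr, hri⟩ := hi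
    have h1 : R ≤ centralizer ({v i} : Set G) := by
      rw [← hk]
      refine sup_le (fun e he => ?_) fun s hs => ?_
      · rw [mem_centralizer_singleton_iff]
        have := hcon e he
        calc e * v i = (e * v i * e⁻¹) * e := by group
          _ = v i * e := by rw [this]
      · rw [mem_centralizer_singleton_iff]
        have := t.vS i s hs
        calc s * v i = (s * v i * s⁻¹) * s := by group
          _ = v i * s := by rw [this]
    apply hri
    rw [mem_centralizer_singleton_iff.1 (h1 hr)]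
    group
  obtain ⟨b, hbi, hbz⟩ : ∃ b ∈ O i, e * z b * e⁻¹ ≠ z b := by
    by_contra hcon
    push Not at hcon
    apply hev
    have hVN := t.VN i
    have h0 : e * v i * e⁻¹ ∈ ⨆ b, N b := by
      have h3 : (⨆ c, E c) ≤ normalizer ((⨆ b, N b : Subgroup G) : Set G) := by
        intro x hx
        rw [mem_normalizer_iff]
        have key : ∀ x ∈ (⨆ c, E c), ∀ y ∈ ⨆ b, N b, x * y * x⁻¹ ∈ ⨆ b, N b := by
          intro x hx y hy
          have h1 : MulAut.conj x • (⨆ b, N b) ≤ ⨆ b, N b := by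
            rw [show MulAut.conj x • (⨆ b, N b) = ⨆ b, MulAut.conj x • N b from Subgroup.map_iSup _ _]
            refine iSup_le fun b => ?_
            rw [t.dec.E0_smul hx b]; exact le_iSup N b
          exact h1 ((conj_smul rfl).1 hy)
        intro y
        refine ⟨key x hx y, fun hy => ?_⟩
        have e : y = x⁻¹ * (x * y * x⁻¹) * x⁻¹⁻¹ := by group
        rw [e]
        exact key x⁻¹ (inv_mem hx) _ hy
      exact conj_of (h3 he.2) (hVN (t.vV i))
    refine t.dec.ext h0 (hVN (t.vV i)) fun c => ?_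
    by_cases hc : c ∈ O i
    · have h1 := t.dec.comp_E0 he.2 (t.comp i hc)
      rw [hcon c hc] at h1
      exact ⟨_, h1, t.comp i hc⟩
    · have h1 := t.dec.comp_E0 he.2 (t.comp' i hc)
      rw [mul_one, mul_inv_cancel] at h1
      exact ⟨_, h1, t.comp' i hc⟩
  have hb := t.dec.k1 t.one hR.le ⟨e, he, hbz⟩
  have hbR : E b ≤ R ⊔ (L ⊓ centralizer (U : Set G)) := hb.trans (sup_le_sup_right inf_le_left _)
  refine ⟨fun c => ⟨fun hc => ?_, fun hc => ?_⟩, t.dec.sup_eq t.one hRL hR hbR⟩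
  · by_contra hci
    have hcj : c ∈ O j := (t.mem_or hij c).resolve_left hci
    obtain ⟨f, hf, hfz⟩ := t.one.mv c
    obtain ⟨r, hr, d, hd, rfl⟩ := mem_sup_of (hRL.trans t.dec.C_normal) (hc hf)
    apply hfz
    have h1 := t.dec.comp_conj (t.dec.EL c hf) (smul_of_mem (t.dec.EN c hf)) (t.comp j hcj)
    have h2 : r * d * v j * (r * d)⁻¹ = v j := by
      have e1 : r * d * v j * (r * d)⁻¹ = r * (d * v j * d⁻¹) * r⁻¹ := by group
      rw [e1, cent hd.2 (t.VU j (t.vV j)), hj r hr]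
    rw [h2] at h1
    exact t.dec.uniq h1 (t.comp j hcj)
  · obtain ⟨s, hs, e1⟩ := (t.orb i).tr b hbi c hc
    have e2 := t.dec.E_of_N (t.dec.SL hs) e1
    have h2 : MulAut.conj s • (R ⊔ (L ⊓ centralizer (U : Set G))) = R ⊔ (L ⊓ centralizer (U : Set G)) :=
      smul_of_mem (le_normalizer (mem_sup_left (hR.le hs)))
    rw [← e2]
    exact (Subgroup.pointwise_smul_le_pointwise_smul_iff.2 hbR).trans h2.le

/-- `EO ≤ ⨆ b ∈ O i, E b` -/
theorem EO_le (hij : i ≠ j) (hRL : R ≤ L) (hR : IsMinPar (S : Subgroup G) R) (hj : ∀ r ∈ R, r * v j * r⁻¹ = v j)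
    (hi : ∃ r ∈ R, r * v i * r⁻¹ ≠ v i) : EO (L ⊓ centralizer (U : Set G)) E R ≤ ⨆ b ∈ O i, E b := by
  unfold EO
  refine iSup_le fun b => ?_
  exact le_iSup₂_of_le b.1 (((t.main hij hRL hR hj hi).1 b).1 b.2) le_rfl

/-- `E b` normalises `V i`, and centralises it if `b ∉ O i`. -/
theorem E_V (b : ι) (i : Fin 2) : E b ≤ normalizer (VO N O i : Set G) := by
  have h1 : ∀ e ∈ E b, MulAut.conj e • VO N O i ≤ VO N O i := by
    intro e he
    unfold VO
    rw [show MulAut.conj e • (⨆ b ∈ O i, N b) = ⨆ b, MulAut.conj e • (⨆ _ : b ∈ O i, N b) from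
      Subgroup.map_iSup _ _]
    refine iSup_le fun c => ?_
    rw [show MulAut.conj e • (⨆ _ : c ∈ O i, N c) = ⨆ _ : c ∈ O i, MulAut.conj e • N c from
      Subgroup.map_iSup _ _]
    refine iSup_le fun hc => ?_
    rw [t.dec.E0_smul ((le_iSup E b) he) c]
    exact le_iSup₂_of_le c hc le_rfl
  exact le_norm_of fun e he x hx => h1 e he ((conj_smul rfl).1 hx)

theorem E_cent {b : ι} {i : Fin 2} (hb : b ∉ O i) : E b ≤ centralizer (VO N O i : Set G) := by
  rw [le_centralizer_iff]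
  refine iSup₂_le fun c hc => ?_
  rw [← le_centralizer_iff]
  exact t.dec.EC b c fun e => hb (e ▸ hc)

theorem S_V (i : Fin 2) : (S : Subgroup G) ≤ normalizer (VO N O i : Set G) := by
  have h1 : ∀ e ∈ (S : Subgroup G), MulAut.conj e • VO N O i ≤ VO N O i := by
    intro e he
    unfold VO
    rw [show MulAut.conj e • (⨆ b ∈ O i, N b) = ⨆ b, MulAut.conj e • (⨆ _ : b ∈ O i, N b) from
      Subgroup.map_iSup _ _]
    refine iSup_le fun c => ?_
    rw [show MulAut.conj e • (⨆ _ : c ∈ O i, N c) = ⨆ _ : c ∈ O i, MulAut.conj e • N c from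
      Subgroup.map_iSup _ _]
    refine iSup_le fun hc => ?_
    obtain ⟨d, hd, _⟩ := t.dec.perm e (t.dec.SL he) c
    rw [hd]
    exact le_iSup₂_of_le d ((t.orb i).inv e he c hc d hd) le_rfl
  exact le_norm_of fun e he x hx => h1 e he ((conj_smul rfl).1 hx)

/-- `uni` -/
theorem uni (hij : i ≠ j) (hRL : R ≤ L) (hR : IsMinPar (S : Subgroup G) R) (hj : ∀ r ∈ R, r * v j * r⁻¹ = v j)
    (hi : ∃ r ∈ R, r * v i * r⁻¹ ≠ v i) (k : Fin 2) : R ≤ normalizer (VO N O k : Set G) := by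
  rw [← (t.main hij hRL hR hj hi).2]
  refine sup_le (inf_le_right.trans ((t.EO_le hij hRL hR hj hi).trans ?_)) (t.S_V k)
  exact iSup₂_le fun b _ => t.E_V b k

/-- `odd` -/
theorem odd (hij : i ≠ j) (hRL : R ≤ L) (hR : IsMinPar (S : Subgroup G) R) (hj : ∀ r ∈ R, r * v j * r⁻¹ = v j)
    (hi : ∃ r ∈ R, r * v i * r⁻¹ ≠ v i) {g : G} (hg : g ∈ R) (ho : Odd (orderOf g)) :
    g ∈ centralizer (VO N O j : Set G) := by
  have hn : R ≤ normalizer ((R ⊓ EO (L ⊓ centralizer (U : Set G)) E R : Subgroup G) : Set G) :=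
    le_norm_of fun r hr x hx => mem_inf.2 ⟨mul_mem (mul_mem hr hx.1) (inv_mem hr), conj_of (t.dec.norm_EO hRL hr) hx.2⟩
  have h1 := Cfsg.Agent.Omega.IId.Cv.mem_of_odd hn hR.le (t.main hij hRL hR hj hi).2.ge S.isPGroup' hg ho
  have h2 : (⨆ b ∈ O i, E b) ≤ centralizer (VO N O j : Set G) := iSup₂_le fun b hb => t.E_cent (t.notMem hij hb)
  exact h2 (t.EO_le hij hRL hR hj hi h1.2)

/-- `irr` -/
theorem irr (hij : i ≠ j) (hRL : R ≤ L) (hR : IsMinPar (S : Subgroup G) R) (hj : ∀ r ∈ R, r * v j * r⁻¹ = v j)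
    (hi : ∃ r ∈ R, r * v i * r⁻¹ ≠ v i) {W : Subgroup G} (hW : W ≤ VO N O i) (hRW : R ≤ normalizer (W : Set G))
    (hW1 : W ≠ ⊥) : VO N O i ≤ W := by
  obtain ⟨w, hw, hw1⟩ : ∃ w ∈ W, w ≠ 1 := by
    obtain ⟨w, hw⟩ := ne_bot_iff_exists_ne_one.1 hW1
    exact ⟨w, w.2, fun e => hw (Subtype.ext e)⟩
  have hCn := hRL.trans t.dec.C_normal
  -- a nontrivial component
  obtain ⟨b, hb, n, hn, hn1⟩ : ∃ b ∈ O i, ∃ n, IsC N R₀ b w n ∧ n ≠ 1 := by
    by_contra hcon
    push Not at hcon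
    apply hw1
    refine t.dec.ext (t.VN i (hW hw)) (one_mem _) fun c => ?_
    obtain ⟨n, hn⟩ := t.dec.ex_comp c (t.VU i (hW hw))
    refine ⟨n, hn, ?_⟩
    have hn1 : n = 1 := by
      by_cases hc : c ∈ O i
      · exact hcon c hc n hn
      · refine t.dec.uniq hn (t.dec.comp_one ?_)
        have : (⨆ d ∈ O i, N d) ≤ Co N R₀ c := iSup₂_le fun d hd => t.dec.N_le_Co fun e => hc (e ▸ hd)
        exact this (hW hw)
    rw [hn1]; exact t.dec.comp_one (one_mem _)
  have hbR := ((t.main hij hRL hR hj hi).1 b).2 hb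
  have hNW : N b ≤ W := by
    have hinv : E b ≤ normalizer ((N b ⊓ W : Subgroup G) : Set G) := by
      refine le_norm_of fun e he x hx => ?_
      refine mem_inf.2 ⟨conj_of (t.dec.EN b he) hx.1, ?_⟩
      obtain ⟨r, hr, c, hc, rfl⟩ := mem_sup_of hCn (hbR he)
      have e1 : r * c * x * (r * c)⁻¹ = r * (c * x * c⁻¹) * r⁻¹ := by group
      rw [e1, cent hc.2 (t.dec.NU b hx.1)]
      exact conj_of (hRW hr) hx.2
    refine (t.one.irr b _ inf_le_left hinv ?_).trans inf_le_right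
    intro hbot
    -- `E b` centralises `n`
    have hfix : ∀ e ∈ E b, e * n * e⁻¹ = n := by
      intro e he
      obtain ⟨r, hr, c, hc, rfl⟩ := mem_sup_of hCn (hbR he)
      have hrE : r ∈ E b := by
        have e1 : r = (r * c) * c⁻¹ := by group
        rw [e1]; exact mul_mem he (inv_mem (t.dec.CE b hc))
      have e1 : r * c * n * (r * c)⁻¹ = r * (c * n * c⁻¹) * r⁻¹ := by group
      rw [e1, cent hc.2 (t.dec.NU b hn.1)]
      have h2 : r ∈ centralizer (Co N R₀ b : Set G) := by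
        have h3 : E b ≤ centralizer (Co N R₀ b : Set G) := by
          rw [le_centralizer_iff]
          refine sup_le (iSup_le fun d => ?_) ?_
          · rw [← le_centralizer_iff]; exact t.dec.EC b d (Ne.symm d.2)
          · rw [← le_centralizer_iff]; exact t.dec.ER b
        exact h3 hrE
      have h4 : r * w * r⁻¹ * w⁻¹ = (r * n * r⁻¹) * n⁻¹ := by
        have h5 := cent h2 hn.2
        have e2 : r * w * r⁻¹ = (r * n * r⁻¹) * (n⁻¹ * w) := by
          calc r * w * r⁻¹ = (r * n * r⁻¹) * (r * (n⁻¹ * w) * r⁻¹) := by group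
            _ = (r * n * r⁻¹) * (n⁻¹ * w) := by rw [h5]
        rw [e2]; group
      have h5 : (r * n * r⁻¹) * n⁻¹ ∈ N b ⊓ W :=
        mem_inf.2 ⟨mul_mem (conj_of (t.dec.EN b hrE) hn.1) (inv_mem hn.1), by
          rw [← h4]; exact mul_mem (conj_of (hRW hr) hw) (inv_mem hw)⟩
      rw [hbot, mem_bot] at h5
      exact mul_inv_eq_one.1 h5
    have h6 : N b ≤ zpowers n := by
      refine t.one.irr b _ (zpowers_le.2 hn.1) ?_ (fun e => hn1 (zpowers_eq_bot.1 e))
      refine le_norm_of fun e he x hx => ?_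
      obtain ⟨k, rfl⟩ := mem_zpowers_iff.1 hx
      have e3 : e * n ^ k * e⁻¹ = (e * n * e⁻¹) ^ k := by rw [conj_zpow]
      rw [e3, hfix e he]
      exact mem_zpowers_iff.2 ⟨k, rfl⟩
    obtain ⟨e, he, hez⟩ := t.one.mv b
    apply hez
    obtain ⟨k, hk⟩ := mem_zpowers_iff.1 (h6 (t.one.zN b))
    rw [← hk]
    have e3 : e * n ^ k * e⁻¹ = (e * n * e⁻¹) ^ k := by rw [conj_zpow]
    rw [e3, hfix e he]
  refine iSup₂_le fun c hc => ?_
  obtain ⟨s, hs, e1⟩ := (t.orb i).tr b hb c hc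
  rw [← e1, ← smul_of_mem (hRW (hR.le hs))]
  exact Subgroup.pointwise_smul_le_pointwise_smul_iff.2 hNW

/-- `same` -/
theorem same (hij : i ≠ j) (hRL : R ≤ L) (hR : IsMinPar (S : Subgroup G) R) (hj : ∀ r ∈ R, r * v j * r⁻¹ = v j)
    (hi : ∃ r ∈ R, r * v i * r⁻¹ ≠ v i) {R' : Subgroup G} (hRL' : R' ≤ L) (hR' : IsMinPar (S : Subgroup G) R')
    (hj' : ∀ r ∈ R', r * v j * r⁻¹ = v j) (hi' : ∃ r ∈ R', r * v i * r⁻¹ ≠ v i) {r' : G} (hr' : r' ∈ R') :
    ∃ r ∈ R, r' * v i * r'⁻¹ = r * v i * r⁻¹ := by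
  have h1 : R' ≤ R ⊔ (L ⊓ centralizer (U : Set G)) := by
    rw [← (t.main hij hRL' hR' hj' hi').2]
    refine sup_le (inf_le_right.trans ((t.EO_le hij hRL' hR' hj' hi').trans ?_)) (hR.le.trans le_sup_left)
    exact iSup₂_le fun b hb => ((t.main hij hRL hR hj hi).1 b).2 hb
  obtain ⟨r, hr, c, hc, rfl⟩ := mem_sup_of (hRL.trans t.dec.C_normal) (h1 hr')
  refine ⟨r, hr, ?_⟩
  have e1 : r * c * v i * (r * c)⁻¹ = r * (c * v i * c⁻¹) * r⁻¹ := by group
  rw [e1, cent hc.2 (t.VU i (t.vV i))]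

end TwoO

end Cfsg.Agent.Omega.NOThreeL.RRed.Blk

end

section


/-!
# NO-3L, box R: the instance of `KL.TwoS.Fr` (#22505) from two orbits of rank one blocks

* `Core2 S V v` : what is needed about `V 0`, `V 1` over `P*(S)`; `Core2.fr` : with `RB S` : `KL.TwoS.Fr S V v`;
* `TwoO.core2` : one level: `TwoO S (MZ S) (Wd S) N E ⊥ z O v`, both `v i` moved by a member of `P*(S)` fixing the
  other one, `⟨C_G(v 0), C_G(v 1)⟩` nonlocal.
-/

set_option autoImplicit false
set_option linter.unusedSectionVars false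

namespace Cfsg.Agent.Omega.NOThreeL.RRed.Blk

open Subgroup Cfsg Cfsg.Agent.ZN Cfsg.Agent.Omega.MinPar Cfsg.Agent.Omega.Frame Cfsg.Agent.Omega.FrameNOFF
open Cfsg.Agent.Omega.Node.NO3L Cfsg.Agent.Omega.NOThreeL.Basic Cfsg.Agent.Omega.NOThreeL.RTree
open Cfsg.Agent.Omega.NOThreeL.Merge (MZ)
open Cfsg.Agent.Omega.NoFF.Basic (conj_conj mem_conj conj_le_iff conj_le_centralizer comm_symm comm_mono)
open Cfsg.Agent.Omega.NOThreeL.Pair (conj_eq_of_mem)
open Cfsg.Agent.Omega.FFThm (syl_of_sylow)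
open Cfsg.Agent.MinSimple.VModule (le_normalizer_o2 zc_le_zl le_centralizer_zc)
open Cfsg.Agent.MinSimple.MinParabolic (IsMinPar)
open scoped Pointwise

universe u v

variable {G : Type u} [Group G] [Finite G]

/-- The configuration `V 0`, `V 1` over `P*(S)`. -/
structure Core2 (S : Sylow 2 G) (V : Fin 2 → Subgroup G) (v : Fin 2 → G) : Prop where
  VW : ∀ i, V i ≤ Wd (S : Subgroup G)
  mem : ∀ i, v i ∈ V i
  ne : ∀ i, v i ≠ 1
  zS : ∀ x, x ∈ zc (S : Subgroup G) ↔ x = 1 ∨ x = v 0 ∨ x = v 1 ∨ x = v 0 * v 1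
  nV : ∀ i, (S : Subgroup G) ≤ normalizer (V i : Set G)
  ex : ∀ i j, i ≠ j → ∃ R, IsParS (S : Subgroup G) R ∧ R ≤ centralizer ({v j} : Set G) ∧
    ¬ R ≤ centralizer ({v i} : Set G)
  uni : ∀ i j, i ≠ j → ∀ R, IsParS (S : Subgroup G) R → R ≤ centralizer ({v j} : Set G) →
    ¬ R ≤ centralizer ({v i} : Set G) → ∀ k, R ≤ normalizer (V k : Set G)
  odd : ∀ i j, i ≠ j → ∀ R, IsParS (S : Subgroup G) R → R ≤ centralizer ({v j} : Set G) →
    ¬ R ≤ centralizer ({v i} : Set G) → ∀ g ∈ R, Odd (orderOf g) → g ∈ centralizer (V j : Set G)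
  irr : ∀ i j, i ≠ j → ∀ R, IsParS (S : Subgroup G) R → R ≤ centralizer ({v j} : Set G) →
    ¬ R ≤ centralizer ({v i} : Set G) → ∀ W : Subgroup G, W ≤ V i → R ≤ normalizer (W : Set G) → W ≠ ⊥ → V i ≤ W
  same : ∀ i j, i ≠ j → ∀ R, IsParS (S : Subgroup G) R → R ≤ centralizer ({v j} : Set G) →
    ¬ R ≤ centralizer ({v i} : Set G) → ∀ R', IsParS (S : Subgroup G) R' → R' ≤ centralizer ({v j} : Set G) →
    ¬ R' ≤ centralizer ({v i} : Set G) → ∀ r' ∈ R', ∃ r ∈ R, r' * v i * r'⁻¹ = r * v i * r⁻¹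
  nonloc : NonLoc (centralizer ({v 0} : Set G)) (centralizer ({v 1} : Set G))

namespace Core2

variable {S : Sylow 2 G} {V : Fin 2 → Subgroup G} {v : Fin 2 → G} (T : Core2 S V v)
include T

theorem v_zc (i : Fin 2) : v i ∈ zc (S : Subgroup G) := by
  rw [T.zS]
  rcases Fin.exists_fin_two.1 ⟨i, rfl⟩ with h | h
  · exact Or.inr (Or.inl (by rw [h]))
  · exact Or.inr (Or.inr (Or.inl (by rw [h])))

theorem v_sq (i : Fin 2) : v i * v i = 1 := by
  rw [← pow_two]; exact (mem_zc.1 (T.v_zc i)).2.2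

theorem le_C (i : Fin 2) : (S : Subgroup G) ≤ centralizer ({v i} : Set G) := fun _ hs =>
  mem_centralizer_singleton_iff.2 ((mem_zc.1 (T.v_zc i)).2.1 _ hs)

theorem CZ_le (i : Fin 2) : CZ (S : Subgroup G) ≤ centralizer ({v i} : Set G) :=
  centralizer_le (Set.singleton_subset_iff.2 (T.v_zc i))

/-- `C_G(v i)` is long. -/
theorem isLong (i : Fin 2) : IsLong (S : Subgroup G) (centralizer ({v i} : Set G)) where
  loc := by
    refine isLoc_of_le_normalizer S (T.le_C i) (U := zpowers (v i)) ?_ ?_ ?_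
    · refine S.isPGroup'.to_le ?_
      rw [zpowers_le]; exact zc_le _ (T.v_zc i)
    · rw [Ne, zpowers_eq_bot]; exact T.ne i
    · refine le_trans ?_ (centralizer_le_normalizer _)
      intro g hg
      refine mem_centralizer_iff.2 fun x hx => ?_
      obtain ⟨k, rfl⟩ := mem_zpowers_iff.1 hx
      have e : Commute (v i) g := (mem_centralizer_singleton_iff.1 hg).symm
      exact (e.zpow_left k).eq
  cz := T.CZ_le i

/-- a minimal parabolic which fixes `v j` and moves `v i` is in `P*(S)` -/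
theorem parS {i j : Fin 2} {R : Subgroup G} (hR : IsMinPar (S : Subgroup G) R)
    (hj : R ≤ centralizer ({v j} : Set G)) (hi : ¬ R ≤ centralizer ({v i} : Set G)) : IsParS (S : Subgroup G) R := by
  have hIP : IsPar (S : Subgroup G) R := ⟨hR, ((T.isLong j).loc.of_le S hR.le hj).o2_ne⟩
  exact ⟨hIP, fun h => hi ((NoFF.LinesPlug.le_CC S hIP h).trans (T.CZ_le i))⟩

theorem V_le_zl {i j : Fin 2} (hij : i ≠ j) : ∃ R, IsParS (S : Subgroup G) R ∧ V i ≤ zl (S : Subgroup G) R := by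
  obtain ⟨R, hR, hj, hi⟩ := T.ex i j hij
  refine ⟨R, hR, ?_⟩
  have h1 := T.irr i j hij R hR hj hi (V i ⊓ zl (S : Subgroup G) R) inf_le_left
    (le_norm_of fun r hr x hx => mem_inf.2 ⟨conj_of (T.uni i j hij R hR hj hi i hr) hx.1,
      conj_of (le_normalizer_zl _ _ hr) hx.2⟩) (fun h => by
        have h2 : v i ∈ V i ⊓ zl (S : Subgroup G) R := mem_inf.2 ⟨T.mem i, zc_le_zl _ _ (T.v_zc i)⟩
        rw [h, mem_bot] at h2
        exact T.ne i h2)
  exact h1.trans inf_le_right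

theorem V_le_FH (i : Fin 2) (H : Subgroup G) : V i ≤ FH (S : Subgroup G) H := by
  obtain ⟨j, hij⟩ : ∃ j : Fin 2, i ≠ j := by
    rcases Fin.exists_fin_two.1 ⟨i, rfl⟩ with h | h
    · exact ⟨1, by rw [h]; decide⟩
    · exact ⟨0, by rw [h]; decide⟩
  obtain ⟨R, hR, h1⟩ := T.V_le_zl hij
  exact (h1.trans (zl_le_WP hR)).trans (WP_le_FH _ _)

/-- **The frame of #22505.** -/
theorem fr (B : RB S) : KL.TwoS.Fr (S : Subgroup G) V v := by
  have hc := B.ctx.char2
  have hFN : ∀ i, centralizer ({v i} : Set G) ≤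
      normalizer (FH (S : Subgroup G) (centralizer ({v i} : Set G)) : Set G) := fun i => le_normalizer_FH _ _
  refine
    { char2 := fun i => (T.isLong i).loc.char2 S hc
      sqV := fun i x hx => by rw [pow_two]; exact wsq B x (T.VW i hx)
      mem := T.mem
      ne := T.ne
      zT := T.zS
      syl := fun i => syl_of_sylow S (T.le_C i)
      nT := ?_
      nV := T.nV
      VQ := fun i => (T.V_le_FH i _).trans (NotA.FH_le_o2 B.data B.notA (T.isLong i))
      VC := fun i c hcc => ?_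
      uni := fun i j hij R hR hj hi => T.uni i j hij R (T.parS hR hj hi) hj hi
      odd := fun i j hij R hR hj hi => T.odd i j hij R (T.parS hR hj hi) hj hi
      irr := fun i j hij R hR hj hi => T.irr i j hij R (T.parS hR hj hi) hj hi
      same := fun i j hij R hR hj hi R' hR' hj' hi' =>
        T.same i j hij R (T.parS hR hj hi) hj hi R' (T.parS hR' hj' hi') hj' hi'
      nonloc := T.nonloc }
  · -- `nT`
    rintro i n ⟨hn1, hn⟩
    obtain ⟨j, hij, hz⟩ : ∃ j : Fin 2, i ≠ j ∧ ∀ x, x ∈ zc (S : Subgroup G) ↔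
        x = 1 ∨ x = v i ∨ x = v j ∨ x = v i * v j := by
      rcases Fin.exists_fin_two.1 ⟨i, rfl⟩ with h | h
      · exact ⟨1, by rw [h]; decide, by rw [h]; exact T.zS⟩
      · refine ⟨0, by rw [h]; decide, fun x => ?_⟩
        rw [T.zS, h]
        have e : v 0 * v 1 = v 1 * v 0 := by
          exact (mem_zc.1 (T.v_zc 1)).2.1 _ (mem_zc.1 (T.v_zc 0)).1
        rw [e]
        tauto
    have hi : n * v i * n⁻¹ = v i := by
      have := mem_centralizer_singleton_iff.1 hn1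
      rw [this]; group
    have hj : n * v j * n⁻¹ = v j := by
      rcases (hz _).1 (conj_zc hn (T.v_zc j)) with e | e | e | e
      · exact absurd (conj_eq_one_iff.1 e) (T.ne j)
      · exfalso
        rw [← hi] at e
        have e2 : v j = v i := mul_left_cancel (mul_right_cancel e)
        obtain ⟨R, hR, h1, h2⟩ := T.ex i j hij
        rw [e2] at h1
        exact h2 h1
      · exact e
      · have h5 : n * (v i * v j) * n⁻¹ = v j := by
          calc n * (v i * v j) * n⁻¹ = (n * v i * n⁻¹) * (n * v j * n⁻¹) := by group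
            _ = (v i * v i) * v j := by rw [hi, e]; group
            _ = v j := by rw [T.v_sq i, one_mul]
        have h6 := not_swap hn (T.v_zc j) e h5
        rw [← h6] at e
        exact e
    refine mem_centralizer_iff.2 fun x hx => ?_
    have hci : v i * n = n * v i := by
      calc v i * n = (n * v i * n⁻¹) * n := by rw [hi]
        _ = n * v i := by group
    have hcj : v j * n = n * v j := by
      calc v j * n = (n * v j * n⁻¹) * n := by rw [hj]
        _ = n * v j := by group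
    rcases (hz x).1 hx with rfl | rfl | rfl | rfl
    · simp
    · exact hci
    · exact hcj
    · calc v i * v j * n = v i * (v j * n) := by group
        _ = (v i * n) * v j := by rw [hcj]; group
        _ = n * (v i * v j) := by rw [hci]; group
  · -- `VC`
    have h1 := NotA.FH_comm hc B.data B.notA (T.isLong i)
    have h2 : MulAut.conj c • V i ≤ FH (S : Subgroup G) (centralizer ({v i} : Set G)) := by
      have h3 := (conj_le_iff (g := c)).2 (T.V_le_FH i (centralizer ({v i} : Set G)))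
      rwa [conj_eq_of_mem (hFN i hcc)] at h3
    exact comm_mono h1 h2 (T.V_le_FH i _)

end Core2

namespace TwoO

variable {ι : Type v} [Finite ι] {S : Sylow 2 G} {N E : ι → Subgroup G} {z : ι → G} {O : Fin 2 → Set ι}
  {v : Fin 2 → G}

theorem le_cent_iff {R : Subgroup G} {x : G} :
    R ≤ centralizer ({x} : Set G) ↔ ∀ r ∈ R, r * x * r⁻¹ = x := by
  constructor
  · intro h r hr
    rw [mem_centralizer_singleton_iff.1 (h hr)]; group
  · intro h r hr
    rw [mem_centralizer_singleton_iff]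
    calc r * x = (r * x * r⁻¹) * r := by group
      _ = x * r := by rw [h r hr]

/-- `Z = {1, v 0, v 1, v 0 v 1}` -/
theorem zS (B : RB S) (t : TwoO S (MZ (S : Subgroup G)) (Wd (S : Subgroup G)) N E ⊥ z O v) (x : G) :
    x ∈ zc (S : Subgroup G) ↔ x = 1 ∨ x = v 0 ∨ x = v 1 ∨ x = v 0 * v 1 := by
  have hv : ∀ i, v i ∈ zc (S : Subgroup G) := fun i => zc_of_fix B (t.VU i (t.vV i)) (t.vS i)
  constructor
  · intro hx
    have hxW := zc_le_Wd _ hx
    have hxS : ∀ s ∈ (S : Subgroup G), s * x * s⁻¹ = x := fun s hs => by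
      rw [(mem_zc.1 hx).2.1 s hs]; group
    -- the components are constant on the orbits
    have hcomp : ∀ b, ∃ n, IsC N ⊥ b x n ∧ (n = 1 ∨ n = z b) := by
      intro b
      obtain ⟨n, hn⟩ := t.dec.ex_comp b hxW
      refine ⟨n, hn, t.one.fix b n hn.1 fun s hs => ?_⟩
      have h4 := t.dec.comp_conj (t.dec.SL hs.1) (smul_of_mem (t.dec.EN b hs.2)) hn
      rw [hxS s hs.1] at h4
      exact t.dec.uniq h4 hn
    have hO : ∀ i, (∀ b ∈ O i, IsC N ⊥ b x 1) ∨ ∀ b ∈ O i, IsC N ⊥ b x (z b) := by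
      intro i
      by_cases h1 : ∀ b ∈ O i, IsC N ⊥ b x (z b)
      · exact Or.inr h1
      · left
        push Not at h1
        obtain ⟨b, hb, hbz⟩ := h1
        obtain ⟨n, hn, hn1⟩ := hcomp b
        have hn2 : n = 1 := hn1.resolve_right fun e => hbz (e ▸ hn)
        rw [hn2] at hn
        intro c hc
        obtain ⟨s, hs, e⟩ := (t.orb i).tr b hb c hc
        have h4 := t.dec.comp_conj (t.dec.SL hs) e hn
        rw [hxS s hs, mul_one, mul_inv_cancel] at h4
        exact h4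
    have hxN : x ∈ ⨆ b, N b := by
      have h1 := t.dec.sup
      rw [sup_bot_eq] at h1
      rw [h1]; exact hxW
    have hvN : ∀ i, v i ∈ ⨆ b, N b := fun i => t.VN i (t.vV i)
    have key : ∀ y, y ∈ (⨆ b, N b) → (∀ i, ∀ b ∈ O i, ∃ n, IsC N ⊥ b x n ∧ IsC N ⊥ b y n) → x = y :=
      fun y hy h => t.dec.ext hxN hy fun b => (t.cov b).elim (h 0 b) (h 1 b)
    have h01 : (0 : Fin 2) ≠ 1 := by decide
    have f2 : ∀ k : Fin 2, k = 0 ∨ k = 1 := by decide
    rcases hO 0 with h0 | h0 <;> rcases hO 1 with h1 | h1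
    · left
      refine key 1 (one_mem _) fun i b hb => ⟨1, ?_, t.dec.comp_one (one_mem _)⟩
      rcases f2 i with rfl | rfl
      · exact h0 b hb
      · exact h1 b hb
    · right; right; left
      refine key _ (hvN 1) fun i b hb => ?_
      rcases f2 i with rfl | rfl
      · exact ⟨1, h0 b hb, t.comp' 1 (t.notMem h01 hb)⟩
      · exact ⟨_, h1 b hb, t.comp 1 hb⟩
    · right; left
      refine key _ (hvN 0) fun i b hb => ?_
      rcases f2 i with rfl | rfl
      · exact ⟨_, h0 b hb, t.comp 0 hb⟩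
      · exact ⟨1, h1 b hb, t.comp' 0 (t.notMem h01.symm hb)⟩
    · right; right; right
      refine key _ (mul_mem (hvN 0) (hvN 1)) fun i b hb => ?_
      rcases f2 i with rfl | rfl
      · have h2 := t.dec.comp_mul (t.comp 0 hb) (t.comp' 1 (t.notMem h01 hb))
        rw [mul_one] at h2
        exact ⟨_, h0 b hb, h2⟩
      · have h2 := t.dec.comp_mul (t.comp' 0 (t.notMem h01.symm hb)) (t.comp 1 hb)
        rw [one_mul] at h2
        exact ⟨_, h1 b hb, h2⟩
  · rintro (rfl | rfl | rfl | rfl)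
    · exact one_mem _
    · exact hv 0
    · exact hv 1
    · exact mul_mem (hv 0) (hv 1)

/-- **One level.** -/
theorem core2 (B : RB S) (t : TwoO S (MZ (S : Subgroup G)) (Wd (S : Subgroup G)) N E ⊥ z O v)
    (ex : ∀ i j, i ≠ j → ∃ R, IsParS (S : Subgroup G) R ∧ R ≤ centralizer ({v j} : Set G) ∧
      ¬ R ≤ centralizer ({v i} : Set G))
    (nl : NonLoc (centralizer ({v 0} : Set G)) (centralizer ({v 1} : Set G))) : Core2 S (VO N O) v where
  VW := t.VU
  mem := t.vV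
  ne := t.v1
  zS := t.zS B
  nV := t.S_V
  ex := ex
  uni i j hij R hR hj hi k := by
    have h1 := le_cent_iff.1 hj
    have h2 : ∃ r ∈ R, r * v i * r⁻¹ ≠ v i := by
      by_contra hcon; push Not at hcon; exact hi (le_cent_iff.2 hcon)
    exact t.uni hij (le_MZ hR) hR.toIsMinPar h1 h2 k
  odd i j hij R hR hj hi g hg ho := by
    have h1 := le_cent_iff.1 hj
    have h2 : ∃ r ∈ R, r * v i * r⁻¹ ≠ v i := by
      by_contra hcon; push Not at hcon; exact hi (le_cent_iff.2 hcon)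
    exact t.odd hij (le_MZ hR) hR.toIsMinPar h1 h2 hg ho
  irr i j hij R hR hj hi W hW hRW hW1 := by
    have h1 := le_cent_iff.1 hj
    have h2 : ∃ r ∈ R, r * v i * r⁻¹ ≠ v i := by
      by_contra hcon; push Not at hcon; exact hi (le_cent_iff.2 hcon)
    exact t.irr hij (le_MZ hR) hR.toIsMinPar h1 h2 hW hRW hW1
  same i j hij R hR hj hi R' hR' hj' hi' r' hr' := by
    have h1 := le_cent_iff.1 hj
    have h2 : ∃ r ∈ R, r * v i * r⁻¹ ≠ v i := by
      by_contra hcon; push Not at hcon; exact hi (le_cent_iff.2 hcon)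
    have h1' := le_cent_iff.1 hj'
    have h2' : ∃ r ∈ R', r * v i * r⁻¹ ≠ v i := by
      by_contra hcon; push Not at hcon; exact hi' (le_cent_iff.2 hcon)
    exact t.same hij (le_MZ hR) hR.toIsMinPar h1 h2 (le_MZ hR') hR'.toIsMinPar h1' h2' hr'
  nonloc := nl

/-- **`KL.TwoS.Fr` from two orbits of rank one blocks.** -/
theorem fr (B : RB S) (t : TwoO S (MZ (S : Subgroup G)) (Wd (S : Subgroup G)) N E ⊥ z O v)
    (ex : ∀ i j, i ≠ j → ∃ R, IsParS (S : Subgroup G) R ∧ R ≤ centralizer ({v j} : Set G) ∧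
      ¬ R ≤ centralizer ({v i} : Set G))
    (nl : NonLoc (centralizer ({v 0} : Set G)) (centralizer ({v 1} : Set G))) :
    KL.TwoS.Fr (S : Subgroup G) (VO N O) v := (t.core2 B ex nl).fr B

end TwoO

end Cfsg.Agent.Omega.NOThreeL.RRed.Blk

end
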