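import Cfsg.Agent.Mrg.Omega.NOThreeL.RRed.Blk.OneOf
import Cfsg.Agent.Mrg.Omega.NOThreeL.RRed.Blk.Side
import Cfsg.Agent.Lib.NormalAbelian
import Cfsg.Agent.Mrg.Omega.NOThreeL.RTree

section


/-!
# NO-3L, box R: orbits of blocks and blocks of rank one (#23492, (G2))

`Dec S L U N E R₀`, `U` elementary abelian, `U ≤ S`, and `Inn` : an element of `L` normalising `N b` acts on it as an
element of `E b`.

* `act_S` : `s ∈ S` normalising `N b` acts on it as an element of `S ⊓ E b`;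
* `rank_one` : if `C_{V_O}(S) = {1, v}` for an `S`-orbit `O` then `C_{N b}(S ⊓ E b) = {1, v_b}` for `b ∈ O`;
* **`Dec.cases`** : `|C_U(S)| = 4` : `R₀ = 1` and `TwoO S L U N E R₀ z O v`; or `R₀ ≠ 1`, `S` transitive on the blocks,
  `One S L U N E z`; or `R₀ = 1` and `S` transitive on the blocks.
-/

set_option autoImplicit false
set_option linter.unusedSectionVars false

namespace Cfsg.Agent.Omega.NOThreeL.RRed.Blk

open Subgroup Cfsg
open Cfsg.Agent.Omega.KL.TwoS (Rel Lett)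
open Cfsg.Agent.ZN.ChoiceSit (Syl exists_syl syl_conj syl_not_dvd)
open scoped Pointwise

universe u v w

variable {G : Type u} [Group G]

/-- a 2-group modulo `K` with a subgroup of odd index -/
theorem le_sup_of_odd [Finite G] {T K F : Subgroup G} (hn : F ≤ normalizer (K : Set G))
    (h2 : ¬ 2 ∣ T.relIndex F) (hp : ∀ f ∈ F, ∃ n : ℕ, f ^ 2 ^ n ∈ K) : F ≤ T ⊔ K := by
  have : Fact (Nat.Prime 2) := ⟨Nat.prime_two⟩
  have hnn : (K.subgroupOf F).Normal := normal_subgroupOf_of_le_normalizer hn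
  have h3 : IsPGroup 2 (F ⧸ K.subgroupOf F) := by
    intro q
    obtain ⟨f, rfl⟩ := QuotientGroup.mk_surjective q
    obtain ⟨n, h4⟩ := hp f f.2
    refine ⟨n, ?_⟩
    rw [← QuotientGroup.mk_pow, QuotientGroup.eq_one_iff, mem_subgroupOf]
    exact h4
  obtain ⟨n, h4⟩ := h3.exists_card_eq
  have h5 : K.relIndex F = 2 ^ n := h4
  have h6 : (T ⊔ K).relIndex F ∣ 2 ^ n := by
    rw [← h5]; exact relIndex_dvd_of_le_left F le_sup_right
  have h7 : (T ⊔ K).relIndex F ∣ T.relIndex F := relIndex_dvd_of_le_left F le_sup_left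
  rw [← relIndex_eq_one]
  obtain ⟨m, _, h8⟩ := (Nat.dvd_prime_pow Nat.prime_two).1 h6
  rcases Nat.eq_zero_or_pos m with rfl | hm
  · rw [h8, pow_zero]
  · exfalso
    apply h2
    refine dvd_trans ?_ h7
    rw [h8]
    exact dvd_pow_self 2 hm.ne'

/-- a 2-group fixes a nontrivial element of a nontrivial normal subgroup -/
theorem exists_fix_of [Finite G] {S W : Subgroup G} (hS : IsPGroup 2 S) (hW : W ≤ S) (hn : S ≤ normalizer (W : Set G))
    (hne : W ≠ ⊥) : ∃ w ∈ W, w ≠ 1 ∧ ∀ s ∈ S, s * w * s⁻¹ = w := by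
  have : Fact (Nat.Prime 2) := ⟨Nat.prime_two⟩
  have h1 : Group.IsNilpotent S := hS.isNilpotent
  have hnn : (W.subgroupOf S).Normal := normal_subgroupOf_of_le_normalizer hn
  have h2 : W.subgroupOf S ≠ ⊥ := by
    intro e
    rw [subgroupOf_eq_bot] at e
    exact hne (eq_bot_iff.2 fun x hx => by
      have := disjoint_iff.1 e
      have h3 : x ∈ W ⊓ S := mem_inf.2 ⟨hx, hW hx⟩
      rw [this] at h3; exact h3)
  obtain ⟨x, hx⟩ := ne_bot_iff_exists_ne_one.1 (Cfsg.Agent.Lib.NormalAbelian.normal_inf_center_ne_bot _ h2)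
  obtain ⟨h3, h4⟩ := x.2
  refine ⟨((x : S) : G), mem_subgroupOf.1 h3, fun e => hx (Subtype.ext (Subtype.ext e)), fun s hs => ?_⟩
  have h5 := (mem_center_iff.1 h4) ⟨s, hs⟩
  have h6 : s * ((x : S) : G) = ((x : S) : G) * s := congrArg Subtype.val h5
  rw [h6]; group

section

variable {ι : Type v} [Finite G] {S : Sylow 2 G} {L U : Subgroup G} {N E : ι → Subgroup G} {R₀ : Subgroup G}

/-- Elements of `L` which normalise `N b` act on it as elements of `E b`. -/
def Inn (L : Subgroup G) (N E : ι → Subgroup G) : Prop :=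
  ∀ b, ∀ g ∈ L, MulAut.conj g • N b = N b → ∃ e ∈ E b, ∀ x ∈ N b, g * x * g⁻¹ = e * x * e⁻¹

namespace Dec

variable (h : Dec (S : Subgroup G) L U N E R₀) (hin : Inn L N E)
include h

theorem syl_E (b : ι) : Syl ((S : Subgroup G) ⊓ E b) (E b) := by
  have h1 : Syl (S : Subgroup G) L := Cfsg.Agent.MinSimple.EmptyTI.syl_of_le h.SL
  have h3 : Syl ((S : Subgroup G) ⊓ ⨆ c, E c) (⨆ c, E c) := syl_inf_of h1 h.E0L h.iSup_normal
  have h4 : Syl ((S : Subgroup G) ⊓ (⨆ c, E c) ⊓ E b) (E b) := syl_inf_of h3 (le_iSup E b) (h.E_normal b)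
  rwa [inf_assoc, inf_eq_right.2 (le_iSup E b)] at h4

include hin

/-- `s ∈ S` normalising `N b` acts on it as an element of `S ⊓ E b`. -/
theorem act_S {b : ι} {s : G} (hs : s ∈ (S : Subgroup G)) (hsb : MulAut.conj s • N b = N b) :
    ∃ t ∈ (S : Subgroup G) ⊓ E b, ∀ x ∈ N b, s * x * s⁻¹ = t * x * t⁻¹ := by
  -- the elements of `E b` which act as an element of `S`
  let F : Subgroup G :=
    { carrier := {e | e ∈ E b ∧ ∃ s ∈ (S : Subgroup G), MulAut.conj s • N b = N b ∧ ∀ x ∈ N b, s * x * s⁻¹ = e * x * e⁻¹}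
      one_mem' := ⟨one_mem _, 1, one_mem _, by simp, fun x _ => rfl⟩
      mul_mem' := by
        rintro e f ⟨he, s, hs, hsb, h1⟩ ⟨hf, t, ht, htb, h2⟩
        refine ⟨mul_mem he hf, s * t, mul_mem hs ht, ?_, fun x hx => ?_⟩
        · rw [map_mul, mul_smul, htb, hsb]
        · have h3 : f * x * f⁻¹ ∈ N b := conj_of (h.EN b hf) hx
          calc s * t * x * (s * t)⁻¹ = s * (t * x * t⁻¹) * s⁻¹ := by group
            _ = e * (f * x * f⁻¹) * e⁻¹ := by rw [h2 x hx, h1 _ h3]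
            _ = e * f * x * (e * f)⁻¹ := by group
      inv_mem' := by
        rintro e ⟨he, s, hs, hsb, h1⟩
        refine ⟨inv_mem he, s⁻¹, inv_mem hs, ?_, fun x hx => ?_⟩
        · rw [map_inv, inv_smul_eq_iff, hsb]
        · have h3 : e⁻¹ * x * e⁻¹⁻¹ ∈ N b := conj_of (h.EN b (inv_mem he)) hx
          have h4 := h1 _ h3
          have e1 : e * (e⁻¹ * x * e⁻¹⁻¹) * e⁻¹ = x := by group
          rw [e1] at h4
          calc s⁻¹ * x * s⁻¹⁻¹ = s⁻¹ * (s * (e⁻¹ * x * e⁻¹⁻¹) * s⁻¹) * s := by rw [h4]; group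
            _ = e⁻¹ * x * e⁻¹⁻¹ := by group }
  have hF : ∀ e, e ∈ F ↔ e ∈ E b ∧ ∃ s ∈ (S : Subgroup G), MulAut.conj s • N b = N b ∧
      ∀ x ∈ N b, s * x * s⁻¹ = e * x * e⁻¹ := fun _ => Iff.rfl
  set K := E b ⊓ centralizer (N b : Set G) with hKdef
  have hTF : (S : Subgroup G) ⊓ E b ≤ F := fun t ht =>
    (hF t).2 ⟨ht.2, t, ht.1, smul_of_mem (h.EN b ht.2), fun x _ => rfl⟩
  have hKF : K ≤ F := fun k hk => (hF k).2 ⟨hk.1, 1, one_mem _, by simp, fun x hx => by
    rw [cent hk.2 hx]; group⟩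
  have hFE : F ≤ E b := fun e he => ((hF e).1 he).1
  have hFK : F ≤ normalizer (K : Set G) := by
    refine hFE.trans (le_norm_of fun e he k hk => mem_inf.2 ⟨mul_mem (mul_mem he hk.1) (inv_mem he), ?_⟩)
    refine mem_centralizer_iff.2 fun x hx => ?_
    have h3 : e⁻¹ * x * e⁻¹⁻¹ ∈ N b := conj_of (h.EN b (inv_mem he)) hx
    have h4 := mem_centralizer_iff.1 hk.2 _ h3
    calc x * (e * k * e⁻¹) = e * ((e⁻¹ * x * e⁻¹⁻¹) * k) * e⁻¹ := by group
      _ = e * k * e⁻¹ * x := by rw [h4]; group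
  have h2 : ¬ 2 ∣ ((S : Subgroup G) ⊓ E b).relIndex F := by
    intro h3
    apply syl_not_dvd (h.syl_E b)
    rw [← relIndex_mul_relIndex _ _ _ hTF hFE]
    exact h3.mul_right _
  have hpow : ∀ f ∈ F, ∃ n : ℕ, f ^ 2 ^ n ∈ K := by
    intro f hf
    obtain ⟨hfE, s, hs, hsb, hsf⟩ := (hF f).1 hf
    obtain ⟨n, hn⟩ := S.isPGroup' ⟨s, hs⟩
    have hn' : s ^ 2 ^ n = 1 := congrArg Subtype.val hn
    refine ⟨n, mem_inf.2 ⟨pow_mem hfE _, mem_centralizer_iff.2 fun x hx => ?_⟩⟩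
    have key : ∀ m : ℕ, ∀ x ∈ N b, s ^ m * x * (s ^ m)⁻¹ = f ^ m * x * (f ^ m)⁻¹ := by
      intro m
      induction m with
      | zero => intro x _; simp
      | succ m ih =>
        intro x hx
        have h3 : f * x * f⁻¹ ∈ N b := conj_of (h.EN b hfE) hx
        calc s ^ (m + 1) * x * (s ^ (m + 1))⁻¹ = s ^ m * (s * x * s⁻¹) * (s ^ m)⁻¹ := by rw [pow_succ]; group
          _ = f ^ m * (f * x * f⁻¹) * (f ^ m)⁻¹ := by rw [hsf x hx, ih _ h3]
          _ = f ^ (m + 1) * x * (f ^ (m + 1))⁻¹ := by rw [pow_succ]; group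
    have h4 := key (2 ^ n) x hx
    rw [hn'] at h4
    calc x * f ^ 2 ^ n = (1 * x * 1⁻¹) * f ^ 2 ^ n := by group
      _ = f ^ 2 ^ n * x := by rw [h4]; group
  have hle := le_sup_of_odd hFK h2 hpow
  obtain ⟨e, he, hse⟩ := hin b s (h.SL hs) hsb
  have heF : e ∈ F := (hF e).2 ⟨he, s, hs, hsb, hse⟩
  obtain ⟨t, ht, k, hk, rfl⟩ := mem_sup_of (hTF.trans hFK) (hle heF)
  refine ⟨t, ht, fun x hx => ?_⟩
  rw [hse x hx]
  calc t * k * x * (t * k)⁻¹ = t * (k * x * k⁻¹) * t⁻¹ := by group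
    _ = t * x * t⁻¹ := by rw [cent hk.2 hx]

/-- **Rank one.** -/
theorem rank_one [Finite ι] (hU : U ≤ (S : Subgroup G)) (hsq : ∀ x ∈ U, x * x = 1) {O : Set ι}
    (hO : Orb (S : Subgroup G) N O) {v : G} (h2 : ∀ x ∈ ⨆ b ∈ O, N b, x ≠ 1 →
      (∀ s ∈ (S : Subgroup G), s * x * s⁻¹ = x) → x = v) {b : ι} (hb : b ∈ O) {x : G} (hx : x ∈ N b)
    (hx1 : x ≠ 1) (hfix : ∀ s ∈ (S : Subgroup G) ⊓ E b, s * x * s⁻¹ = x) : IsC N R₀ b v x := by
  have hfix' : ∀ s ∈ (S : Subgroup G), MulAut.conj s • N b = N b → s * x * s⁻¹ = x := by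
    intro s hs hsb
    obtain ⟨t, ht, h3⟩ := h.act_S hin hs hsb
    rw [h3 x hx, hfix t ht]
  let W : Subgroup G := Subgroup.closure {y | ∃ s ∈ (S : Subgroup G), s * x * s⁻¹ = y}
  have hxW : x ∈ W := subset_closure ⟨1, one_mem _, by group⟩
  have hWO : W ≤ ⨆ c ∈ O, N c := by
    rw [closure_le]
    rintro y ⟨s, hs, rfl⟩
    obtain ⟨c, hc, _⟩ := h.perm s (h.SL hs) b
    exact (le_iSup₂_of_le (f := fun c (_ : c ∈ O) => N c) c (hO.inv s hs b hb c hc) le_rfl) ((conj_smul hc).1 hx)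
  have hOU : (⨆ c ∈ O, N c) ≤ U := iSup₂_le fun c _ => h.NU c
  have hWn : (S : Subgroup G) ≤ normalizer (W : Set G) := by
    refine le_norm_of fun s hs y hy => ?_
    have h3 : MulAut.conj s • W ≤ W := by
      change (Subgroup.closure _).map (MulAut.conj s).toMonoidHom ≤ _
      rw [MonoidHom.map_closure]
      rw [closure_le]
      rintro _ ⟨y, ⟨t, ht, rfl⟩, rfl⟩
      refine subset_closure ⟨s * t, mul_mem hs ht, ?_⟩
      change s * t * x * (s * t)⁻¹ = s * (t * x * t⁻¹) * s⁻¹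
      group
    exact h3 ((conj_smul rfl).1 hy)
  obtain ⟨w, hw, hw1, hwS⟩ := exists_fix_of S.isPGroup' (hWO.trans (hOU.trans hU)) hWn (fun e => hx1 (by
    have : x ∈ (⊥ : Subgroup G) := by rw [← e]; exact hxW
    exact this))
  -- the component of `w`
  have hcomp : ∀ y ∈ W, ∃ n ∈ zpowers x, IsC N R₀ b y n := by
    intro y hy
    induction hy using Subgroup.closure_induction with
    | mem y hy =>
      obtain ⟨s, hs, rfl⟩ := hy
      obtain ⟨c, hc, _⟩ := h.perm s (h.SL hs) b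
      by_cases hcb : c = b
      · subst hcb
        rw [hfix' s hs hc]
        exact ⟨x, mem_zpowers x, h.comp_self hx⟩
      · exact ⟨1, one_mem _, h.comp_ne hcb ((conj_smul hc).1 hx)⟩
    | one => exact ⟨1, one_mem _, h.comp_one (one_mem _)⟩
    | mul y y' _ _ h3 h4 =>
      obtain ⟨n, hn, h5⟩ := h3
      obtain ⟨n', hn', h6⟩ := h4
      exact ⟨n * n', mul_mem hn hn', h.comp_mul h5 h6⟩
    | inv y _ h3 =>
      obtain ⟨n, hn, h5⟩ := h3
      exact ⟨n⁻¹, inv_mem hn, h.comp_inv h5⟩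
  obtain ⟨n, hn, hwn⟩ := hcomp w hw
  have hnx : n = 1 ∨ n = x := by
    obtain ⟨k, rfl⟩ := mem_zpowers_iff.1 hn
    have hxx : x * x = 1 := hsq x (h.NU b hx)
    rcases Int.even_or_odd' k with ⟨m, rfl | rfl⟩
    · left
      rw [zpow_mul, show x ^ (2 : ℤ) = 1 by rw [zpow_two]; exact hxx, one_zpow]
    · right
      rw [zpow_add, zpow_mul, show x ^ (2 : ℤ) = 1 by rw [zpow_two]; exact hxx, one_zpow, one_mul, zpow_one]
  have hwv : w = v := h2 w (hWO hw) hw1 hwS
  rcases hnx with rfl | rfl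
  · exfalso
    apply hw1
    refine h.ext ((hWO.trans (iSup₂_le fun c _ => le_iSup N c)) hw) (one_mem _) fun c =>
      ⟨1, ?_, h.comp_one (one_mem _)⟩
    by_cases hc : c ∈ O
    · obtain ⟨s, hs, e⟩ := hO.tr b hb c hc
      have h4 := h.comp_conj (h.SL hs) e hwn
      rw [hwS s hs, mul_one, mul_inv_cancel] at h4
      exact h4
    · refine h.comp_one ?_
      have : (⨆ d ∈ O, N d) ≤ Co N R₀ c := iSup₂_le fun d hd => h.N_le_Co fun e => hc (e ▸ hd)
      exact this (hWO hw)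
  · rw [← hwv]; exact hwn

/-- The `S`-orbit of `b`. -/
def OB (S : Subgroup G) (N : ι → Subgroup G) (b : ι) : Set ι := {c | ∃ s ∈ S, MulAut.conj s • N b = N c}

omit hin in
theorem orb (b : ι) : Orb (S : Subgroup G) N (OB (S : Subgroup G) N b) where
  ne := ⟨b, 1, one_mem _, by simp⟩
  inv := by
    rintro s hs c ⟨t, ht, e⟩ d hd
    exact ⟨s * t, mul_mem hs ht, by rw [map_mul, mul_smul, e, hd]⟩
  tr := by
    rintro c ⟨t, ht, e⟩ d ⟨t', ht', e'⟩
    exact ⟨t' * t⁻¹, mul_mem ht' (inv_mem ht), by rw [map_mul, mul_smul, ← e, map_inv, inv_smul_smul, e']⟩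

omit hin in
theorem comp_out {O : Set ι} {w : G} (hw : w ∈ ⨆ b ∈ O, N b) {c : ι} (hc : c ∉ O) : IsC N R₀ c w 1 := by
  refine h.comp_one ?_
  have : (⨆ d ∈ O, N d) ≤ Co N R₀ c := iSup₂_le fun d hd => h.N_le_Co fun e => hc (e ▸ hd)
  exact this hw

omit hin in
theorem comp_ne_one [Finite ι] {O : Set ι} (hO : Orb (S : Subgroup G) N O) {w : G} (hw : w ∈ ⨆ b ∈ O, N b)
    (hw1 : w ≠ 1) (hS : ∀ s ∈ (S : Subgroup G), s * w * s⁻¹ = w) {c : ι} (hc : c ∈ O) : ¬ IsC N R₀ c w 1 := by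
  intro h1
  apply hw1
  refine h.ext ((iSup₂_le (fun c _ => le_iSup N c) : (⨆ b ∈ O, N b) ≤ _) hw) (one_mem _) fun d =>
    ⟨1, ?_, h.comp_one (one_mem _)⟩
  by_cases hd : d ∈ O
  · obtain ⟨s, hs, e⟩ := hO.tr c hc d hd
    have h4 := h.comp_conj (h.SL hs) e h1
    rw [hS s hs, mul_one, mul_inv_cancel] at h4
    exact h4
  · exact h.comp_out hw hd

omit hin in
theorem norm_VO {O : Set ι} (hO : Orb (S : Subgroup G) N O) :
    (S : Subgroup G) ≤ normalizer ((⨆ b ∈ O, N b : Subgroup G) : Set G) := by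
  have h1 : ∀ e ∈ (S : Subgroup G), MulAut.conj e • (⨆ b ∈ O, N b) ≤ ⨆ b ∈ O, N b := by
    intro e he
    rw [show MulAut.conj e • (⨆ b ∈ O, N b) = ⨆ b, MulAut.conj e • (⨆ _ : b ∈ O, N b) from
      Subgroup.map_iSup _ _]
    refine iSup_le fun c => ?_
    rw [show MulAut.conj e • (⨆ _ : c ∈ O, N c) = ⨆ _ : c ∈ O, MulAut.conj e • N c from
      Subgroup.map_iSup _ _]
    refine iSup_le fun hc => ?_
    obtain ⟨d, hd, _⟩ := h.perm e (h.SL he) c
    rw [hd]
    exact le_iSup₂_of_le d (hO.inv e he c hc d hd) le_rfl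
  exact le_norm_of fun e he x hx => h1 e he ((conj_smul rfl).1 hx)

omit hin in
theorem exists_v (hU : U ≤ (S : Subgroup G)) {O : Set ι} (hO : Orb (S : Subgroup G) N O) :
    ∃ w ∈ ⨆ b ∈ O, N b, w ≠ 1 ∧ ∀ s ∈ (S : Subgroup G), s * w * s⁻¹ = w := by
  obtain ⟨b, hb⟩ := hO.ne
  refine exists_fix_of S.isPGroup' ((iSup₂_le fun c _ => h.NU c).trans hU) (h.norm_VO hO) fun e => ?_
  apply h.ne b
  rw [eq_bot_iff, ← e]
  exact le_iSup₂_of_le b hb le_rfl

end Dec

/-- the elements of a group of order 4 -/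
theorem four_of {F : Subgroup G} (h4 : Nat.card F = 4) {x y : G} (hx : x ∈ F) (hy : y ∈ F) (hx1 : x ≠ 1)
    (hy1 : y ≠ 1) (hxy : x ≠ y) (hyy : y * y = 1) {w : G} (hw : w ∈ F) : w = 1 ∨ w = x ∨ w = y ∨ w = x * y := by
  have hne : x * y ≠ 1 := fun e => hxy (by
    have h1 : x * y = y * y := by rw [e, hyy]
    exact mul_right_cancel h1)
  have e : ((({1, x, y, x * y} : Set G))).ncard = 4 := by
    rw [Set.ncard_insert_of_notMem (by simp [hx1.symm, hy1.symm, hne.symm]) (Set.toFinite _),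
      Set.ncard_insert_of_notMem (by simp [hxy, hy1]) (Set.toFinite _),
      Set.ncard_pair (by simp [hx1])]
  have hsub : ({1, x, y, x * y} : Set G) ⊆ (F : Set G) := by
    rintro v (rfl | rfl | rfl | rfl)
    · exact one_mem _
    · exact hx
    · exact hy
    · exact mul_mem hx hy
  have h4' : (F : Set G).ncard = 4 := h4
  have h5 := Set.eq_of_subset_of_ncard_le hsub (by rw [e, h4']) (Set.toFinite _)
  have h6 : w ∈ (F : Set G) := hw
  rw [← h5] at h6
  exact h6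

/-- Letters for every block. -/
def Letts (N E : ι → Subgroup G) : Prop :=
  ∀ b, ∃ (Ω : Type w) (_ : Fintype Ω) (_ : DecidableEq Ω) (φ : Finset Ω → G), 3 ≤ Fintype.card Ω ∧
      Lett (N b) (E b) φ

/-- **`|C_U(S)| = 4`: the three cases.** -/
theorem Dec.cases [Finite ι] (h : Dec (S : Subgroup G) L U N E R₀) (hin : Inn L N E) (hl : Letts.{u, v, w} N E)
    (hU : U ≤ (S : Subgroup G)) (hsq : ∀ x ∈ U, x * x = 1)
    (h4 : Nat.card (U ⊓ centralizer ((S : Subgroup G) : Set G) : Subgroup G) = 4) (b₀ : ι) :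
    (R₀ = ⊥ ∧ ∃ z O v, TwoO S L U N E R₀ z O v) ∨
    (R₀ ≠ ⊥ ∧ (∀ b c, ∃ s ∈ (S : Subgroup G), MulAut.conj s • N b = N c) ∧ ∃ z, One (S : Subgroup G) L U N E z) ∨
    (R₀ = ⊥ ∧ ∀ b c, ∃ s ∈ (S : Subgroup G), MulAut.conj s • N b = N c) := by
  have hFm : ∀ x, x ∈ U → (∀ s ∈ (S : Subgroup G), s * x * s⁻¹ = x) →
      x ∈ U ⊓ centralizer ((S : Subgroup G) : Set G) := fun x hx hs => mem_inf.2 ⟨hx, mem_centralizer_iff.2
        fun s hs' => by
          calc s * x = (s * x * s⁻¹) * s := by group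
            _ = x * s := by rw [hs s hs']⟩
  have hRS : (S : Subgroup G) ≤ normalizer (R₀ : Set G) := h.SL.trans h.Rnor
  have hcs : ∀ w, w ∈ U → (∀ s ∈ (S : Subgroup G), s * w * s⁻¹ = w) → ∀ b n, IsC N R₀ b w n →
      ∀ s ∈ (S : Subgroup G) ⊓ E b, s * n * s⁻¹ = n := by
    intro w _ hwS b n hn s hs
    have h5 := h.comp_conj (h.SL hs.1) (smul_of_mem (h.EN b hs.2)) hn
    rw [hwS s hs.1] at h5
    exact h.uniq h5 hn
  have hVU : ∀ O : Set ι, (⨆ b ∈ O, N b) ≤ U := fun O => iSup₂_le fun b _ => h.NU b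
  by_cases htr : ∀ b c, ∃ s ∈ (S : Subgroup G), MulAut.conj s • N b = N c
  · -- one orbit
    by_cases hR : R₀ = ⊥
    · exact Or.inr (Or.inr ⟨hR, htr⟩)
    · refine Or.inr (Or.inl ⟨hR, htr, ?_⟩)
      have hO : Orb (S : Subgroup G) N (Set.univ : Set ι) :=
        { ne := ⟨b₀, trivial⟩, inv := fun _ _ _ _ _ _ => trivial, tr := fun b _ c _ => htr b c }
      obtain ⟨v, hv, hv1, hvS⟩ := h.exists_v hU hO
      obtain ⟨r, hr, hr1, hrS⟩ := exists_fix_of S.isPGroup' (h.RU.trans hU) hRS hR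
      have hvF := hFm v (hVU _ hv) hvS
      have hrF := hFm r (h.RU hr) hrS
      have hrc : ∀ b, IsC N R₀ b r 1 := fun b => h.comp_one (h.R_le_Co b hr)
      have hvr : v ≠ r := fun e => h.comp_ne_one hO hv hv1 hvS (c := b₀) trivial (e ▸ hrc b₀)
      have hVR : ∀ x ∈ (⨆ b ∈ (Set.univ : Set ι), N b), (∀ b, IsC N R₀ b x 1) → x = 1 := fun x hx hc =>
        h.ext ((iSup₂_le (fun c _ => le_iSup N c) : (⨆ b ∈ (Set.univ : Set ι), N b) ≤ _) hx) (one_mem _)
          fun d => ⟨1, hc d, h.comp_one (one_mem _)⟩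
      have h2 : ∀ x ∈ ⨆ b ∈ (Set.univ : Set ι), N b, x ≠ 1 →
          (∀ s ∈ (S : Subgroup G), s * x * s⁻¹ = x) → x = v := by
        intro x hx hx1 hxS
        rcases four_of h4 hvF hrF hv1 hr1 hvr (hsq r (h.RU hr)) (hFm x (hVU _ hx) hxS) with e | e | e | e
        · exact absurd e hx1
        · exact e
        · exact absurd (hVR x hx fun b => e ▸ hrc b) hx1
        · exfalso
          have hrV : r ∈ ⨆ b ∈ (Set.univ : Set ι), N b := by
            have e1 : r = v⁻¹ * x := by rw [e]; group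
            rw [e1]; exact mul_mem (inv_mem hv) hx
          exact hr1 (hVR r hrV hrc)
      choose z hz using fun b => h.ex_comp b (hVU _ hv)
      refine ⟨z, one_of h hl (fun b => (hz b).1) (fun b e => ?_) (fun b s hs => ?_) fun b x hx hfx => ?_⟩
      · exact h.comp_ne_one hO hv hv1 hvS (c := b) trivial (e ▸ hz b)
      · exact hcs v (hVU _ hv) hvS b _ (hz b) s hs
      · by_cases hx1 : x = 1
        · exact Or.inl hx1
        · exact Or.inr (h.uniq (h.rank_one hin hU hsq hO h2 (b := b) trivial hx hx1 hfx) (hz b))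
  · -- two orbits
    left
    push Not at htr
    obtain ⟨b, c, hbc⟩ := htr
    have hcO : c ∉ Dec.OB (S : Subgroup G) N b := fun ⟨s, hs, e⟩ => hbc s hs e
    have hdis : ∀ d, d ∈ Dec.OB (S : Subgroup G) N b → d ∉ Dec.OB (S : Subgroup G) N c := by
      rintro d ⟨s, hs, e⟩ ⟨t, ht, e'⟩
      refine hcO ⟨t⁻¹ * s, mul_mem (inv_mem ht) hs, ?_⟩
      rw [map_mul, mul_smul, e, ← e', map_inv, inv_smul_smul]
    have hbb : b ∈ Dec.OB (S : Subgroup G) N b := ⟨1, one_mem _, by simp⟩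
    have hcc : c ∈ Dec.OB (S : Subgroup G) N c := ⟨1, one_mem _, by simp⟩
    obtain ⟨v, hv, hv1, hvS⟩ := h.exists_v hU (h.orb b)
    obtain ⟨w, hw, hw1, hwS⟩ := h.exists_v hU (h.orb c)
    have hvF := hFm v (hVU _ hv) hvS
    have hwF := hFm w (hVU _ hw) hwS
    have hcv : IsC N R₀ c v 1 := h.comp_out hv hcO
    have hbw : IsC N R₀ b w 1 := h.comp_out hw (hdis b hbb)
    have hvw : v ≠ w := fun e => h.comp_ne_one (h.orb c) hw hw1 hwS hcc (e ▸ hcv)
    have hww := hsq w (hVU _ hw)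
    have key := fun x (hx : x ∈ U ⊓ centralizer ((S : Subgroup G) : Set G)) =>
      four_of h4 hvF hwF hv1 hw1 hvw hww hx
    have h2b : ∀ x ∈ ⨆ d ∈ Dec.OB (S : Subgroup G) N b, N d, x ≠ 1 →
        (∀ s ∈ (S : Subgroup G), s * x * s⁻¹ = x) → x = v := by
      intro x hx hx1 hxS
      have hcx : IsC N R₀ c x 1 := h.comp_out hx hcO
      rcases key x (hFm x (hVU _ hx) hxS) with e | e | e | e
      · exact absurd e hx1
      · exact e
      · exact absurd (e ▸ hcx) (h.comp_ne_one (h.orb c) hw hw1 hwS hcc)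
      · exfalso
        have h5 := h.comp_mul (h.comp_inv hcv) hcx
        rw [e, inv_mul_cancel_left, inv_one, mul_one] at h5
        exact h.comp_ne_one (h.orb c) hw hw1 hwS hcc h5
    have h2c : ∀ x ∈ ⨆ d ∈ Dec.OB (S : Subgroup G) N c, N d, x ≠ 1 →
        (∀ s ∈ (S : Subgroup G), s * x * s⁻¹ = x) → x = w := by
      intro x hx hx1 hxS
      have hbx : IsC N R₀ b x 1 := h.comp_out hx (hdis b hbb)
      rcases key x (hFm x (hVU _ hx) hxS) with e | e | e | e
      · exact absurd e hx1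
      · exact absurd (e ▸ hbx) (h.comp_ne_one (h.orb b) hv hv1 hvS hbb)
      · exact e
      · exfalso
        have h5 := h.comp_mul hbx (h.comp_inv hbw)
        rw [e, mul_inv_cancel_right, inv_one, mul_one] at h5
        exact h.comp_ne_one (h.orb b) hv hv1 hvS hbb h5
    have hcov : ∀ d, d ∈ Dec.OB (S : Subgroup G) N b ∨ d ∈ Dec.OB (S : Subgroup G) N c := by
      intro d
      by_contra hcon
      push Not at hcon
      obtain ⟨y, hy, hy1, hyS⟩ := h.exists_v hU (h.orb d)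
      have hdd : d ∈ Dec.OB (S : Subgroup G) N d := ⟨1, one_mem _, by simp⟩
      have h5 := h.comp_out hv hcon.1
      have h6 := h.comp_out hw hcon.2
      apply h.comp_ne_one (h.orb d) hy hy1 hyS hdd
      rcases key y (hFm y (hVU _ hy) hyS) with e | e | e | e
      · exact absurd e hy1
      · rw [e]; exact h5
      · rw [e]; exact h6
      · rw [e]
        have h7 := h.comp_mul h5 h6
        rwa [mul_one] at h7
    have hR : R₀ = ⊥ := by
      by_contra hR
      obtain ⟨r, hr, hr1, hrS⟩ := exists_fix_of S.isPGroup' (h.RU.trans hU) hRS hR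
      have hrc : ∀ b, IsC N R₀ b r 1 := fun b => h.comp_one (h.R_le_Co b hr)
      rcases key r (hFm r (h.RU hr) hrS) with e | e | e | e
      · exact hr1 e
      · exact h.comp_ne_one (h.orb b) hv hv1 hvS hbb (e ▸ hrc b)
      · exact h.comp_ne_one (h.orb c) hw hw1 hwS hcc (e ▸ hrc c)
      · have h5 := h.comp_mul (hrc b) (h.comp_inv hbw)
        rw [e, mul_inv_cancel_right, inv_one, mul_one] at h5
        exact h.comp_ne_one (h.orb b) hv hv1 hvS hbb h5
    -- the vectors `z`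
    have hz0 : ∀ d, ∃ n, (d ∈ Dec.OB (S : Subgroup G) N b → IsC N R₀ d v n) ∧
        (d ∈ Dec.OB (S : Subgroup G) N c → IsC N R₀ d w n) := by
      intro d
      rcases hcov d with hd | hd
      · obtain ⟨n, hn⟩ := h.ex_comp d (hVU _ hv)
        exact ⟨n, fun _ => hn, fun h5 => absurd h5 (hdis d hd)⟩
      · obtain ⟨n, hn⟩ := h.ex_comp d (hVU _ hw)
        exact ⟨n, fun h5 => absurd hd (hdis d h5), fun _ => hn⟩
    choose z hz using hz0
    have hone : One (S : Subgroup G) L U N E z := by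
      refine one_of h hl (fun d => ?_) (fun d e => ?_) (fun d s hs => ?_) fun d x hx hfx => ?_
      · rcases hcov d with hd | hd
        · exact ((hz d).1 hd).1
        · exact ((hz d).2 hd).1
      · rcases hcov d with hd | hd
        · exact h.comp_ne_one (h.orb b) hv hv1 hvS hd (e ▸ (hz d).1 hd)
        · exact h.comp_ne_one (h.orb c) hw hw1 hwS hd (e ▸ (hz d).2 hd)
      · rcases hcov d with hd | hd
        · exact hcs v (hVU _ hv) hvS d _ ((hz d).1 hd) s hs
        · exact hcs w (hVU _ hw) hwS d _ ((hz d).2 hd) s hs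
      · by_cases hx1 : x = 1
        · exact Or.inl hx1
        · right
          rcases hcov d with hd | hd
          · exact h.uniq (h.rank_one hin hU hsq (h.orb b) h2b hd hx hx1 hfx) ((hz d).1 hd)
          · exact h.uniq (h.rank_one hin hU hsq (h.orb c) h2c hd hx hx1 hfx) ((hz d).2 hd)
    have f2 : ∀ k : Fin 2, k = 0 ∨ k = 1 := by decide
    refine ⟨hR, z, ![Dec.OB (S : Subgroup G) N b, Dec.OB (S : Subgroup G) N c], ![v, w], ?_⟩
    exact
      { dec := h
        one := hone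
        orb := fun i => by
          rcases f2 i with rfl | rfl
          · exact h.orb b
          · exact h.orb c
        cov := hcov
        dis := hdis
        vV := fun i => by
          rcases f2 i with rfl | rfl
          · exact hv
          · exact hw
        v1 := fun i => by
          rcases f2 i with rfl | rfl
          · exact hv1
          · exact hw1
        vS := fun i => by
          rcases f2 i with rfl | rfl
          · exact hvS
          · exact hwS }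

end

end Cfsg.Agent.Omega.NOThreeL.RRed.Blk

end

section


/-!
# The normality line of #25652 (helper505)

Blocks `N b` with groups `E b` (`E b` normalises `N b` and centralises the other blocks) and lines `l b ≤ N b`,
`Gb l b = C(l c : c ≠ b)`.  If `Y` permutes the `N b` and moves the lines inside the `E`-classes (`LinY`), and `C` permutes
the lines, then `⨆ b, Gb l b` is normalised by `Y ⊔ C` (`LinY.gb_norm`).

* `false_of` : if no 2-subgroup `≠ 1` is normalised by `Y ⊔ C`, then no group `H ≥ ⨆ b, Gb l b` has `Z ≤ O₂(H)` for a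
  `1 ≠ Z ≤ ⨆ l`; `two` : the same for two blocks and `C(l 0) ⊔ C(l 1)`.
-/

set_option autoImplicit false
set_option linter.unusedSectionVars false

namespace Cfsg.Agent.Omega.NOThreeL.RWide.GNloc

open Subgroup Cfsg Cfsg.Agent.ZN Cfsg.Agent.Omega.MinPar Cfsg.Agent.Omega.Frame Cfsg.Agent.Omega.FrameNOFF
open Cfsg.Agent.ZN.ChoiceBase (cj cj_mono cj_inf cj_centralizer cj_eq_of_mem_normalizer mem_cj mem_normalizer_iff_cj
  cj_cj_inv cj_inv_cj cj_cj cj_one isPGroup_cj)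
open Cfsg.Agent.ZN.ChoiceSit (Syl syl_conj o2_cj)

universe u v

variable {G : Type u} [Group G] {ι : Type v}

theorem cj_sSup' (g : G) (f : ι → Subgroup G) : cj g (⨆ i, f i) = ⨆ i, cj g (f i) := Subgroup.map_iSup _ _

theorem cj_iSup₂ (g : G) {κ : ι → Prop} (f : ι → Subgroup G) :
    cj g (⨆ (i : ι) (_ : κ i), f i) = ⨆ (i : ι) (_ : κ i), cj g (f i) := by
  rw [cj_sSup']
  exact iSup_congr fun i => Subgroup.map_iSup _ _

theorem cj_inj {g : G} {H K : Subgroup G} (h : cj g H = cj g K) : H = K := by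
  rw [← cj_inv_cj g H, h, cj_inv_cj]

/-- `C(l c : c ≠ b)` -/
def Gb (l : ι → Subgroup G) (b : ι) : Subgroup G := centralizer ((⨆ (c : ι) (_ : c ≠ b), l c : Subgroup G) : Set G)

theorem cent_le_Gb (l : ι → Subgroup G) (b : ι) : centralizer ((⨆ c, l c : Subgroup G) : Set G) ≤ Gb l b :=
  centralizer_le (iSup_le fun c => iSup_le fun _ => le_iSup l c)

/-- `g` permutes the lines -/
theorem cj_Gb {l : ι → Subgroup G} {g : G} (σ : ι ≃ ι) (h : ∀ b, cj g (l b) = l (σ b)) (b : ι) :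
    cj g (Gb l b) = Gb l (σ b) := by
  rw [Gb, cj_centralizer, cj_iSup₂, Gb]
  congr 2
  apply le_antisymm
  · refine iSup_le fun c => iSup_le fun hc => ?_
    rw [h c]
    exact le_iSup₂_of_le (σ c) (fun e => hc (σ.injective e)) le_rfl
  · refine iSup_le fun c => iSup_le fun hc => ?_
    have h1 : cj g (l (σ.symm c)) = l c := by rw [h, σ.apply_symm_apply]
    rw [← h1]
    refine le_iSup₂_of_le (σ.symm c) (fun e => hc ?_) le_rfl
    rw [← e, σ.apply_symm_apply]

/-- **The blocks with their lines**, and the action of `Y` and `C`. -/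
structure LinY (Y C : Subgroup G) (N E l : ι → Subgroup G) : Prop where
  lN : ∀ b, l b ≤ N b
  EN : ∀ b, E b ≤ normalizer (N b : Set G)
  EC : ∀ b c, c ≠ b → E b ≤ centralizer (N c : Set G)
  Ninj : Function.Injective N
  linj : Function.Injective l
  Y : ∀ y ∈ Y, ∀ b, ∃ c, cj y (N b) = N c ∧ ∃ e ∈ E c, cj y (l b) = cj e (l c)
  C : ∀ x ∈ C, ∀ b, ∃ c, cj x (l b) = l c

namespace LinY

variable [Finite ι] {Y C : Subgroup G} {N E l : ι → Subgroup G} (h : LinY Y C N E l)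
include h

theorem E_le_Gb (b : ι) : E b ≤ Gb l b := by
  rw [Gb, le_centralizer_iff]
  exact iSup_le fun c => iSup_le fun hc => (h.lN c).trans (le_centralizer_iff.1 (h.EC b c hc))

/-- one element `g ∈ ⨆ E` moves all lines `l c` to `l c ^ (e c)` -/
theorem exists_one (e : ι → G) (he : ∀ c, e c ∈ E c) : ∃ g ∈ ⨆ b, E b, ∀ c, cj g (l c) = cj (e c) (l c) := by
  classical
  have := Fintype.ofFinite ι
  have key : ∀ s : Finset ι, ∃ g ∈ ⨆ b, E b, (∀ c ∈ s, cj g (l c) = cj (e c) (l c)) ∧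
      ∀ c, c ∉ s → g ∈ centralizer (N c : Set G) := by
    intro s
    induction s using Finset.induction_on with
    | empty => exact ⟨1, one_mem _, fun c hc => absurd hc (by simp), fun c _ => one_mem _⟩
    | insert a s ha ih =>
      obtain ⟨g, hg, h1, h2⟩ := ih
      refine ⟨e a * g, mul_mem (mem_iSup_of_mem a (he a)) hg, fun c hc => ?_, fun c hc => ?_⟩
      · rw [← cj_cj]
        by_cases hca : c = a
        · subst hca
          have h3 : cj g (l c) = l c := by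
            refine cj_eq_of_mem_normalizer ?_
            have h4 := h2 c ha
            exact centralizer_le_normalizer _ (centralizer_le (h.lN c) h4)
          rw [h3]
        · have hcs : c ∈ s := (Finset.mem_insert.1 hc).resolve_left hca
          rw [h1 c hcs]
          refine cj_eq_of_mem_normalizer ?_
          have h4 : cj (e c) (l c) ≤ N c := by
            have h5 := cj_mono (e c) (h.lN c)
            rwa [cj_eq_of_mem_normalizer (h.EN c (he c))] at h5
          exact centralizer_le_normalizer _ (centralizer_le h4 (h.EC a c hca (he a)))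
      · rw [Finset.mem_insert, not_or] at hc
        exact mul_mem (h.EC a c hc.1 (he a)) (h2 c hc.2)
  obtain ⟨g, hg, h1, -⟩ := key Finset.univ
  exact ⟨g, hg, fun c => h1 c (Finset.mem_univ c)⟩

theorem norm_Y : Y ≤ normalizer ((⨆ b, Gb l b : Subgroup G) : Set G) := by
  classical
  intro y hy
  rw [mem_normalizer_iff_cj]
  choose σ hσ e he hl using h.Y y hy
  have hinj : Function.Injective σ := fun a b hab => h.Ninj (cj_inj (g := y) (by rw [hσ a, hσ b, hab]))
  have hbij : Function.Bijective σ := Finite.injective_iff_bijective.1 hinj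
  set τ : ι ≃ ι := Equiv.ofBijective σ hbij with hτ
  have hτ' : ∀ b, τ b = σ b := fun b => rfl
  obtain ⟨g, hg, h1⟩ := h.exists_one (fun c => e (τ.symm c)) fun c => by
    have h2 := he (τ.symm c)
    rwa [← hτ', τ.apply_symm_apply] at h2
  have h2 : ∀ b, cj (g⁻¹ * y) (l b) = l (τ b) := fun b => by
    rw [← cj_cj, hl b]
    have h3 := h1 (τ b)
    rw [τ.symm_apply_apply] at h3
    rw [← hτ' b, ← h3, cj_inv_cj]
  have h3 : cj (g⁻¹ * y) (⨆ b, Gb l b) = ⨆ b, Gb l b := by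
    rw [cj_sSup']
    calc ⨆ b, cj (g⁻¹ * y) (Gb l b) = ⨆ b, Gb l (τ b) := iSup_congr fun b => cj_Gb τ h2 b
      _ = _ := τ.iSup_comp (g := fun b => Gb l b)
  have h4 : g ∈ ⨆ b, Gb l b := (iSup_mono h.E_le_Gb) hg
  have h5 := congrArg (cj g) h3
  rwa [cj_cj, mul_inv_cancel_left, cj_eq_of_mem_normalizer (le_normalizer h4)] at h5

theorem norm_C : C ≤ normalizer ((⨆ b, Gb l b : Subgroup G) : Set G) := by
  classical
  intro x hx
  rw [mem_normalizer_iff_cj]
  choose σ hσ using h.C x hx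
  have hinj : Function.Injective σ := fun a b hab => h.linj (cj_inj (g := x) (by rw [hσ a, hσ b, hab]))
  set τ : ι ≃ ι := Equiv.ofBijective σ (Finite.injective_iff_bijective.1 hinj) with hτ
  rw [cj_sSup']
  calc ⨆ b, cj x (Gb l b) = ⨆ b, Gb l (τ b) := iSup_congr fun b => cj_Gb τ hσ b
    _ = _ := τ.iSup_comp (g := fun b => Gb l b)

/-- **`⟨Y, C⟩` normalises `⟨C(l c : c ≠ b) : b⟩`.** -/
theorem gb_norm : Y ⊔ C ≤ normalizer ((⨆ b, Gb l b : Subgroup G) : Set G) := sup_le h.norm_Y h.norm_C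

/-- **No group `H ≥ ⨆ b, Gb l b` has `Z ≤ O₂(H)`.** -/
theorem false_of [Finite G] [Nonempty ι] (hnl : ∀ Q : Subgroup G, IsPGroup 2 Q → Q ≠ ⊥ → ¬ Y ⊔ C ≤ normalizer (Q : Set G))
    {H Z : Subgroup G} (hH : ⨆ b, Gb l b ≤ H) (hZ : Z ≤ o2 H) (hZl : Z ≤ ⨆ c, l c) (hZ1 : Z ≠ ⊥)
    (hab : ∀ x ∈ ⨆ c, l c, ∀ y ∈ ⨆ c, l c, x * y = y * x) : False := by
  have hZG : Z ≤ ⨆ b, Gb l b := fun z hz => by
    obtain ⟨b⟩ := ‹Nonempty ι›
    exact mem_iSup_of_mem b (cent_le_Gb l b (mem_centralizer_iff.2 fun x hx => hab x hx z (hZl hz)))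
  have h1 : o2 H ⊓ ⨆ b, Gb l b ≤ o2 (⨆ b, Gb l b) := by
    refine le_o2 inf_le_right ((isPGroup_o2 H).to_le inf_le_left) fun x hx => ?_
    have h2 : cj x (o2 H ⊓ ⨆ b, Gb l b) = o2 H ⊓ ⨆ b, Gb l b := by
      rw [cj_inf, cj_eq_of_mem_normalizer (le_normalizer_o2 H (hH hx)), cj_eq_of_mem_normalizer (le_normalizer hx)]
    exact mem_normalizer_iff_cj.2 h2
  have h2 : Z ≤ o2 (⨆ b, Gb l b) := (le_inf hZ hZG).trans h1
  refine hnl _ (isPGroup_o2 _) (fun h3 => hZ1 (le_bot_iff.1 (h3 ▸ h2))) fun x hx => ?_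
  rw [mem_normalizer_iff_cj, ← o2_cj, cj_eq_of_mem_normalizer (h.gb_norm hx)]

/-- **No local `H ≥ S` contains `⨆ b, Gb l b`.** -/
theorem not_isLoc [Finite G] [Nonempty ι] {S : Sylow 2 G} (hG : Ctx G)
    (hnl : NonLoc Y C) (hZl : zc (S : Subgroup G) ≤ ⨆ c, l c)
    (hab : ∀ x ∈ ⨆ c, l c, ∀ y ∈ ⨆ c, l c, x * y = y * x) {H : Subgroup G} (hH : IsLoc (S : Subgroup G) H) :
    ¬ ⨆ b, Gb l b ≤ H := fun hle => by
  refine h.false_of (fun Q hQ hQ1 hn => hQ1 (hnl Q hQ (le_sup_left.trans hn) (le_sup_right.trans hn))) hle ?_ hZl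
    (zc_ne_bot S.isPGroup' (hG.sylow_ne_bot S)) hab
  intro z hz
  refine hH.char2 S hG.char2 ⟨hH.le (mem_zc.1 hz).1, mem_centralizer_iff.2 fun x hx => ?_⟩
  exact (mem_zc.1 hz).2.1 x (hH.o2_le S hx)

/-- `⟨C(l c : c ≠ b) : b⟩` normalises no 2-subgroup `≠ 1`. -/
theorem eq_bot_of_norm [Finite G] [Nonempty ι] {S : Sylow 2 G} (hG : Ctx G)
    (hnl : NonLoc Y C) (hZl : zc (S : Subgroup G) ≤ ⨆ c, l c)
    (hab : ∀ x ∈ ⨆ c, l c, ∀ y ∈ ⨆ c, l c, x * y = y * x) {U : Subgroup G} (hU : IsPGroup 2 U)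
    (hSU : (S : Subgroup G) ≤ normalizer (U : Set G)) (hn : ⨆ b, Gb l b ≤ normalizer (U : Set G)) : U = ⊥ := by
  by_contra h1
  have h2 : U ≤ o2 (normalizer (U : Set G)) := le_o2 le_normalizer hU le_rfl
  exact h.not_isLoc hG hnl hZl hab ⟨hSU, fun h3 => h1 (le_bot_iff.1 (h3 ▸ h2))⟩ hn

end LinY

/-! ### The instance over `Blk.Dec` -/

section inst

open Cfsg.Agent.Omega.NOThreeL.Merge (MZ nonLoc_MZ)
open Cfsg.Agent.Omega.NOThreeL.RTree (RB)
open scoped Pointwise

variable [Finite G] {S : Sylow 2 G} {L U C : Subgroup G} {N E l : ι → Subgroup G} {R₀ : Subgroup G}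

/-- **The instance**: `L` permutes the blocks (`Blk.Dec`), an element of `L` which maps `(N b, E b, S ∩ E b)` to
`(N c, E c, S ∩ E c)` maps the line `l b` to `l c`, and `C` permutes the lines. -/
theorem of_dec (d : RRed.Blk.Dec (S : Subgroup G) L U N E R₀) (hl : ∀ b, l b ≤ N b) (hl1 : ∀ b, l b ≠ ⊥)
    (hln : ∀ g ∈ L, ∀ b c, MulAut.conj g • N b = N c → MulAut.conj g • E b = E c →
      MulAut.conj g • ((S : Subgroup G) ⊓ E b) = (S : Subgroup G) ⊓ E c → MulAut.conj g • l b = l c)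
    (hC : ∀ x ∈ C, ∀ b, ∃ c, MulAut.conj x • l b = l c) : LinY L C N E l where
  lN := hl
  EN := d.EN
  EC b c hbc := d.EC b c hbc.symm
  Ninj b c e := d.Ninj e
  linj b c e := by
    by_contra hbc
    apply hl1 b
    have h1 : l b ≤ N b ⊓ ((⨆ c : {c // c ≠ b}, N c) ⊔ R₀) :=
      le_inf (hl b) ((e.le.trans (hl c)).trans (d.N_le_Co fun e => hbc e.symm))
    rw [d.ind b] at h1
    exact le_bot_iff.1 h1
  Y y hy b := by
    obtain ⟨c, hN, hE⟩ := d.perm y hy b
    refine ⟨c, hN, ?_⟩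
    have hs1 : Syl (cj y ((S : Subgroup G) ⊓ E b)) (E c) := by
      have h1 := d.syl_E b
      refine ⟨?_, isPGroup_cj y h1.2.1, fun Q hQ hQ2 hle => ?_⟩
      · have h2 := cj_mono y h1.1
        exact h2.trans hE.le
      · have h2 : cj y⁻¹ Q ≤ E b := by
          have h3 := cj_mono y⁻¹ (hQ.trans hE.ge)
          have h4 : cj y⁻¹ (MulAut.conj y • E b) = E b := cj_inv_cj y (E b)
          rwa [h4] at h3
        have h3 := h1.2.2 _ h2 (isPGroup_cj y⁻¹ hQ2) (by
          have h4 := cj_mono y⁻¹ hle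
          rwa [cj_inv_cj] at h4)
        rw [← h3, cj_cj_inv]
    obtain ⟨e, he, h2⟩ := syl_conj hs1 (d.syl_E c)
    refine ⟨e⁻¹, inv_mem he, ?_⟩
    have h3 : cj (e * y) (l b) = l c := by
      refine hln (e * y) (mul_mem (d.EL c he) hy) b c ?_ ?_ ?_
      · show cj (e * y) (N b) = N c
        rw [← cj_cj]
        have h4 : cj y (N b) = N c := hN
        rw [h4, cj_eq_of_mem_normalizer (d.EN c he)]
      · show cj (e * y) (E b) = E c
        rw [← cj_cj]
        have h4 : cj y (E b) = E c := hE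
        rw [h4, cj_eq_of_mem_normalizer (le_normalizer he)]
      · show cj (e * y) ((S : Subgroup G) ⊓ E b) = (S : Subgroup G) ⊓ E c
        rw [← cj_cj, h2]
    rw [← h3, cj_cj, inv_mul_cancel_left]
  C := hC

/-- **`⟨C(l c : c ≠ b) : b⟩` is nonlocal in box R** (`L = M₀ = ⟨P*(S)⟩`, `C = C_G(Z)`). -/
theorem not_isLoc_RB [Nonempty ι] (B : RB S) (h : LinY (MZ (S : Subgroup G)) (CZ (S : Subgroup G)) N E l)
    (hZl : zc (S : Subgroup G) ≤ ⨆ c, l c) (hab : ∀ x ∈ ⨆ c, l c, ∀ y ∈ ⨆ c, l c, x * y = y * x) {H : Subgroup G}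
    (hH : IsLoc (S : Subgroup G) H) : ¬ ⨆ b, Gb l b ≤ H := by
  rcases finite_or_infinite ι with hι | hι
  · exact h.not_isLoc B.ctx (nonLoc_MZ B.ctx B.full) hZl hab hH
  · exact absurd (Finite.of_injective l h.linj) (not_finite_iff_infinite.2 hι)

end inst

end Cfsg.Agent.Omega.NOThreeL.RWide.GNloc

end
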