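import Cfsg.Agent.Mrg.Omega.NOThreeL.RRed.Base


/-!
# NO-3L, box R: blocks of `U` (#23492), the definitions

`S ≤ L ≤ N(U)`, `U` abelian, `C = L ⊓ C(U)`:

* `Dec S L U N E R₀` : `U = ∏ N b × R₀`, `C ≤ E b ≤ L` acts on `N b` only, `L` permutes the pairs `(N b, E b)` and
  normalises `R₀`;
* `One S L U N E z` : blocks of rank one: `C_{N b}(S ⊓ E b) = {1, z b}`, `E b` is irreducible on `N b`, moves `z b`, is
  the normal closure of `S ⊓ E b` modulo `C`, and a `K ≤ ⨆ E c` with `S ⊓ E b ≤ K` which moves `z b` induces `E b` on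
  `N b`;
* `IsC N R₀ b x n` : `n` is the `b`-component of `x`; `Dec.ex_comp`, `Dec.uniq`, `Dec.comp_mul`, `Dec.comp_conj`,
  `Dec.ext` : the components determine `x ∈ ∏ N b`.
-/

set_option autoImplicit false
set_option linter.unusedSectionVars false

namespace Cfsg.Agent.Omega.NOThreeL.RRed.Blk

open Subgroup Cfsg
open scoped Pointwise

universe u v

variable {G : Type u} [Group G] {ι : Type v}

/-- **Block decomposition** `U = ∏ N b × R₀`. -/
structure Dec (S L U : Subgroup G) (N E : ι → Subgroup G) (R₀ : Subgroup G) : Prop where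
  SL : S ≤ L
  LU : L ≤ normalizer (U : Set G)
  ab : U ≤ centralizer (U : Set G)
  sup : (⨆ b, N b) ⊔ R₀ = U
  ind : ∀ b, N b ⊓ ((⨆ c : {c // c ≠ b}, N c) ⊔ R₀) = ⊥
  ne : ∀ b, N b ≠ ⊥
  Rnor : L ≤ normalizer (R₀ : Set G)
  EL : ∀ b, E b ≤ L
  CE : ∀ b, L ⊓ centralizer (U : Set G) ≤ E b
  perm : ∀ g ∈ L, ∀ b, ∃ c, MulAut.conj g • N b = N c ∧ MulAut.conj g • E b = E c
  EN : ∀ b, E b ≤ normalizer (N b : Set G)
  EC : ∀ b c, b ≠ c → E b ≤ centralizer (N c : Set G)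
  ER : ∀ b, E b ≤ centralizer (R₀ : Set G)

/-- Blocks of rank one. -/
structure One (S L U : Subgroup G) (N E : ι → Subgroup G) (z : ι → G) : Prop where
  zN : ∀ b, z b ∈ N b
  z1 : ∀ b, z b ≠ 1
  zS : ∀ b, ∀ s ∈ S ⊓ E b, s * z b * s⁻¹ = z b
  fix : ∀ b, ∀ x ∈ N b, (∀ s ∈ S ⊓ E b, s * x * s⁻¹ = x) → x = 1 ∨ x = z b
  mv : ∀ b, ∃ e ∈ E b, e * z b * e⁻¹ ≠ z b
  irr : ∀ b, ∀ W : Subgroup G, W ≤ N b → E b ≤ normalizer (W : Set G) → W ≠ ⊥ → N b ≤ W
  gen : ∀ b, ∀ K : Subgroup G, K ≤ E b → S ⊓ E b ≤ K → L ⊓ centralizer (U : Set G) ≤ K →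
    E b ≤ normalizer (K : Set G) → E b ≤ K
  full : ∀ b, ∀ K : Subgroup G, K ≤ ⨆ c, E c → S ⊓ E b ≤ K → (∃ k ∈ K, k * z b * k⁻¹ ≠ z b) →
    ∀ e ∈ E b, ∃ k ∈ K, ∀ x ∈ N b, k * x * k⁻¹ = e * x * e⁻¹

/-- The complement of `N b`. -/
def Co (N : ι → Subgroup G) (R₀ : Subgroup G) (b : ι) : Subgroup G := (⨆ c : {c // c ≠ b}, N c) ⊔ R₀

/-- `x` has the `b`-component `n`. -/
def IsC (N : ι → Subgroup G) (R₀ : Subgroup G) (b : ι) (x n : G) : Prop := n ∈ N b ∧ n⁻¹ * x ∈ Co N R₀ b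

theorem mem_sup_of {A B : Subgroup G} (h : A ≤ normalizer (B : Set G)) {x : G} (hx : x ∈ A ⊔ B) :
    ∃ a ∈ A, ∃ b ∈ B, x = a * b := by
  have h1 : x ∈ ((A ⊔ B : Subgroup G) : Set G) := hx
  rw [coe_mul_of_left_le_normalizer_right _ _ h] at h1
  obtain ⟨a, ha, b, hb, e⟩ := h1
  exact ⟨a, ha, b, hb, e.symm⟩

theorem conj_of {W : Subgroup G} {g : G} (hg : g ∈ normalizer (W : Set G)) {x : G} (hx : x ∈ W) :
    g * x * g⁻¹ ∈ W := (mem_normalizer_iff.1 hg x).1 hx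

theorem conj_smul {A B : Subgroup G} {g : G} (h : MulAut.conj g • A = B) {x : G} : x ∈ A ↔ g * x * g⁻¹ ∈ B := by
  rw [← h, ← MulAut.conj_apply]
  exact (smul_mem_pointwise_smul_iff (a := MulAut.conj g) (S := A) (x := x)).symm

theorem cent {W : Subgroup G} {g : G} (hg : g ∈ centralizer (W : Set G)) {x : G} (hx : x ∈ W) :
    g * x * g⁻¹ = x := by
  rw [← mem_centralizer_iff.1 hg x hx]; group

namespace Dec

variable {S L U : Subgroup G} {N E : ι → Subgroup G} {R₀ : Subgroup G} (h : Dec S L U N E R₀)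
include h

theorem NU (b : ι) : N b ≤ U := by
  rw [← h.sup]; exact (le_iSup N b).trans le_sup_left

theorem RU : R₀ ≤ U := by
  rw [← h.sup]; exact le_sup_right

theorem CoU (b : ι) : Co N R₀ b ≤ U := by
  rw [← h.sup]
  exact sup_le ((iSup_le fun c : {c // c ≠ b} => le_iSup N c.1).trans le_sup_left) le_sup_right

theorem N_le_Co {b c : ι} (hbc : b ≠ c) : N b ≤ Co N R₀ c :=
  (le_iSup (fun d : {d // d ≠ c} => N d) ⟨b, hbc⟩).trans le_sup_left

theorem R_le_Co (c : ι) : R₀ ≤ Co N R₀ c := le_sup_right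

theorem ucomm {x y : G} (hx : x ∈ U) (hy : y ∈ U) : x * y = y * x :=
  (mem_centralizer_iff.1 (h.ab hx) y hy).symm

theorem nor {A B : Subgroup G} (hA : A ≤ U) (hB : B ≤ U) : A ≤ normalizer (B : Set G) :=
  (hA.trans h.ab).trans ((centralizer_le hB).trans (centralizer_le_normalizer _))

theorem sup_Co (b : ι) : N b ⊔ Co N R₀ b = U := by
  apply le_antisymm (sup_le (h.NU b) (h.CoU b))
  rw [← h.sup]
  refine sup_le (iSup_le fun c => ?_) ((h.R_le_Co b).trans le_sup_right)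
  by_cases hc : c = b
  · rw [hc]; exact le_sup_left
  · exact (h.N_le_Co hc).trans le_sup_right

theorem ex_comp (b : ι) {x : G} (hx : x ∈ U) : ∃ n, IsC N R₀ b x n := by
  rw [← h.sup_Co b] at hx
  obtain ⟨n, hn1, y, hy, e⟩ := mem_sup_of (h.nor (h.NU b) (h.CoU b)) hx
  exact ⟨n, hn1, by rw [e]; simpa using hy⟩

theorem uniq {b : ι} {x n m : G} (hn : IsC N R₀ b x n) (hm : IsC N R₀ b x m) : n = m := by
  have h1 : n⁻¹ * m ∈ Co N R₀ b := by
    have e : n⁻¹ * m = (n⁻¹ * x) * (m⁻¹ * x)⁻¹ := by group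
    rw [e]; exact mul_mem hn.2 (inv_mem hm.2)
  have h2 : n⁻¹ * m ∈ N b ⊓ Co N R₀ b := mem_inf.2 ⟨mul_mem (inv_mem hn.1) hm.1, h1⟩
  rw [show N b ⊓ Co N R₀ b = ⊥ from h.ind b, mem_bot] at h2
  exact inv_mul_eq_one.1 h2

theorem comp_self {b : ι} {x : G} (hx : x ∈ N b) : IsC N R₀ b x x := ⟨hx, by rw [inv_mul_cancel]; exact one_mem _⟩

theorem comp_one {b : ι} {x : G} (hx : x ∈ Co N R₀ b) : IsC N R₀ b x 1 := ⟨one_mem _, by simpa using hx⟩

theorem comp_ne {b c : ι} (hbc : b ≠ c) {x : G} (hx : x ∈ N b) : IsC N R₀ c x 1 := h.comp_one (h.N_le_Co hbc hx)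

theorem mem_U {b : ι} {x n : G} (hn : IsC N R₀ b x n) : x ∈ U := by
  have e : x = n * (n⁻¹ * x) := by group
  rw [e]; exact mul_mem (h.NU b hn.1) (h.CoU b hn.2)

theorem comp_mul {b : ι} {x y n m : G} (hn : IsC N R₀ b x n) (hm : IsC N R₀ b y m) :
    IsC N R₀ b (x * y) (n * m) := by
  refine ⟨mul_mem hn.1 hm.1, ?_⟩
  have e1 := h.ucomm (h.NU b (inv_mem hm.1)) (h.CoU b hn.2)
  have e : (n * m)⁻¹ * (x * y) = (n⁻¹ * x) * (m⁻¹ * y) := by
    calc (n * m)⁻¹ * (x * y) = (m⁻¹ * (n⁻¹ * x)) * y := by group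
      _ = (n⁻¹ * x) * (m⁻¹ * y) := by rw [e1]; group
  rw [e]; exact mul_mem hn.2 hm.2

theorem comp_inv {b : ι} {x n : G} (hn : IsC N R₀ b x n) : IsC N R₀ b x⁻¹ n⁻¹ := by
  refine ⟨inv_mem hn.1, ?_⟩
  have e1 := h.ucomm (h.NU b hn.1) (inv_mem (h.mem_U hn))
  have e : n⁻¹⁻¹ * x⁻¹ = (n⁻¹ * x)⁻¹ := by
    rw [inv_inv, e1]; group
  rw [e]; exact inv_mem hn.2

/-- `g ∈ L` maps complements to complements. -/
theorem perm' {g : G} (hg : g ∈ L) (b : ι) : ∃ c, MulAut.conj g • N b = N c ∧ MulAut.conj g • E b = E c ∧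
    ∀ x, x ∈ Co N R₀ b → g * x * g⁻¹ ∈ Co N R₀ c := by
  obtain ⟨c, h1, h2⟩ := h.perm g hg b
  refine ⟨c, h1, h2, fun x hx => ?_⟩
  have key : MulAut.conj g • Co N R₀ b ≤ Co N R₀ c := by
    unfold Co
    rw [smul_sup]
    refine sup_le ?_ ?_
    · rw [show MulAut.conj g • (⨆ d : {d // d ≠ b}, N d) = ⨆ d : {d // d ≠ b}, MulAut.conj g • N d from
        Subgroup.map_iSup _ _]
      refine iSup_le fun d => ?_
      obtain ⟨e, he, _⟩ := h.perm g hg d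
      rw [he]
      refine h.N_le_Co fun hec => ?_
      rw [hec, ← h1] at he
      have h3 : N (d : ι) = N b := smul_left_cancel _ he
      have h4 : N b ⊓ Co N R₀ b = ⊥ := h.ind b
      apply h.ne b
      rw [eq_bot_iff, ← h4]
      exact le_inf le_rfl (by rw [← h3]; exact h.N_le_Co d.2)
    · refine le_trans ?_ (h.R_le_Co c)
      rintro y ⟨w, hw, rfl⟩
      exact conj_of (h.Rnor hg) hw
  exact key ((conj_smul rfl).1 hx)

theorem Nne {b c : ι} (hbc : b ≠ c) : N b ≠ N c := by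
  intro e
  have h4 : N c ⊓ Co N R₀ c = ⊥ := h.ind c
  apply h.ne c
  rw [eq_bot_iff, ← h4]
  exact le_inf le_rfl (by rw [← e]; exact h.N_le_Co hbc)

theorem Ninj {b c : ι} (e : N b = N c) : b = c := by
  by_contra hbc
  exact h.Nne hbc e

/-- components of conjugates -/
theorem comp_conj {g : G} (hg : g ∈ L) {b c : ι} (hbc : MulAut.conj g • N b = N c) {x n : G}
    (hn : IsC N R₀ b x n) : IsC N R₀ c (g * x * g⁻¹) (g * n * g⁻¹) := by
  obtain ⟨d, h1, _, h3⟩ := h.perm' hg b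
  have e : d = c := h.Ninj (by rw [← h1, hbc])
  subst e
  refine ⟨(conj_smul h1).1 hn.1, ?_⟩
  have e1 : (g * n * g⁻¹)⁻¹ * (g * x * g⁻¹) = g * (n⁻¹ * x) * g⁻¹ := by group
  rw [e1]
  exact h3 _ hn.2

/-- The components determine an element of `⨆ b ∈ s, N b`. -/
theorem eq_one_of_comp (s : Finset ι) : ∀ x ∈ (⨆ b ∈ s, N b), (∀ b ∈ s, IsC N R₀ b x 1) → x = 1 := by
  classical
  induction s using Finset.induction_on with
  | empty => intro x hx _; simpa using hx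
  | insert b s hb ih =>
    intro x hx hc
    have hle : (⨆ c ∈ s, N c) ≤ U := iSup₂_le fun c _ => h.NU c
    rw [Finset.iSup_insert] at hx
    obtain ⟨n, hn, y, hy, e⟩ := mem_sup_of (h.nor (h.NU b) hle) hx
    have hyC : y ∈ Co N R₀ b := by
      have : (⨆ c ∈ s, N c) ≤ Co N R₀ b := iSup₂_le fun c hc' => h.N_le_Co fun e => hb (e ▸ hc')
      exact this hy
    have h1 : IsC N R₀ b x n := ⟨hn, by rw [e]; simpa using hyC⟩
    have h2 := h.uniq h1 (hc b (Finset.mem_insert_self _ _))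
    rw [h2, one_mul] at e
    rw [e] at hc ⊢
    exact ih y hy fun c hcs => hc c (Finset.mem_insert_of_mem hcs)

/-- The components determine an element of `∏ N b`. -/
theorem ext [Finite ι] {x y : G} (hx : x ∈ ⨆ b, N b) (hy : y ∈ ⨆ b, N b)
    (hc : ∀ b, ∃ n, IsC N R₀ b x n ∧ IsC N R₀ b y n) : x = y := by
  classical
  have := Fintype.ofFinite ι
  have h1 : x * y⁻¹ ∈ ⨆ b ∈ (Finset.univ : Finset ι), N b := by
    simpa using mul_mem hx (inv_mem hy)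
  refine mul_inv_eq_one.1 (h.eq_one_of_comp Finset.univ _ h1 fun b _ => ?_)
  obtain ⟨n, hn1, hn2⟩ := hc b
  have h2 := h.comp_mul hn1 (h.comp_inv hn2)
  rwa [mul_inv_cancel] at h2

/-- The components determine `x` modulo `R₀`. -/
theorem mem_R [Finite ι] {x : G} (hx : x ∈ U) (hc : ∀ b, IsC N R₀ b x 1) : x ∈ R₀ := by
  rw [← h.sup] at hx
  obtain ⟨a, ha, r, hr, e⟩ := mem_sup_of (h.nor (iSup_le h.NU) h.RU) hx
  have h1 : a = 1 := h.ext ha (one_mem _) fun b => by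
    have h2 := h.comp_mul (hc b) (h.comp_inv (h.comp_one (h.R_le_Co b hr)))
    rw [e, mul_inv_cancel_right, inv_one, mul_one] at h2
    exact ⟨1, h2, h.comp_one (one_mem _)⟩
  rw [e, h1, one_mul]
  exact hr

end Dec

end Cfsg.Agent.Omega.NOThreeL.RRed.Blk
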