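import Cfsg.Agent.Mrg.Omega.NOThreeL.RRed.Blk.TypesNat
import Cfsg.Agent.Mrg.Omega.NOThreeL.RRed.NS.Three

section


/-!
# NO-3L, box R: THEOREM TYPES (helper797, #24779): a natural block depends only on its line

* `XH Q` : the group induced by `H` on `U`, `ph Q : H →* XH Q`; `no_XH` : no over-offender;
* `map`, `cj` : transport of `TypesGam.Bk`;
* **`IsNB Q A R N C`** : `A ≤ H` acts on `U` as the root group of the natural block `N` (`|F| ≥ 4`), `R = [U, A]`, `U = N × C`;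
* `IsNB.conj` : conjugation by `g ∈ H`;
* **`IsNB.eq`** : `N`, `C` and the group induced by `A` depend only on the line `R`;
* **`isNB_of`** : the blocks of a natural module (`One M U A j`, `DD M j = 1`).
-/

set_option autoImplicit false
set_option linter.unusedSectionVars false

namespace Cfsg.Agent.Omega.NOThreeL.RRed.Blk.TypesNat

open Subgroup Cfsg Cfsg.Agent.ZN
open Cfsg.Agent.Omega.FFThm Cfsg.Agent.Lib.SL2Mat
open Cfsg.Agent.Omega.NatPair (ap)
open Cfsg.Agent.Omega.NO3S.ThmB Cfsg.Agent.Omega.NO3S.KeyRad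
open Cfsg.Agent.Omega.NOThreeL.RSplit (Nrm)
open Cfsg.Agent.Omega.NOThreeL.RRed.NS hiding rt
open Cfsg.Agent.Omega.NOThreeL.RRed.Blk.TypesGam (Bk rt NO)
open scoped Pointwise

universe u v w w'

/-! ### the faithful group -/

section XH

variable {G : Type u} [Group G] {H U : Subgroup G} (Q : Nrm H U)

/-- the group induced by `H` on `U` -/
def XH : Subgroup (AddMonoid.End Q.Mod)ˣ := (DistribMulAction.toAddMonoidEnd H Q.Mod).toHomUnits.range

/-- the homomorphism -/
def ph : H →* XH Q := (DistribMulAction.toAddMonoidEnd H Q.Mod).toHomUnits.rangeRestrict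

theorem ph_smul (x : H) (m : Q.Mod) : ph Q x • m = x • m := rfl

theorem XH_faith (x : XH Q) (hx : ∀ v : Q.Mod, x • v = v) : x = 1 :=
  Subtype.ext (Units.ext (AddMonoidHom.ext fun v => hx v))

theorem ph_eq {x y : H} : ph Q x = ph Q y ↔ ∀ m : Q.Mod, x • m = y • m := by
  constructor
  · intro h m
    rw [← ph_smul, ← ph_smul, h]
  · intro h
    exact Subtype.ext (Units.ext (AddMonoidHom.ext fun v => h v))

theorem ph_surj : Function.Surjective (ph Q) :=
  (DistribMulAction.toAddMonoidEnd H Q.Mod).toHomUnits.rangeRestrict_surjective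

instance [Finite G] : Finite (XH Q) := Finite.of_surjective (ph Q) (ph_surj Q)

theorem mem_ker {x : H} : x ∈ (ph Q).ker ↔ (x : G) ∈ centralizer (U : Set G) := by
  rw [MonoidHom.mem_ker, ← map_one (ph Q), ph_eq, mem_centralizer_iff]
  constructor
  · intro h u hu
    have h1 := h (Q.of u hu)
    rw [one_smul, smul_eq_iff, Nrm.val_of, mul_inv_eq_iff_eq_mul] at h1
    exact h1.symm
  · intro h m
    rw [one_smul, smul_eq_iff, mul_inv_eq_iff_eq_mul]
    exact (h _ (Q.val_mem m)).symm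

theorem no_XH [Finite G] (hno : NoOverM U H) : NO (XH Q) Q.Mod := by
  intro W hWc hW2
  have hsur := ph_surj Q
  set B : Subgroup H := W.comap (ph Q) with hB
  set A : Subgroup G := B.map H.subtype with hA
  have hAH : A ≤ H := by
    rintro _ ⟨y, -, rfl⟩
    exact y.2
  have hE : ElemM U A := by
    refine ⟨?_, ?_⟩
    · rintro _ ⟨x, hx, rfl⟩
      have h1 : ph Q (x ^ 2) = 1 := by
        rw [pow_two, map_mul]
        exact hW2 _ hx
      exact (mem_ker Q).1 h1
    · rintro _ ⟨x, hx, rfl⟩ _ ⟨y, hy, rfl⟩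
      have h1 : ph Q (x * y * x⁻¹ * y⁻¹) = 1 := by
        rw [map_mul, map_mul, map_mul, map_inv, map_inv, hWc _ hx _ hy]
        group
      exact (mem_ker Q).1 h1
  have h1 := hno A hAH hE
  -- orders
  have c1 : Nat.card A = Nat.card B :=
    (Nat.card_congr (Subgroup.equivMapOfInjective B H.subtype H.subtype_injective).toEquiv).symm
  have c2 : Nat.card B = Nat.card (ph Q).ker * Nat.card W := by
    have h2 := Subgroup.relIndex_mul_relIndex (⊥ : Subgroup H) (ph Q).ker B bot_le (fun x hx => by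
      rw [hB, mem_comap, MonoidHom.mem_ker.1 hx]
      exact one_mem _)
    rw [relIndex_bot_left, relIndex_bot_left, Subgroup.relIndex_ker, hB, Subgroup.map_comap_eq_self_of_surjective hsur] at h2
    exact h2.symm
  have c3 : Nat.card ↥(A ⊓ centralizer (U : Set G)) = Nat.card (ph Q).ker := by
    have h2 : A ⊓ centralizer (U : Set G) = (ph Q).ker.map H.subtype := by
      ext x
      constructor
      · rintro ⟨⟨y, hy, rfl⟩, hx⟩
        exact ⟨y, (mem_ker Q).2 hx, rfl⟩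
      · rintro ⟨y, hy, rfl⟩
        refine ⟨⟨y, ?_, rfl⟩, (mem_ker Q).1 hy⟩
        change ph Q y ∈ W
        rw [MonoidHom.mem_ker.1 hy]
        exact one_mem _
    rw [h2]
    exact (Nat.card_congr (Subgroup.equivMapOfInjective _ H.subtype H.subtype_injective).toEquiv).symm
  have c4 : Nat.card ↥(U ⊓ centralizer (A : Set G)) = Nat.card (fxd W : AddSubgroup Q.Mod) := by
    rw [← Nrm.card_ad (A := Q) (inf_le_left : U ⊓ centralizer (A : Set G) ≤ U)]
    have h2 : Q.ad (U ⊓ centralizer (A : Set G)) = (fxd W : AddSubgroup Q.Mod) := by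
      ext m
      rw [Nrm.mem_ad, mem_inf, mem_centralizer_iff]
      constructor
      · rintro ⟨-, h3⟩ x hx
        obtain ⟨y, rfl⟩ := hsur x
        rw [ph_smul, smul_eq_iff, mul_inv_eq_iff_eq_mul]
        exact h3 y ⟨y, hx, rfl⟩
      · intro h3
        refine ⟨Q.val_mem m, ?_⟩
        rintro _ ⟨y, hy, rfl⟩
        have h4 := h3 (ph Q y) hy
        rw [ph_smul, smul_eq_iff, mul_inv_eq_iff_eq_mul] at h4
        exact h4
    rw [h2]
  have c5 := AddSubgroup.card_mul_index (fxd W : AddSubgroup Q.Mod)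
  have c6 : Nat.card Q.Mod = Nat.card U := rfl
  rw [c1, c2, c3, c4, ← c6, ← c5] at h1
  have p1 : 0 < Nat.card (ph Q).ker := Nat.card_pos
  have p2 : 0 < Nat.card (fxd W : AddSubgroup Q.Mod) := Nat.card_pos
  refine Nat.le_of_mul_le_mul_left (c := Nat.card (ph Q).ker * Nat.card (fxd W : AddSubgroup Q.Mod)) ?_ (Nat.mul_pos p1 p2)
  calc _ = Nat.card (ph Q).ker * Nat.card W * Nat.card (fxd W : AddSubgroup Q.Mod) := by ring
    _ ≤ _ := h1
    _ = _ := by ring

end XH

/-! ### transport of `Bk` -/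

section tr

variable {X : Type u} {X' : Type v} {V : Type w} [Group X] [Group X'] [AddCommGroup V] [DistribMulAction X V]
  [DistribMulAction X' V] {F : Type w'} [Field F] {e f : F →+ V} {C : AddSubgroup V} {up lo : F → X}

theorem map (h : Bk e f C up lo) (φ : X →* X') (hφ : ∀ (x : X) (v : V), φ x • v = x • v) :
    Bk e f C (fun t => φ (up t)) (fun t => φ (lo t)) where
  dec := h.dec
  ind := h.ind
  up_e t x := by rw [hφ, h.up_e]
  up_f t x := by rw [hφ, h.up_f]
  up_c t c hc := by rw [hφ, h.up_c t c hc]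
  lo_e t x := by rw [hφ, h.lo_e]
  lo_f t x := by rw [hφ, h.lo_f]
  lo_c t c hc := by rw [hφ, h.lo_c t c hc]

/-- `g e` -/
def gm (g : X) (e : F →+ V) : F →+ V := (DistribSMul.toAddMonoidHom V g).comp e

theorem gm_apply (g : X) (e : F →+ V) (x : F) : gm g e x = g • e x := rfl

theorem gm_range (g : X) (e : F →+ V) : (gm g e).range = g • e.range := by
  ext v
  constructor
  · rintro ⟨x, rfl⟩
    exact ⟨e x, ⟨x, rfl⟩, rfl⟩
  · rintro ⟨_, ⟨x, rfl⟩, rfl⟩
    exact ⟨x, rfl⟩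

/-- conjugation -/
theorem cj (h : Bk e f C up lo) (g : X) :
    Bk (gm g e) (gm g f) (g • C) (fun t => g * up t * g⁻¹) (fun t => g * lo t * g⁻¹) where
  dec v := by
    obtain ⟨x, y, c, hc, hv⟩ := h.dec (g⁻¹ • v)
    refine ⟨x, y, g • c, ⟨c, hc, rfl⟩, ?_⟩
    rw [gm_apply, gm_apply, ← smul_add, ← smul_add, ← hv, smul_inv_smul]
  ind x y hxy := by
    refine h.ind x y ?_
    rw [gm_apply, gm_apply, ← smul_add, mem_smul', inv_smul_smul] at hxy
    exact hxy
  up_e t x := by rw [gm_apply, mul_smul, mul_smul, inv_smul_smul, h.up_e]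
  up_f t x := by rw [gm_apply, mul_smul, mul_smul, inv_smul_smul, h.up_f, smul_add]; rfl
  up_c t c hc := by
    rw [mem_smul'] at hc
    rw [mul_smul, mul_smul, h.up_c t _ hc, smul_inv_smul]
  lo_e t x := by rw [gm_apply, mul_smul, mul_smul, inv_smul_smul, h.lo_e, smul_add]; rfl
  lo_f t x := by rw [gm_apply, mul_smul, mul_smul, inv_smul_smul, h.lo_f]
  lo_c t c hc := by
    rw [mem_smul'] at hc
    rw [mul_smul, mul_smul, h.lo_c t _ hc, smul_inv_smul]

end tr

/-! ### natural blocks in `G` -/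

section nb

variable {G : Type u} [Group G] {H U : Subgroup G}

/-- `A` acts on `U` as the root group of the natural block `N`, `R = [U, A]`, `U = N × C`. -/
structure NB (Q : Nrm H U) (A R N C : Subgroup G) {F : Type} [Field F] (e f : F →+ Q.Mod) (up lo : F → H) : Prop where
  bk : Bk e f (Q.ad C) up lo
  upA : ∀ t, (up t : G) ∈ A
  Aup : ∀ a : H, (a : G) ∈ A → ∃ t, ∀ m : Q.Mod, a • m = up t • m
  AH : A ≤ H
  eR : e.range = Q.ad R
  eN : e.range ⊔ f.range = Q.ad N
  RU : R ≤ U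
  NU : N ≤ U
  CU : C ≤ U

namespace NB

variable {Q : Nrm H U} {A R N C : Subgroup G} {F : Type} [Field F] {e f : F →+ Q.Mod} {up lo : F → H}
  (h : NB Q A R N C e f up lo)
include h

/-- conjugation by `g ∈ H` -/
theorem conj (g : H) : NB Q (MulAut.conj (g : G) • A) (MulAut.conj (g : G) • R) (MulAut.conj (g : G) • N)
    (MulAut.conj (g : G) • C) (gm g e) (gm g f) (fun t => g * up t * g⁻¹) (fun t => g * lo t * g⁻¹) where
  bk := by
    have h1 := cj h.bk g
    rwa [Nrm.smul_ad] at h1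
  upA t := by
    have := conj_mem' (x := (g : G)) (h.upA t)
    exact this
  Aup a ha := by
    have h1 : ((g⁻¹ * a * g : H) : G) ∈ A := mem_conj.1 ha
    obtain ⟨t, ht⟩ := h.Aup _ h1
    refine ⟨t, fun m => ?_⟩
    have h2 := ht (g⁻¹ • m)
    rw [mul_smul, mul_smul, smul_inv_smul] at h2
    rw [mul_smul, mul_smul, ← h2, smul_inv_smul]
  AH := by
    intro x hx
    have h1 := h.AH (mem_conj.1 hx)
    have e1 : x = g * ((g : G)⁻¹ * x * g) * (g : G)⁻¹ := by group
    rw [e1]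
    exact mul_mem (mul_mem g.2 h1) (inv_mem g.2)
  eR := by rw [gm_range, h.eR, Nrm.smul_ad]
  eN := by
    rw [gm_range, gm_range, ← Nrm.smul_ad, ← h.eN]
    ext v
    constructor
    · intro hv
      obtain ⟨a, ha, b, hb, rfl⟩ := AddSubgroup.mem_sup.1 hv
      rw [mem_smul', smul_add]
      exact add_mem (AddSubgroup.mem_sup_left (mem_smul'.1 ha)) (AddSubgroup.mem_sup_right (mem_smul'.1 hb))
    · intro hv
      rw [mem_smul'] at hv
      obtain ⟨a, ha, b, hb, hab⟩ := AddSubgroup.mem_sup.1 hv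
      have e1 : v = g • a + g • b := by rw [← smul_add, hab, smul_inv_smul]
      rw [e1]
      refine add_mem (AddSubgroup.mem_sup_left ?_) (AddSubgroup.mem_sup_right ?_)
      · rw [mem_smul', inv_smul_smul]; exact ha
      · rw [mem_smul', inv_smul_smul]; exact hb
  RU := by
    rintro _ ⟨x, hx, rfl⟩
    exact Q.nrm' g.2 (h.RU hx)
  NU := by
    rintro _ ⟨x, hx, rfl⟩
    exact Q.nrm' g.2 (h.NU hx)
  CU := by
    rintro _ ⟨x, hx, rfl⟩
    exact Q.nrm' g.2 (h.CU hx)

/-- a root element moves every vector by an element of the line -/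
theorem sub_mem (t : F) (v : Q.Mod) : ∃ x, up t • v = v + e x := by
  obtain ⟨x, y, c, hc, rfl⟩ := h.bk.dec v
  refine ⟨t * y, ?_⟩
  rw [smul_add, smul_add, h.bk.up_e, h.bk.up_f, h.bk.up_c t c hc]
  abel

/-- the root groups of two blocks with the same line coincide on `U` -/
theorem le_rt [Finite G] [Finite F] (hU2 : IsElementaryAbelian 2 U) (hno : NoOverM U H) (hF : 4 ≤ Nat.card F) {A' N' C' : Subgroup G}
    {F' : Type} [Field F'] {e' f' : F' →+ Q.Mod} {up' lo' : F' → H} (h' : NB Q A' R N' C' e' f' up' lo') (t : F') :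
    ph Q (up' t) ∈ rt (fun t => ph Q (up t)) := by
  have h2 : ∀ v : Q.Mod, v + v = 0 := fun v => Nrm.ext (by
    rw [Nrm.val_add, Nrm.val_zero]
    have := hU2.2 _ (Q.val_mem v)
    rwa [pow_two] at this)
  refine Bk.gam (map h.bk (ph Q) (ph_smul Q)) h2 (fun x hx => XH_faith Q x hx) (no_XH Q hno) hF ?_ ?_ ?_
  · intro z
    have h3 : e z ∈ e'.range := by rw [h'.eR, ← h.eR]; exact ⟨z, rfl⟩
    obtain ⟨y, hy⟩ := h3
    rw [ph_smul, ← hy, h'.bk.up_e]
  · intro c _
    obtain ⟨x, hx⟩ := h'.sub_mem t c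
    have h3 : e' x ∈ e.range := by rw [h.eR, ← h'.eR]; exact ⟨x, rfl⟩
    obtain ⟨y, hy⟩ := h3
    exact ⟨y, by rw [ph_smul, hx, hy]⟩
  · intro z
    obtain ⟨x, hx⟩ := h'.sub_mem t (f z)
    have h3 : e' x ∈ e.range := by rw [h.eR, ← h'.eR]; exact ⟨x, rfl⟩
    obtain ⟨y, hy⟩ := h3
    exact ⟨y, 0, AddSubgroup.zero_mem _, by rw [ph_smul, hx, hy, add_zero]⟩

theorem rt_eq [Finite G] [Finite F] (hU2 : IsElementaryAbelian 2 U) (hno : NoOverM U H) (hF : 4 ≤ Nat.card F)
    {A' N' C' : Subgroup G} {F' : Type} [Field F'] [Finite F'] (hF' : 4 ≤ Nat.card F') {e' f' : F' →+ Q.Mod} {up' lo' : F' → H}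
    (h' : NB Q A' R N' C' e' f' up' lo') :
    rt (fun t => ph Q (up t)) = rt (fun t => ph Q (up' t)) := by
  apply le_antisymm
  · rw [rt, closure_le]
    rintro _ ⟨t, rfl⟩
    exact h'.le_rt hU2 hno hF' h t
  · rw [rt, closure_le]
    rintro _ ⟨t, rfl⟩
    exact h.le_rt hU2 hno hF h' t

/-- **A natural block depends only on its line.** -/
theorem eq [Finite G] [Finite F] (hU2 : IsElementaryAbelian 2 U) (hno : NoOverM U H) (hF : 4 ≤ Nat.card F)
    {A' N' C' : Subgroup G} {F' : Type} [Field F'] [Finite F'] (hF' : 4 ≤ Nat.card F') {e' f' : F' →+ Q.Mod}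
    {up' lo' : F' → H} (h' : NB Q A' R N' C' e' f' up' lo') :
    N = N' ∧ C = C' ∧ (∀ a ∈ A, ∃ a' ∈ A', ∀ u ∈ U, a * u * a⁻¹ = a' * u * a'⁻¹) := by
  have h2 : ∀ v : Q.Mod, v + v = 0 := fun v => Nrm.ext (by
    rw [Nrm.val_add, Nrm.val_zero]
    have := hU2.2 _ (Q.val_mem v)
    rwa [pow_two] at this)
  have hrt := h.rt_eq hU2 hno hF hF' h'
  obtain ⟨h3, -, h5⟩ := Bk.eq (map h.bk (ph Q) (ph_smul Q)) (map h'.bk (ph Q) (ph_smul Q)) h2
    (fun x hx => XH_faith Q x hx) (no_XH Q hno) hF hrt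
  rw [h.eN, h'.eN] at h5
  refine ⟨ad_inj Q h.NU h'.NU h5, ad_inj Q h.CU h'.CU h3, fun a ha => ?_⟩
  obtain ⟨t, ht⟩ := h.Aup ⟨a, h.AH ha⟩ ha
  have h6 : ph Q (up t) ∈ rt (fun t => ph Q (up' t)) := hrt ▸ subset_closure ⟨t, rfl⟩
  obtain ⟨t', ht'⟩ := ((map h'.bk (ph Q) (ph_smul Q)).mem_rt h2 (fun x hx => XH_faith Q x hx)).1 h6
  refine ⟨up' t', h'.upA t', fun u hu => ?_⟩
  have h7 := (ph_eq Q).1 ht' (Q.of u hu)
  rw [← ht] at h7
  exact (Nrm.ext_iff.1 h7).symm

end NB

/-- `A` acts on `U` as the root group of a natural block `N` over a field with at least four elements, `R = [U, A]`,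
`U = N × C`. -/
def IsNB (Q : Nrm H U) (A R N C : Subgroup G) : Prop :=
  ∃ (F : Type) (_ : Field F) (_ : Finite F) (_ : CharP F 2) (e f : F →+ Q.Mod) (up lo : F → H),
    4 ≤ Nat.card F ∧ NB Q A R N C e f up lo

theorem IsNB.conj {Q : Nrm H U} {A R N C : Subgroup G} (h : IsNB Q A R N C) {g : G} (hg : g ∈ H) :
    IsNB Q (MulAut.conj g • A) (MulAut.conj g • R) (MulAut.conj g • N) (MulAut.conj g • C) := by
  obtain ⟨F, i1, i2, i3, e, f, up, lo, hF, h⟩ := h
  exact ⟨F, i1, i2, i3, _, _, _, _, hF, h.conj ⟨g, hg⟩⟩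

/-- **A natural block depends only on its line.** -/
theorem IsNB.eq [Finite G] {Q : Nrm H U} {A R N C A' N' C' : Subgroup G} (h : IsNB Q A R N C) (h' : IsNB Q A' R N' C')
    (hU2 : IsElementaryAbelian 2 U) (hno : NoOverM U H) :
    N = N' ∧ C = C' ∧ (∀ a ∈ A, ∃ a' ∈ A', ∀ u ∈ U, a * u * a⁻¹ = a' * u * a'⁻¹) := by
  obtain ⟨F, i1, i2, i3, e, f, up, lo, hF, h⟩ := h
  obtain ⟨F', j1, j2, j3, e', f', up', lo', hF', h'⟩ := h'
  exact h.eq hU2 hno hF hF' h'

/-- **The blocks of a natural module.** -/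
theorem isNB_of [Finite G] {F : Type} [Field F] [Finite F] [CharP F 2] {S P V D : Subgroup G} {k : ℕ}
    {M : NatKM F S P V D k} (h : Nb M) (hF : 2 < Nat.card F) (Q : Nrm H U) (hPH : P ≤ H) (hVU : V ≤ U)
    {A : Subgroup G} {j : Fin k} (O : One M U A j) (hAP : A ≤ P) (hD : DD M j = ⊥) :
    ∃ p ∈ P, IsNB Q A (YY h j) (blk M j) (U ⊓ centralizer ((A ⊔ MulAut.conj p • A : Subgroup G) : Set G)) := by
  obtain ⟨e, f, up, lo, p, hp, hb, h1, -, h3, h4, h5⟩ := exists_bk h hF Q hPH hVU O hAP hD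
  have hF4 : 4 ≤ Nat.card F := by
    by_contra hcon
    have h6 : Nat.card F = 3 := by omega
    have h7 : (3 : ℕ) • (1 : F) = 0 := by rw [← h6]; exact card_nsmul_eq_zero'
    have h8 : (2 : ℕ) • (1 : F) = 0 := by rw [two_nsmul]; exact CharTwo.add_self_eq_zero 1
    have h9 : (3 : ℕ) • (1 : F) = (2 : ℕ) • (1 : F) + 1 := succ_nsmul _ _
    rw [h7, h8, zero_add] at h9
    exact zero_ne_one h9
  refine ⟨p, hp, F, inferInstance, inferInstance, inferInstance, e, f, up, lo, hF4, ?_⟩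
  have hC : Q.ad (U ⊓ centralizer ((A ⊔ MulAut.conj p • A : Subgroup G) : Set G)) =
      Q.ad (centralizer ((A ⊔ MulAut.conj p • A : Subgroup G) : Set G)) :=
    le_antisymm (Nrm.ad_mono inf_le_right) fun m hm => ⟨Q.val_mem m, hm⟩
  exact
    { bk := by rw [hC]; exact hb
      upA := h1
      Aup := fun a ha => h3 a ha
      AH := hAP.trans hPH
      eR := h4
      eN := h5
      RU := (YY_le_V h j).trans hVU
      NU := (blk_le h j).trans hVU
      CU := inf_le_left }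

end nb

end Cfsg.Agent.Omega.NOThreeL.RRed.Blk.TypesNat

end

section


/-!
# NO-3L, box R: natural blocks under `N_G(U) ∩ N_G(H)`

* `tau Q hU` : conjugation by `n ∈ N(U)` on `Q.Mod`; `sig Q hU hH` : conjugation by `n ∈ N(U) ∩ N(H)` on `XH Q`;
* `NB.tr`, `NB.uniq` (module level: `Asm.NB`);
* `IsNB.conjN` : conjugation of `IsNB` by `n ∈ N(U) ∩ N(H)`;
* **`IsNB.perm`** : a set of root groups closed under conjugation by `n`: `n` permutes the blocks and the lines.
-/

set_option autoImplicit false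
set_option linter.unusedSectionVars false

namespace Cfsg.Agent.Omega.NOThreeL.RRed.Blk.TypesNat

open Subgroup Cfsg Cfsg.Agent.ZN
open Cfsg.Agent.Omega.FFThm Cfsg.Agent.Lib.SL2Mat
open Cfsg.Agent.Omega.NO3S.ThmB Cfsg.Agent.Omega.NO3S.KeyRad
open Cfsg.Agent.Omega.NOThreeL.RSplit (Nrm)
open Cfsg.Agent.Omega.NOThreeL.RRed.NS hiding rt
open Cfsg.Agent.Omega.NOThreeL.RRed.Blk.TypesGam (Bk rt NO)
open scoped Pointwise

universe u v w w'

/-! ### module level -/

section ml

variable {X : Type u} {V : Type w} [Group X] [AddCommGroup V] [DistribMulAction X V]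

/-- transport by a pair of automorphisms -/
theorem Bk_tr {F : Type w'} [Field F] {e f : F →+ V} {C : AddSubgroup V} {up lo : F → X} (h : Bk e f C up lo)
    (τ : V ≃+ V) (σ : X ≃* X) (hτ : ∀ (x : X) (v : V), τ (x • v) = σ x • τ v) :
    Bk (τ.toAddMonoidHom.comp e) (τ.toAddMonoidHom.comp f) (C.map τ.toAddMonoidHom) (fun t => σ (up t))
      (fun t => σ (lo t)) where
  dec v := by
    obtain ⟨x, y, c, hc, hv⟩ := h.dec (τ.symm v)
    refine ⟨x, y, τ c, ⟨c, hc, rfl⟩, ?_⟩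
    change v = τ (e x) + τ (f y) + τ c
    rw [← map_add, ← map_add, ← hv, τ.apply_symm_apply]
  ind x y hxy := by
    obtain ⟨c, hc, h1⟩ := hxy
    have h2 : τ c = τ (e x + f y) := by
      rw [map_add]
      exact h1
    exact h.ind x y (τ.injective h2 ▸ hc)
  up_e t x := by
    change σ (up t) • τ (e x) = τ (e x)
    rw [← hτ, h.up_e]
  up_f t x := by
    change σ (up t) • τ (f x) = τ (f x) + τ (e (t * x))
    rw [← hτ, h.up_f, map_add]
  up_c t c hc := by
    obtain ⟨c, hc, rfl⟩ := hc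
    change σ (up t) • τ c = τ c
    rw [← hτ, h.up_c t c hc]
  lo_e t x := by
    change σ (lo t) • τ (e x) = τ (e x) + τ (f (t * x))
    rw [← hτ, h.lo_e, map_add]
  lo_f t x := by
    change σ (lo t) • τ (f x) = τ (f x)
    rw [← hτ, h.lo_f]
  lo_c t c hc := by
    obtain ⟨c, hc, rfl⟩ := hc
    change σ (lo t) • τ c = τ c
    rw [← hτ, h.lo_c t c hc]

theorem map_rt {F : Type w'} {up : F → X} (σ : X ≃* X) : rt (fun t => σ (up t)) = (rt up).map σ.toMonoidHom := by
  rw [rt, rt, MonoidHom.map_closure]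
  congr 1
  ext y
  constructor
  · rintro ⟨t, rfl⟩
    exact ⟨up t, ⟨t, rfl⟩, rfl⟩
  · rintro ⟨_, ⟨t, rfl⟩, rfl⟩
    exact ⟨t, rfl⟩

/-- transport of `Asm.NB` -/
theorem NB_tr {D : Subgroup X} {N C : AddSubgroup V} (h : Asm.NB D N C) (τ : V ≃+ V) (σ : X ≃* X)
    (hτ : ∀ (x : X) (v : V), τ (x • v) = σ x • τ v) :
    Asm.NB (D.map σ.toMonoidHom) (N.map τ.toAddMonoidHom) (C.map τ.toAddMonoidHom) := by
  obtain ⟨F, i1, i2, e, f, up, lo, hb, rfl, rfl⟩ := h.ex
  refine ⟨F, i1, i2, _, _, _, _, Bk_tr hb τ σ hτ, map_rt σ, ?_⟩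
  rw [AddSubgroup.map_sup]
  congr 1
  · exact AddMonoidHom.range_comp _ _
  · exact AddMonoidHom.range_comp _ _

/-- uniqueness -/
theorem NB_uniq [Finite X] [Finite V] {D : Subgroup X} {N C N' C' : AddSubgroup V} (h : Asm.NB D N C) (h' : Asm.NB D N' C')
    (h2 : ∀ v : V, v + v = 0) (hf : ∀ x : X, (∀ v : V, x • v = v) → x = 1) (hno : NO X V) (h4 : 4 ≤ Nat.card D) :
    N = N' ∧ C = C' := by
  obtain ⟨F, i1, i2, e, f, up, lo, hb, hD, rfl⟩ := h.ex
  obtain ⟨F', j1, j2, e', f', up', lo', hb', hD', rfl⟩ := h'.ex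
  have h4' : 4 ≤ Nat.card F := by
    rw [← hb.card_rt h2 hf, hD]
    exact h4
  obtain ⟨h5, -, h7⟩ := Bk.eq hb hb' h2 hf hno h4' (hD.trans hD'.symm)
  exact ⟨h7, h5⟩

end ml

/-! ### conjugation by `n` -/

section tau

variable {G : Type u} [Group G] {H U : Subgroup G} (Q : Nrm H U) {n : G}

/-- conjugation by `n ∈ N(U)` on `U` -/
def tau (hU : n ∈ normalizer (U : Set G)) : Q.Mod ≃+ Q.Mod where
  toFun m := Q.of (n * Q.val m * n⁻¹) ((mem_normalizer_iff.1 hU _).1 (Q.val_mem m))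
  invFun m := Q.of (n⁻¹ * Q.val m * n) (by
    have := (mem_normalizer_iff.1 (inv_mem hU) _).1 (Q.val_mem m)
    rwa [inv_inv] at this)
  left_inv m := Nrm.ext (by rw [Nrm.val_of, Nrm.val_of]; group)
  right_inv m := Nrm.ext (by rw [Nrm.val_of, Nrm.val_of]; group)
  map_add' a b := Nrm.ext (by rw [Nrm.val_of, Nrm.val_add, Nrm.val_add, Nrm.val_of, Nrm.val_of]; group)

theorem val_tau (hU : n ∈ normalizer (U : Set G)) (m : Q.Mod) : Q.val (tau Q hU m) = n * Q.val m * n⁻¹ := rfl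

theorem map_tau (hU : n ∈ normalizer (U : Set G)) (B : Subgroup G) :
    (Q.ad B).map (tau Q hU).toAddMonoidHom = Q.ad (MulAut.conj n • B) := by
  ext m
  constructor
  · rintro ⟨m, hm, rfl⟩
    exact conj_mem' (Nrm.mem_ad.1 hm)
  · intro hm
    refine ⟨(tau Q hU).symm m, ?_, (tau Q hU).apply_symm_apply m⟩
    exact mem_conj.1 (Nrm.mem_ad.1 hm)

/-- `n h n⁻¹` -/
def cjH (hH : n ∈ normalizer (H : Set G)) (h : H) : H := ⟨n * h * n⁻¹, (mem_normalizer_iff.1 hH _).1 h.2⟩

theorem tau_smul (hU : n ∈ normalizer (U : Set G)) (hH : n ∈ normalizer (H : Set G)) (h : H) (m : Q.Mod) :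
    tau Q hU (h • m) = cjH hH h • tau Q hU m := Nrm.ext (by
  rw [val_tau, Nrm.val_smul, Nrm.val_smul, val_tau]
  change _ = n * h * n⁻¹ * (n * Q.val m * n⁻¹) * (n * h * n⁻¹)⁻¹
  group)

/-- `tau` as a unit -/
def tauU (hU : n ∈ normalizer (U : Set G)) : (AddMonoid.End Q.Mod)ˣ where
  val := (tau Q hU).toAddMonoidHom
  inv := (tau Q hU).symm.toAddMonoidHom
  val_inv := AddMonoidHom.ext fun m => (tau Q hU).apply_symm_apply m
  inv_val := AddMonoidHom.ext fun m => (tau Q hU).symm_apply_apply m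

theorem tauU_conj (hU : n ∈ normalizer (U : Set G)) (hH : n ∈ normalizer (H : Set G)) (h : H) :
    tauU Q hU * (ph Q h : (AddMonoid.End Q.Mod)ˣ) * (tauU Q hU)⁻¹ = ph Q (cjH hH h) := by
  refine Units.ext (AddMonoidHom.ext fun m => ?_)
  change tau Q hU (h • (tau Q hU).symm m) = cjH hH h • m
  rw [tau_smul Q hU hH, (tau Q hU).apply_symm_apply]

/-- conjugation by `n ∈ N(U) ∩ N(H)` on `XH Q` -/
noncomputable def sig (hU : n ∈ normalizer (U : Set G)) (hH : n ∈ normalizer (H : Set G)) : XH Q ≃* XH Q :=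
  MulEquiv.ofBijective
    ({ toFun := fun x => ⟨tauU Q hU * x * (tauU Q hU)⁻¹, by
        obtain ⟨h, rfl⟩ := ph_surj Q x
        rw [tauU_conj Q hU hH]
        exact (ph Q _).2⟩
       map_one' := Subtype.ext (by simp)
       map_mul' := fun x y => Subtype.ext (by simp [mul_assoc]) } : XH Q →* XH Q) (by
      constructor
      · intro x y hxy
        have h1 : tauU Q hU * (x : (AddMonoid.End Q.Mod)ˣ) * (tauU Q hU)⁻¹ = tauU Q hU * y * (tauU Q hU)⁻¹ :=
          congrArg Subtype.val hxy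
        exact Subtype.ext (mul_left_cancel (mul_right_cancel h1))
      · intro x
        obtain ⟨h, rfl⟩ := ph_surj Q x
        have hH' := inv_mem hH
        refine ⟨ph Q (cjH hH' h), Subtype.ext ?_⟩
        change tauU Q hU * (ph Q (cjH hH' h) : (AddMonoid.End Q.Mod)ˣ) * (tauU Q hU)⁻¹ = ph Q h
        rw [tauU_conj Q hU hH]
        congr 2
        apply Subtype.ext
        change n * (n⁻¹ * h * n⁻¹⁻¹) * n⁻¹ = h
        group)

theorem sig_ph (hU : n ∈ normalizer (U : Set G)) (hH : n ∈ normalizer (H : Set G)) (h : H) :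
    sig Q hU hH (ph Q h) = ph Q (cjH hH h) := Subtype.ext (tauU_conj Q hU hH h)

theorem tau_sig (hU : n ∈ normalizer (U : Set G)) (hH : n ∈ normalizer (H : Set G)) (x : XH Q) (v : Q.Mod) :
    tau Q hU (x • v) = sig Q hU hH x • tau Q hU v := by
  obtain ⟨h, rfl⟩ := ph_surj Q x
  rw [sig_ph, ph_smul, ph_smul, tau_smul Q hU hH]

/-- the image in `XH Q` -/
theorem map_sig (hU : n ∈ normalizer (U : Set G)) (hH : n ∈ normalizer (H : Set G)) (A : Subgroup G) (hA : A ≤ H) :
    ((A.subgroupOf H).map (ph Q)).map (sig Q hU hH).toMonoidHom =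
      ((MulAut.conj n • A).subgroupOf H).map (ph Q) := by
  ext y
  constructor
  · rintro ⟨_, ⟨h, hh, rfl⟩, rfl⟩
    refine ⟨cjH hH h, ?_, (sig_ph Q hU hH h).symm⟩
    exact mem_subgroupOf.2 (conj_mem' (mem_subgroupOf.1 hh))
  · rintro ⟨h, hh, rfl⟩
    have h1 : n⁻¹ * (h : G) * n ∈ A := mem_conj.1 (mem_subgroupOf.1 hh)
    refine ⟨ph Q ⟨_, hA h1⟩, ⟨⟨_, hA h1⟩, mem_subgroupOf.2 h1, rfl⟩, ?_⟩
    change sig Q hU hH (ph Q ⟨_, hA h1⟩) = ph Q h
    rw [sig_ph]
    congr 1
    apply Subtype.ext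
    change n * (n⁻¹ * (h : G) * n) * n⁻¹ = h
    group

end tau

/-! ### `IsNB` -/

section isnb

variable {G : Type u} [Group G] {H U : Subgroup G} {Q : Nrm H U} {n : G}

theorem conj_le_U {B : Subgroup G} (hU : n ∈ normalizer (U : Set G)) (hB : B ≤ U) : MulAut.conj n • B ≤ U := by
  rintro _ ⟨x, hx, rfl⟩
  exact (mem_normalizer_iff.1 hU _).1 (hB hx)

theorem NB.conjN {A R N C : Subgroup G} {F : Type} [Field F] {e f : F →+ Q.Mod} {up lo : F → H}
    (h : NB Q A R N C e f up lo) (hU : n ∈ normalizer (U : Set G)) (hH : n ∈ normalizer (H : Set G)) :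
    NB Q (MulAut.conj n • A) (MulAut.conj n • R) (MulAut.conj n • N) (MulAut.conj n • C)
      ((tau Q hU).toAddMonoidHom.comp e) ((tau Q hU).toAddMonoidHom.comp f) (fun t => cjH hH (up t))
      (fun t => cjH hH (lo t)) where
  bk := by
    have hinj : Function.Injective (cjH hH) := by
      intro x y hxy
      have h1 : n * (x : G) * n⁻¹ = n * y * n⁻¹ := congrArg Subtype.val hxy
      exact Subtype.ext (mul_left_cancel (mul_right_cancel h1))
    have hsur : Function.Surjective (cjH hH) := by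
      intro x
      refine ⟨cjH (inv_mem hH) x, Subtype.ext ?_⟩
      change n * (n⁻¹ * x * n⁻¹⁻¹) * n⁻¹ = x
      group
    let σ : H ≃* H := MulEquiv.ofBijective
      ({ toFun := cjH hH
         map_one' := Subtype.ext (by change n * 1 * n⁻¹ = 1; group)
         map_mul' := fun x y => Subtype.ext (by
          change n * (x * y) * n⁻¹ = n * x * n⁻¹ * (n * y * n⁻¹)
          group) } : H →* H) ⟨hinj, hsur⟩
    have h1 := Bk_tr h.bk (tau Q hU) σ fun x v => tau_smul Q hU hH x v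
    rw [map_tau] at h1
    exact h1
  upA t := conj_mem' (h.upA t)
  Aup a ha := by
    have h0 : n⁻¹ * (a : G) * n ∈ A := mem_conj.1 ha
    obtain ⟨t, ht⟩ := h.Aup ⟨_, h.AH h0⟩ h0
    refine ⟨t, fun m => ?_⟩
    have h2 := congrArg (tau Q hU) (ht ((tau Q hU).symm m))
    rw [tau_smul Q hU hH, tau_smul Q hU hH, (tau Q hU).apply_symm_apply] at h2
    have h3 : cjH hH ⟨_, h.AH h0⟩ = a := by
      apply Subtype.ext
      change n * (n⁻¹ * (a : G) * n) * n⁻¹ = a
      group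
    rwa [h3] at h2
  AH := by
    intro x hx
    have h1 := (mem_normalizer_iff.1 hH _).1 (h.AH (mem_conj.1 hx))
    have e1 : n * (n⁻¹ * x * n) * n⁻¹ = x := by group
    rwa [e1] at h1
  eR := by rw [AddMonoidHom.range_comp, h.eR, map_tau]
  eN := by rw [AddMonoidHom.range_comp, AddMonoidHom.range_comp, ← AddSubgroup.map_sup, h.eN, map_tau]
  RU := conj_le_U hU h.RU
  NU := conj_le_U hU h.NU
  CU := conj_le_U hU h.CU

theorem IsNB.conjN {A R N C : Subgroup G} (h : IsNB Q A R N C) (hU : n ∈ normalizer (U : Set G))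
    (hH : n ∈ normalizer (H : Set G)) :
    IsNB Q (MulAut.conj n • A) (MulAut.conj n • R) (MulAut.conj n • N) (MulAut.conj n • C) := by
  obtain ⟨F, i1, i2, i3, e, f, up, lo, hF, h⟩ := h
  exact ⟨F, i1, i2, i3, _, _, _, _, hF, h.conjN hU hH⟩

/-- the line is `[U, A]` -/
theorem IsNB.line [Finite G] {A R N C : Subgroup G} (h : IsNB Q A R N C) : closure (covs U A) = R := by
  obtain ⟨F, i1, i2, i3, e, f, up, lo, hF, h⟩ := h
  apply le_antisymm
  · rw [closure_le]
    rintro _ ⟨a, ha, u, hu, rfl⟩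
    obtain ⟨t, ht⟩ := h.Aup ⟨a, h.AH ha⟩ ha
    obtain ⟨x, hx⟩ := h.sub_mem t (Q.of u hu)
    have h1 : (⟨a, h.AH ha⟩ : H) • Q.of u hu - Q.of u hu ∈ Q.ad R := by
      rw [ht, hx, add_sub_cancel_left, ← h.eR]
      exact ⟨x, rfl⟩
    rw [Nrm.mem_ad, Nrm.val_sub, Nrm.val_smul, Nrm.val_of] at h1
    exact h1
  · intro r hr
    have h1 : Q.of r (h.RU hr) ∈ e.range := by rw [h.eR]; exact hr
    obtain ⟨x, hx⟩ := h1
    have h2 := h.bk.up_f x 1
    rw [mul_one, hx] at h2
    have h3 : up x • f 1 - f 1 = Q.of r (h.RU hr) := by rw [h2]; abel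
    have h4 := congrArg Q.val h3
    rw [Nrm.val_sub, Nrm.val_smul, Nrm.val_of] at h4
    rw [← h4]
    exact subset_closure ⟨_, h.upA x, _, Q.val_mem _, rfl⟩

/-- **conjugate root groups have conjugate blocks** -/
theorem IsNB.perm [Finite G] {A R N C A' R' N' C' : Subgroup G} (h : IsNB Q A R N C) (h' : IsNB Q A' R' N' C')
    (hU2 : IsElementaryAbelian 2 U) (hno : NoOverM U H) (hU : n ∈ normalizer (U : Set G))
    (hH : n ∈ normalizer (H : Set G)) (hA : MulAut.conj n • A = A') :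
    MulAut.conj n • R = R' ∧ MulAut.conj n • N = N' ∧ MulAut.conj n • C = C' := by
  have h1 := h.conjN hU hH
  rw [hA] at h1
  have h2 : MulAut.conj n • R = R' := h1.line.symm.trans h'.line
  rw [h2] at h1
  obtain ⟨h3, h4, -⟩ := h1.eq h' hU2 hno
  exact ⟨h2, h3, h4⟩

end isnb

end Cfsg.Agent.Omega.NOThreeL.RRed.Blk.TypesNat

end
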