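import Cfsg.Agent.Mrg.Omega.NOThreeL.RRed.ClassMx
import Cfsg.Agent.Mrg.Omega.NOThreeL.RRed.Blk.TypesLine
import Cfsg.Agent.Mrg.Omega.NOThreeL.RRed.Blk.AsmCore

section


/-!
# NO-3L, box R: assembly of the blocks: a minimal exact offender with a transvection has order 2 modulo its kernel

* `mx_tv` : `A` minimal exact on `V`, `t ∈ A` a transvection on `V`: `A = ⟨t⟩ C_A(V)`;
* `card_im` : then the group induced by `A` on `V` (`XH Q`, `ph Q`) has order at most 2;
* **`card_le_two`** : `GOne S L P A`, `Mx (zl S L) A`, `P` of type `q = 2` or `S_n` (`Two2 S P`).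
-/

set_option autoImplicit false
set_option linter.unusedSectionVars false

namespace Cfsg.Agent.Omega.NOThreeL.RRed.Blk.AsmCard

open Subgroup Cfsg Cfsg.Agent.ZN
open Cfsg.Agent.Omega.FFThm (ElemM OffM NoOverM)
open Cfsg.Agent.Omega.NOThreeL.RSplit (Nrm)
open Cfsg.Agent.Omega.NOThreeL.RRed.Blk.TypesNat (XH ph ph_smul ph_eq mem_ker)
open scoped Pointwise

universe u

variable {G : Type u} [Group G]

theorem card_mul [Finite G] (D V : Subgroup G) : D.relIndex V * Nat.card ↥(V ⊓ D) = Nat.card V := by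
  have e := relIndex_inf_mul_relIndex (⊥ : Subgroup G) D V
  rw [relIndex_bot_left, bot_inf_eq, relIndex_bot_left, mul_comm, inf_comm] at e
  exact e

/-- `⟨t⟩ C_A(V)` -/
def Bt (V A : Subgroup G) (h : ElemM V A) {t : G} (ht : t ∈ A) : Subgroup G :=
  have hcj : ∀ x ∈ A, x ∈ centralizer (V : Set G) → t⁻¹ * x * t ∈ centralizer (V : Set G) := fun x hx hxC => by
    have h1 := h.comm t⁻¹ (inv_mem ht) x hx
    have e : t⁻¹ * x * t = (t⁻¹ * x * t⁻¹⁻¹ * x⁻¹) * x := by group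
    rw [e]; exact mul_mem h1 hxC
  { carrier := {x | x ∈ A ∧ (x ∈ centralizer (V : Set G) ∨ t⁻¹ * x ∈ centralizer (V : Set G))}
    mul_mem' := by
      rintro x y ⟨hx, hx'⟩ ⟨hy, hy'⟩
      refine ⟨mul_mem hx hy, ?_⟩
      rcases hx' with h1 | h1 <;> rcases hy' with h2 | h2
      · exact Or.inl (mul_mem h1 h2)
      · right
        have e : t⁻¹ * (x * y) = (t⁻¹ * x * t) * (t⁻¹ * y) := by group
        rw [e]; exact mul_mem (hcj x hx h1) h2
      · right
        have e : t⁻¹ * (x * y) = (t⁻¹ * x) * y := by group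
        rw [e]; exact mul_mem h1 h2
      · left
        have e : x * y = t ^ 2 * (t⁻¹ * (t⁻¹ * x) * t) * (t⁻¹ * y) := by rw [pow_two]; group
        rw [e]
        exact mul_mem (mul_mem (h.sq t ht) (hcj _ (mul_mem (inv_mem ht) hx) h1)) h2
    one_mem' := ⟨one_mem _, Or.inl (one_mem _)⟩
    inv_mem' := by
      rintro x ⟨hx, hx'⟩
      refine ⟨inv_mem hx, ?_⟩
      rcases hx' with h1 | h1
      · exact Or.inl (inv_mem h1)
      · right
        have e : t⁻¹ * x⁻¹ = (t⁻¹ * (t⁻¹ * x)⁻¹ * t) * (t ^ 2)⁻¹ := by rw [pow_two]; group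
        rw [e]
        exact mul_mem (hcj _ (inv_mem (mul_mem (inv_mem ht) hx)) (inv_mem h1)) (inv_mem (h.sq t ht)) }

theorem mem_Bt {V A : Subgroup G} {h : ElemM V A} {t : G} {ht : t ∈ A} {x : G} : x ∈ Bt V A h ht ↔
    x ∈ A ∧ (x ∈ centralizer (V : Set G) ∨ t⁻¹ * x ∈ centralizer (V : Set G)) := Iff.rfl

/-- **`A = ⟨t⟩ C_A(V)`.** -/
theorem mx_tv [Finite G] {V A : Subgroup G} (h : Mx V A) (hV : V ≤ centralizer (V : Set G))
    (hsq : ∀ v ∈ V, v ^ 2 = 1) {t c : G} (ht : t ∈ A) (hc : c ∈ V) (htv : Tv V c t)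
    (hne : t ∉ centralizer (V : Set G)) {a : G} (ha : a ∈ A) :
    a ∈ centralizer (V : Set G) ∨ t⁻¹ * a ∈ centralizer (V : Set G) := by
  set B := Bt V A h.toElemM ht with hB
  have htB : t ∈ B := ⟨ht, Or.inr (by rw [inv_mul_cancel]; exact one_mem _)⟩
  have hBA : B ≤ A := fun x hx => hx.1
  have hAB : A ⊓ centralizer (V : Set G) ≤ B := fun x hx => ⟨hx.1, Or.inl hx.2⟩
  -- `|B : C_B(V)| = 2`
  have h1 : (centralizer (V : Set G)).relIndex B = 2 := by
    rw [relIndex_eq_two_iff_exists_notMem_and]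
    refine ⟨t, htB, hne, fun b hb => ?_⟩
    rcases hb.2 with h2 | h2
    · exact Or.inr h2
    · left
      have h3 : t⁻¹ * (t⁻¹ * b) * t ∈ centralizer (V : Set G) := by
        have h4 := h.comm t⁻¹ (inv_mem ht) (t⁻¹ * b) (mul_mem (inv_mem ht) hb.1)
        have e : t⁻¹ * (t⁻¹ * b) * t = (t⁻¹ * (t⁻¹ * b) * t⁻¹⁻¹ * (t⁻¹ * b)⁻¹) * (t⁻¹ * b) := by group
        rw [e]; exact mul_mem h4 h2
      have e : b * t = t ^ 2 * (t⁻¹ * (t⁻¹ * b) * t) := by rw [pow_two]; group
      rw [e]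
      exact mul_mem (h.sq t ht) h3
  -- `|V : C_V(B)| = 2`
  have hfix : ∀ w ∈ V, t * w * t⁻¹ = w → w ∈ centralizer (B : Set G) := by
    intro w hw h2
    rw [mem_centralizer_iff]
    intro b hb
    have h3 : t * w = w * t := mul_inv_eq_iff_eq_mul.1 h2
    rcases hb.2 with h4 | h4
    · exact (mem_centralizer_iff.1 h4 w hw).symm
    · have h5 := mem_centralizer_iff.1 h4 w hw
      calc b * w = t * (t⁻¹ * b * w) := by group
        _ = t * (w * (t⁻¹ * b)) := by rw [h5]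
        _ = (t * w) * (t⁻¹ * b) := by group
        _ = (w * t) * (t⁻¹ * b) := by rw [h3]
        _ = w * b := by group
  have h2 : (centralizer (B : Set G)).relIndex V = 2 := by
    rw [relIndex_eq_two_iff_exists_notMem_and]
    obtain ⟨v, hv, hv1⟩ : ∃ v ∈ V, t * v * t⁻¹ ≠ v := by
      by_contra hcon
      push Not at hcon
      refine hne (mem_centralizer_iff.2 fun v hv => ?_)
      exact (mul_inv_eq_iff_eq_mul.1 (hcon v hv)).symm
    have hv2 := (htv v hv).resolve_left hv1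
    refine ⟨v, hv, fun h3 => hv1 ?_, fun w hw => ?_⟩
    · rw [mem_centralizer_iff.1 h3 t htB]; group
    · rcases htv w hw with h3 | h3
      · exact Or.inr (hfix w hw h3)
      · left
        refine hfix _ (mul_mem hw hv) ?_
        have hcv : c * v = v * c := (mem_centralizer_iff.1 (hV hc) v hv).symm
        have hcc : c * c = 1 := by rw [← pow_two]; exact hsq c hc
        calc t * (w * v) * t⁻¹ = (t * w * t⁻¹) * (t * v * t⁻¹) := by group
          _ = w * c * (v * c) := by rw [h3, hv2]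
          _ = w * (c * v) * c := by group
          _ = w * v * (c * c) := by rw [hcv]; group
          _ = w * v := by rw [hcc, mul_one]
  have c1 := card_mul (centralizer (V : Set G)) B
  have c2 := card_mul (centralizer (B : Set G)) V
  rw [h1] at c1
  rw [h2] at c2
  have h3 := h.min B hBA (by rw [← c1, ← c2]; ring) hAB
  rcases h3 with h4 | h4
  · exact absurd (h4 htB) hne
  · have h5 : a ∈ B := by rw [h4]; exact ha
    exact h5.2

/-- The group induced by `A`. -/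
theorem card_im [Finite G] {H U A : Subgroup G} (Q : Nrm H U) {t : G} (htH : t ∈ H)
    (h : ∀ a ∈ A, a ∈ centralizer (U : Set G) ∨ t⁻¹ * a ∈ centralizer (U : Set G)) :
    Nat.card ↥((A.subgroupOf H).map (ph Q)) ≤ 2 := by
  classical
  have h1 : (((A.subgroupOf H).map (ph Q) : Subgroup (XH Q)) : Set (XH Q)) ⊆ {1, ph Q ⟨t, htH⟩} := by
    rintro _ ⟨x, hx, rfl⟩
    rcases h x (mem_subgroupOf.1 hx) with h2 | h2
    · left
      exact MonoidHom.mem_ker.1 ((mem_ker Q).2 h2)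
    · right
      have h3 : (⟨t, htH⟩ : H)⁻¹ * x ∈ (ph Q).ker := (mem_ker Q).2 h2
      rw [MonoidHom.mem_ker, map_mul, map_inv, inv_mul_eq_one] at h3
      exact h3.symm
  calc Nat.card ↥((A.subgroupOf H).map (ph Q)) = Set.ncard (((A.subgroupOf H).map (ph Q) : Subgroup (XH Q)) : Set (XH Q)) :=
        rfl
    _ ≤ Set.ncard ({1, ph Q ⟨t, htH⟩} : Set (XH Q)) := Set.ncard_le_ncard h1 (Set.toFinite _)
    _ ≤ 2 := Set.ncard_insert_le _ _ |>.trans (by rw [Set.ncard_singleton])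

/-- **Type `q = 2` or `S_n`: a minimal exact offender has order 2 modulo its kernel.** -/
theorem card_le_two [Finite G] (hG : IsCharacteristicTwoType G) {S : Sylow 2 G} {L P A : Subgroup G}
    (g : GOne S L P A) (h : Mx (zl (S : Subgroup G) L) A) (h2 : Two2 S P)
    (hsq : ∀ v ∈ zl (S : Subgroup G) L, v ^ 2 = 1) {H : Subgroup G} (Q : Nrm H (zl (S : Subgroup G) L))
    (hAH : A ≤ H) : Nat.card ↥((A.subgroupOf H).map (ph Q)) ≤ 2 := by
  obtain ⟨t, ht, c, hc, -, htv, hn⟩ := g.tv hG h2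
  exact card_im Q (hAH ht) fun a ha => mx_tv h g.comm hsq ht (g.VU hc) htv hn ha

end Cfsg.Agent.Omega.NOThreeL.RRed.Blk.AsmCard

end

section


/-!
# NO-3L, box R: assembly of the natural blocks, the active small `P ∈ P*(S)` (type `q = 2` or `S_n`)

`U = zl S L`, `P ≤ L`, `Two2 S P`.

* `gone_of_EP` : `GOne S L P A` for `A ∈ EP S P U`;
* `sp_small` : one `V₀` with `Sp L P U V₀ A` for all `A ∈ EP S P U`;
* `card_small` : the members of `EP S P U` induce groups of order at most 2;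
* **`ac_small`** : `Asm.Ac`.
-/

set_option autoImplicit false
set_option linter.unusedSectionVars false

namespace Cfsg.Agent.Omega.NOThreeL.RRed.Blk.AsmSmall

open Subgroup Cfsg Cfsg.Agent.ZN Cfsg.Agent.Omega.MinPar
open Cfsg.Agent.Omega.FFThm (ElemM OffM NoOverM ConclM NatKM SymKM NatK SymK)
open Cfsg.Agent.Omega.FrameFF (cv)
open Cfsg.Agent.Omega.NOThreeL.RSplit (Nrm)
open Cfsg.Agent.Omega.NOThreeL.RTreeA (SplitBy)
open Cfsg.Agent.Omega.NOThreeL.RRed.Blk.Split (Sp)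
open Cfsg.Agent.Omega.NOThreeL.RRed.Blk.Asm (Ac)
open Cfsg.Agent.Omega.NOThreeL.RRed.Blk.AsmCore

universe u

variable {G : Type u} [Group G] [Finite G] {S : Sylow 2 G} {L P A : Subgroup G}

/-- `GOne` for the members of `EP` -/
theorem gone_of_EP (hc : IsCharacteristicTwoType G) (hL : IsLoc (S : Subgroup G) L) (hP : IsParS (S : Subgroup G) P)
    (hPL : P ≤ L) (no : NoOverM (zl (S : Subgroup G) L) L)
    (hA : A ∈ EP (S : Subgroup G) P (zl (S : Subgroup G) L)) : GOne S L P A := by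
  have hE := FFThm.elem_zl hc S hL
  have hcomm : zl (S : Subgroup G) L ≤ centralizer (zl (S : Subgroup G) L : Set G) := fun x hx =>
    mem_centralizer_iff.2 fun y hy => congrArg Subtype.val (hE.1.is_comm.comm ⟨y, hy⟩ ⟨x, hx⟩)
  obtain ⟨-, -, h2, h3, -⟩ := exact_split hc hP hPL no hcomm hA.1.1 hA.1.2.toElemM hA.1.2.exact hA.2
  obtain ⟨h4, -, -, hnoP⟩ := cent_of_EP hc hL hP hPL no hA
  have hVU : zl (S : Subgroup G) P ≤ zl (S : Subgroup G) L := Star.zl_mono _ hPL
  exact ⟨hP, hPL, hA.1.1, hcomm, no, hA.1.2.off, h2, h4, h3,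
    exact_of hcomm hVU hA.1.2.off.le (hnoP A (hA.1.1.trans hP.le) h2.toElemM) h4⟩

/-- **One `V₀` for all `A ∈ EP`.** -/
theorem sp_small (hc : IsCharacteristicTwoType G) (hL : IsLoc (S : Subgroup G) L) (hP : IsParS (S : Subgroup G) P)
    (hPL : P ≤ L) (no : NoOverM (zl (S : Subgroup G) L) L) (h2 : Two2 S P) :
    ∃ V₀, SplitBy (S : Subgroup G) P (cv (S : Subgroup G) P) V₀ ∧
      ∀ A ∈ EP (S : Subgroup G) P (zl (S : Subgroup G) L), Sp L P (zl (S : Subgroup G) L) V₀ A := by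
  rcases h2 with ⟨F, _, _, k, hF, hk, ⟨M⟩⟩ | ⟨k, m, hk, hm, ⟨M⟩⟩
  · have : Finite F := Nat.finite_of_card_ne_zero (by rw [hF]; norm_num)
    obtain ⟨V₀, hV⟩ := SplitTwo.splitBy_two hc hP.toIsPar (two_of_card hF) M.toNatK
    refine ⟨V₀, hV, fun A hA => ?_⟩
    obtain ⟨hAC, hoff, -, noP⟩ := cent_of_EP hc hL hP hPL no hA
    exact Split.nat hc hL hP hPL no noP hA.1.1 hA.1.2.off hA.2 hAC M hV
  · obtain ⟨-, V₀, hV⟩ := SplitSym.splitBy hc hP.toIsPar hk (by omega) M.toSymK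
    refine ⟨V₀, hV, fun A hA => ?_⟩
    obtain ⟨hAC, hoff, -, noP⟩ := cent_of_EP hc hL hP hPL no hA
    exact SplitSym.sp hc hL hP hPL no noP hA.1.1 hA.1.2.off hA.2 hAC hk (by omega) M hV

/-- the members of `EP` induce groups of order at most 2 -/
theorem card_small (hc : IsCharacteristicTwoType G) (hL : IsLoc (S : Subgroup G) L) (hP : IsParS (S : Subgroup G) P)
    (hPL : P ≤ L) (no : NoOverM (zl (S : Subgroup G) L) L) (h2 : Two2 S P) (Q : Nrm L (zl (S : Subgroup G) L))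
    (hA : A ∈ EP (S : Subgroup G) P (zl (S : Subgroup G) L)) : Nat.card (im Q A) ≤ 2 := by
  have hE := FFThm.elem_zl hc S hL
  exact AsmCard.card_le_two hc (gone_of_EP hc hL hP hPL no hA) hA.1.2 h2 hE.2 Q ((hA.1.1.trans hP.le).trans hPL)

/-- **`Ac` for small `P`.** -/
theorem ac_small (hc : IsCharacteristicTwoType G) (hL : IsLoc (S : Subgroup G) L) (hP : IsParS (S : Subgroup G) P)
    (hPL : P ≤ L) (no : NoOverM (zl (S : Subgroup G) L) L) (h2 : Two2 S P) (Q : Nrm L (zl (S : Subgroup G) L))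
    (ne : (EP (S : Subgroup G) P (zl (S : Subgroup G) L)).Nonempty) :
    Ac (im Q S) (im Q '' EE (S : Subgroup G) (zl (S : Subgroup G) L)) (im Q P)
      (im Q (KP (S : Subgroup G) P (zl (S : Subgroup G) L)))
      (im Q '' EP (S : Subgroup G) P (zl (S : Subgroup G) L)) Q.Mod := by
  obtain ⟨V₀, hV, sp⟩ := sp_small hc hL hP hPL no h2
  exact (cr_of hc hP hPL hV.1 ne sp).ac Q (Or.inl fun A hA => (card_small hc hL hP hPL no h2 Q hA).trans (by norm_num))

end Cfsg.Agent.Omega.NOThreeL.RRed.Blk.AsmSmall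

end
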