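import Cfsg.Agent.Mrg.Omega.NOThreeL.RRed.ClassMx
import Cfsg.Agent.Mrg.Omega.NOThreeL.RRed.Blk.SplitAll


/-!
# NO-3L, box R: one complement for all minimal exact offenders

`V = zl S L`, `P ∈ P*(S)`, `P ≤ L`.

* `gone_mx` : `A ≤ S` minimal exact on `V`, `A ≰ C(V_P)`: `GOne S L P A`;
* **`sp_all`** : from `ConclM S P`: there is ONE complement `V₀` of `cv S P` in `V_P` with `Sp L P V V₀ A` for every
  minimal exact `A ≤ S` moving `V_P`;
* `sp_mx` : for a given complement.
-/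

set_option autoImplicit false

namespace Cfsg.Agent.Omega.NOThreeL.RRed.Blk.AsmSp

open Subgroup Cfsg Cfsg.Agent.ZN Cfsg.Agent.Omega.MinPar Cfsg.Agent.Omega.FFThm
open Cfsg.Agent.Omega.FrameFF (cv)
open Cfsg.Agent.Omega.NOThreeL.RTreeA (SplitBy Splits)
open Cfsg.Agent.Omega.NOThreeL.RRed.Blk.Split (Sp)
open Cfsg.Agent.Omega.NOThreeL.RRed.Blk.SplitAll (BigSplits card_field)

universe u

variable {G : Type u} [Group G] [Finite G] {S : Sylow 2 G} {L P A : Subgroup G}

/-- **A minimal exact offender in `S` moving `V_P` belongs to `P`.** -/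
theorem gone_mx (hc : IsCharacteristicTwoType G) (hP : IsParS (S : Subgroup G) P) (hPL : P ≤ L)
    (no : NoOverM (zl (S : Subgroup G) L) L)
    (hcomm : zl (S : Subgroup G) L ≤ centralizer (zl (S : Subgroup G) L : Set G))
    (hA : A ≤ (S : Subgroup G)) (m : Mx (zl (S : Subgroup G) L) A)
    (hne : ¬ A ≤ centralizer (zl (S : Subgroup G) P : Set G)) : GOne S L P A := by
  obtain ⟨h1, -, h2, h3, h4⟩ := exact_split hc hP hPL no hcomm hA m.toElemM m.exact hne
  have h5 : A ⊓ centralizer (zl (S : Subgroup G) P : Set G) ≤ centralizer (zl (S : Subgroup G) L : Set G) := by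
    rcases m.min _ inf_le_left h1 (le_inf inf_le_left (inf_le_right.trans (centralizer_le (Star.zl_mono _ hPL)))) with
      h6 | h6
    · exact h6
    · exact absurd (inf_eq_left.1 h6) hne
  refine ⟨hP, hPL, hA, hcomm, no, m.off, h2, h5, h3, ?_⟩
  rw [← h4]
  exact (inf_eq_left.2 (le_centralizer_iff.1 h5)).symm

theorem comm_zl (hc : IsCharacteristicTwoType G) (hL : IsLoc (S : Subgroup G) L) :
    zl (S : Subgroup G) L ≤ centralizer (zl (S : Subgroup G) L : Set G) := by
  intro x hx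
  rw [mem_centralizer_iff]
  intro y hy
  exact congrArg Subtype.val ((elem_zl hc S hL).1.is_comm.comm ⟨y, hy⟩ ⟨x, hx⟩)

theorem noP_of (hc : IsCharacteristicTwoType G) (hP : IsParS (S : Subgroup G) P) (hA : A ≤ (S : Subgroup G))
    (off : OffM (zl (S : Subgroup G) P) A) : NoOverM (zl (S : Subgroup G) P) P :=
  (FFBr.ffthmM G (S : Subgroup G) P (CaseTwo.syl_of_sylow S hP.le) hP.toIsMinPar (hP.isLoc.char2 S hc)
    ⟨A, hA.trans hP.le, off⟩).1

/-- **ONE complement for all minimal exact offenders of `S` moving `V_P`.** -/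
theorem sp_all (hc : IsCharacteristicTwoType G) (hL : IsLoc (S : Subgroup G) L)
    (hP : IsParS (S : Subgroup G) P) (hPL : P ≤ L) (no : NoOverM (zl (S : Subgroup G) L) L)
    (hcon : ConclM (S : Subgroup G) P) (hbig : BigSplits (S : Subgroup G) P) :
    ∃ V₀, SplitBy (S : Subgroup G) P (cv (S : Subgroup G) P) V₀ ∧
      ∀ A ≤ (S : Subgroup G), Mx (zl (S : Subgroup G) L) A →
        ¬ A ≤ centralizer (zl (S : Subgroup G) P : Set G) → Sp L P (zl (S : Subgroup G) L) V₀ A := by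
  have hcomm := comm_zl hc hL
  rcases hcon with ⟨F, _, _, _, k, hk, ⟨M⟩⟩ | ⟨k, m, hk, hm, ⟨M⟩⟩
  · obtain ⟨V₀, hV⟩ : ∃ V₀, SplitBy (S : Subgroup G) P (cv (S : Subgroup G) P) V₀ := by
      rcases card_field F with h2 | h4
      · exact SplitTwo.splitBy_two hc hP.toIsPar h2 M.toNatK
      · exact hbig F k hk h4 ⟨M⟩
    refine ⟨V₀, hV, fun A hA mx hne => ?_⟩
    have g := gone_mx hc hP hPL no hcomm hA mx hne
    exact Split.nat hc hL hP hPL no (noP_of hc hP hA g.offP) hA g.offU hne g.cent M hV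
  · obtain ⟨-, V₀, hV⟩ := SplitSym.splitBy hc hP.toIsPar hk (by omega) M.toSymK
    refine ⟨V₀, hV, fun A hA mx hne => ?_⟩
    have g := gone_mx hc hP hPL no hcomm hA mx hne
    exact SplitSym.sp hc hL hP hPL no (noP_of hc hP hA g.offP) hA g.offU hne g.cent hk (by omega) M hV

/-- For a given complement, given one `GOne`. -/
theorem sp_mx (hc : IsCharacteristicTwoType G) (hL : IsLoc (S : Subgroup G) L)
    (hP : IsParS (S : Subgroup G) P) (hPL : P ≤ L) (no : NoOverM (zl (S : Subgroup G) L) L)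
    (hcon : ConclM (S : Subgroup G) P) {V₀ : Subgroup G}
    (hV : SplitBy (S : Subgroup G) P (cv (S : Subgroup G) P) V₀) (hA : A ≤ (S : Subgroup G))
    (mx : Mx (zl (S : Subgroup G) L) A) (hne : ¬ A ≤ centralizer (zl (S : Subgroup G) P : Set G)) :
    Sp L P (zl (S : Subgroup G) L) V₀ A := by
  have g := gone_mx hc hP hPL no (comm_zl hc hL) hA mx hne
  rcases hcon with ⟨F, _, _, _, k, hk, ⟨M⟩⟩ | ⟨k, m, hk, hm, ⟨M⟩⟩
  · exact Split.nat hc hL hP hPL no (noP_of hc hP hA g.offP) hA g.offU hne g.cent M hV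
  · exact SplitSym.sp hc hL hP hPL no (noP_of hc hP hA g.offP) hA g.offU hne g.cent hk (by omega) M hV

end Cfsg.Agent.Omega.NOThreeL.RRed.Blk.AsmSp
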