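import Cfsg.Agent.Mrg.Omega.NOThreeL.RRed.NS.Three

section


/-!
# NO-3L, box R: assembly of the natural blocks, the pair lemma ((T3) for one block)

* `sit` : `Types.Sit V ⊤` from `NO X V`;
* `dt` : the data `Types.Dt` of a natural block with `|F| ≥ 4`;
* **`ind`** : a natural block `(D, N, C)`, `|D| ≥ 4`, and a group `K` generated by the `K`-conjugates of exact groups
  which centralise `N`, such that `D` centralises `[V, K]` and `C_[V,K](K) = 0`: `K` centralises `N`, `[V, K] ≤ C`;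
* `NB.uniq`, `NB.conj` : `N`, `C` are determined by `D`, conjugates;
* **`NB.ind`** : two natural blocks.
-/

set_option autoImplicit false
set_option linter.unusedSectionVars false

namespace Cfsg.Agent.Omega.NOThreeL.RRed.Blk.Asm

open Cfsg.Agent.Omega.NOThreeL.RRed.NS (fxd brk mem_fxd)
open Cfsg.Agent.Omega.NOThreeL.RRed.Blk.TypesGam Cfsg.Agent.Omega.NOThreeL.RRed.Blk.Types
open Cfsg.Agent.Omega.NOThreeL.RRed.Blk.TypesEq
open scoped Pointwise

universe u v w

variable {X : Type u} {V : Type v} [Group X] [AddCommGroup V] [DistribMulAction X V]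

theorem sit [Finite V] (h2 : ∀ v : V, v + v = 0) (hf : ∀ x : X, (∀ v : V, x • v = v) → x = 1) (hno : NO X V) :
    Sit V (⊤ : Subgroup X) where
  faith := fun x _ hx => hf x hx
  ch := h2
  no := fun F _ hs hc => by
    have h1 := hno F hc hs
    have h3 := (fxd F : AddSubgroup V).card_mul_index
    calc Nat.card F * Nat.card (fxd F : AddSubgroup V) ≤ (fxd F : AddSubgroup V).index * Nat.card (fxd F : AddSubgroup V) :=
          Nat.mul_le_mul_right _ h1
      _ = Nat.card V := by rw [mul_comm]; exact h3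

section bk

variable {F : Type w} [Field F] {e f : F →+ V} {C : AddSubgroup V} {up lo : F → X}
variable (h : Bk e f C up lo) (h2 : ∀ v : V, v + v = 0) (hf : ∀ x : X, (∀ v : V, x • v = v) → x = 1)
include h

theorem rt_el (h2 : ∀ v : V, v + v = 0) (hf : ∀ x : X, (∀ v : V, x • v = v) → x = 1) : El (rt up) where
  sq := by
    intro x hx
    obtain ⟨t, rfl⟩ := (h.mem_rt h2 hf).1 hx
    rw [h.up_add hf, h.two h2, h.up_zero hf]
  cm := by
    intro x hx y hy
    obtain ⟨t, rfl⟩ := (h.mem_rt h2 hf).1 hx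
    obtain ⟨s, rfl⟩ := (h.mem_rt h2 hf).1 hy
    rw [h.up_add hf, h.up_add hf, add_comm]

/-- `[V, A] ≤ e(F)` -/
theorem brk_rt_le (h2 : ∀ v : V, v + v = 0) (hf : ∀ x : X, (∀ v : V, x • v = v) → x = 1) : brk V (rt up) ≤ e.range := by
  refine brk_le fun a ha m => ?_
  obtain ⟨t, rfl⟩ := (h.mem_rt h2 hf).1 ha
  obtain ⟨x, y, c, hc, rfl⟩ := h.dec m
  refine ⟨t * y, ?_⟩
  rw [smul_add, smul_add, h.up_e, h.up_f, h.up_c _ c hc]
  abel

theorem range_le_brk : e.range ≤ brk V (rt up) := by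
  rintro _ ⟨x, rfl⟩
  have h1 := sub_mem_brk (M := V) (up_mem (up := up) x) (f 1)
  rw [h.up_f, mul_one, add_sub_cancel_left] at h1
  exact h1

theorem C_le_fxd : C ≤ fxd (rt up) := by
  intro c hc
  rw [h.mem_fxd_rt]
  exact ⟨0, c, hc, by rw [map_zero, zero_add]⟩

theorem e_le_fxd : e.range ≤ fxd (rt up) := by
  rintro _ ⟨x, rfl⟩
  rw [h.mem_fxd_rt]
  exact ⟨x, 0, C.zero_mem, by rw [add_zero]⟩

theorem exact_rt [Finite V] [Finite F] (h2 : ∀ v : V, v + v = 0) (hf : ∀ x : X, (∀ v : V, x • v = v) → x = 1) :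
    Nat.card V ≤ Nat.card (rt up) * Nat.card (fxd (rt up) : AddSubgroup V) := by
  obtain ⟨px, py, pc, hv, hpc, hu⟩ := h.proj
  have h1 : (fxd (rt up) : AddSubgroup V) = py.ker := by
    ext v
    rw [h.mem_fxd_rt, AddMonoidHom.mem_ker]
    constructor
    · rintro ⟨x, c, hc, rfl⟩
      have := (hu x 0 c hc).2.1
      rwa [map_zero, add_zero] at this
    · intro hy
      refine ⟨px v, pc v, hpc v, ?_⟩
      conv_lhs => rw [hv v]
      rw [hy, map_zero, add_zero]
  rw [h.card_rt h2 hf, h1]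
  have h3 := py.ker.card_mul_index
  have h5 : py.ker.index = Nat.card py.range := AddSubgroup.index_ker py
  have h6 : Nat.card py.range ≤ Nat.card F := Nat.card_le_card_of_injective _ Subtype.val_injective
  calc Nat.card V = Nat.card py.ker * py.ker.index := h3.symm
    _ ≤ Nat.card py.ker * Nat.card F := Nat.mul_le_mul_left _ (h5 ▸ h6)
    _ = _ := mul_comm _ _

theorem N_inf_C {n : V} (hn : n ∈ e.range ⊔ f.range) (hc : n ∈ C) : n = 0 := by
  obtain ⟨_, ⟨x, rfl⟩, _, ⟨y, rfl⟩, rfl⟩ := AddSubgroup.mem_sup.1 hn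
  obtain ⟨rfl, rfl⟩ := h.ind x y hc
  rw [map_zero, map_zero, add_zero]

theorem dt [Finite V] [Finite F] (h2 : ∀ v : V, v + v = 0) (hf : ∀ x : X, (∀ v : V, x • v = v) → x = 1) {c₀ : F}
    (hc0 : c₀ ≠ 0) (hc1 : c₀ ≠ 1) : Dt (⊤ : Subgroup X) (rt up) (e.range ⊔ f.range) C (hh up lo c₀) where
  DX := le_top
  el := rt_el h h2 hf
  ex := exact_rt h h2 hf
  qd := (brk_rt_le h h2 hf).trans (e_le_fxd h)
  fD := by
    intro v hv
    obtain ⟨x, c, hc, rfl⟩ := h.mem_fxd_rt.1 hv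
    exact add_mem (AddSubgroup.mem_sup_left (range_le_brk h ⟨x, rfl⟩)) (AddSubgroup.mem_sup_right hc)
  CD := C_le_fxd h
  RN := (brk_rt_le h h2 hf).trans le_sup_left
  τX := Subgroup.mem_top _
  τD := by
    have key : ∀ t, hh up lo c₀ * up t * (hh up lo c₀)⁻¹ = up (c₀ * (t * c₀)) := by
      intro t
      refine h.ext hf (fun z => ?_) (fun z => ?_) fun c hc => ?_
      · rw [mul_smul, mul_smul, h.hhi_e h2 hc0, h.up_e, h.hh_e h2 hc0, h.up_e]
        congr 1; field_simp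
      · rw [mul_smul, mul_smul, h.hhi_f h2 hc0, h.up_f, smul_add, h.hh_f h2 hc0, h.hh_e h2 hc0, h.up_f]
        congr 1
        · congr 1; field_simp
        · congr 1; ring
      · rw [mul_smul, mul_smul, h.hhi_c _ hc, h.up_c _ c hc, h.hh_c _ hc, h.up_c _ c hc]
    rw [← rt_conj]
    apply le_antisymm
    · rw [rt, Subgroup.closure_le]
      rintro _ ⟨t, rfl⟩
      change hh up lo c₀ * up t * (hh up lo c₀)⁻¹ ∈ rt up
      rw [key]
      exact up_mem _
    · rw [rt, Subgroup.closure_le]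
      rintro _ ⟨t, rfl⟩
      refine Subgroup.subset_closure ⟨c₀⁻¹ * (t * c₀⁻¹), ?_⟩
      change hh up lo c₀ * up _ * (hh up lo c₀)⁻¹ = up t
      rw [key]
      congr 1; field_simp
  τC := fun c hc => h.hh_c _ hc
  τN := by
    intro n hn
    obtain ⟨_, ⟨x, rfl⟩, _, ⟨y, rfl⟩, rfl⟩ := AddSubgroup.mem_sup.1 hn
    rw [smul_add, h.hh_e h2 hc0, h.hh_f h2 hc0]
    exact add_mem (AddSubgroup.mem_sup_left ⟨_, rfl⟩) (AddSubgroup.mem_sup_right ⟨_, rfl⟩)
  fp := by
    intro n hn hfix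
    refine N_inf_C h hn ((h.fix_tor h2 0 hc0 hc1 n).1 ?_)
    rw [h.up_zero hf, one_mul]
    exact hfix

theorem sup_eq_top : (e.range ⊔ f.range) ⊔ C = ⊤ := by
  rw [eq_top_iff]
  intro v _
  obtain ⟨x, y, c, hc, rfl⟩ := h.dec v
  exact add_mem (AddSubgroup.mem_sup_left (add_mem (AddSubgroup.mem_sup_left ⟨x, rfl⟩) (AddSubgroup.mem_sup_right ⟨y, rfl⟩)))
    (AddSubgroup.mem_sup_right hc)

end bk

theorem exists_ne {F : Type w} [Field F] [Finite F] (h4 : 4 ≤ Nat.card F) : ∃ c : F, c ≠ 0 ∧ c ≠ 1 := by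
  by_contra hcon
  push Not at hcon
  have h1 : (Set.univ : Set F) ⊆ {0, 1} := by
    intro x _
    by_cases hx : x = 0
    · exact Or.inl hx
    · exact Or.inr (hcon x hx)
  have h3 := Set.ncard_le_ncard h1 (Set.toFinite _)
  rw [Set.ncard_univ] at h3
  have h5 : ({0, 1} : Set F).ncard ≤ 2 := Set.ncard_insert_le _ _ |>.trans (by rw [Set.ncard_singleton])
  omega

/-! ### the pair lemma -/

section pair

variable [Finite X] [Finite V] (h2 : ∀ v : V, v + v = 0) (hf : ∀ x : X, (∀ v : V, x • v = v) → x = 1) (hno : NO X V)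

/-- **(T3) for one block.** -/
theorem ind (h2 : ∀ v : V, v + v = 0) (hf : ∀ x : X, (∀ v : V, x • v = v) → x = 1) (hno : NO X V)
    {D : Subgroup X} {N C : AddSubgroup V} (hN : NB D N C) (h4 : 4 ≤ Nat.card D) {K : Subgroup X}
    {B₀ : Set (Subgroup X)} (hel : ∀ B ∈ B₀, El B)
    (hex : ∀ B ∈ B₀, Nat.card V ≤ Nat.card B * Nat.card (fxd B : AddSubgroup V)) (hqd : ∀ B ∈ B₀, brk V B ≤ fxd B)
    (hBK : ∀ B ∈ B₀, B ≤ K) (hBN : ∀ B ∈ B₀, ∀ b ∈ B, ∀ n ∈ N, b • n = n)
    (hDK : ∀ d ∈ D, ∀ m ∈ brk V K, d • m = m) (spl : ∀ m ∈ brk V K, m ∈ (fxd K : AddSubgroup V) → m = 0)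
    (gen : K ≤ Subgroup.closure {x | ∃ g ∈ K, ∃ B ∈ B₀, ∃ b ∈ B, x = g * b * g⁻¹}) :
    (∀ k ∈ K, ∀ n ∈ N, k • n = n) ∧ brk V K ≤ C := by
  obtain ⟨F, _, _, e, f, up, lo, h, rfl, rfl⟩ := hN.ex
  rw [h.card_rt h2 hf] at h4
  obtain ⟨c₀, hc0, hc1⟩ := exists_ne h4
  have S := sit h2 hf hno
  have T := dt h h2 hf hc0 hc1
  have hKD : brk V K ≤ fxd (rt up) := fun m hm d hd => hDK d hd m hm
  have brk_mono : ∀ {A B : Subgroup X}, A ≤ B → brk V A ≤ brk V B := by
    intro A B hAB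
    exact brk_le fun a ha m => sub_mem_brk (hAB ha) m
  have hcm0 : ∀ B ∈ B₀, ∀ b ∈ B, ∀ d ∈ rt up, b * d = d * b := by
    intro B hB b hb d hd
    refine (S.comm_of (Subgroup.mem_top _) (Subgroup.mem_top _) (fun m => ?_) fun m => ?_)
    · exact hDK d hd _ (brk_mono (hBK B hB) (sub_mem_brk hb m))
    · exact hBN B hB b hb _ (T.RN (sub_mem_brk hd m))
  obtain ⟨hKc, hDfK⟩ := S.cent (D := rt up) (K := K) le_top T.el T.ex T.qd le_top hKD
    (gen.trans (by
      apply Subgroup.closure_mono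
      rintro x ⟨g, hg, B, hB, b, hb, rfl⟩
      exact ⟨g, hg, b, fun d hd => hcm0 B hB b hb d hd, rfl⟩))
  -- conjugates
  have hBd : ∀ g ∈ K, ∀ B ∈ B₀, Bd (⊤ : Subgroup X) (rt up) (MulAut.conj g • B) V := by
    intro g hg B hB
    have hle : MulAut.conj g • B ≤ K := by
      intro x hx
      have h1 := hBK B hB (mem_cj.1 hx)
      have e1 : x = g * (g⁻¹ * x * g) * g⁻¹ := by group
      rw [e1]; exact mul_mem (mul_mem hg h1) (inv_mem hg)
    refine
      { BX := le_top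
        el := (hel B hB).cj g
        ex := ?_
        qd := ?_
        cm := fun d hd b hb => (hKc b (hle hb) d hd).symm
        BD := (brk_mono hle).trans hKD
        DB := fun m hm b hb => hDfK hm b (hle hb)
        tr := fun y hy hy' => spl y (brk_mono hle hy) (hDfK hy') }
    · have h1 : Nat.card (fxd (MulAut.conj g • B) : AddSubgroup V) = Nat.card (fxd B : AddSubgroup V) := by
        refine Nat.card_congr ⟨fun m => ⟨g⁻¹ • m.1, (fxd_cj g B).1 m.2⟩, fun m => ⟨g • m.1, ?_⟩, fun m => ?_, fun m => ?_⟩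
        · rw [fxd_cj, inv_smul_smul]; exact m.2
        · exact Subtype.ext (smul_inv_smul g m.1)
        · exact Subtype.ext (inv_smul_smul g m.1)
      rw [card_cj, h1]
      exact hex B hB
    · intro m hm
      rw [fxd_cj]
      exact hqd B hB (brk_cj hm)
  have hkeep : ∀ k ∈ K, ∀ c ∈ C, k • c ∈ C := by
    have h1 : K ≤ {
        carrier := {x | ∀ c, c ∈ C ↔ x • c ∈ C}
        mul_mem' := fun {a b} ha hb c => by rw [mul_smul, ← ha, ← hb]
        one_mem' := fun c => by rw [one_smul]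
        inv_mem' := fun {a} ha c => by rw [ha (a⁻¹ • c), smul_inv_smul] } := by
      refine gen.trans ((Subgroup.closure_le _).2 ?_)
      rintro x ⟨g, hg, B, hB, b, hb, rfl⟩ c
      have hb' : g * b * g⁻¹ ∈ MulAut.conj g • B := by
        rw [mem_cj]; convert hb using 1; group
      constructor
      · exact fun hc => T.keep S (hBd g hg B hB) hb' hc
      · intro hc
        have h3 := T.keep S (hBd g hg B hB) hb' hc
        have h5 : (g * b * g⁻¹) * (g * b * g⁻¹) = 1 := ((hel B hB).cj g).sq _ hb'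
        rw [← mul_smul, h5, one_smul] at h3
        exact h3
    exact fun k hk c hc => (h1 hk c).1 hc
  have hBC0 : ∀ B ∈ B₀, brk V B ≤ C := by
    intro B hB
    refine brk_le fun b hb m => ?_
    obtain ⟨n, hn, c, hc, rfl⟩ := AddSubgroup.mem_sup.1 ((sup_eq_top h).ge (AddSubgroup.mem_top m))
    rw [smul_add, hBN B hB b hb n hn]
    have e1 : n + b • c - (n + c) = b • c - c := by abel
    rw [e1]
    exact sub_mem (hkeep b (hBK B hB hb) c hc) hc
  have hBC : ∀ g ∈ K, ∀ B ∈ B₀, brk V (MulAut.conj g • B) ≤ C := by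
    intro g hg B hB m hm
    have h1 := hkeep g hg _ (hBC0 B hB (brk_cj hm))
    rwa [smul_inv_smul] at h1
  refine ⟨fun k hk n hn => ?_, ?_⟩
  · have h1 : K ≤ MulAction.stabilizer X n := by
      refine gen.trans ((Subgroup.closure_le _).2 ?_)
      rintro x ⟨g, hg, B, hB, b, hb, rfl⟩
      have hb' : g * b * g⁻¹ ∈ MulAut.conj g • B := by
        rw [mem_cj]; convert hb using 1; group
      exact MulAction.mem_stabilizer_iff.2 (T.kill S (hBd g hg B hB) (hBC g hg B hB) hb' hn)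
    exact MulAction.mem_stabilizer_iff.1 (h1 hk)
  · have h1 : K ≤ {
        carrier := {x | (∀ c, c ∈ C ↔ x • c ∈ C) ∧ ∀ v : V, x • v - v ∈ C}
        mul_mem' := by
          rintro a b ⟨ha, ha'⟩ ⟨hb, hb'⟩
          refine ⟨fun c => by rw [mul_smul, ← ha, ← hb], fun v => ?_⟩
          have e1 : (a * b) • v - v = a • (b • v - v) + (a • v - v) := by
            rw [mul_smul, smul_sub]; abel
          rw [e1]
          exact add_mem ((ha _).1 (hb' v)) (ha' v)
        one_mem' := ⟨fun c => by rw [one_smul], fun v => by rw [one_smul, sub_self]; exact C.zero_mem⟩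
        inv_mem' := by
          rintro a ⟨ha, ha'⟩
          refine ⟨fun c => by rw [ha (a⁻¹ • c), smul_inv_smul], fun v => ?_⟩
          rw [ha]
          have e1 : a • (a⁻¹ • v - v) = -(a • v - v) := by rw [smul_sub, smul_inv_smul]; abel
          rw [e1]
          exact neg_mem (ha' v) } := by
      refine gen.trans ((Subgroup.closure_le _).2 ?_)
      rintro x ⟨g, hg, B, hB, b, hb, rfl⟩
      have hb' : g * b * g⁻¹ ∈ MulAut.conj g • B := by
        rw [mem_cj]; convert hb using 1; group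
      refine ⟨fun c => ⟨fun hc => T.keep S (hBd g hg B hB) hb' hc, fun hc => ?_⟩, fun v =>
        hBC g hg B hB (sub_mem_brk hb' v)⟩
      have h3 := T.keep S (hBd g hg B hB) hb' hc
      have h5 : (g * b * g⁻¹) * (g * b * g⁻¹) = 1 := ((hel B hB).cj g).sq _ hb'
      rw [← mul_smul, h5, one_smul] at h3
      exact h3
    exact brk_le fun k hk v => (h1 hk).2 v

/-- `N` and `C` are determined by the root group -/
theorem NB.uniq (h2 : ∀ v : V, v + v = 0) (hf : ∀ x : X, (∀ v : V, x • v = v) → x = 1) (hno : NO X V)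
    {D : Subgroup X} {N C N' C' : AddSubgroup V} (h : NB D N C) (h' : NB D N' C') (h4 : 4 ≤ Nat.card D) :
    N = N' ∧ C = C' := by
  obtain ⟨F, _, _, e, f, up, lo, hB, rfl, rfl⟩ := h.ex
  obtain ⟨F', _, _, e', f', up', lo', hB', hD, rfl⟩ := h'.ex
  rw [hB.card_rt h2 hf] at h4
  obtain ⟨h1, -, h3⟩ := hB.eq hB' h2 hf hno h4 hD.symm
  exact ⟨h3, h1⟩

omit [Finite X] [Finite V] in
theorem NB.conj {D : Subgroup X} {N C : AddSubgroup V} (h : NB D N C) (g : X) :
    NB (MulAut.conj g • D) (N.map (DistribSMul.toAddMonoidHom V g)) (C.map (DistribSMul.toAddMonoidHom V g)) := by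
  obtain ⟨F, _, _, e, f, up, lo, hB, rfl, rfl⟩ := h.ex
  refine ⟨F, ‹_›, ‹_›, _, _, _, _, hB.conj g, rt_conj up g, ?_⟩
  rw [AddSubgroup.map_sup, AddMonoidHom.range_comp, AddMonoidHom.range_comp]

omit [Finite X] in
/-- the block group -/
theorem NB.exists_grp (h2 : ∀ v : V, v + v = 0) (hf : ∀ x : X, (∀ v : V, x • v = v) → x = 1)
    {D : Subgroup X} {N C : AddSubgroup V} (h : NB D N C) :
    ∃ K : Subgroup X, D ≤ K ∧ brk V K ≤ N ∧ (fxd K : AddSubgroup V) ≤ C ∧ C ≤ fxd K ∧ N ≤ brk V K ∧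
      (∀ m ∈ N, m ∈ C → m = 0) ∧ El D ∧ Nat.card V ≤ Nat.card D * Nat.card (fxd D : AddSubgroup V) ∧
      brk V D ≤ fxd D ∧ K ≤ Subgroup.closure {x | ∃ g ∈ K, ∃ b ∈ D, x = g * b * g⁻¹} := by
  obtain ⟨F, _, _, e, f, up, lo, hB, rfl, rfl⟩ := h.ex
  have hupK : ∀ t, up t ∈ Subgroup.closure (Set.range up ∪ Set.range lo) := fun t =>
    Subgroup.subset_closure (Or.inl ⟨t, rfl⟩)
  have hloK : ∀ t, lo t ∈ Subgroup.closure (Set.range up ∪ Set.range lo) := fun t =>
    Subgroup.subset_closure (Or.inr ⟨t, rfl⟩)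
  have hC : C ≤ fxd (Subgroup.closure (Set.range up ∪ Set.range lo)) := by
    intro c hc k hk
    have h1 : Subgroup.closure (Set.range up ∪ Set.range lo) ≤ MulAction.stabilizer X c := by
      refine (Subgroup.closure_le _).2 ?_
      rintro _ (⟨t, rfl⟩ | ⟨t, rfl⟩)
      · exact MulAction.mem_stabilizer_iff.2 (hB.up_c t c hc)
      · exact MulAction.mem_stabilizer_iff.2 (hB.lo_c t c hc)
    exact MulAction.mem_stabilizer_iff.1 (h1 hk)
  refine ⟨Subgroup.closure (Set.range up ∪ Set.range lo), ?_, ?_, ?_, hC, ?_, fun m hm hc => N_inf_C hB hm hc,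
    rt_el hB h2 hf, exact_rt hB h2 hf, (brk_rt_le hB h2 hf).trans (e_le_fxd hB), ?_⟩
  · exact Subgroup.closure_mono Set.subset_union_left
  · have h1 : Subgroup.closure (Set.range up ∪ Set.range lo) ≤ {
        carrier := {x | (∀ n, n ∈ e.range ⊔ f.range ↔ x • n ∈ e.range ⊔ f.range) ∧ ∀ v : V, x • v - v ∈ e.range ⊔ f.range}
        mul_mem' := by
          rintro a b ⟨ha, ha'⟩ ⟨hb, hb'⟩
          refine ⟨fun c => by rw [mul_smul, ← ha, ← hb], fun v => ?_⟩
          have e1 : (a * b) • v - v = a • (b • v - v) + (a • v - v) := by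
            rw [mul_smul, smul_sub]; abel
          rw [e1]
          exact add_mem ((ha _).1 (hb' v)) (ha' v)
        one_mem' := ⟨fun c => by rw [one_smul], fun v => by rw [one_smul, sub_self]; exact zero_mem _⟩
        inv_mem' := by
          rintro a ⟨ha, ha'⟩
          refine ⟨fun c => by rw [ha (a⁻¹ • c), smul_inv_smul], fun v => ?_⟩
          rw [ha]
          have e1 : a • (a⁻¹ • v - v) = -(a • v - v) := by rw [smul_sub, smul_inv_smul]; abel
          rw [e1]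
          exact neg_mem (ha' v) } := by
      refine (Subgroup.closure_le _).2 ?_
      have key : ∀ x : X, (∀ v : V, x • v - v ∈ e.range ⊔ f.range) →
          (∀ n, n ∈ e.range ⊔ f.range ↔ x • n ∈ e.range ⊔ f.range) ∧ ∀ v : V, x • v - v ∈ e.range ⊔ f.range := by
        intro x hx
        refine ⟨fun n => ⟨fun hn => ?_, fun hn => ?_⟩, hx⟩
        · have e1 : x • n = (x • n - n) + n := by abel
          rw [e1]; exact add_mem (hx n) hn
        · have e1 : n = x • n - (x • n - n) := by abel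
          rw [e1]; exact sub_mem hn (hx n)
      rintro _ (⟨t, rfl⟩ | ⟨t, rfl⟩)
      · refine key _ fun v => ?_
        obtain ⟨x, y, c, hc, rfl⟩ := hB.dec v
        rw [smul_add, smul_add, hB.up_e, hB.up_f, hB.up_c _ c hc]
        have e1 : e x + (f y + e (t * y)) + c - (e x + f y + c) = e (t * y) := by abel
        rw [e1]
        exact AddSubgroup.mem_sup_left ⟨_, rfl⟩
      · refine key _ fun v => ?_
        obtain ⟨x, y, c, hc, rfl⟩ := hB.dec v
        rw [smul_add, smul_add, hB.lo_e, hB.lo_f, hB.lo_c _ c hc]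
        have e1 : e x + f (t * x) + f y + c - (e x + f y + c) = f (t * x) := by abel
        rw [e1]
        exact AddSubgroup.mem_sup_right ⟨_, rfl⟩
    exact brk_le fun k hk v => (h1 hk).2 v
  · intro v hv
    obtain ⟨x, y, c, hc, rfl⟩ := hB.dec v
    have e1 := hv _ (hupK 1)
    rw [smul_add, smul_add, hB.up_e, hB.up_f, hB.up_c _ c hc, one_mul] at e1
    have e2 : e (x + y) + f y + c = e x + f y + c := by rw [← e1, map_add]; abel
    have e3 := (hB.uniq hc hc e2).1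
    have hy : y = 0 := by
      have : x + y = x + 0 := by rw [e3, add_zero]
      exact add_left_cancel this
    have e4 := hv _ (hloK 1)
    rw [smul_add, smul_add, hB.lo_e, hB.lo_f, hB.lo_c _ c hc, one_mul] at e4
    have e5 : e x + f (x + y) + c = e x + f y + c := by rw [← e4, map_add]; abel
    have e6 := (hB.uniq hc hc e5).2.1
    have hx : x = 0 := by
      have : x + y = 0 + y := by rw [e6, zero_add]
      exact add_right_cancel this
    rw [hx, hy, map_zero, map_zero, zero_add, zero_add]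
    exact hc
  · refine sup_le ?_ ?_
    · rintro _ ⟨x, rfl⟩
      have h1 := sub_mem_brk (M := V) (hupK x) (f 1)
      rw [hB.up_f, mul_one, add_sub_cancel_left] at h1
      exact h1
    · rintro _ ⟨x, rfl⟩
      have h1 := sub_mem_brk (M := V) (hloK x) (e 1)
      rw [hB.lo_e, mul_one, add_sub_cancel_left] at h1
      exact h1
  · refine (Subgroup.closure_le _).2 ?_
    rintro _ (⟨t, rfl⟩ | ⟨t, rfl⟩)
    · exact Subgroup.subset_closure ⟨1, one_mem _, up t, up_mem t, by group⟩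
    · have hw : wt up lo 1 ∈ Subgroup.closure (Set.range up ∪ Set.range lo) :=
        mul_mem (mul_mem (hupK _) (hloK _)) (hupK _)
      refine Subgroup.subset_closure ⟨wt up lo 1, hw, up t, up_mem t, ?_⟩
      have hwi : ∀ x : V, (wt up lo 1)⁻¹ • x = wt up lo 1 • x := by
        intro v
        rw [inv_smul_eq_iff]
        obtain ⟨x, y, c, hc, rfl⟩ := hB.dec v
        simp only [smul_add, hB.wt_e h2 one_ne_zero, hB.wt_f h2 one_ne_zero, hB.wt_c 1 hc, inv_one, one_mul]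
      refine hB.ext hf (fun z => ?_) (fun z => ?_) fun c hc => ?_
      · rw [mul_smul, mul_smul, hwi, hB.wt_e h2 one_ne_zero, hB.up_f, smul_add, hB.wt_f h2 one_ne_zero,
          hB.wt_e h2 one_ne_zero, hB.lo_e, inv_one, one_mul, one_mul, one_mul]
      · rw [mul_smul, mul_smul, hwi, hB.wt_f h2 one_ne_zero, hB.up_e, hB.wt_e h2 one_ne_zero, hB.lo_f, inv_one, one_mul,
          one_mul]
      · rw [mul_smul, mul_smul, hwi, hB.wt_c 1 hc, hB.up_c _ c hc, hB.wt_c 1 hc, hB.lo_c _ c hc]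

/-- **Two natural blocks.** -/
theorem NB.ind (h2 : ∀ v : V, v + v = 0) (hf : ∀ x : X, (∀ v : V, x • v = v) → x = 1) (hno : NO X V)
    {D D' : Subgroup X} {N C N' C' : AddSubgroup V} (h : NB D N C) (h' : NB D' N' C') (h4 : 4 ≤ Nat.card D)
    (hD : ∀ d ∈ D, ∀ m ∈ N', d • m = m) (hD' : ∀ d ∈ D', ∀ m ∈ N, d • m = m) : N' ≤ C := by
  obtain ⟨K, h1, h3, h5, h6, h7, h8, h9, h10, h11, h12⟩ := h'.exists_grp h2 hf
  refine h7.trans (Asm.ind h2 hf hno h h4 (K := K) (B₀ := {D'}) ?_ ?_ ?_ ?_ ?_ ?_ ?_ ?_).2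
  · rintro B rfl; exact h9
  · rintro B rfl; exact h10
  · rintro B rfl; exact h11
  · rintro B rfl; exact h1
  · rintro B rfl; exact hD'
  · exact fun d hd m hm => hD d hd m (h3 hm)
  · exact fun m hm hm' => h8 m (h3 hm) (h5 hm')
  · refine h12.trans (Subgroup.closure_mono ?_)
    rintro x ⟨g, hg, b, hb, rfl⟩
    exact ⟨g, hg, D', rfl, b, hb, rfl⟩

end pair

end Cfsg.Agent.Omega.NOThreeL.RRed.Blk.Asm

end

section


/-!
# NO-3L, box R: assembly of the natural blocks, the theorem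

`EE` : minimal exact groups in `S`; every member `P` of `Ps` normalises `EE` (inactive) or is active (`Ac`); `X` is
generated by the members of `Ps`.  `RR ⊆ EE` : a set of root groups of natural blocks, of order at least 4, whose blocks
are centralised by the other members of `EE` (`GB`; `Ac.gb` for the members of `EP`).

* **`main`** : the conjugates of the members of `RR` under the stabiliser of `EE` (`FFs EE RR`) are the root groups of a
  family of natural blocks (`Fam`), permuted by `X`; `permC` : so are the complements; `eq_EE` : all members of `EE`;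
* `Fam.sup_inv`, `NB.le_of_inv`, **`Fam.sup_eq`** : the product of the blocks is `X`-invariant; it is equal to `W` for every
  irreducible `X`-module `W ≥ [V, D]`.
-/

set_option autoImplicit false
set_option linter.unusedSectionVars false

namespace Cfsg.Agent.Omega.NOThreeL.RRed.Blk.Asm

open Cfsg.Agent.Omega.NOThreeL.RRed.NS (fxd brk mem_fxd)
open Cfsg.Agent.Omega.NOThreeL.RRed.Blk.TypesGam Cfsg.Agent.Omega.NOThreeL.RRed.Blk.Types
open Cfsg.Agent.Omega.NOThreeL.RRed.Blk.TypesEq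
open scoped Pointwise

universe u v w

variable {X : Type u} {V : Type v} [Group X] [AddCommGroup V] [DistribMulAction X V]

/-- a block and the other members of `EE` -/
structure GB (EE : Set (Subgroup X)) (D : Subgroup X) (N C : AddSubgroup V) : Prop where
  nb : NB D N C
  oth : ∀ A ∈ EE, A ≠ D → ∀ a ∈ A, ∀ m ∈ N, a • m = m

/-- the stabiliser of `EE` -/
def St (EE : Set (Subgroup X)) : Subgroup X where
  carrier := {g | ∀ A, A ∈ EE ↔ MulAut.conj g • A ∈ EE}
  mul_mem' := fun {a b} ha hb A => by rw [map_mul, mul_smul, ← ha, ← hb]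
  one_mem' := fun A => by rw [map_one, one_smul]
  inv_mem' := fun {a} ha A => by rw [ha (MulAut.conj a⁻¹ • A), ← mul_smul, ← map_mul, mul_inv_cancel, map_one, one_smul]

theorem mem_St {EE : Set (Subgroup X)} {g : X} : g ∈ St EE ↔ ∀ A, A ∈ EE ↔ MulAut.conj g • A ∈ EE := Iff.rfl

theorem le_St {EE : Set (Subgroup X)} {P : Subgroup X} (h : ∀ g ∈ P, ∀ A ∈ EE, MulAut.conj g • A ∈ EE) : P ≤ St EE := by
  intro g hg A
  refine ⟨h g hg A, fun hA => ?_⟩
  have h1 := h g⁻¹ (P.inv_mem hg) _ hA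
  rwa [← mul_smul, ← map_mul, inv_mul_cancel, map_one, one_smul] at h1

theorem mem_map {g : X} {N : AddSubgroup V} {m : V} : m ∈ N.map (DistribSMul.toAddMonoidHom V g) ↔ g⁻¹ • m ∈ N := by
  rw [AddSubgroup.mem_map]
  constructor
  · rintro ⟨x, hx, rfl⟩
    change g⁻¹ • g • x ∈ N
    rwa [inv_smul_smul]
  · exact fun h => ⟨g⁻¹ • m, h, smul_inv_smul g m⟩

theorem GB.conj {EE : Set (Subgroup X)} {D : Subgroup X} {N C : AddSubgroup V} (h : GB EE D N C) {g : X}
    (hg : g ∈ St EE) : GB EE (MulAut.conj g • D) (N.map (DistribSMul.toAddMonoidHom V g))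
      (C.map (DistribSMul.toAddMonoidHom V g)) where
  nb := h.nb.conj g
  oth := by
    intro A hA hne a ha m hm
    rw [mem_map] at hm
    have h1 : MulAut.conj g⁻¹ • A ∈ EE := (mem_St.1 (inv_mem hg) A).1 hA
    have h3 : MulAut.conj g⁻¹ • A ≠ D := by
      rintro rfl
      apply hne
      rw [← mul_smul, ← map_mul, mul_inv_cancel, map_one, one_smul]
    have h5 : g⁻¹ * a * g ∈ MulAut.conj g⁻¹ • A := by
      rw [mem_cj]; convert ha using 1; group
    have h6 := h.oth _ h1 h3 _ h5 _ hm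
    rw [mul_smul, mul_smul, smul_inv_smul] at h6
    have h7 := congrArg (fun x => g • x) h6
    simpa using h7

open Classical in
/-- the block of `D` -/
noncomputable def NN (EE : Set (Subgroup X)) (V : Type v) [AddCommGroup V] [DistribMulAction X V] (D : Subgroup X) :
    AddSubgroup V := if h : ∃ N C : AddSubgroup V, GB EE D N C then h.choose else ⊥

open Classical in
/-- the complement of the block of `D` -/
noncomputable def CC (EE : Set (Subgroup X)) (V : Type v) [AddCommGroup V] [DistribMulAction X V] (D : Subgroup X) :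
    AddSubgroup V := if h : ∃ N C : AddSubgroup V, GB EE D N C then h.choose_spec.choose else ⊥

theorem gb_NN {EE : Set (Subgroup X)} {D : Subgroup X} (h : ∃ N C : AddSubgroup V, GB EE D N C) :
    GB EE D (NN EE V D) (CC EE V D) := by
  classical
  rw [NN, CC, dif_pos h, dif_pos h]
  exact h.choose_spec.choose_spec

/-- the elements which permute the blocks -/
def Pm (FF : Set (Subgroup X)) (N : Subgroup X → AddSubgroup V) : Subgroup X where
  carrier := {g | (∀ D ∈ FF, ∃ D' ∈ FF, Nat.card D' = Nat.card D ∧ ∀ m, m ∈ N D ↔ g • m ∈ N D') ∧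
    ∀ D ∈ FF, ∃ D' ∈ FF, Nat.card D' = Nat.card D ∧ ∀ m, m ∈ N D ↔ g⁻¹ • m ∈ N D'}
  mul_mem' := by
    rintro a b ⟨ha, ha'⟩ ⟨hb, hb'⟩
    refine ⟨fun D hD => ?_, fun D hD => ?_⟩
    · obtain ⟨D1, h1, c1, h3⟩ := hb D hD
      obtain ⟨D2, h5, c2, h6⟩ := ha D1 h1
      exact ⟨D2, h5, c2.trans c1, fun m => by rw [h3, h6, mul_smul]⟩
    · obtain ⟨D1, h1, c1, h3⟩ := ha' D hD
      obtain ⟨D2, h5, c2, h6⟩ := hb' D1 h1
      exact ⟨D2, h5, c2.trans c1, fun m => by rw [h3, h6, mul_inv_rev, mul_smul]⟩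
  one_mem' := ⟨fun D hD => ⟨D, hD, rfl, fun m => by rw [one_smul]⟩,
    fun D hD => ⟨D, hD, rfl, fun m => by rw [inv_one, one_smul]⟩⟩
  inv_mem' := by
    rintro a ⟨ha, ha'⟩
    exact ⟨ha', fun D hD => by rw [inv_inv]; exact ha D hD⟩

theorem le_Pm {FF : Set (Subgroup X)} {N : Subgroup X → AddSubgroup V} {P : Subgroup X}
    (h : ∀ g ∈ P, ∀ D ∈ FF, ∃ D' ∈ FF, Nat.card D' = Nat.card D ∧ ∀ m, m ∈ N D ↔ g • m ∈ N D') : P ≤ Pm FF N :=
  fun g hg => ⟨h g hg, h g⁻¹ (inv_mem hg)⟩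

theorem conj_ne_bot {g : X} {D : Subgroup X} : Nat.card ↥(MulAut.conj g • D) = Nat.card D := card_cj g D

/-- the conjugates of the members of `RR` under the stabiliser of `EE` -/
def FFs (EE RR : Set (Subgroup X)) : Set (Subgroup X) := {D | ∃ g ∈ St EE, ∃ A ∈ RR, D = MulAut.conj g • A}

theorem le_FFs {EE RR : Set (Subgroup X)} : RR ⊆ FFs EE RR := fun A hA => ⟨1, one_mem _, A, hA, by rw [map_one, one_smul]⟩

theorem conj_FFs {EE RR : Set (Subgroup X)} {g : X} (hg : g ∈ St EE) {D : Subgroup X} (hD : D ∈ FFs EE RR) :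
    MulAut.conj g • D ∈ FFs EE RR := by
  obtain ⟨x, hx, A, hA, rfl⟩ := hD
  exact ⟨g * x, mul_mem hg hx, A, hA, by rw [map_mul, mul_smul]⟩

theorem FFs_sub {EE RR : Set (Subgroup X)} (h : RR ⊆ EE) : FFs EE RR ⊆ EE := by
  rintro _ ⟨g, hg, A, hA, rfl⟩
  exact (mem_St.1 hg A).1 (h hA)

/-- a member of `EP` (natural, `≥ 4`) of an active `P` is a block for `EE` -/
theorem Ac.gb {S : Subgroup X} {EE : Set (Subgroup X)} {P K : Subgroup X} {EP : Set (Subgroup X)} (h : Ac S EE P K EP V)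
    {A : Subgroup X} (hA : A ∈ EP) (h4 : 4 ≤ Nat.card A) : ∃ N C : AddSubgroup V, GB EE A N C := by
  rcases h.typ with h1 | h1
  · exact absurd (h1 A hA) (by omega)
  · obtain ⟨-, N, C, h1, h3, -, h5⟩ := h1 A hA
    refine ⟨N, C, h1, fun A' hA' hne a ha m hm => ?_⟩
    rcases h.dich A' hA' with h6 | h6
    · exact h5 A' h6 hne a ha m hm
    · exact h6 a ha m (h3 hm)

section main

variable [Finite X] [Finite V]

/-- **The natural blocks.** -/
theorem main (h2 : ∀ v : V, v + v = 0) (hf : ∀ x : X, (∀ v : V, x • v = v) → x = 1) (hno : NO X V)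
    {S : Subgroup X} {EE : Set (Subgroup X)} (E : Es S EE V) {Ps : Set (Subgroup X)}
    (hPs : ∀ P ∈ Ps, (∀ g ∈ P, ∀ A ∈ EE, MulAut.conj g • A ∈ EE) ∨ ∃ K EP, Ac S EE P K EP V) (htop : sSup Ps = ⊤)
    {RR : Set (Subgroup X)} (hRE : RR ⊆ EE) (hR4 : ∀ A ∈ RR, 4 ≤ Nat.card A)
    (hRG : ∀ A ∈ RR, ∃ N C : AddSubgroup V, GB EE A N C) :
    (∀ D ∈ FFs EE RR, 4 ≤ Nat.card D) ∧ (∀ D ∈ FFs EE RR, GB EE D (NN EE V D) (CC EE V D)) ∧
      Fam S (FFs EE RR) (NN EE V) (CC EE V) := by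
  have hGB : ∀ D ∈ FFs EE RR, GB EE D (NN EE V D) (CC EE V D) := by
    rintro _ ⟨g, hg, A, hA, rfl⟩
    obtain ⟨N, C, h⟩ := hRG A hA
    exact gb_NN ⟨_, _, h.conj hg⟩
  have hFE : FFs EE RR ⊆ EE := FFs_sub hRE
  have h4 : ∀ D ∈ FFs EE RR, 4 ≤ Nat.card D := by
    rintro _ ⟨g, hg, A, hA, rfl⟩
    rw [card_cj g A]; exact hR4 A hA
  have hS : S ≤ St EE := le_St E.nS
  -- the stabiliser permutes the blocks
  have hstab : St EE ≤ Pm (FFs EE RR) (NN EE V) := by
    refine le_Pm fun g hg D hD => ⟨_, conj_FFs hg hD, card_cj g D, fun m => ?_⟩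
    have h1 := ((hGB D hD).nb.conj g).uniq h2 hf hno (hGB _ (conj_FFs hg hD)).nb
      (by rw [card_cj]; exact h4 D hD)
    rw [← h1.1, mem_map, inv_smul_smul]
  have hK : ∀ {P K : Subgroup X} {EP : Set (Subgroup X)}, Ac S EE P K EP V → K ≤ Pm (FFs EE RR) (NN EE V) := by
    intro P K EP h
    have key : ∀ D ∈ FFs EE RR, ∀ k ∈ K, ∀ m ∈ NN EE V D, k • m ∈ NN EE V D := by
      intro D hD
      by_cases hDE : D ∈ EP
      · rcases h.typ with h1 | h1
        · have := h1 D hDE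
          have := h4 D hD
          omega
        · obtain ⟨-, N, C, h3, -, h5, -⟩ := h1 D hDE
          have h6 := (h3.uniq h2 hf hno (hGB D hD).nb (h4 D hD)).1
          rw [← h6]; exact h5
      · have h1 := Asm.ind h2 hf hno (hGB D hD).nb (h4 D hD) (K := K) (B₀ := EP) (fun B hB => E.el B (h.EPE hB))
          (fun B hB => E.exact B (h.EPE hB)) (fun B hB => E.quad B (h.EPE hB)) h.EPK
          (fun B hB => (hGB D hD).oth B (h.EPE hB) fun e => hDE (e ▸ hB))
          ((h.dich D (hFE hD)).resolve_left hDE) h.spl h.genK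
        intro k hk m hm
        rw [h1.1 k hk m hm]; exact hm
    refine le_Pm fun k hk D hD => ⟨D, hD, rfl, fun m => ⟨key D hD k hk m, fun hm => ?_⟩⟩
    have h1 := key D hD k⁻¹ (inv_mem hk) _ hm
    rwa [inv_smul_smul] at h1
  have hall : Pm (FFs EE RR) (NN EE V) = ⊤ := by
    rw [eq_top_iff, ← htop]
    refine sSup_le fun P hP => ?_
    rcases hPs P hP with h | ⟨K, EP, h⟩
    · exact (le_St h).trans hstab
    · exact h.gen.trans (sup_le (hK h) (hS.trans hstab))
  refine ⟨h4, hGB,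
    { le := fun D hD => E.le D (hFE hD)
      nb := fun D hD => (hGB D hD).nb
      ind := fun D hD D' hD' hne => ?_
      perm := fun g D hD => ?_
      sinv := fun s hs D hD => conj_FFs (hS hs) hD }⟩
  · exact NB.ind h2 hf hno (hGB D hD).nb (hGB D' hD').nb (h4 D hD)
      ((hGB D' hD').oth D (hFE hD) hne.symm) ((hGB D hD).oth D' (hFE hD') hne)
  · have h1 : g ∈ Pm (FFs EE RR) (NN EE V) := hall ▸ Subgroup.mem_top g
    exact h1.1 D hD

/-- The complements are permuted, too. -/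
theorem permC (h2 : ∀ v : V, v + v = 0) (hf : ∀ x : X, (∀ v : V, x • v = v) → x = 1) (hno : NO X V)
    {S : Subgroup X} {EE : Set (Subgroup X)} (E : Es S EE V) {Ps : Set (Subgroup X)}
    (hPs : ∀ P ∈ Ps, (∀ g ∈ P, ∀ A ∈ EE, MulAut.conj g • A ∈ EE) ∨ ∃ K EP, Ac S EE P K EP V ∧
      ∀ A ∈ EP, 4 ≤ Nat.card A → ∀ N C : AddSubgroup V, NB A N C → ∀ k ∈ K, ∀ m ∈ C, k • m ∈ C) (htop : sSup Ps = ⊤)
    {RR : Set (Subgroup X)} (hRE : RR ⊆ EE) (hR4 : ∀ A ∈ RR, 4 ≤ Nat.card A)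
    (hRG : ∀ A ∈ RR, ∃ N C : AddSubgroup V, GB EE A N C) :
    ∀ g : X, ∀ D ∈ FFs EE RR, ∃ D' ∈ FFs EE RR, Nat.card D' = Nat.card D ∧ ∀ m, m ∈ CC EE V D ↔ g • m ∈ CC EE V D' := by
  have hGB : ∀ D ∈ FFs EE RR, GB EE D (NN EE V D) (CC EE V D) := by
    rintro _ ⟨g, hg, A, hA, rfl⟩
    obtain ⟨N, C, h⟩ := hRG A hA
    exact gb_NN ⟨_, _, h.conj hg⟩
  have hFE : FFs EE RR ⊆ EE := FFs_sub hRE
  have h4 : ∀ D ∈ FFs EE RR, 4 ≤ Nat.card D := by
    rintro _ ⟨g, hg, A, hA, rfl⟩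
    rw [card_cj g A]; exact hR4 A hA
  have hS : S ≤ St EE := le_St E.nS
  have hstab : St EE ≤ Pm (FFs EE RR) (CC EE V) := by
    refine le_Pm fun g hg D hD => ⟨_, conj_FFs hg hD, card_cj g D, fun m => ?_⟩
    have h1 := ((hGB D hD).nb.conj g).uniq h2 hf hno (hGB _ (conj_FFs hg hD)).nb
      (by rw [card_cj]; exact h4 D hD)
    rw [← h1.2, mem_map, inv_smul_smul]
  have hall : Pm (FFs EE RR) (CC EE V) = ⊤ := by
    rw [eq_top_iff, ← htop]
    refine sSup_le fun P hP => ?_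
    rcases hPs P hP with h | ⟨K, EP, h, hC⟩
    · exact (le_St h).trans hstab
    · refine h.gen.trans (sup_le ?_ (hS.trans hstab))
      have key : ∀ D ∈ FFs EE RR, ∀ k ∈ K, ∀ m ∈ CC EE V D, k • m ∈ CC EE V D := by
        intro D hD
        by_cases hDE : D ∈ EP
        · exact hC D hDE (h4 D hD) _ _ (hGB D hD).nb
        · have h1 := Asm.ind h2 hf hno (hGB D hD).nb (h4 D hD) (K := K) (B₀ := EP) (fun B hB => E.el B (h.EPE hB))
            (fun B hB => E.exact B (h.EPE hB)) (fun B hB => E.quad B (h.EPE hB)) h.EPK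
            (fun B hB => (hGB D hD).oth B (h.EPE hB) fun e => hDE (e ▸ hB))
            ((h.dich D (hFE hD)).resolve_left hDE) h.spl h.genK
          intro k hk m hm
          have e1 : k • m = (k • m - m) + m := by abel
          rw [e1]
          exact add_mem (h1.2 (sub_mem_brk hk m)) hm
      refine le_Pm fun k hk D hD => ⟨D, hD, rfl, fun m => ⟨key D hD k hk m, fun hm => ?_⟩⟩
      have h1 := key D hD k⁻¹ (inv_mem hk) _ hm
      rwa [inv_smul_smul] at h1
  intro g D hD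
  have h1 : g ∈ Pm (FFs EE RR) (CC EE V) := hall ▸ Subgroup.mem_top g
  exact h1.1 D hD

/-- If the blocks generate `V`, every member of `EE` is the root group of a block. -/
theorem eq_EE (hf : ∀ x : X, (∀ v : V, x • v = v) → x = 1) {EE FF : Set (Subgroup X)} {N C : Subgroup X → AddSubgroup V}
    (hFE : FF ⊆ EE) (hGB : ∀ D ∈ FF, GB EE D (N D) (C D)) (hsup : ⨆ D ∈ FF, N D = ⊤) (hne : ∀ A ∈ EE, A ≠ ⊥) :
    FF = EE := by
  refine Set.Subset.antisymm hFE fun A hA => ?_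
  by_contra hcon
  apply hne A hA
  rw [eq_bot_iff]
  intro a ha
  rw [Subgroup.mem_bot]
  refine hf a fun v => ?_
  have h1 : (⨆ D ∈ FF, N D) ≤ (fxd A : AddSubgroup V) := by
    refine iSup₂_le fun D hD m hm b hb => (hGB D hD).oth A hA (fun e => hcon (e ▸ hD)) b hb m hm
  rw [hsup] at h1
  exact h1 (AddSubgroup.mem_top v) a ha

end main

/-! ### the product of the blocks -/

/-- the product of the blocks -/
def Fam.Sup (FF : Set (Subgroup X)) (N : Subgroup X → AddSubgroup V) : AddSubgroup V := ⨆ D ∈ FF, N D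

theorem Fam.sup_inv {S : Subgroup X} {FF : Set (Subgroup X)} {N C : Subgroup X → AddSubgroup V} (h : Fam S FF N C)
    (g : X) {m : V} (hm : m ∈ ⨆ D ∈ FF, N D) : g • m ∈ ⨆ D ∈ FF, N D := by
  have h1 : (⨆ D ∈ FF, N D) ≤ (⨆ D ∈ FF, N D).comap (DistribSMul.toAddMonoidHom V g) := by
    refine iSup₂_le fun D hD x hx => ?_
    obtain ⟨D', hD', -, h3⟩ := h.perm g D hD
    exact (le_iSup₂ (f := fun D (_ : D ∈ FF) => N D) D' hD') ((h3 x).1 hx)
  exact h1 hm

theorem NB.le_of_inv (h2 : ∀ v : V, v + v = 0) {D : Subgroup X} {N C : AddSubgroup V} (h : NB D N C)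
    {W : AddSubgroup V} (hW : ∀ (g : X), ∀ m ∈ W, g • m ∈ W) (hD : brk V D ≤ W) : N ≤ W := by
  obtain ⟨F, _, _, e, f, up, lo, hB, rfl, rfl⟩ := h.ex
  have he : e.range ≤ W := (range_le_brk hB).trans hD
  refine sup_le he ?_
  rintro _ ⟨x, rfl⟩
  have h1 := hW (wt up lo 1) _ (he ⟨x, rfl⟩)
  rwa [hB.wt_e h2 one_ne_zero, inv_one, one_mul] at h1

theorem NB.ne_bot {D : Subgroup X} {N C : AddSubgroup V} (h : NB D N C) : N ≠ ⊥ := by
  obtain ⟨F, _, _, e, f, up, lo, hB, rfl, rfl⟩ := h.ex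
  intro h0
  have h1 : e 1 ∈ e.range ⊔ f.range := AddSubgroup.mem_sup_left ⟨1, rfl⟩
  rw [h0, AddSubgroup.mem_bot] at h1
  have h3 := hB.ind 1 0 (by rw [h1, map_zero, add_zero]; exact C.zero_mem)
  exact one_ne_zero h3.1

/-- **The product of the blocks.** -/
theorem Fam.sup_eq {S : Subgroup X} (h2 : ∀ v : V, v + v = 0) {FF : Set (Subgroup X)} {N C : Subgroup X → AddSubgroup V}
    (h : Fam S FF N C) (hne : FF.Nonempty) {W : AddSubgroup V} (hW : ∀ (g : X), ∀ m ∈ W, g • m ∈ W)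
    (irr : ∀ U : AddSubgroup V, U ≤ W → (∀ (g : X), ∀ m ∈ U, g • m ∈ U) → U ≠ ⊥ → W ≤ U)
    (hD : ∀ D ∈ FF, brk V D ≤ W) : ⨆ D ∈ FF, N D = W := by
  have h1 : (⨆ D ∈ FF, N D) ≤ W := iSup₂_le fun D hDF => (h.nb D hDF).le_of_inv h2 hW (hD D hDF)
  refine le_antisymm h1 (irr _ h1 (fun g m hm => h.sup_inv g hm) ?_)
  obtain ⟨D, hDF⟩ := hne
  intro h3
  have h5 : N D ≤ ⊥ := h3 ▸ le_iSup₂ (f := fun D (_ : D ∈ FF) => N D) D hDF
  exact (h.nb D hDF).ne_bot (le_bot_iff.1 h5)

end Cfsg.Agent.Omega.NOThreeL.RRed.Blk.Asm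

end
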