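import Cfsg.Agent.Mrg.Omega.NOThreeL.RRed.Blk.AsmSL
import Cfsg.Agent.Mrg.Omega.NOThreeL.RRed.Blk.AsmPair
import Cfsg.Agent.Mrg.Omega.NOThreeL.RRed.NS.Three

section


/-!
# NO-3L, box R: nonsplit natural blocks, module level definitions (helper19, #26867)

`X` acts on `V` (additive).

* `NBd D N C L Z` : `D ≤ X` is the root group of a natural block `N = L ⊕ L⁻ ⊕ Z`, `V = L ⊕ L⁻ ⊕ C`, `Z ≤ C` (`Z = 0`: split);
* `GBd EE D N C L Z` : moreover all other members of `EE` centralise `N`.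
-/

set_option autoImplicit false
set_option linter.unusedSectionVars false

namespace Cfsg.Agent.Omega.NOThreeL.RRed.Blk.AsmN

open Cfsg.Agent.Omega.NOThreeL.RRed.Blk.TypesGam (rt)
open Cfsg.Agent.Omega.NOThreeL.RRed.Blk.GamD (BkD)

universe u v

variable {X : Type u} {V : Type v} [Group X] [AddCommGroup V] [DistribMulAction X V]

/-- `D` is the root group of the natural block `N = L ⊕ L⁻ ⊕ Z`, `V = L ⊕ L⁻ ⊕ C`, `Z ≤ C`. -/
structure NBd (D : Subgroup X) (N C L Z : AddSubgroup V) : Prop where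
  ex : ∃ (F : Type) (_ : Field F) (_ : Finite F) (e f d : F →+ V) (up lo : F → X),
    BkD e f d C up lo ∧ rt up = D ∧ (e.range ⊔ f.range) ⊔ d.range = N ∧ e.range = L ∧ d.range = Z

/-- a natural block which is centralised by the other members of `EE` -/
structure GBd (EE : Set (Subgroup X)) (D : Subgroup X) (N C L Z : AddSubgroup V) : Prop where
  nb : NBd D N C L Z
  oth : ∀ A ∈ EE, A ≠ D → ∀ a ∈ A, ∀ m ∈ N, a • m = m

end Cfsg.Agent.Omega.NOThreeL.RRed.Blk.AsmN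

end

section


/-!
# NO-3L, box R: assembly of natural blocks WITH RADICALS (#26560), module level

`X` acts faithfully on the elementary abelian 2-group `V` (additive), no over-offender.

* `NBd`, `GBd` : `AsmNDef`;
* `clo_cent` : the block group centralises the lines `[V, A]` of the other members `A` of `EE`;
* **`indN`** ((T3), for a group `K`) : `K` centralises `N` and `[V, K] ≤ C`; **`NBd.ind`** : two blocks;
* `AcN` : `P` is active; `FamN` : a family of blocks;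
* **`mainN`** : the conjugates of the members of `RR` under the stabiliser of `EE` form a family, permuted by `X`.
-/

set_option autoImplicit false
set_option linter.unusedSectionVars false

namespace Cfsg.Agent.Omega.NOThreeL.RRed.Blk.AsmN

open Cfsg.Agent.Omega.NOThreeL.RRed.NS (fxd brk mem_fxd)
open Cfsg.Agent.Omega.NOThreeL.RRed.Blk.TypesGam (NO rt up_mem hh wt)
open Cfsg.Agent.Omega.NOThreeL.RRed.Blk.Types
open Cfsg.Agent.Omega.NOThreeL.RRed.Blk.TypesN
open Cfsg.Agent.Omega.NOThreeL.RRed.Blk.GamD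
open Cfsg.Agent.Omega.NOThreeL.RRed.Blk.Asm (Es St mem_St le_St mem_map FFs le_FFs conj_FFs FFs_sub sit exists_ne)
open scoped Pointwise

universe u v w

variable {X : Type u} {V : Type v} [Group X] [AddCommGroup V] [DistribMulAction X V]

section bk

variable {F : Type w} [Field F] {e f d : F →+ V} {C : AddSubgroup V} {up lo : F → X}
variable (h : BkD e f d C up lo) (h2 : ∀ v : V, v + v = 0) (hf : ∀ x : X, (∀ v : V, x • v = v) → x = 1)
include h

theorem rt_el (h2 : ∀ v : V, v + v = 0) (hf : ∀ x : X, (∀ v : V, x • v = v) → x = 1) : El (rt up) where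
  sq := by
    intro x hx
    obtain ⟨t, rfl⟩ := (h.mem_rt h2 hf).1 hx
    rw [h.up_add hf, h.two h2, h.up_zero hf]
  cm := by
    intro x hx y hy
    obtain ⟨t, rfl⟩ := (h.mem_rt h2 hf).1 hx
    obtain ⟨s, rfl⟩ := (h.mem_rt h2 hf).1 hy
    rw [h.up_add hf, h.up_add hf, add_comm]

/-- `C_V(A) = e(F) + C` -/
theorem mem_fxd_rt {v : V} : v ∈ (fxd (rt up) : AddSubgroup V) ↔ ∃ x, ∃ c ∈ C, v = e x + c := by
  rw [mem_fxd]
  constructor
  · intro hv
    obtain ⟨x, y, c, hc, rfl⟩ := h.dec v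
    have e1 := hv _ (up_mem (up := up) 1)
    rw [smul_add, smul_add, h.up_e, h.up_f, h.up_c _ c hc, one_mul, one_mul] at e1
    have e2 : e (x + y) + f y + (d (y ^ 2) + c) = e x + f y + c := by
      rw [← e1, map_add]; abel
    have e3 := (h.uniq (C.add_mem (h.dC _) hc) hc e2).1
    have e4 : y = 0 := by
      have : x + y = x + 0 := by rw [e3, add_zero]
      exact add_left_cancel this
    exact ⟨x, c, hc, by rw [e4, map_zero, add_zero]⟩
  · rintro ⟨x, c, hc, rfl⟩ a ha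
    have h1 : rt up ≤ MulAction.stabilizer X (e x + c) := by
      refine (Subgroup.closure_le _).2 ?_
      rintro _ ⟨t, rfl⟩
      refine MulAction.mem_stabilizer_iff.2 ?_
      rw [smul_add, h.up_e, h.up_c _ c hc]
    exact MulAction.mem_stabilizer_iff.1 (h1 ha)

/-- `[V, A] ≤ e(F) + d(F)` -/
theorem brk_rt_le (h2 : ∀ v : V, v + v = 0) (hf : ∀ x : X, (∀ v : V, x • v = v) → x = 1) :
    brk V (rt up) ≤ e.range ⊔ d.range := by
  refine brk_le fun a ha m => ?_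
  obtain ⟨t, rfl⟩ := (h.mem_rt h2 hf).1 ha
  obtain ⟨x, y, c, hc, rfl⟩ := h.dec m
  have e1 : up t • (e x + f y + c) - (e x + f y + c) = e (t * y) + d (t * y ^ 2) := by
    rw [smul_add, smul_add, h.up_e, h.up_f, h.up_c _ c hc]
    abel
  rw [e1]
  exact add_mem (AddSubgroup.mem_sup_left ⟨_, rfl⟩) (AddSubgroup.mem_sup_right ⟨_, rfl⟩)

theorem ed_mem (t y : F) : e (t * y) + d (t * y ^ 2) ∈ brk V (rt up) := by
  have h1 := sub_mem_brk (M := V) (up_mem (up := up) t) (f y)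
  rw [h.up_f] at h1
  have e1 : f y + e (t * y) + d (t * y ^ 2) - f y = e (t * y) + d (t * y ^ 2) := by abel
  rwa [e1] at h1

/-- `d(F), e(F) ≤ [V, A]` -/
theorem de_le_brk {c₀ : F} (hc0 : c₀ ≠ 0) (hc1 : c₀ ≠ 1) (x : F) :
    d x ∈ brk V (rt up) ∧ e x ∈ brk V (rt up) := by
  -- `e s + d (s y)` for all `y ≠ 0`
  have key : ∀ s y : F, y ≠ 0 → e s + d (s * y) ∈ brk V (rt up) := by
    intro s y hy
    have h1 := ed_mem h (s * y⁻¹) y
    have e1 : s * y⁻¹ * y = s := by rw [mul_assoc, inv_mul_cancel₀ hy, mul_one]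
    have e2 : s * y⁻¹ * y ^ 2 = s * y := by rw [pow_two, ← mul_assoc, e1]
    rwa [e1, e2] at h1
  have hd : d x ∈ brk V (rt up) := by
    have hne : c₀ - 1 ≠ 0 := sub_ne_zero.2 hc1
    have h1 := key (x * (c₀ - 1)⁻¹) c₀ hc0
    have h3 := key (x * (c₀ - 1)⁻¹) 1 one_ne_zero
    have h4 := sub_mem h1 h3
    have e1 : e (x * (c₀ - 1)⁻¹) + d (x * (c₀ - 1)⁻¹ * c₀) - (e (x * (c₀ - 1)⁻¹) + d (x * (c₀ - 1)⁻¹ * 1))
        = d (x * (c₀ - 1)⁻¹ * c₀) - d (x * (c₀ - 1)⁻¹ * 1) := by abel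
    rw [e1, ← map_sub, ← mul_sub, mul_assoc, inv_mul_cancel₀ hne, mul_one] at h4
    exact h4
  refine ⟨hd, ?_⟩
  have h1 := key x 1 one_ne_zero
  rw [mul_one] at h1
  have h3 := sub_mem h1 hd
  rwa [add_sub_cancel_right] at h3

theorem C_le_fxd : C ≤ fxd (rt up) := by
  intro c hc
  rw [mem_fxd_rt h]
  exact ⟨0, c, hc, by rw [map_zero, zero_add]⟩

theorem e_le_fxd : e.range ≤ fxd (rt up) := by
  rintro _ ⟨x, rfl⟩
  rw [mem_fxd_rt h]
  exact ⟨x, 0, C.zero_mem, by rw [add_zero]⟩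

theorem d_le : d.range ≤ C := by
  rintro _ ⟨x, rfl⟩
  exact h.dC x

theorem exact_rt [Finite V] [Finite F] (h2 : ∀ v : V, v + v = 0) (hf : ∀ x : X, (∀ v : V, x • v = v) → x = 1) :
    Nat.card V ≤ Nat.card (rt up) * Nat.card (fxd (rt up) : AddSubgroup V) := by
  obtain ⟨px, py, pc, hv, hpc, hu⟩ := h.proj
  have h1 : (fxd (rt up) : AddSubgroup V) = py.ker := by
    ext v
    rw [mem_fxd_rt h, AddMonoidHom.mem_ker]
    constructor
    · rintro ⟨x, c, hc, rfl⟩
      have := (hu x 0 c hc).2.1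
      rwa [map_zero, add_zero] at this
    · intro hy
      refine ⟨px v, pc v, hpc v, ?_⟩
      conv_lhs => rw [hv v]
      rw [hy, map_zero, add_zero]
  rw [h.card_rt h2 hf, h1]
  have h3 := py.ker.card_mul_index
  have h5 : py.ker.index = Nat.card py.range := AddSubgroup.index_ker py
  have h6 : Nat.card py.range ≤ Nat.card F := Nat.card_le_card_of_injective _ Subtype.val_injective
  calc Nat.card V = Nat.card py.ker * py.ker.index := h3.symm
    _ ≤ Nat.card py.ker * Nat.card F := Nat.mul_le_mul_left _ (h5 ▸ h6)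
    _ = _ := mul_comm _ _

theorem ef_inf_C {n : V} (hn : n ∈ e.range ⊔ f.range) (hc : n ∈ C) : n = 0 := by
  obtain ⟨_, ⟨x, rfl⟩, _, ⟨y, rfl⟩, rfl⟩ := AddSubgroup.mem_sup.1 hn
  obtain ⟨rfl, rfl⟩ := h.ind x y hc
  rw [map_zero, map_zero, add_zero]

theorem sup_eq_top : (e.range ⊔ f.range) ⊔ C = ⊤ := by
  rw [eq_top_iff]
  intro v _
  obtain ⟨x, y, c, hc, rfl⟩ := h.dec v
  exact add_mem (AddSubgroup.mem_sup_left (add_mem (AddSubgroup.mem_sup_left ⟨x, rfl⟩) (AddSubgroup.mem_sup_right ⟨y, rfl⟩)))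
    (AddSubgroup.mem_sup_right hc)

theorem dtN [Finite V] [Finite F] (h2 : ∀ v : V, v + v = 0) (hf : ∀ x : X, (∀ v : V, x • v = v) → x = 1) {c₀ : F}
    (hc0 : c₀ ≠ 0) (hc1 : c₀ ≠ 1) :
    DtN (⊤ : Subgroup X) (rt up) e.range (e.range ⊔ f.range) C (hh up lo c₀) where
  DX := le_top
  el := rt_el h h2 hf
  ex := exact_rt h h2 hf
  qd := (brk_rt_le h h2 hf).trans (sup_le (e_le_fxd h) ((d_le h).trans (C_le_fxd h)))
  fD := by
    intro v hv
    obtain ⟨x, c, hc, rfl⟩ := (mem_fxd_rt h).1 hv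
    exact add_mem (AddSubgroup.mem_sup_left ⟨x, rfl⟩) (AddSubgroup.mem_sup_right hc)
  LD := by
    rintro _ ⟨x, rfl⟩
    exact (de_le_brk h hc0 hc1 x).2
  CD := C_le_fxd h
  LN := le_sup_left
  τX := Subgroup.mem_top _
  τD := by
    have key : ∀ t, hh up lo c₀ * up t * (hh up lo c₀)⁻¹ = up (c₀ * (t * c₀)) := by
      intro t
      refine h.ext hf (fun z => ?_) (fun z => ?_) fun c hc => ?_
      · rw [mul_smul, mul_smul, h.hhi_e h2 hc0, h.up_e, h.hh_e h2 hc0, h.up_e]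
        congr 1; field_simp
      · rw [mul_smul, mul_smul, h.hhi_f h2 hc0, h.up_f, smul_add, smul_add, h.hh_f h2 hc0, h.hh_e h2 hc0,
          h.hh_c _ (h.dC _), h.up_f]
        have e1 : c₀⁻¹ * (c₀ * z) = z := by field_simp
        have e2 : c₀ * (t * (c₀ * z)) = c₀ * (t * c₀) * z := by ring
        have e3 : t * (c₀ * z) ^ 2 = c₀ * (t * c₀) * z ^ 2 := by ring
        rw [e1, e2, e3]
      · rw [mul_smul, mul_smul, h.hhi_c _ hc, h.up_c _ c hc, h.hh_c _ hc, h.up_c _ c hc]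
    apply le_antisymm
    · intro x hx
      obtain ⟨t, ht⟩ := (h.mem_rt h2 hf).1 (mem_cj.1 hx)
      have e1 : x = hh up lo c₀ * up t * (hh up lo c₀)⁻¹ := by rw [ht]; group
      rw [e1, key]
      exact up_mem _
    · intro x hx
      obtain ⟨t, rfl⟩ := (h.mem_rt h2 hf).1 hx
      rw [mem_cj]
      have e1 : up t = hh up lo c₀ * up (c₀⁻¹ * (t * c₀⁻¹)) * (hh up lo c₀)⁻¹ := by
        rw [key]
        congr 1; field_simp
      have e2 : (hh up lo c₀)⁻¹ * up t * hh up lo c₀ = up (c₀⁻¹ * (t * c₀⁻¹)) := by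
        rw [e1]; group
      rw [e2]
      exact up_mem _
  τC := fun c hc => h.hh_c _ hc
  τL := by
    rintro _ ⟨x, rfl⟩
    rw [h.hh_e h2 hc0]
    exact ⟨_, rfl⟩
  τN := by
    intro n hn
    obtain ⟨_, ⟨x, rfl⟩, _, ⟨y, rfl⟩, rfl⟩ := AddSubgroup.mem_sup.1 hn
    rw [smul_add, h.hh_e h2 hc0, h.hh_f h2 hc0]
    exact add_mem (AddSubgroup.mem_sup_left ⟨_, rfl⟩) (AddSubgroup.mem_sup_right ⟨_, rfl⟩)
  fp := by
    intro n hn hfix
    obtain ⟨_, ⟨x, rfl⟩, _, ⟨y, rfl⟩, rfl⟩ := AddSubgroup.mem_sup.1 hn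
    rw [smul_add, h.hh_e h2 hc0, h.hh_f h2 hc0] at hfix
    have e1 : e (c₀ * x) + f (c₀⁻¹ * y) + 0 = e x + f y + 0 := by rw [hfix]
    obtain ⟨h3, h4, -⟩ := h.uniq C.zero_mem C.zero_mem e1
    have hx : x = 0 := by
      by_contra hx
      exact hc1 (mul_right_cancel₀ hx (by rw [h3, one_mul]))
    have hy : y = 0 := by
      by_contra hy
      have h5 : c₀⁻¹ = 1 := mul_right_cancel₀ hy (by rw [h4, one_mul])
      exact hc1 (by rw [← inv_inv c₀, h5, inv_one])
    rw [hx, hy, map_zero, map_zero, add_zero]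

/-- the block group -/
def clo {F : Type w} (up lo : F → X) : Subgroup X := Subgroup.closure (Set.range up ∪ Set.range lo)

omit h in
theorem up_clo (t : F) : up t ∈ clo up lo := Subgroup.subset_closure (Or.inl ⟨t, rfl⟩)

omit h in
theorem lo_clo (t : F) : lo t ∈ clo up lo := Subgroup.subset_closure (Or.inr ⟨t, rfl⟩)

omit h in
theorem rt_le_clo : rt up ≤ clo up lo := Subgroup.closure_mono Set.subset_union_left

/-- `C_V(E) = C` -/
theorem fxd_clo : (fxd (clo up lo) : AddSubgroup V) = C := by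
  apply le_antisymm
  · intro v hv
    rw [mem_fxd] at hv
    obtain ⟨x, y, c, hc, rfl⟩ := h.dec v
    have e1 := hv _ (up_clo (lo := lo) 1)
    rw [smul_add, smul_add, h.up_e, h.up_f, h.up_c _ c hc, one_mul, one_mul] at e1
    have e2 : e (x + y) + f y + (d (y ^ 2) + c) = e x + f y + c := by rw [← e1, map_add]; abel
    have e3 := (h.uniq (C.add_mem (h.dC _) hc) hc e2).1
    have hy : y = 0 := by
      have : x + y = x + 0 := by rw [e3, add_zero]
      exact add_left_cancel this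
    have e4 := hv _ (lo_clo (up := up) (lo := lo) 1)
    rw [smul_add, smul_add, h.lo_e, h.lo_f, h.lo_c _ c hc, one_mul, one_mul] at e4
    have e5 : e x + f (x + y) + (d (x ^ 2) + c) = e x + f y + c := by rw [← e4, map_add]; abel
    have e6 := (h.uniq (C.add_mem (h.dC _) hc) hc e5).2.1
    have hx : x = 0 := by
      have : x + y = 0 + y := by rw [e6, zero_add]
      exact add_right_cancel this
    rw [hx, hy, map_zero, map_zero, zero_add, zero_add]
    exact hc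
  · intro c hc k hk
    have h1 : clo up lo ≤ MulAction.stabilizer X c := by
      refine (Subgroup.closure_le _).2 ?_
      rintro _ (⟨t, rfl⟩ | ⟨t, rfl⟩)
      · exact MulAction.mem_stabilizer_iff.2 (h.up_c t c hc)
      · exact MulAction.mem_stabilizer_iff.2 (h.lo_c t c hc)
    exact MulAction.mem_stabilizer_iff.1 (h1 hk)

/-- `[V, E] ≤ N` -/
theorem brk_clo_le : brk V (clo up lo) ≤ (e.range ⊔ f.range) ⊔ d.range := by
  have h1 : clo up lo ≤ {
      carrier := {x | (∀ n, n ∈ (e.range ⊔ f.range) ⊔ d.range ↔ x • n ∈ (e.range ⊔ f.range) ⊔ d.range) ∧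
        ∀ v : V, x • v - v ∈ (e.range ⊔ f.range) ⊔ d.range}
      mul_mem' := by
        rintro a b ⟨ha, ha'⟩ ⟨hb, hb'⟩
        refine ⟨fun c => by rw [mul_smul, ← ha, ← hb], fun v => ?_⟩
        have e1 : (a * b) • v - v = a • (b • v - v) + (a • v - v) := by
          rw [mul_smul, smul_sub]; abel
        rw [e1]
        exact add_mem ((ha _).1 (hb' v)) (ha' v)
      one_mem' := ⟨fun c => by rw [one_smul], fun v => by rw [one_smul, sub_self]; exact zero_mem _⟩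
      inv_mem' := by
        rintro a ⟨ha, ha'⟩
        refine ⟨fun c => by rw [ha (a⁻¹ • c), smul_inv_smul], fun v => ?_⟩
        rw [ha]
        have e1 : a • (a⁻¹ • v - v) = -(a • v - v) := by rw [smul_sub, smul_inv_smul]; abel
        rw [e1]
        exact neg_mem (ha' v) } := by
    refine (Subgroup.closure_le _).2 ?_
    have key : ∀ x : X, (∀ v : V, x • v - v ∈ (e.range ⊔ f.range) ⊔ d.range) →
        (∀ n, n ∈ (e.range ⊔ f.range) ⊔ d.range ↔ x • n ∈ (e.range ⊔ f.range) ⊔ d.range) ∧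
          ∀ v : V, x • v - v ∈ (e.range ⊔ f.range) ⊔ d.range := by
      intro x hx
      refine ⟨fun n => ⟨fun hn => ?_, fun hn => ?_⟩, hx⟩
      · have e1 : x • n = (x • n - n) + n := by abel
        rw [e1]; exact add_mem (hx n) hn
      · have e1 : n = x • n - (x • n - n) := by abel
        rw [e1]; exact sub_mem hn (hx n)
    rintro _ (⟨t, rfl⟩ | ⟨t, rfl⟩)
    · refine key _ fun v => ?_
      obtain ⟨x, y, c, hc, rfl⟩ := h.dec v
      rw [smul_add, smul_add, h.up_e, h.up_f, h.up_c _ c hc]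
      have e1 : e x + (f y + e (t * y) + d (t * y ^ 2)) + c - (e x + f y + c) = e (t * y) + d (t * y ^ 2) := by abel
      rw [e1]
      exact add_mem (AddSubgroup.mem_sup_left (AddSubgroup.mem_sup_left ⟨_, rfl⟩)) (AddSubgroup.mem_sup_right ⟨_, rfl⟩)
    · refine key _ fun v => ?_
      obtain ⟨x, y, c, hc, rfl⟩ := h.dec v
      rw [smul_add, smul_add, h.lo_e, h.lo_f, h.lo_c _ c hc]
      have e1 : e x + f (t * x) + d (t * x ^ 2) + f y + c - (e x + f y + c) = f (t * x) + d (t * x ^ 2) := by abel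
      rw [e1]
      exact add_mem (AddSubgroup.mem_sup_left (AddSubgroup.mem_sup_right ⟨_, rfl⟩)) (AddSubgroup.mem_sup_right ⟨_, rfl⟩)
  exact brk_le fun k hk v => (h1 hk).2 v

/-- `E` is generated by the `E`-conjugates of the root group -/
theorem clo_gen (h2 : ∀ v : V, v + v = 0) (hf : ∀ x : X, (∀ v : V, x • v = v) → x = 1) :
    clo up lo ≤ Subgroup.closure {x | ∃ g ∈ clo up lo, ∃ b ∈ rt up, x = g * b * g⁻¹} := by
  refine (Subgroup.closure_le _).2 ?_
  rintro _ (⟨t, rfl⟩ | ⟨t, rfl⟩)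
  · exact Subgroup.subset_closure ⟨1, one_mem _, up t, up_mem t, by group⟩
  · have hw : wt up lo 1 ∈ clo up lo := mul_mem (mul_mem (up_clo _) (lo_clo _)) (up_clo _)
    refine Subgroup.subset_closure ⟨wt up lo 1, hw, up t, up_mem t, ?_⟩
    have hwi : ∀ x : V, (wt up lo 1)⁻¹ • x = wt up lo 1 • x := by
      intro v
      rw [inv_smul_eq_iff]
      obtain ⟨x, y, c, hc, rfl⟩ := h.dec v
      simp only [smul_add, h.wt_e h2 one_ne_zero, h.wt_f h2 one_ne_zero, h.wt_c 1 hc, inv_one, one_mul]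
    refine h.ext hf (fun z => ?_) (fun z => ?_) fun c hc => ?_
    · rw [mul_smul, mul_smul, hwi, h.wt_e h2 one_ne_zero, h.up_f, smul_add, smul_add, h.wt_f h2 one_ne_zero,
        h.wt_e h2 one_ne_zero, h.wt_c _ (h.dC _), h.lo_e, inv_one, one_mul, one_mul, one_mul]
    · rw [mul_smul, mul_smul, hwi, h.wt_f h2 one_ne_zero, h.up_e, h.wt_e h2 one_ne_zero, h.lo_f, inv_one, one_mul,
        one_mul]
    · rw [mul_smul, mul_smul, hwi, h.wt_c 1 hc, h.up_c _ c hc, h.wt_c 1 hc, h.lo_c _ c hc]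

end bk

section pair

variable [Finite X] [Finite V]

/-- the block group centralises the line of `A` -/
theorem clo_cent {F : Type w} [Field F] {e f d : F →+ V} {C : AddSubgroup V} {up lo : F → X}
    (h : BkD e f d C up lo) (h2 : ∀ v : V, v + v = 0) (hf : ∀ x : X, (∀ v : V, x • v = v) → x = 1) (hno : NO X V)
    {A : Subgroup X} (elA : El A) (exA : Nat.card V ≤ Nat.card A * Nat.card (fxd A : AddSubgroup V))
    (qdA : brk V A ≤ fxd A) (hAN : ∀ a ∈ A, ∀ m ∈ (e.range ⊔ f.range) ⊔ d.range, a • m = m)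
    (hDA : ∀ δ ∈ rt up, ∀ m ∈ brk V A, δ • m = m) :
    (∀ x ∈ clo up lo, ∀ a ∈ A, x * a = a * x) ∧ brk V A ≤ fxd (clo up lo) := by
  have S := sit h2 hf hno
  refine S.cent (D := A) (K := clo up lo) le_top elA exA qdA le_top
    (fun m hm a ha => hAN a ha m (brk_clo_le h hm)) ((clo_gen h h2 hf).trans (Subgroup.closure_mono ?_))
  rintro x ⟨g, hg, b, hb, rfl⟩
  refine ⟨g, hg, b, fun a ha => ?_, rfl⟩
  refine S.comm_of (Subgroup.mem_top _) (Subgroup.mem_top _) (fun m => ?_) fun m => ?_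
  · refine hAN a ha _ ?_
    exact (sup_le ((le_sup_left : e.range ≤ e.range ⊔ f.range).trans le_sup_left) le_sup_right)
      (brk_rt_le h h2 hf (sub_mem_brk hb m))
  · exact hDA b hb _ (sub_mem_brk ha m)

/-- **(T3) for a group `K`, blocks with radicals.** -/
theorem indN (h2 : ∀ v : V, v + v = 0) (hf : ∀ x : X, (∀ v : V, x • v = v) → x = 1) (hno : NO X V)
    {D : Subgroup X} {N C L Z : AddSubgroup V} (hN : NBd D N C L Z) (h4 : 4 ≤ Nat.card D) {K : Subgroup X}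
    {B₀ : Set (Subgroup X)} (hel : ∀ B ∈ B₀, El B)
    (hex : ∀ B ∈ B₀, Nat.card V ≤ Nat.card B * Nat.card (fxd B : AddSubgroup V)) (hqd : ∀ B ∈ B₀, brk V B ≤ fxd B)
    (hBK : ∀ B ∈ B₀, B ≤ K) (hBN : ∀ B ∈ B₀, ∀ b ∈ B, ∀ n ∈ N, b • n = n)
    (hDK : ∀ d ∈ D, ∀ m ∈ brk V K, d • m = m)
    (gen : K ≤ Subgroup.closure {x | ∃ g ∈ K, ∃ B ∈ B₀, ∃ b ∈ B, x = g * b * g⁻¹}) :
    (∀ k ∈ K, ∀ n ∈ N, k • n = n) ∧ brk V K ≤ C := by
  obtain ⟨F, _, _, e, f, d, up, lo, h, rfl, rfl, rfl, rfl⟩ := hN.ex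
  rw [h.card_rt h2 hf] at h4
  obtain ⟨c₀, hc0, hc1⟩ := exists_ne h4
  have S := sit h2 hf hno
  have T := dtN h h2 hf hc0 hc1
  have hRN : brk V (rt up) ≤ (e.range ⊔ f.range) ⊔ d.range :=
    (brk_rt_le h h2 hf).trans (sup_le (le_sup_left.trans le_sup_left) le_sup_right)
  have hKD : brk V K ≤ fxd (rt up) := fun m hm d hd => hDK d hd m hm
  have brk_mono : ∀ {A B : Subgroup X}, A ≤ B → brk V A ≤ brk V B := by
    intro A B hAB
    exact brk_le fun a ha m => sub_mem_brk (hAB ha) m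
  have hcm0 : ∀ B ∈ B₀, ∀ b ∈ B, ∀ d ∈ rt up, b * d = d * b := by
    intro B hB b hb d hd
    refine (S.comm_of (Subgroup.mem_top _) (Subgroup.mem_top _) (fun m => ?_) fun m => ?_)
    · exact hDK d hd _ (brk_mono (hBK B hB) (sub_mem_brk hb m))
    · exact hBN B hB b hb _ (hRN (sub_mem_brk hd m))
  obtain ⟨hKc, hDfK⟩ := S.cent (D := rt up) (K := K) le_top T.el T.ex T.qd le_top hKD
    (gen.trans (by
      apply Subgroup.closure_mono
      rintro x ⟨g, hg, B, hB, b, hb, rfl⟩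
      exact ⟨g, hg, b, fun d hd => hcm0 B hB b hb d hd, rfl⟩))
  -- the lines of the members of `B₀` are in `C`
  have hBC0 : ∀ B ∈ B₀, brk V B ≤ C := by
    intro B hB
    have h1 := (clo_cent h h2 hf hno (hel B hB) (hex B hB) (hqd B hB) (hBN B hB) fun δ hδ m hm =>
      hDK δ hδ m (brk_mono (hBK B hB) hm)).2
    rwa [fxd_clo h] at h1
  have hKC : ∀ g ∈ K, ∀ B ∈ B₀, ∀ m ∈ brk V (MulAut.conj g • B), m ∈ brk V (rt up) → m ∈ C := by
    intro g hg B hB m hm hm'
    have h1 := brk_cj hm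
    have h3 : g⁻¹ • m = m := mem_fxd.1 (hDfK hm') _ (inv_mem hg)
    rw [h3] at h1
    exact hBC0 B hB h1
  -- conjugates
  have hle : ∀ g ∈ K, ∀ B ∈ B₀, MulAut.conj g • B ≤ K := by
    intro g hg B hB x hx
    have h1 := hBK B hB (mem_cj.1 hx)
    have e1 : x = g * (g⁻¹ * x * g) * g⁻¹ := by group
    rw [e1]; exact mul_mem (mul_mem hg h1) (inv_mem hg)
  have hBd : ∀ g ∈ K, ∀ B ∈ B₀, BdN (⊤ : Subgroup X) (rt up) (MulAut.conj g • B) (e.range) := by
    intro g hg B hB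
    refine
      { BX := le_top
        el := (hel B hB).cj g
        ex := ?_
        qd := ?_
        cm := fun d hd b hb => (hKc b (hle g hg B hB hb) d hd).symm
        BD := (brk_mono (hle g hg B hB)).trans hKD
        DB := fun m hm b hb => hDfK hm b (hle g hg B hB hb)
        tr := fun y hy hy' => ?_
        ab := fun a ha ham => ?_ }
    · have h1 : Nat.card (fxd (MulAut.conj g • B) : AddSubgroup V) = Nat.card (fxd B : AddSubgroup V) := by
        refine Nat.card_congr ⟨fun m => ⟨g⁻¹ • m.1, (fxd_cj g B).1 m.2⟩, fun m => ⟨g • m.1, ?_⟩, fun m => ?_, fun m => ?_⟩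
        · rw [fxd_cj, inv_smul_smul]; exact m.2
        · exact Subtype.ext (smul_inv_smul g m.1)
        · exact Subtype.ext (inv_smul_smul g m.1)
      rw [card_cj, h1]
      exact hex B hB
    · intro m hm
      rw [fxd_cj]
      exact hqd B hB (brk_cj hm)
    · obtain ⟨x, rfl⟩ := hy'
      have h1 := hKC g hg B hB (e x) hy (T.LD ⟨x, rfl⟩)
      have h3 := (h.ind x 0 (by rw [map_zero, add_zero]; exact h1)).1
      rw [h3, map_zero]
    · obtain ⟨t, rfl⟩ := (h.mem_rt h2 hf).1 ha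
      have h1 := hKC g hg B hB _ (ham (f 1)) (sub_mem_brk ha (f 1))
      have e1 : up t • f 1 - f 1 = e t + d t := by
        rw [h.up_f, mul_one, one_pow, mul_one]; abel
      rw [e1] at h1
      have h3 : e t ∈ C := by
        have := C.sub_mem h1 (h.dC t)
        rwa [add_sub_cancel_right] at this
      have h5 := (h.ind t 0 (by rw [map_zero, add_zero]; exact h3)).1
      rw [h5, h.up_zero hf]
  have hkeep : ∀ k ∈ K, ∀ c ∈ C, k • c ∈ C := by
    have h1 : K ≤ {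
        carrier := {x | ∀ c, c ∈ C ↔ x • c ∈ C}
        mul_mem' := fun {a b} ha hb c => by rw [mul_smul, ← ha, ← hb]
        one_mem' := fun c => by rw [one_smul]
        inv_mem' := fun {a} ha c => by rw [ha (a⁻¹ • c), smul_inv_smul] } := by
      refine gen.trans ((Subgroup.closure_le _).2 ?_)
      rintro x ⟨g, hg, B, hB, b, hb, rfl⟩ c
      have hb' : g * b * g⁻¹ ∈ MulAut.conj g • B := by
        rw [mem_cj]; convert hb using 1; group
      constructor
      · exact fun hc => T.keep S (hBd g hg B hB) hb' hc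
      · intro hc
        have h3 := T.keep S (hBd g hg B hB) hb' hc
        have h5 : (g * b * g⁻¹) * (g * b * g⁻¹) = 1 := ((hel B hB).cj g).sq _ hb'
        rw [← mul_smul, h5, one_smul] at h3
        exact h3
    exact fun k hk c hc => (h1 hk c).1 hc
  have hBC : ∀ g ∈ K, ∀ B ∈ B₀, brk V (MulAut.conj g • B) ≤ C := by
    intro g hg B hB m hm
    have h1 := hkeep g hg _ (hBC0 B hB (brk_cj hm))
    rwa [smul_inv_smul] at h1
  refine ⟨fun k hk n hn => ?_, ?_⟩
  · have h1 : K ≤ MulAction.stabilizer X n := by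
      refine gen.trans ((Subgroup.closure_le _).2 ?_)
      rintro x ⟨g, hg, B, hB, b, hb, rfl⟩
      have hb' : g * b * g⁻¹ ∈ MulAut.conj g • B := by
        rw [mem_cj]; convert hb using 1; group
      refine MulAction.mem_stabilizer_iff.2 ?_
      obtain ⟨n₁, hn₁, _, ⟨z, rfl⟩, rfl⟩ := AddSubgroup.mem_sup.1 hn
      have h3 : (g * b * g⁻¹) • d z = d z :=
        mem_fxd.1 (hDfK (de_le_brk h hc0 hc1 z).1) _ (hle g hg B hB hb')
      rw [smul_add, T.kill S (hBd g hg B hB) (hBC g hg B hB) hb' hn₁, h3]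
    exact MulAction.mem_stabilizer_iff.1 (h1 hk)
  · have h1 : K ≤ {
        carrier := {x | (∀ c, c ∈ C ↔ x • c ∈ C) ∧ ∀ v : V, x • v - v ∈ C}
        mul_mem' := by
          rintro a b ⟨ha, ha'⟩ ⟨hb, hb'⟩
          refine ⟨fun c => by rw [mul_smul, ← ha, ← hb], fun v => ?_⟩
          have e1 : (a * b) • v - v = a • (b • v - v) + (a • v - v) := by
            rw [mul_smul, smul_sub]; abel
          rw [e1]
          exact add_mem ((ha _).1 (hb' v)) (ha' v)
        one_mem' := ⟨fun c => by rw [one_smul], fun v => by rw [one_smul, sub_self]; exact C.zero_mem⟩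
        inv_mem' := by
          rintro a ⟨ha, ha'⟩
          refine ⟨fun c => by rw [ha (a⁻¹ • c), smul_inv_smul], fun v => ?_⟩
          rw [ha]
          have e1 : a • (a⁻¹ • v - v) = -(a • v - v) := by rw [smul_sub, smul_inv_smul]; abel
          rw [e1]
          exact neg_mem (ha' v) } := by
      refine gen.trans ((Subgroup.closure_le _).2 ?_)
      rintro x ⟨g, hg, B, hB, b, hb, rfl⟩
      have hb' : g * b * g⁻¹ ∈ MulAut.conj g • B := by
        rw [mem_cj]; convert hb using 1; group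
      refine ⟨fun c => ⟨fun hc => T.keep S (hBd g hg B hB) hb' hc, fun hc => ?_⟩, fun v =>
        hBC g hg B hB (sub_mem_brk hb' v)⟩
      have h3 := T.keep S (hBd g hg B hB) hb' hc
      have h5 : (g * b * g⁻¹) * (g * b * g⁻¹) = 1 := ((hel B hB).cj g).sq _ hb'
      rw [← mul_smul, h5, one_smul] at h3
      exact h3
    exact brk_le fun k hk v => (h1 hk).2 v

omit [Finite X] in
/-- the block group -/
theorem NBd.exists_grp (h2 : ∀ v : V, v + v = 0) (hf : ∀ x : X, (∀ v : V, x • v = v) → x = 1)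
    {D : Subgroup X} {N C L Z : AddSubgroup V} (h : NBd D N C L Z) (h4 : 4 ≤ Nat.card D) :
    ∃ K : Subgroup X, D ≤ K ∧ brk V K = N ∧ (fxd K : AddSubgroup V) = C ∧ brk V D = L ⊔ Z ∧ Z ≤ C ∧ L ⊓ C = ⊥ ∧
      N ⊓ C = Z ∧ El D ∧ Nat.card V ≤ Nat.card D * Nat.card (fxd D : AddSubgroup V) ∧
      (fxd D : AddSubgroup V) = L ⊔ C ∧ K ≤ Subgroup.closure {x | ∃ g ∈ K, ∃ b ∈ D, x = g * b * g⁻¹} := by
  obtain ⟨F, _, _, e, f, d, up, lo, hB, rfl, rfl, rfl, rfl⟩ := h.ex
  rw [hB.card_rt h2 hf] at h4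
  obtain ⟨c₀, hc0, hc1⟩ := exists_ne h4
  have hde := de_le_brk hB hc0 hc1
  have hmono : brk V (rt up) ≤ brk V (clo up lo) := brk_le fun a ha m => sub_mem_brk (rt_le_clo ha) m
  refine ⟨clo up lo, rt_le_clo, le_antisymm (brk_clo_le hB) ?_, fxd_clo hB, le_antisymm (brk_rt_le hB h2 hf) ?_,
    d_le hB, ?_, ?_, rt_el hB h2 hf, exact_rt hB h2 hf, ?_, clo_gen hB h2 hf⟩
  · refine sup_le (sup_le ?_ ?_) ?_
    · rintro _ ⟨x, rfl⟩
      exact hmono (hde x).2
    · rintro _ ⟨x, rfl⟩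
      have h1 := sub_mem_brk (M := V) (lo_clo (up := up) (lo := lo) x) (e 1)
      rw [hB.lo_e, mul_one, one_pow, mul_one] at h1
      have e1 : e 1 + f x + d x - e 1 = f x + d x := by abel
      rw [e1] at h1
      have h3 := sub_mem h1 (hmono (hde x).1)
      rwa [add_sub_cancel_right] at h3
    · rintro _ ⟨x, rfl⟩
      exact hmono (hde x).1
  · refine sup_le ?_ ?_
    · rintro _ ⟨x, rfl⟩
      exact (hde x).2
    · rintro _ ⟨x, rfl⟩
      exact (hde x).1
  · rw [eq_bot_iff]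
    rintro m ⟨⟨x, rfl⟩, hm⟩
    rw [(hB.ind x 0 (by rw [map_zero, add_zero]; exact hm)).1, map_zero]
    exact zero_mem _
  · apply le_antisymm
    · rintro m ⟨hm, hmC⟩
      obtain ⟨n, hn, z, hz, rfl⟩ := AddSubgroup.mem_sup.1 hm
      have h1 : n ∈ C := by
        have := C.sub_mem hmC (d_le hB hz)
        rwa [add_sub_cancel_right] at this
      rw [ef_inf_C hB hn h1, zero_add]
      exact hz
    · exact le_inf le_sup_right (d_le hB)
  · apply le_antisymm
    · intro v hv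
      obtain ⟨x, c, hc, rfl⟩ := (mem_fxd_rt hB).1 hv
      exact add_mem (AddSubgroup.mem_sup_left ⟨x, rfl⟩) (AddSubgroup.mem_sup_right hc)
    · exact sup_le (e_le_fxd hB) (C_le_fxd hB)

/-- **Two blocks.** -/
theorem NBd.ind (h2 : ∀ v : V, v + v = 0) (hf : ∀ x : X, (∀ v : V, x • v = v) → x = 1) (hno : NO X V)
    {D D' : Subgroup X} {N C L Z N' C' L' Z' : AddSubgroup V} (h : NBd D N C L Z) (h' : NBd D' N' C' L' Z')
    (h4 : 4 ≤ Nat.card D) (h4' : 4 ≤ Nat.card D')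
    (hD : ∀ d ∈ D, ∀ m ∈ N', d • m = m) (hD' : ∀ d ∈ D', ∀ m ∈ N, d • m = m) : N' ≤ C := by
  obtain ⟨K, k1, k2, k3, k4, k5, k6, k7, k8, k9, k10, k11⟩ := h'.exists_grp h2 hf h4'
  rw [← k2]
  refine (indN h2 hf hno h h4 (K := K) (B₀ := {D'}) ?_ ?_ ?_ ?_ ?_ ?_ ?_).2
  · rintro B rfl; exact k8
  · rintro B rfl; exact k9
  · rintro B rfl
    rw [k4, k10]
    exact sup_le_sup_left k5 _
  · rintro B rfl; exact k1
  · rintro B rfl; exact hD'
  · intro δ hδ m hm
    rw [k2] at hm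
    exact hD δ hδ m hm
  · refine k11.trans (Subgroup.closure_mono ?_)
    rintro x ⟨g, hg, b, hb, rfl⟩
    exact ⟨g, hg, D', rfl, b, hb, rfl⟩

end pair

/-! ### conjugation -/

theorem NBd.conj {D : Subgroup X} {N C L Z : AddSubgroup V} (h : NBd D N C L Z) (g : X) :
    NBd (MulAut.conj g • D) (N.map (DistribSMul.toAddMonoidHom V g)) (C.map (DistribSMul.toAddMonoidHom V g))
      (L.map (DistribSMul.toAddMonoidHom V g)) (Z.map (DistribSMul.toAddMonoidHom V g)) := by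
  obtain ⟨F, _, _, e, f, d, up, lo, hB, rfl, rfl, rfl, rfl⟩ := h.ex
  refine ⟨F, ‹_›, ‹_›, (DistribSMul.toAddMonoidHom V g).comp e, (DistribSMul.toAddMonoidHom V g).comp f,
    (DistribSMul.toAddMonoidHom V g).comp d, fun t => g * up t * g⁻¹, fun t => g * lo t * g⁻¹, ?_, ?_, ?_, ?_, ?_⟩
  · refine
      { dec := fun v => ?_
        ind := fun x y hxy => ?_
        dC := fun x => ⟨d x, hB.dC x, rfl⟩
        up_e := fun t x => ?_
        up_f := fun t x => ?_
        up_c := ?_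
        lo_e := fun t x => ?_
        lo_f := fun t x => ?_
        lo_c := ?_ }
    · obtain ⟨x, y, c, hc, hv⟩ := hB.dec (g⁻¹ • v)
      refine ⟨x, y, g • c, ⟨c, hc, rfl⟩, ?_⟩
      change v = g • e x + g • f y + g • c
      rw [← smul_add, ← smul_add, ← hv, smul_inv_smul]
    · rw [mem_map] at hxy
      refine hB.ind x y ?_
      change g⁻¹ • (g • e x + g • f y) ∈ C at hxy
      rwa [← smul_add, inv_smul_smul] at hxy
    · change (g * up t * g⁻¹) • g • e x = g • e x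
      rw [mul_smul, mul_smul, inv_smul_smul, hB.up_e]
    · change (g * up t * g⁻¹) • g • f x = g • f x + g • e (t * x) + g • d (t * x ^ 2)
      rw [mul_smul, mul_smul, inv_smul_smul, hB.up_f, smul_add, smul_add]
    · rintro t _ ⟨c, hc, rfl⟩
      change (g * up t * g⁻¹) • g • c = g • c
      rw [mul_smul, mul_smul, inv_smul_smul, hB.up_c t c hc]
    · change (g * lo t * g⁻¹) • g • e x = g • e x + g • f (t * x) + g • d (t * x ^ 2)
      rw [mul_smul, mul_smul, inv_smul_smul, hB.lo_e, smul_add, smul_add]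
    · change (g * lo t * g⁻¹) • g • f x = g • f x
      rw [mul_smul, mul_smul, inv_smul_smul, hB.lo_f]
    · rintro t _ ⟨c, hc, rfl⟩
      change (g * lo t * g⁻¹) • g • c = g • c
      rw [mul_smul, mul_smul, inv_smul_smul, hB.lo_c t c hc]
  · apply le_antisymm
    · rw [rt, Subgroup.closure_le]
      rintro _ ⟨t, rfl⟩
      rw [SetLike.mem_coe, mem_cj]
      have e1 : g⁻¹ * (g * up t * g⁻¹) * g = up t := by group
      change g⁻¹ * (g * up t * g⁻¹) * g ∈ rt up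
      rw [e1]
      exact up_mem t
    · intro x hx
      rw [mem_cj] at hx
      have h1 : rt up ≤ (rt fun t => g * up t * g⁻¹).comap (MulAut.conj g).toMonoidHom := by
        rw [rt, Subgroup.closure_le]
        rintro _ ⟨t, rfl⟩
        exact up_mem (up := fun t => g * up t * g⁻¹) t
      have h3 := h1 hx
      have e1 : g * (g⁻¹ * x * g) * g⁻¹ = x := by group
      change g * (g⁻¹ * x * g) * g⁻¹ ∈ (rt fun t => g * up t * g⁻¹) at h3
      rwa [e1] at h3
  · rw [AddSubgroup.map_sup, AddSubgroup.map_sup, AddMonoidHom.range_comp, AddMonoidHom.range_comp,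
      AddMonoidHom.range_comp]
  · rw [AddMonoidHom.range_comp]
  · rw [AddMonoidHom.range_comp]

theorem GBd.conj {EE : Set (Subgroup X)} {D : Subgroup X} {N C L Z : AddSubgroup V} (h : GBd EE D N C L Z) {g : X}
    (hg : g ∈ St EE) : GBd EE (MulAut.conj g • D) (N.map (DistribSMul.toAddMonoidHom V g))
      (C.map (DistribSMul.toAddMonoidHom V g)) (L.map (DistribSMul.toAddMonoidHom V g))
      (Z.map (DistribSMul.toAddMonoidHom V g)) where
  nb := h.nb.conj g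
  oth := by
    intro A hA hne a ha m hm
    rw [mem_map] at hm
    have h1 : MulAut.conj g⁻¹ • A ∈ EE := (mem_St.1 (inv_mem hg) A).1 hA
    have h3 : MulAut.conj g⁻¹ • A ≠ D := by
      rintro rfl
      apply hne
      rw [← mul_smul, ← map_mul, mul_inv_cancel, map_one, one_smul]
    have h5 : g⁻¹ * a * g ∈ MulAut.conj g⁻¹ • A := by
      rw [mem_cj]; convert ha using 1; group
    have h6 := h.oth _ h1 h3 _ h5 _ hm
    rw [mul_smul, mul_smul, smul_inv_smul] at h6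
    have h7 := congrArg (fun x => g • x) h6
    simpa using h7

/-! ### the family -/

/-- A family of natural blocks with radicals, indexed by their root groups. -/
structure FamN (S : Subgroup X) (EE FF : Set (Subgroup X)) (N C L Z : Subgroup X → AddSubgroup V) : Prop where
  le : ∀ D ∈ FF, D ≤ S
  sub : FF ⊆ EE
  four : ∀ D ∈ FF, 4 ≤ Nat.card D
  gb : ∀ D ∈ FF, GBd EE D (N D) (C D) (L D) (Z D)
  uniq : ∀ D ∈ FF, ∀ N' C' L' Z' : AddSubgroup V, GBd EE D N' C' L' Z' → N' = N D ∧ C' = C D ∧ L' = L D ∧ Z' = Z D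
  ind : ∀ D ∈ FF, ∀ D' ∈ FF, D' ≠ D → N D' ≤ C D
  st : ∀ g ∈ St EE, ∀ D ∈ FF, MulAut.conj g • D ∈ FF ∧ (∀ m : V, m ∈ N D ↔ g • m ∈ N (MulAut.conj g • D)) ∧
    (∀ m : V, m ∈ C D ↔ g • m ∈ C (MulAut.conj g • D)) ∧ (∀ m : V, m ∈ L D ↔ g • m ∈ L (MulAut.conj g • D)) ∧
    ∀ m : V, m ∈ Z D ↔ g • m ∈ Z (MulAut.conj g • D)
  S_st : S ≤ St EE
  perm : ∀ g : X, ∀ D ∈ FF, ∃ D' ∈ FF, Nat.card D' = Nat.card D ∧ (∀ m : V, m ∈ N D ↔ g • m ∈ N D') ∧
    (∀ m : V, m ∈ C D ↔ g • m ∈ C D') ∧ ∀ m : V, m ∈ Z D ↔ g • m ∈ Z D'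

/-- `P` is active. -/
structure AcN (S : Subgroup X) (EE : Set (Subgroup X)) (P K : Subgroup X) (EP : Set (Subgroup X)) (V : Type v)
    [AddCommGroup V] [DistribMulAction X V] : Prop where
  gen : P ≤ K ⊔ S
  EPE : EP ⊆ EE
  EPK : ∀ A ∈ EP, A ≤ K
  dich : ∀ A ∈ EE, A ∈ EP ∨ ∀ a ∈ A, ∀ m ∈ brk V K, a • m = m
  genK : K ≤ Subgroup.closure {x | ∃ g ∈ K, ∃ A ∈ EP, ∃ a ∈ A, x = g * a * g⁻¹}
  typ : ∀ A ∈ EP, 4 ≤ Nat.card A → ∃ N C L Z : AddSubgroup V, NBd A N C L Z ∧ N ≤ brk V K ∧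
    (∀ k ∈ K, ∀ m ∈ N, k • m ∈ N) ∧ (∀ k ∈ K, ∀ m ∈ C, k • m ∈ C) ∧ (∀ k ∈ K, ∀ m ∈ Z, k • m = m) ∧
    ∀ A' ∈ EP, A' ≠ A → ∀ a ∈ A', ∀ m ∈ N, a • m = m

/-- a member of `EP` (`≥ 4`) of an active `P` is a block for `EE` -/
theorem AcN.gb {S : Subgroup X} {EE : Set (Subgroup X)} {P K : Subgroup X} {EP : Set (Subgroup X)}
    (h : AcN S EE P K EP V) {A : Subgroup X} (hA : A ∈ EP) (h4 : 4 ≤ Nat.card A) :
    ∃ N C L Z : AddSubgroup V, GBd EE A N C L Z ∧ N ≤ brk V K ∧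
      (∀ k ∈ K, ∀ m ∈ N, k • m ∈ N) ∧ (∀ k ∈ K, ∀ m ∈ C, k • m ∈ C) ∧ ∀ k ∈ K, ∀ m ∈ Z, k • m = m := by
  obtain ⟨N, C, L, Z, h1, h3, h5, h6, h7, h8⟩ := h.typ A hA h4
  refine ⟨N, C, L, Z, ⟨h1, fun A' hA' hne a ha m hm => ?_⟩, h3, h5, h6, h7⟩
  rcases h.dich A' hA' with h9 | h9
  · exact h8 A' h9 hne a ha m hm
  · exact h9 a ha m (h3 hm)

/-- the elements which permute the tuples -/
def PmN (FF : Set (Subgroup X)) (N C Z : Subgroup X → AddSubgroup V) : Subgroup X where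
  carrier := {g | (∀ D ∈ FF, ∃ D' ∈ FF, Nat.card D' = Nat.card D ∧ (∀ m, m ∈ N D ↔ g • m ∈ N D') ∧
      (∀ m, m ∈ C D ↔ g • m ∈ C D') ∧ ∀ m, m ∈ Z D ↔ g • m ∈ Z D') ∧
    ∀ D ∈ FF, ∃ D' ∈ FF, Nat.card D' = Nat.card D ∧ (∀ m, m ∈ N D ↔ g⁻¹ • m ∈ N D') ∧
      (∀ m, m ∈ C D ↔ g⁻¹ • m ∈ C D') ∧ ∀ m, m ∈ Z D ↔ g⁻¹ • m ∈ Z D'}
  mul_mem' := by
    rintro a b ⟨ha, ha'⟩ ⟨hb, hb'⟩
    refine ⟨fun D hD => ?_, fun D hD => ?_⟩
    · obtain ⟨D1, h1, c1, h3, h4, h5⟩ := hb D hD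
      obtain ⟨D2, k1, c2, k3, k4, k5⟩ := ha D1 h1
      exact ⟨D2, k1, c2.trans c1, fun m => by rw [h3, k3, mul_smul], fun m => by rw [h4, k4, mul_smul],
        fun m => by rw [h5, k5, mul_smul]⟩
    · obtain ⟨D1, h1, c1, h3, h4, h5⟩ := ha' D hD
      obtain ⟨D2, k1, c2, k3, k4, k5⟩ := hb' D1 h1
      exact ⟨D2, k1, c2.trans c1, fun m => by rw [h3, k3, mul_inv_rev, mul_smul],
        fun m => by rw [h4, k4, mul_inv_rev, mul_smul], fun m => by rw [h5, k5, mul_inv_rev, mul_smul]⟩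
  one_mem' := ⟨fun D hD => ⟨D, hD, rfl, fun m => by rw [one_smul], fun m => by rw [one_smul], fun m => by rw [one_smul]⟩,
    fun D hD => ⟨D, hD, rfl, fun m => by rw [inv_one, one_smul], fun m => by rw [inv_one, one_smul],
      fun m => by rw [inv_one, one_smul]⟩⟩
  inv_mem' := by
    rintro a ⟨ha, ha'⟩
    exact ⟨ha', fun D hD => by rw [inv_inv]; exact ha D hD⟩

theorem le_PmN {FF : Set (Subgroup X)} {N C Z : Subgroup X → AddSubgroup V} {P : Subgroup X}
    (h : ∀ g ∈ P, ∀ D ∈ FF, ∃ D' ∈ FF, Nat.card D' = Nat.card D ∧ (∀ m, m ∈ N D ↔ g • m ∈ N D') ∧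
      (∀ m, m ∈ C D ↔ g • m ∈ C D') ∧ ∀ m, m ∈ Z D ↔ g • m ∈ Z D') : P ≤ PmN FF N C Z :=
  fun g hg => ⟨h g hg, h g⁻¹ (inv_mem hg)⟩

section main

variable [Finite X] [Finite V]

/-- **The natural blocks with radicals.** -/
theorem mainN (h2 : ∀ v : V, v + v = 0) (hf : ∀ x : X, (∀ v : V, x • v = v) → x = 1) (hno : NO X V)
    {S : Subgroup X} {EE : Set (Subgroup X)} (E : Es S EE V) {Ps : Set (Subgroup X)}
    (hPs : ∀ P ∈ Ps, (∀ g ∈ P, ∀ A ∈ EE, MulAut.conj g • A ∈ EE) ∨ ∃ K EP, AcN S EE P K EP V) (htop : sSup Ps = ⊤)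
    {RR : Set (Subgroup X)} (hRE : RR ⊆ EE) (hR4 : ∀ A ∈ RR, 4 ≤ Nat.card A)
    (hRG : ∀ A ∈ RR, ∃ N C L Z : AddSubgroup V, GBd EE A N C L Z)
    (uni : ∀ A ∈ RR, ∀ N C L Z N' C' L' Z' : AddSubgroup V, GBd EE A N C L Z → GBd EE A N' C' L' Z' →
      N = N' ∧ C = C' ∧ L = L' ∧ Z = Z') :
    ∃ N C L Z : Subgroup X → AddSubgroup V, FamN S EE (FFs EE RR) N C L Z := by
  classical
  have hex : ∀ D ∈ FFs EE RR, ∃ q : AddSubgroup V × AddSubgroup V × AddSubgroup V × AddSubgroup V,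
      GBd EE D q.1 q.2.1 q.2.2.1 q.2.2.2 := by
    rintro _ ⟨g, hg, A, hA, rfl⟩
    obtain ⟨N, C, L, Z, h⟩ := hRG A hA
    exact ⟨(_, _, _, _), h.conj hg⟩
  let q : Subgroup X → AddSubgroup V × AddSubgroup V × AddSubgroup V × AddSubgroup V := fun D =>
    if h : D ∈ FFs EE RR then (hex D h).choose else (⊥, ⊥, ⊥, ⊥)
  have hq : ∀ D ∈ FFs EE RR, GBd EE D (q D).1 (q D).2.1 (q D).2.2.1 (q D).2.2.2 := by
    intro D hD
    have h1 := (hex D hD).choose_spec
    have e1 : q D = (hex D hD).choose := dif_pos hD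
    rw [e1]
    exact h1
  -- uniqueness for the conjugates
  have huni : ∀ D ∈ FFs EE RR, ∀ N C L Z N' C' L' Z' : AddSubgroup V, GBd EE D N C L Z → GBd EE D N' C' L' Z' →
      N = N' ∧ C = C' ∧ L = L' ∧ Z = Z' := by
    rintro _ ⟨g, hg, A, hA, rfl⟩ N C L Z N' C' L' Z' h h'
    have e1 : MulAut.conj g⁻¹ • MulAut.conj g • A = A := by
      rw [smul_smul, ← map_mul, inv_mul_cancel, map_one, one_smul]
    have h1 := h.conj (g := g⁻¹) (inv_mem hg)
    have h1' := h'.conj (g := g⁻¹) (inv_mem hg)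
    rw [e1] at h1 h1'
    have hinj : Function.Injective (AddSubgroup.map (DistribSMul.toAddMonoidHom V g⁻¹)) :=
      AddSubgroup.map_injective (MulAction.injective g⁻¹)
    obtain ⟨u1, u2, u3, u4⟩ := uni A hA _ _ _ _ _ _ _ _ h1 h1'
    exact ⟨hinj u1, hinj u2, hinj u3, hinj u4⟩
  have hFE : FFs EE RR ⊆ EE := FFs_sub hRE
  have h4 : ∀ D ∈ FFs EE RR, 4 ≤ Nat.card D := by
    rintro _ ⟨g, hg, A, hA, rfl⟩
    rw [card_cj g A]; exact hR4 A hA
  have hS : S ≤ St EE := le_St E.nS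
  have hst : ∀ g ∈ St EE, ∀ D ∈ FFs EE RR, (∀ m : V, m ∈ (q D).1 ↔ g • m ∈ (q (MulAut.conj g • D)).1) ∧
      (∀ m : V, m ∈ (q D).2.1 ↔ g • m ∈ (q (MulAut.conj g • D)).2.1) ∧
      (∀ m : V, m ∈ (q D).2.2.1 ↔ g • m ∈ (q (MulAut.conj g • D)).2.2.1) ∧
      ∀ m : V, m ∈ (q D).2.2.2 ↔ g • m ∈ (q (MulAut.conj g • D)).2.2.2 := by
    intro g hg D hD
    obtain ⟨u1, u2, u3, u4⟩ := huni _ (conj_FFs hg hD) _ _ _ _ _ _ _ _ ((hq D hD).conj hg) (hq _ (conj_FFs hg hD))
    refine ⟨fun m => ?_, fun m => ?_, fun m => ?_, fun m => ?_⟩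
    · rw [← u1, mem_map, inv_smul_smul]
    · rw [← u2, mem_map, inv_smul_smul]
    · rw [← u3, mem_map, inv_smul_smul]
    · rw [← u4, mem_map, inv_smul_smul]
  have hstab : St EE ≤ PmN (FFs EE RR) (fun D => (q D).1) (fun D => (q D).2.1) (fun D => (q D).2.2.2) := by
    refine le_PmN fun g hg D hD => ⟨_, conj_FFs hg hD, card_cj g D, ?_⟩
    obtain ⟨s1, s2, -, s4⟩ := hst g hg D hD
    exact ⟨s1, s2, s4⟩
  have hK : ∀ {P K : Subgroup X} {EP : Set (Subgroup X)}, AcN S EE P K EP V →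
      K ≤ PmN (FFs EE RR) (fun D => (q D).1) (fun D => (q D).2.1) (fun D => (q D).2.2.2) := by
    intro P K EP h
    have key : ∀ D ∈ FFs EE RR, ∀ k ∈ K, (∀ m ∈ (q D).1, k • m ∈ (q D).1) ∧ (∀ m ∈ (q D).2.1, k • m ∈ (q D).2.1) ∧
        ∀ m ∈ (q D).2.2.2, k • m ∈ (q D).2.2.2 := by
      intro D hD k hk
      by_cases hDE : D ∈ EP
      · obtain ⟨N, C, L, Z, h1, -, h3, h5, h6⟩ := h.gb hDE (h4 D hD)
        obtain ⟨u1, u2, -, u4⟩ := huni D hD _ _ _ _ _ _ _ _ h1 (hq D hD)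
        rw [← u1, ← u2, ← u4]
        exact ⟨h3 k hk, h5 k hk, fun m hm => by rw [h6 k hk m hm]; exact hm⟩
      · have h1 := indN h2 hf hno (hq D hD).nb (h4 D hD) (K := K) (B₀ := EP) (fun B hB => E.el B (h.EPE hB))
          (fun B hB => E.exact B (h.EPE hB)) (fun B hB => E.quad B (h.EPE hB)) h.EPK
          (fun B hB => (hq D hD).oth B (h.EPE hB) fun e => hDE (e ▸ hB))
          ((h.dich D (hFE hD)).resolve_left hDE) h.genK
        obtain ⟨G, -, k2, -, -, -, -, k7, -⟩ := (hq D hD).nb.exists_grp h2 hf (h4 D hD)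
        refine ⟨fun m hm => by rw [h1.1 k hk m hm]; exact hm, fun m hm => ?_, fun m hm => ?_⟩
        · have e1 : k • m = (k • m - m) + m := by abel
          rw [e1]
          exact add_mem (h1.2 (sub_mem_brk hk m)) hm
        · have h3 : m ∈ (q D).1 := by
            rw [← k7] at hm
            exact hm.1
          rw [h1.1 k hk m h3]; exact hm
    have key' : ∀ D ∈ FFs EE RR, ∀ k ∈ K, (∀ m, m ∈ (q D).1 ↔ k • m ∈ (q D).1) ∧
        (∀ m, m ∈ (q D).2.1 ↔ k • m ∈ (q D).2.1) ∧ ∀ m, m ∈ (q D).2.2.2 ↔ k • m ∈ (q D).2.2.2 := by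
      intro D hD k hk
      obtain ⟨a1, a2, a3⟩ := key D hD k hk
      obtain ⟨b1, b2, b3⟩ := key D hD k⁻¹ (inv_mem hk)
      refine ⟨fun m => ⟨a1 m, fun hm => ?_⟩, fun m => ⟨a2 m, fun hm => ?_⟩, fun m => ⟨a3 m, fun hm => ?_⟩⟩
      · have := b1 _ hm; rwa [inv_smul_smul] at this
      · have := b2 _ hm; rwa [inv_smul_smul] at this
      · have := b3 _ hm; rwa [inv_smul_smul] at this
    exact le_PmN fun k hk D hD => ⟨D, hD, rfl, key' D hD k hk⟩
  have hall : PmN (FFs EE RR) (fun D => (q D).1) (fun D => (q D).2.1) (fun D => (q D).2.2.2) = ⊤ := by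
    rw [eq_top_iff, ← htop]
    refine sSup_le fun P hP => ?_
    rcases hPs P hP with h | ⟨K, EP, h⟩
    · exact (le_St h).trans hstab
    · exact h.gen.trans (sup_le (hK h) (hS.trans hstab))
  refine ⟨fun D => (q D).1, fun D => (q D).2.1, fun D => (q D).2.2.1, fun D => (q D).2.2.2,
    { le := fun D hD => E.le D (hFE hD)
      sub := hFE
      four := h4
      gb := hq
      uniq := fun D hD N' C' L' Z' h => huni D hD _ _ _ _ _ _ _ _ h (hq D hD)
      ind := fun D hD D' hD' hne => ?_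
      st := fun g hg D hD => ⟨conj_FFs hg hD, hst g hg D hD⟩
      S_st := hS
      perm := fun g D hD => ?_ }⟩
  · obtain ⟨G, -, k2, -⟩ := (hq D' hD').nb.exists_grp h2 hf (h4 D' hD')
    exact NBd.ind h2 hf hno (hq D hD).nb (hq D' hD').nb (h4 D hD) (h4 D' hD')
      ((hq D' hD').oth D (hFE hD) hne.symm) ((hq D hD).oth D' (hFE hD') hne)
  · have h1 : g ∈ PmN (FFs EE RR) (fun D => (q D).1) (fun D => (q D).2.1) (fun D => (q D).2.2.2) :=
      hall ▸ Subgroup.mem_top g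
    exact h1.1 D hD

end main

end Cfsg.Agent.Omega.NOThreeL.RRed.Blk.AsmN

end

section


/-!
# NO-3L, natural blocks with a radical (helper855, #26560, (T4n)): `l`, `M`, `C_V(E)` depend only on the root group

* **`BkD.eq`** : two blocks `BkD e f d C up lo` (over `F`, `|F| > 2`, `d ≠ 0`), `BkD e' f' d' C' up' lo'` (over `F'`) with
  the same root group `rt up = rt up'` and `d'(F') ≤ C`, `d(F) ≤ C'` (for instance `d(F) = d'(F')`): `C = C'`,
  `e(F) = e'(F')`, `d(F) = d'(F')`, `e(F) + f(F) + d(F) = e'(F') + f'(F') + d'(F')`.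
* `exists_cmp` : the comparison: `up' t = up (a θ t)`, `e' x = e (a θ x b)`, `d' x = d (a b² θ x)`,
  `f' y = e x + f (θ y b) + c`;  `exists_tor` : the torus elements agree modulo the root group.
* `BkD.mem_fxd_rt`, `BkD.fix_tor`, `BkD.comm_tor`; `BkD.conj` : a conjugate of a block is a block;
  **`BkD.inv`** : an element which normalises the root group and `d(F)` normalises `C`, `e(F)` and `M`.
-/

set_option autoImplicit false
set_option linter.unusedSectionVars false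

namespace Cfsg.Agent.Omega.NOThreeL.RRed.Blk.GamD

open Cfsg.Agent.Omega.NOThreeL.RRed.NS (fxd mem_fxd)
open Cfsg.Agent.Omega.NOThreeL.RRed.Blk.TypesGam (NO rt up_mem card_le_of Dat wt hh)
open scoped Pointwise

universe u v w w'

variable {X : Type u} {V : Type v} [Group X] [AddCommGroup V] [DistribMulAction X V]

section one

variable {F : Type w} [Field F] {e f d : F →+ V} {C : AddSubgroup V} {up lo : F → X}
variable (h : BkD e f d C up lo)
include h

/-- `C_V(A) = e(F) + C` -/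
theorem BkD.mem_fxd_rt {v : V} : v ∈ (fxd (rt up) : AddSubgroup V) ↔ ∃ x, ∃ c ∈ C, v = e x + c := by
  rw [mem_fxd]
  constructor
  · intro hv
    obtain ⟨x, y, c, hc, rfl⟩ := h.dec v
    have e1 := hv _ (up_mem (up := up) 1)
    rw [smul_add, smul_add, h.up_e, h.up_f, h.up_c _ c hc, one_mul, one_mul] at e1
    have e2 : e (x + y) + f y + (d (y ^ 2) + c) = e x + f y + c := by
      rw [← e1, map_add]; abel
    have e3 := (h.uniq (C.add_mem (h.dC _) hc) hc e2).1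
    have e4 : y = 0 := by
      have : x + y = x + 0 := by rw [e3, add_zero]
      exact add_left_cancel this
    exact ⟨x, c, hc, by rw [e4, map_zero, add_zero]⟩
  · rintro ⟨x, c, hc, rfl⟩ a ha
    have h1 : rt up ≤ MulAction.stabilizer X (e x + c) := by
      refine (Subgroup.closure_le _).2 ?_
      rintro _ ⟨t, rfl⟩
      refine MulAction.mem_stabilizer_iff.2 ?_
      rw [smul_add, h.up_e, h.up_c _ c hc]
    exact MulAction.mem_stabilizer_iff.1 (h1 ha)

section torus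

variable (h2 : ∀ v : V, v + v = 0)
include h2

theorem BkD.tor_v (t : F) {c : F} (hc0 : c ≠ 0) (x y : F) {r : V} (hr : r ∈ C) :
    (up t * hh up lo c) • (e x + f y + r)
      = e (c * x + t * (c⁻¹ * y)) + f (c⁻¹ * y) + (d (t * (c⁻¹ * y) ^ 2) + r) := by
  have e1 : hh up lo c • (e x + f y + r) = e (c * x) + f (c⁻¹ * y) + r := by
    rw [smul_add, smul_add, h.hh_e h2 hc0, h.hh_f h2 hc0, h.hh_c c hr]
  rw [mul_smul, e1, smul_add, smul_add, h.up_e, h.up_f, h.up_c _ r hr, map_add]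
  abel

/-- the elements `up t * hh c`, `c ≠ 0, 1`: fixed points -/
theorem BkD.fix_tor (t : F) {c : F} (hc0 : c ≠ 0) (hc1 : c ≠ 1) (v : V) :
    (up t * hh up lo c) • v = v ↔ v ∈ C := by
  constructor
  · intro hv
    obtain ⟨x, y, r, hr, rfl⟩ := h.dec v
    rw [h.tor_v h2 t hc0 x y hr] at hv
    obtain ⟨e3, e4, -⟩ := h.uniq (C.add_mem (h.dC _) hr) hr hv
    have hy : y = 0 := by
      by_contra hy
      apply hc1
      have e5 := mul_right_cancel₀ hy (e4.trans (one_mul y).symm)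
      exact inv_eq_one.1 e5
    subst hy
    rw [mul_zero, mul_zero, add_zero] at e3
    have hx : x = 0 := by
      by_contra hx
      exact hc1 (mul_right_cancel₀ hx (e3.trans (one_mul x).symm))
    subst hx
    rw [map_zero, map_zero, add_zero, zero_add]
    exact hr
  · intro hv
    rw [mul_smul, h.hh_c c hv, h.up_c _ v hv]

/-- commutators, modulo `D` -/
theorem BkD.comm_tor (t : F) {c : F} (hc0 : c ≠ 0) (hc1 : c ≠ 1) (v : V) :
    (∃ w, ∃ s, (up t * hh up lo c) • w + w + d s = v) ↔ v ∈ e.range ⊔ f.range ⊔ d.range := by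
  have two := h.two h2
  have key : ∀ x y r, r ∈ C → (up t * hh up lo c) • (e x + f y + r) + (e x + f y + r)
      = e ((c + 1) * x + t * (c⁻¹ * y)) + f ((c⁻¹ + 1) * y) + d (t * (c⁻¹ * y) ^ 2) := by
    intro x y r hr
    rw [h.tor_v h2 t hc0 x y hr]
    have e1 : e (c * x + t * (c⁻¹ * y)) + f (c⁻¹ * y) + (d (t * (c⁻¹ * y) ^ 2) + r) + (e x + f y + r)
        = (e (c * x + t * (c⁻¹ * y)) + e x) + (f (c⁻¹ * y) + f y) + d (t * (c⁻¹ * y) ^ 2) + (r + r) := by abel
    rw [e1, h2, add_zero, ← map_add, ← map_add]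
    congr 3 <;> ring
  constructor
  · rintro ⟨w, s, rfl⟩
    obtain ⟨x, y, r, hr, rfl⟩ := h.dec w
    rw [key x y r hr]
    exact add_mem (add_mem (AddSubgroup.mem_sup_left (add_mem (AddSubgroup.mem_sup_left ⟨_, rfl⟩)
      (AddSubgroup.mem_sup_right ⟨_, rfl⟩))) (AddSubgroup.mem_sup_right ⟨_, rfl⟩))
      (AddSubgroup.mem_sup_right ⟨_, rfl⟩)
  · intro hv
    obtain ⟨v1, hv1, _, ⟨s, rfl⟩, rfl⟩ := AddSubgroup.mem_sup.1 hv
    obtain ⟨_, ⟨a, rfl⟩, _, ⟨b, rfl⟩, rfl⟩ := AddSubgroup.mem_sup.1 hv1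
    have k1 : c + 1 ≠ 0 := by
      intro hk
      apply hc1
      have : c + 1 = 1 + 1 := by rw [hk, two]
      exact add_right_cancel this
    have k2 : c⁻¹ + 1 ≠ 0 := by
      intro hk
      apply hc1
      have : c⁻¹ + 1 = 1 + 1 := by rw [hk, two]
      exact inv_eq_one.1 (add_right_cancel this)
    refine ⟨e ((c + 1)⁻¹ * (a + t * (c⁻¹ * ((c⁻¹ + 1)⁻¹ * b)))) + f ((c⁻¹ + 1)⁻¹ * b) + 0,
      s + t * (c⁻¹ * ((c⁻¹ + 1)⁻¹ * b)) ^ 2, ?_⟩
    rw [key _ _ 0 C.zero_mem, mul_inv_cancel_left₀ k1, mul_inv_cancel_left₀ k2]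
    have e1 : a + t * (c⁻¹ * ((c⁻¹ + 1)⁻¹ * b)) + t * (c⁻¹ * ((c⁻¹ + 1)⁻¹ * b)) = a := by
      rw [add_assoc, two, add_zero]
    rw [e1, map_add d]
    have e3 : ∀ p q r r' : V, p + q + r + (r' + r) = p + q + r' := fun p q r r' => by
      have : p + q + r + (r' + r) = p + q + r' + (r + r) := by abel
      rw [this, h2, add_zero]
    exact e3 _ _ _ _

end torus

end one

section two

variable {F : Type w} [Field F] {e f d : F →+ V} {C : AddSubgroup V} {up lo : F → X}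
variable {F' : Type w'} [Field F'] {e' f' d' : F' →+ V} {C' : AddSubgroup V} {up' lo' : F' → X}

/-- the comparison of the two root groups -/
theorem exists_tau (h : BkD e f d C up lo) (h' : BkD e' f' d' C' up' lo') (h2 : ∀ v : V, v + v = 0)
    (hf : ∀ x : X, (∀ v : V, x • v = v) → x = 1) (hrt : rt up = rt up') :
    ∃ τ : F' → F, (∀ t, up (τ t) = up' t) ∧ (∀ s t, τ (s + t) = τ s + τ t) ∧ Function.Bijective τ := by
  have h1 : ∀ t' : F', ∃ t, up t = up' t' := fun t' =>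
    (h.mem_rt h2 hf).1 (hrt ▸ up_mem (up := up') t')
  choose τ hτ using h1
  refine ⟨τ, hτ, fun s t => ?_, ?_, ?_⟩
  · apply h.up_inj
    rw [hτ, ← h.up_add hf, hτ, hτ, h'.up_add hf]
  · intro s t e1
    apply h'.up_inj
    rw [← hτ, e1, hτ]
  · intro t
    obtain ⟨s, hs⟩ := (h'.mem_rt h2 hf).1 (hrt ▸ up_mem (up := up) t)
    exact ⟨s, h.up_inj (by rw [hτ, hs])⟩

/-- The comparison data: `up' t = up (a θ t)`, `e' x = e (a θ x b)`, `d' x = d (a b² θ x)`. -/
theorem exists_cmp [Finite F'] (h : BkD e f d C up lo) (h' : BkD e' f' d' C' up' lo') (h2 : ∀ v : V, v + v = 0)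
    (hf : ∀ x : X, (∀ v : V, x • v = v) → x = 1) (h4 : 2 < Nat.card F') (hrt : rt up = rt up')
    (hd' : ∀ x, d' x ∈ C) :
    ∃ (θ : F' →+* F) (a b : F), a ≠ 0 ∧ b ≠ 0 ∧ Function.Bijective θ ∧ (∀ t, up (a * θ t) = up' t) ∧
      (∀ x, e' x = e (a * θ x * b)) ∧ (∀ y, ∃ x, ∃ c ∈ C, f' y = e x + f (θ y * b) + c) ∧
      (∀ x, d' x = d (a * b ^ 2 * θ x)) := by
  obtain ⟨τ, hτ, hadd, hbij⟩ := exists_tau h h' h2 hf hrt
  have h1 : ∀ y, ∃ b x, ∃ c ∈ C, f' y = e x + f b + c := fun y => by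
    obtain ⟨x, b, c, hc, e1⟩ := h.dec (f' y)
    exact ⟨b, x, c, hc, e1⟩
  choose ψ px pc hpc hψ using h1
  -- `e'(t y) + d'(t y²) = e (τ t ψ y) + d (τ t ψ y²)`
  have k0 : ∀ t y, e' (t * y) + d' (t * y ^ 2) = e (τ t * ψ y) + d (τ t * ψ y ^ 2) := by
    intro t y
    have e1 := h'.up_f t y
    rw [← hτ, hψ y, smul_add, smul_add, h.up_e, h.up_f, h.up_c _ _ (hpc y)] at e1
    have e2 : e (px y) + f (ψ y) + pc y + (e (τ t * ψ y) + d (τ t * ψ y ^ 2))
        = e (px y) + f (ψ y) + pc y + (e' (t * y) + d' (t * y ^ 2)) := by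
      have e3 : e (px y) + f (ψ y) + pc y + (e (τ t * ψ y) + d (τ t * ψ y ^ 2))
          = e (px y) + (f (ψ y) + e (τ t * ψ y) + d (τ t * ψ y ^ 2)) + pc y := by abel
      rw [e3, e1]; abel
    exact (add_left_cancel e2).symm
  -- the components of `e'`
  have h3 : ∀ s, ∃ x, ∃ l ∈ C, e' s = e x + l := by
    intro s
    have e1 := k0 s 1
    rw [mul_one, one_pow, mul_one] at e1
    refine ⟨τ s * ψ 1, d (τ s * ψ 1 ^ 2) + d' s, C.add_mem (h.dC _) (hd' _), ?_⟩
    have e2 : e' s = e' s + d' s + d' s := by rw [add_assoc, h2, add_zero]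
    rw [e2, e1, add_assoc]
  choose χ lam hlam hχ using h3
  have uq : ∀ {x y : F} {c c' : V}, c ∈ C → c' ∈ C → e x + c = e y + c' → x = y ∧ c = c' := by
    intro x y c c' hc hc' e1
    have e2 : e x + f 0 + c = e y + f 0 + c' := by
      rw [map_zero, add_zero, add_zero]; exact e1
    obtain ⟨h5, -, h6⟩ := h.uniq hc hc' e2
    exact ⟨h5, h6⟩
  have k1 : ∀ t y, χ (t * y) = τ t * ψ y ∧ lam (t * y) + d' (t * y ^ 2) = d (τ t * ψ y ^ 2) := by
    intro t y
    have e1 := k0 t y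
    rw [hχ, add_assoc] at e1
    exact uq (C.add_mem (hlam _) (hd' _)) (h.dC _) e1
  have τ0 : τ 0 = 0 := by
    have := hadd 0 0
    rw [add_zero] at this
    exact (left_eq_add.1 this)
  have ha : τ 1 ≠ 0 := by
    intro h0
    exact one_ne_zero (hbij.1 (h0.trans τ0.symm))
  have hb : ψ 1 ≠ 0 := by
    intro h0
    have e1 := k0 1 1
    rw [h0, mul_zero, mul_one, map_zero, one_pow, mul_one, zero_pow two_ne_zero, mul_zero, map_zero, add_zero] at e1
    have e3 : e' 1 + f' 0 ∈ C' := by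
      rw [map_zero, add_zero]
      have e4 : e' 1 = e' 1 + d' 1 + d' 1 := by rw [add_assoc, h2, add_zero]
      rw [e4, e1, zero_add]; exact h'.dC 1
    exact one_ne_zero (h'.ind 1 0 e3).1
  have k2 : ∀ t y, τ (t * y) * ψ 1 = τ t * ψ y := by
    intro t y
    rw [← (k1 t y).1, ← (k1 (t * y) 1).1, mul_one]
  have k3 : ∀ y, τ y * ψ 1 = τ 1 * ψ y := fun y => by
    have := k2 1 y
    rwa [one_mul] at this
  have k4 : ∀ t y, τ (t * y) * τ 1 = τ t * τ y := by
    intro t y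
    apply mul_right_cancel₀ hb
    calc τ (t * y) * τ 1 * ψ 1 = τ (t * y) * ψ 1 * τ 1 := by ring
      _ = τ t * ψ y * τ 1 := by rw [k2]
      _ = τ t * (τ 1 * ψ y) := by ring
      _ = τ t * (τ y * ψ 1) := by rw [k3]
      _ = τ t * τ y * ψ 1 := by ring
  let θ : F' →+* F :=
    { toFun := fun t => (τ 1)⁻¹ * τ t
      map_one' := inv_mul_cancel₀ ha
      map_mul' := fun s t => by
        change (τ 1)⁻¹ * τ (s * t) = (τ 1)⁻¹ * τ s * ((τ 1)⁻¹ * τ t)
        apply mul_right_cancel₀ ha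
        calc (τ 1)⁻¹ * τ (s * t) * τ 1 = (τ 1)⁻¹ * (τ (s * t) * τ 1) := by ring
          _ = (τ 1)⁻¹ * (τ s * τ t) := by rw [k4]
          _ = (τ 1)⁻¹ * τ s * ((τ 1)⁻¹ * τ 1 * τ t) := by rw [inv_mul_cancel₀ ha]; ring
          _ = (τ 1)⁻¹ * τ s * ((τ 1)⁻¹ * τ t) * τ 1 := by ring
      map_zero' := by
        change (τ 1)⁻¹ * τ 0 = 0
        rw [τ0, mul_zero]
      map_add' := fun s t => by
        change (τ 1)⁻¹ * τ (s + t) = (τ 1)⁻¹ * τ s + (τ 1)⁻¹ * τ t
        rw [hadd, mul_add] }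
  have hθ : ∀ t, τ 1 * θ t = τ t := fun t => mul_inv_cancel_left₀ ha (τ t)
  have hψθ : ∀ y, ψ y = θ y * ψ 1 := fun y => by
    apply mul_left_cancel₀ ha
    rw [← k3, ← mul_assoc, hθ]
  -- the `D`-part
  have k5 : ∀ t y, d' (t * y ^ 2) + d (τ 1 * ψ 1 ^ 2 * θ (t * y ^ 2)) = lam (t * y) := by
    intro t y
    have e1 := (k1 t y).2
    have e2 : τ t * ψ y ^ 2 = τ 1 * ψ 1 ^ 2 * θ (t * y ^ 2) := by
      rw [hψθ y, ← hθ t, map_mul θ, map_pow θ]; ring
    rw [← e2, ← e1]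
    have e3 : d' (t * y ^ 2) + (lam (t * y) + d' (t * y ^ 2))
        = lam (t * y) + (d' (t * y ^ 2) + d' (t * y ^ 2)) := by abel
    rw [e3, h2, add_zero]
  have k6 : ∀ s y, y ≠ 0 → d' (s * y) + d (τ 1 * ψ 1 ^ 2 * θ (s * y)) = lam s := by
    intro s y hy
    have e1 := k5 (s * y⁻¹) y
    have e2 : s * y⁻¹ * y ^ 2 = s * y := by
      rw [pow_two, mul_assoc, inv_mul_cancel_left₀ hy]
    rw [e2, inv_mul_cancel_right₀ hy] at e1
    exact e1
  obtain ⟨z, hz0, hz1⟩ : ∃ z : F', z ≠ 0 ∧ z ≠ 1 := by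
    by_contra hcon
    push Not at hcon
    have h3 : Nat.card F' ≤ 2 := by
      have : (Set.univ : Set F') ⊆ {0, 1} := fun x _ => by
        by_cases hx : x = 0
        · exact Or.inl hx
        · exact Or.inr (hcon x hx)
      calc Nat.card F' = Set.ncard (Set.univ : Set F') := (Set.ncard_univ F').symm
        _ ≤ Set.ncard ({0, 1} : Set F') := Set.ncard_le_ncard this
        _ ≤ 2 := by
          have := Set.ncard_insert_le (0 : F') {1}
          rwa [Set.ncard_singleton] at this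
    omega
  have two' := h'.two h2
  have hz2 : z + 1 ≠ 0 := by
    intro hk
    apply hz1
    have : z + 1 = 1 + 1 := by rw [hk, two']
    exact add_right_cancel this
  have k7 : lam 1 = 0 := by
    have e1 := k6 1 (z + 1) hz2
    have e2 := k6 1 z hz0
    have e3 := k6 1 1 one_ne_zero
    rw [one_mul] at e1 e2 e3
    rw [map_add d', map_add θ, mul_add, map_add d] at e1
    have e4 : lam 1 = lam 1 + lam 1 := by
      calc lam 1 = d' z + d' 1 + (d (τ 1 * ψ 1 ^ 2 * θ z) + d (τ 1 * ψ 1 ^ 2 * θ 1)) := e1.symm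
        _ = (d' z + d (τ 1 * ψ 1 ^ 2 * θ z)) + (d' 1 + d (τ 1 * ψ 1 ^ 2 * θ 1)) := by abel
        _ = lam 1 + lam 1 := by rw [e2, e3]
    rw [h2] at e4
    exact e4
  have k8 : ∀ x, d' x = d (τ 1 * ψ 1 ^ 2 * θ x) := by
    intro x
    by_cases hx : x = 0
    · rw [hx, map_zero, map_zero θ, mul_zero, map_zero]
    · have e1 := k6 1 x hx
      rw [one_mul, k7] at e1
      have e2 : d' x + d (τ 1 * ψ 1 ^ 2 * θ x) + d (τ 1 * ψ 1 ^ 2 * θ x) = d' x := by
        rw [add_assoc, h2, add_zero]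
      rw [← e2, e1, zero_add]
  refine ⟨θ, τ 1, ψ 1, ha, hb, ⟨θ.injective, fun x => ?_⟩, fun t => ?_, fun x => ?_, fun y => ?_, k8⟩
  · obtain ⟨t, ht⟩ := hbij.2 (τ 1 * x)
    exact ⟨t, mul_left_cancel₀ ha (by rw [hθ, ht])⟩
  · rw [hθ, hτ]
  · have e1 : lam x = 0 := by
      by_cases hx : x = 0
      · subst hx
        have e2 := k6 0 1 one_ne_zero
        rw [zero_mul, map_zero, map_zero θ, mul_zero, map_zero, add_zero] at e2
        exact e2.symm
      · have e2 := k6 x x⁻¹ (inv_ne_zero hx)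
        rw [← e2, mul_inv_cancel₀ hx]
        have e3 := k6 1 1 one_ne_zero
        rw [one_mul] at e3
        rw [e3, k7]
    have e2 := (k1 x 1).1
    rw [mul_one] at e2
    rw [hχ x, e1, add_zero, e2, hθ]
  · exact ⟨px y, pc y, hpc y, by rw [← hψθ]; exact hψ y⟩

variable [Finite F] [Finite V] [Finite X]

/-- the conclusion of `BkD.gam` -/
def Gam (e f d : F →+ V) (C : AddSubgroup V) (up : F → X) : Prop :=
  ∀ g : X, (∀ z, g • e z = e z) → (∀ z, g • d z = d z) → (∀ c ∈ C, ∃ x, g • c = c + e x) →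
    (∀ z, ∃ x, ∃ c ∈ C, g • f z = f z + c + e x) → g ∈ rt up

/-- The torus elements of the two blocks agree modulo the root group. -/
theorem exists_tor (h : BkD e f d C up lo) (h' : BkD e' f' d' C' up' lo') (h2 : ∀ v : V, v + v = 0)
    (hf : ∀ x : X, (∀ v : V, x • v = v) → x = 1) (hg : Gam e f d C up) (hrt : rt up = rt up')
    (hd1 : ∀ x, d x ∈ C') {θ : F' →+* F} {a b : F} (ha : a ≠ 0) (hb : b ≠ 0) (hbij : Function.Bijective θ)
    (he : ∀ x, e' x = e (a * θ x * b)) (hff : ∀ y, ∃ x, ∃ c ∈ C, f' y = e x + f (θ y * b) + c) {c : F'} (hc : c ≠ 0) :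
    ∃ t, hh up' lo' c = up t * hh up lo (θ c) := by
  have hθ : θ c ≠ 0 := (map_ne_zero θ).2 hc
  have fx : ∀ {v}, (∃ x, ∃ r ∈ C, v = e x + r) ↔ ∃ x, ∃ r ∈ C', v = e' x + r := fun {v} => by
    rw [← h.mem_fxd_rt, ← h'.mem_fxd_rt, hrt]
  -- `C`
  have k1 : ∀ r ∈ C, ∃ x, hh up' lo' c • r = r + e x := by
    intro r hr
    obtain ⟨x, r', hr', e1⟩ := (fx (v := r)).1 ⟨0, r, hr, by rw [map_zero, zero_add]⟩
    refine ⟨a * θ (c * x + x) * b, ?_⟩
    rw [← he]
    conv_lhs => rw [e1]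
    rw [smul_add, h'.hh_e h2 hc, h'.hh_c c hr', e1, map_add]
    have e2 : e' x + r' + (e' (c * x) + e' x) = e' (c * x) + r' + (e' x + e' x) := by abel
    rw [e2, h2, add_zero]
  -- `e`
  have k2 : ∀ x, hh up' lo' c • e x = e (θ c * x) := by
    intro x
    obtain ⟨x', hx'⟩ := hbij.2 (a⁻¹ * (x * b⁻¹))
    have e1 : a * θ x' * b = x := by
      rw [hx', mul_inv_cancel_left₀ ha, inv_mul_cancel_right₀ hb]
    rw [← e1, ← he, h'.hh_e h2 hc, he, map_mul θ]
    congr 1; ring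
  -- `f`
  have k3 : ∀ z, ∃ x, ∃ r ∈ C, hh up' lo' c • f z = f ((θ c)⁻¹ * z) + r + e x := by
    intro z
    obtain ⟨x, y, r, hr, e1⟩ := h'.dec (f z)
    obtain ⟨x1, r1, hr1, e2⟩ := hff y
    obtain ⟨x2, r2, hr2, e3⟩ := (fx (v := r)).2 ⟨0, r, hr, by rw [map_zero, zero_add]⟩
    have e4 : θ y * b = z := by
      have e5 : e (a * θ x * b + x1 + x2) + f (θ y * b) + (r1 + r2) = e 0 + f z + 0 := by
        rw [map_zero, zero_add, add_zero, e1, he, e2, e3, map_add, map_add]; abel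
      exact (h.uniq (C.add_mem hr1 hr2) C.zero_mem e5).2.1
    obtain ⟨x3, r3, hr3, e6⟩ := hff (c⁻¹ * y)
    refine ⟨a * θ (c * x) * b + x3 + x2, r3 + r2, C.add_mem hr3 hr2, ?_⟩
    rw [e1, smul_add, smul_add, h'.hh_e h2 hc, h'.hh_f h2 hc, h'.hh_c c hr, he, e6, e3, ← e4, map_mul θ c⁻¹ y,
      map_inv₀ θ c, map_add, map_add, mul_assoc (θ c)⁻¹ (θ y) b]
    abel
  have k4 : hh up' lo' c * (hh up lo (θ c))⁻¹ ∈ rt up := by
    refine hg _ (fun z => ?_) (fun z => ?_) (fun r hr => ?_) fun z => ?_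
    · rw [mul_smul, h.hhi_e h2 hθ, k2, mul_inv_cancel_left₀ hθ]
    · rw [mul_smul, h.hhi_c _ (h.dC z), h'.hh_c c (hd1 z)]
    · rw [mul_smul, h.hhi_c _ hr]; exact k1 r hr
    · rw [mul_smul, h.hhi_f h2 hθ]
      obtain ⟨x, r, hr, e1⟩ := k3 (θ c * z)
      rw [inv_mul_cancel_left₀ hθ] at e1
      exact ⟨x, r, hr, e1⟩
  obtain ⟨t, ht⟩ := (h.mem_rt h2 hf).1 k4
  exact ⟨t, by rw [ht, inv_mul_cancel_right]⟩

/-- **(T4n).** `C`, `l`, `D` and `M` depend only on the root group, if `D ≤ C'` and `D' ≤ C`. -/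
theorem BkD.eq (h : BkD e f d C up lo) (h' : BkD e' f' d' C' up' lo') (h2 : ∀ v : V, v + v = 0)
    (hf : ∀ x : X, (∀ v : V, x • v = v) → x = 1) (hno : NO X V) (hd : ∃ x, d x ≠ 0) (h4 : 2 < Nat.card F)
    (hrt : rt up = rt up') (hd' : ∀ x, d' x ∈ C) (hd1 : ∀ x, d x ∈ C') :
    C = C' ∧ e.range = e'.range ∧ d.range = d'.range ∧
      e.range ⊔ f.range ⊔ d.range = e'.range ⊔ f'.range ⊔ d'.range := by
  have hg : Gam e f d C up := fun g ge gd gc gf => h.gam h2 hf hno hd h4 ge gd gc gf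
  obtain ⟨τ, -, -, hτb⟩ := exists_tau h h' h2 hf hrt
  have : Finite F' := Finite.of_injective τ hτb.1
  have hcF : Nat.card F' = Nat.card F := Nat.card_congr (Equiv.ofBijective τ hτb)
  obtain ⟨θ, a, b, ha, hb, hbij, hup, he, hff, hdd⟩ := exists_cmp h h' h2 hf (hcF ▸ h4) hrt hd'
  obtain ⟨c0, hc0, hc1⟩ : ∃ c0 : F, c0 ≠ 0 ∧ c0 ≠ 1 := by
    by_contra hcon
    push Not at hcon
    have h3 : Nat.card F ≤ 2 := by
      have : (Set.univ : Set F) ⊆ {0, 1} := fun x _ => by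
        by_cases hx : x = 0
        · exact Or.inl hx
        · exact Or.inr (hcon x hx)
      calc Nat.card F = Set.ncard (Set.univ : Set F) := (Set.ncard_univ F).symm
        _ ≤ Set.ncard ({0, 1} : Set F) := Set.ncard_le_ncard this
        _ ≤ 2 := by
          have := Set.ncard_insert_le (0 : F) {1}
          rwa [Set.ncard_singleton] at this
    omega
  obtain ⟨c, rfl⟩ := hbij.2 c0
  have hc0' : c ≠ 0 := by rintro rfl; exact hc0 (map_zero θ)
  have hc1' : c ≠ 1 := by rintro rfl; exact hc1 (map_one θ)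
  obtain ⟨t, ht⟩ := exists_tor h h' h2 hf hg hrt hd1 ha hb hbij he hff hc0'
  have e0 : up' 0 * hh up' lo' c = up t * hh up lo (θ c) := by
    rw [h'.up_zero hf, one_mul, ht]
  have hab : a * b ^ 2 ≠ 0 := mul_ne_zero ha (pow_ne_zero _ hb)
  have hdr : ∀ x, ∃ y, d' y = d x := by
    intro x
    obtain ⟨y, hy⟩ := hbij.2 ((a * b ^ 2)⁻¹ * x)
    exact ⟨y, by rw [hdd, hy, mul_inv_cancel_left₀ hab]⟩
  refine ⟨?_, ?_, ?_, ?_⟩
  · ext v
    rw [← h.fix_tor h2 t hc0 hc1, ← h'.fix_tor h2 0 hc0' hc1', e0]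
  · ext v
    constructor
    · rintro ⟨x, rfl⟩
      obtain ⟨x', hx'⟩ := hbij.2 (a⁻¹ * (x * b⁻¹))
      refine ⟨x', ?_⟩
      rw [he, hx', mul_inv_cancel_left₀ ha, inv_mul_cancel_right₀ hb]
    · rintro ⟨x, rfl⟩
      exact ⟨_, (he x).symm⟩
  · ext v
    constructor
    · rintro ⟨x, rfl⟩
      exact hdr x
    · rintro ⟨x, rfl⟩
      exact ⟨_, (hdd x).symm⟩
  · ext v
    rw [← h.comm_tor h2 t hc0 hc1, ← h'.comm_tor h2 0 hc0' hc1', e0]
    constructor
    · rintro ⟨w, s, rfl⟩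
      obtain ⟨l, hl⟩ := hdr s
      exact ⟨w, l, by rw [hl]⟩
    · rintro ⟨w, s, rfl⟩
      exact ⟨w, _, by rw [hdd]⟩

end two

section conj

variable {F : Type w} [Field F] {e f d : F →+ V} {C : AddSubgroup V} {up lo : F → X}

/-- a conjugate of a block -/
theorem BkD.conj (h : BkD e f d C up lo) (g : X) :
    BkD ((DistribSMul.toAddMonoidHom V g).comp e) ((DistribSMul.toAddMonoidHom V g).comp f)
      ((DistribSMul.toAddMonoidHom V g).comp d)
      (C.map (DistribSMul.toAddMonoidHom V g)) (fun t => g * up t * g⁻¹) (fun t => g * lo t * g⁻¹) where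
  dec := by
    intro v
    obtain ⟨x, y, c, hc, e1⟩ := h.dec (g⁻¹ • v)
    refine ⟨x, y, g • c, ⟨c, hc, rfl⟩, ?_⟩
    change v = g • e x + g • f y + g • c
    rw [← smul_add, ← smul_add, ← e1, smul_inv_smul]
  ind := by
    rintro x y ⟨c, hc, e1⟩
    have e2 : g • c = g • (e x + f y) := by
      rw [smul_add]; exact e1
    rw [smul_left_cancel_iff] at e2
    exact h.ind x y (e2 ▸ hc)
  dC := fun x => ⟨d x, h.dC x, rfl⟩
  up_e := fun t x => by
    change (g * up t * g⁻¹) • g • e x = g • e x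
    rw [mul_smul, inv_smul_smul, mul_smul, h.up_e]
  up_f := fun t x => by
    change (g * up t * g⁻¹) • g • f x = g • f x + g • e (t * x) + g • d (t * x ^ 2)
    rw [mul_smul, inv_smul_smul, mul_smul, h.up_f, smul_add, smul_add]
  up_c := by
    rintro t _ ⟨c, hc, rfl⟩
    change (g * up t * g⁻¹) • g • c = g • c
    rw [mul_smul, inv_smul_smul, mul_smul, h.up_c t c hc]
  lo_e := fun t x => by
    change (g * lo t * g⁻¹) • g • e x = g • e x + g • f (t * x) + g • d (t * x ^ 2)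
    rw [mul_smul, inv_smul_smul, mul_smul, h.lo_e, smul_add, smul_add]
  lo_f := fun t x => by
    change (g * lo t * g⁻¹) • g • f x = g • f x
    rw [mul_smul, inv_smul_smul, mul_smul, h.lo_f]
  lo_c := by
    rintro t _ ⟨c, hc, rfl⟩
    change (g * lo t * g⁻¹) • g • c = g • c
    rw [mul_smul, inv_smul_smul, mul_smul, h.lo_c t c hc]

/-- **An element which normalises the root group and moves `D` inside `C` normalises `C`, `l`, `D` and `M`.** -/
theorem BkD.inv [Finite F] [Finite V] [Finite X] (h : BkD e f d C up lo) (h2 : ∀ v : V, v + v = 0)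
    (hf : ∀ x : X, (∀ v : V, x • v = v) → x = 1) (hno : NO X V) (hd : ∃ x, d x ≠ 0) (h4 : 2 < Nat.card F) {g : X}
    (hg : MulAut.conj g • rt up = rt up) (hd' : ∀ x, g • d x ∈ C) (hd1 : ∀ x, g⁻¹ • d x ∈ C) :
    C.map (DistribSMul.toAddMonoidHom V g) = C ∧ e.range.map (DistribSMul.toAddMonoidHom V g) = e.range ∧
      d.range.map (DistribSMul.toAddMonoidHom V g) = d.range ∧
      (e.range ⊔ f.range ⊔ d.range).map (DistribSMul.toAddMonoidHom V g) = e.range ⊔ f.range ⊔ d.range := by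
  obtain ⟨h1, h5, h6, h7⟩ := h.eq (h.conj g) h2 hf hno hd h4 (by rw [TypesEq.rt_conj, hg]) hd' fun x =>
    ⟨g⁻¹ • d x, hd1 x, smul_inv_smul g _⟩
  refine ⟨h1.symm, ?_, ?_, ?_⟩
  · rw [← AddMonoidHom.range_comp]; exact h5.symm
  · rw [← AddMonoidHom.range_comp]; exact h6.symm
  · rw [AddSubgroup.map_sup, AddSubgroup.map_sup, h7, AddMonoidHom.range_comp, AddMonoidHom.range_comp,
      AddMonoidHom.range_comp]

end conj

end Cfsg.Agent.Omega.NOThreeL.RRed.Blk.GamD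

end

section


/-!
# NO-3L, box R: natural blocks WITH RADICALS (#26560), consequences of `FamN`, module level

`F : FamN S EE FF N C L Z` (`AsmN`), `V` elementary abelian, `X` faithful.

* `sup_inf` : `V = (⨆ N) + (⨅ C)`; `N_inf` : `(⨆ N) ∩ (⨅ C) = ⨆ Z`; `L_inf` : `(⨆ L) ∩ (⨅ C) = 0`;
* `fxd_sup` : `C_V(⟨FF⟩) = (⨆ L) + (⨅ C)`;
* `inv_N`, `inv_C`, `inv_Z`, `inv_L` : invariance;
* `EB FF` : the normal closure of `FF` in `X`; `fxd_EB`, `brk_EB`;
* `tor` : the torus of `D` is transitive on `L D - 0` and trivial on `C D`;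
* `EE_Z`, `ncl_Z` : `EE` and its normal closure centralise `⨆ Z`; `exists_z` : an `S`-fixed vector in `⨆ Z`;
* **`full`** : `EB` is transitive on the elements of `⨆ L` with full support.
-/

set_option autoImplicit false
set_option linter.unusedSectionVars false

namespace Cfsg.Agent.Omega.NOThreeL.RRed.Blk.AsmN

open Cfsg.Agent.Omega.NOThreeL.RRed.NS (fxd brk mem_fxd)
open Cfsg.Agent.Omega.NOThreeL.RRed.Blk.TypesGam (NO rt up_mem hh wt)
open Cfsg.Agent.Omega.NOThreeL.RRed.Blk.Types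
open Cfsg.Agent.Omega.NOThreeL.RRed.Blk.TypesN
open Cfsg.Agent.Omega.NOThreeL.RRed.Blk.GamD
open Cfsg.Agent.Omega.NOThreeL.RRed.Blk.Asm (Es St mem_St le_St mem_map FFs le_FFs conj_FFs FFs_sub sit exists_ne)
open scoped Pointwise

universe u v w

variable {X : Type u} {V : Type v} [Group X] [AddCommGroup V] [DistribMulAction X V]

/-! ### one block -/

/-- the torus -/
theorem NBd.tor [Finite V] (h2 : ∀ v : V, v + v = 0) (hf : ∀ x : X, (∀ v : V, x • v = v) → x = 1)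
    {D : Subgroup X} {N C L Z : AddSubgroup V} (h : NBd D N C L Z) (h4 : 4 ≤ Nat.card D) {u v : V} (hu : u ∈ L)
    (hu0 : u ≠ 0) (hv : v ∈ L) (hv0 : v ≠ 0) :
    ∃ x : X, MulAut.conj x • D = D ∧ x • u = v ∧ (∀ c ∈ C, x • c = c) ∧
      x ∈ Subgroup.normalClosure (D : Set X) ∧ (∀ m, m ∈ L ↔ x • m ∈ L) ∧ ∀ m, m ∈ N ↔ x • m ∈ N := by
  obtain ⟨F, _, _, e, f, d, up, lo, hB, rfl, rfl, rfl, rfl⟩ := h.ex
  rw [hB.card_rt h2 hf] at h4
  obtain ⟨c₀, hc0, hc1⟩ := exists_ne h4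
  obtain ⟨a, rfl⟩ := hu
  obtain ⟨b, rfl⟩ := hv
  have ha : a ≠ 0 := fun h0 => hu0 (by rw [h0, map_zero])
  have hb : b ≠ 0 := fun h0 => hv0 (by rw [h0, map_zero])
  have hc : b * a⁻¹ ≠ 0 := mul_ne_zero hb (inv_ne_zero ha)
  have hclo : clo up lo ≤ Subgroup.normalClosure ((rt up : Subgroup X) : Set X) := by
    refine (clo_gen hB h2 hf).trans ((Subgroup.closure_le _).2 ?_)
    rintro x ⟨g, -, y, hy, rfl⟩
    exact Subgroup.normalClosure_normal.conj_mem _ (Subgroup.subset_normalClosure hy) g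
  have hx : hh up lo (b * a⁻¹) ∈ clo up lo := by
    have hw : ∀ t, wt up lo t ∈ clo up lo := fun t => mul_mem (mul_mem (up_clo _) (lo_clo _)) (up_clo _)
    exact mul_mem (hw _) (hw _)
  have hN : ∀ y ∈ clo up lo, ∀ m ∈ (e.range ⊔ f.range) ⊔ d.range, y • m ∈ (e.range ⊔ f.range) ⊔ d.range := by
    intro y hy m hm
    have e1 : y • m = (y • m - m) + m := by abel
    rw [e1]
    exact add_mem (brk_clo_le hB (sub_mem_brk hy m)) hm
  refine ⟨hh up lo (b * a⁻¹), ?_, ?_, fun c hc => hB.hh_c _ hc, hclo hx, fun m => ⟨?_, fun hm => ?_⟩,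
    fun m => ⟨hN _ hx m, fun hm => ?_⟩⟩
  · by_cases h1 : b * a⁻¹ = 1
    · rw [h1]
      have e1 : hh up lo (1 : F) = 1 := by
        refine hB.ext hf (fun z => ?_) (fun z => ?_) fun c hc => ?_
        · rw [hB.hh_e h2 one_ne_zero, one_mul, one_smul]
        · rw [hB.hh_f h2 one_ne_zero, inv_one, one_mul, one_smul]
        · rw [hB.hh_c _ hc, one_smul]
      rw [e1, map_one, one_smul]
    · exact (dtN hB h2 hf hc h1).τD
  · rw [hB.hh_e h2 hc, mul_assoc, inv_mul_cancel₀ ha, mul_one]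
  · rintro ⟨z, rfl⟩
    rw [hB.hh_e h2 hc]
    exact ⟨_, rfl⟩
  · obtain ⟨z, hz⟩ := hm
    refine ⟨(b * a⁻¹)⁻¹ * z, ?_⟩
    rw [← hB.hhi_e h2 hc, hz, inv_smul_smul]
  · have h3 := hN _ (inv_mem hx) _ hm
    rwa [inv_smul_smul] at h3

namespace FamN

variable {S : Subgroup X} {EE FF : Set (Subgroup X)} {N C L Z : Subgroup X → AddSubgroup V}
  (F : FamN S EE FF N C L Z) (h2 : ∀ v : V, v + v = 0) (hf : ∀ x : X, (∀ v : V, x • v = v) → x = 1)
include F

/-- `⨆ N` -/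
abbrev sN (FF : Set (Subgroup X)) (N : Subgroup X → AddSubgroup V) : AddSubgroup V := ⨆ D ∈ FF, N D

/-- `⨅ C` -/
abbrev iC (FF : Set (Subgroup X)) (C : Subgroup X → AddSubgroup V) : AddSubgroup V := ⨅ D ∈ FF, C D

section fin

variable [Finite V]
include h2 hf

theorem ZC {D : Subgroup X} (hD : D ∈ FF) : Z D ≤ C D := by
  obtain ⟨K, -, -, -, -, k5, -⟩ := (F.gb D hD).nb.exists_grp h2 hf (F.four D hD)
  exact k5

theorem NC {D : Subgroup X} (hD : D ∈ FF) : N D ⊓ C D = Z D := by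
  obtain ⟨K, -, -, -, -, -, -, k7, -⟩ := (F.gb D hD).nb.exists_grp h2 hf (F.four D hD)
  exact k7

theorem ZN {D : Subgroup X} (hD : D ∈ FF) : Z D ≤ N D := by
  rw [← F.NC h2 hf hD]
  exact inf_le_left

theorem LC {D : Subgroup X} (hD : D ∈ FF) : L D ⊓ C D = ⊥ := by
  obtain ⟨K, -, -, -, -, -, k6, -⟩ := (F.gb D hD).nb.exists_grp h2 hf (F.four D hD)
  exact k6

theorem fx {D : Subgroup X} (hD : D ∈ FF) : (fxd D : AddSubgroup V) = L D ⊔ C D := by
  obtain ⟨K, -, -, -, -, -, -, -, -, -, k10, -⟩ := (F.gb D hD).nb.exists_grp h2 hf (F.four D hD)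
  exact k10

theorem bk {D : Subgroup X} (hD : D ∈ FF) : brk V D = L D ⊔ Z D := by
  obtain ⟨K, -, -, -, k4, -⟩ := (F.gb D hD).nb.exists_grp h2 hf (F.four D hD)
  exact k4

theorem Z_iC {D : Subgroup X} (hD : D ∈ FF) : Z D ≤ iC FF C := by
  refine le_iInf₂ fun D' hD' => ?_
  by_cases h : D = D'
  · subst h; exact F.ZC h2 hf hD
  · exact (F.ZN h2 hf hD).trans (F.ind D' hD' D hD h)

end fin

theorem LN {D : Subgroup X} (hD : D ∈ FF) : L D ≤ N D := by
  obtain ⟨K, _, _, e, f, d, up, lo, hB, -, h1, h3, -⟩ := (F.gb D hD).nb.ex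
  rw [← h1, ← h3]
  exact le_sup_left.trans le_sup_left

theorem NC_top {D : Subgroup X} (hD : D ∈ FF) : N D ⊔ C D = ⊤ := by
  obtain ⟨K, _, _, e, f, d, up, lo, hB, -, h1, h3, -⟩ := (F.gb D hD).nb.ex
  rw [eq_top_iff, ← sup_eq_top hB, ← h1]
  exact sup_le_sup_right le_sup_left _

/-- `V = ∑ N + ⋂ C` for a finite set of blocks -/
theorem fin_top (s : Finset (Subgroup X)) (hs : ∀ D ∈ s, D ∈ FF) :
    (⨆ D ∈ s, N D) ⊔ (⨅ D ∈ s, C D) = ⊤ := by
  classical
  induction s using Finset.induction_on with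
  | empty => simp
  | insert D s hD ih =>
    have ih' := ih fun D' hD' => hs D' (Finset.mem_insert_of_mem hD')
    have hDF := hs D (Finset.mem_insert_self _ _)
    rw [eq_top_iff]
    intro v _
    rw [Finset.iSup_insert, Finset.iInf_insert]
    have h1 : v ∈ (⨆ D ∈ s, N D) ⊔ (⨅ D ∈ s, C D) := by rw [ih']; exact AddSubgroup.mem_top v
    obtain ⟨n, hn, c, hc, rfl⟩ := AddSubgroup.mem_sup.1 h1
    have h3 : c ∈ N D ⊔ C D := by rw [F.NC_top hDF]; exact AddSubgroup.mem_top c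
    obtain ⟨n', hn', c', hc', rfl⟩ := AddSubgroup.mem_sup.1 h3
    have h5 : c' ∈ (⨅ D ∈ s, C D) := by
      have h6 : n' ∈ (⨅ D ∈ s, C D) := by
        have h7 : N D ≤ (⨅ D ∈ s, C D) := le_iInf₂ fun D' hD' =>
          F.ind D' (hs D' (Finset.mem_insert_of_mem hD')) D hDF fun e => hD (e ▸ hD')
        exact h7 hn'
      have h7 := sub_mem hc h6
      rwa [add_sub_cancel_left] at h7
    have e1 : n + (n' + c') = (n' + n) + c' := by abel
    rw [e1]
    exact add_mem (AddSubgroup.mem_sup_left (add_mem (AddSubgroup.mem_sup_left hn') (AddSubgroup.mem_sup_right hn)))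
      (AddSubgroup.mem_sup_right (AddSubgroup.mem_inf.2 ⟨hc', h5⟩))

omit F in
/-- components -/
theorem fin_comp (s : Finset (Subgroup X)) {T : Subgroup X → AddSubgroup V} {v : V} (hv : v ∈ ⨆ D ∈ s, T D) :
    ∃ t : Subgroup X → V, (∀ D, t D ∈ T D) ∧ v = ∑ D ∈ s, t D := by
  classical
  induction s using Finset.induction_on generalizing v with
  | empty =>
    refine ⟨fun _ => 0, fun D => zero_mem _, ?_⟩
    simpa using hv
  | insert D s hD ih =>
    rw [Finset.iSup_insert] at hv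
    obtain ⟨a, ha, b, hb, rfl⟩ := AddSubgroup.mem_sup.1 hv
    obtain ⟨t, ht, rfl⟩ := ih hb
    refine ⟨Function.update t D a, fun D' => ?_, ?_⟩
    · by_cases h : D' = D
      · subst h; rw [Function.update_self]; exact ha
      · rw [Function.update_of_ne h]; exact ht D'
    · rw [Finset.sum_insert hD, Function.update_self]
      congr 1
      refine Finset.sum_congr rfl fun D' hD' => ?_
      have hne : D' ≠ D := by
        rintro rfl
        exact hD hD'
      rw [Function.update_of_ne hne]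

/-! ### the sums -/

section all

variable [Finite X] [Finite V]

omit [Finite V] in
theorem sup_inf : sN FF N ⊔ iC FF C = ⊤ := by
  classical
  have hfin : FF.Finite := Set.toFinite _
  have h1 := F.fin_top hfin.toFinset fun D hD => hfin.mem_toFinset.1 hD
  simpa only [hfin.mem_toFinset] using h1

omit [Finite V] F in
/-- components -/
theorem comp {T : Subgroup X → AddSubgroup V} {v : V} (hv : v ∈ ⨆ D ∈ FF, T D) :
    ∃ t : Subgroup X → V, (∀ D, t D ∈ T D) ∧ v = ∑ D ∈ (Set.toFinite FF).toFinset, t D := by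
  classical
  refine fin_comp _ ?_
  simpa only [(Set.toFinite FF).mem_toFinset] using hv

omit [Finite V] in
/-- the component of a sum with terms in `N D` -/
theorem sum_sub_mem {t : Subgroup X → V} (ht : ∀ D, t D ∈ N D) {D : Subgroup X} (hD : D ∈ FF) :
    (∑ D' ∈ (Set.toFinite FF).toFinset, t D') - t D ∈ C D := by
  classical
  have h1 : D ∈ (Set.toFinite FF).toFinset := (Set.toFinite FF).mem_toFinset.2 hD
  rw [← Finset.add_sum_erase _ _ h1, add_sub_cancel_left]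
  refine sum_mem fun D' hD' => ?_
  have h3 := Finset.mem_erase.1 hD'
  exact F.ind D hD D' ((Set.toFinite FF).mem_toFinset.1 h3.2) h3.1 (ht D')

include h2 hf

/-- `(⨆ N) ∩ (⨅ C) = ⨆ Z` -/
theorem N_inf : sN FF N ⊓ iC FF C = ⨆ D ∈ FF, Z D := by
  classical
  apply le_antisymm
  · rintro v ⟨hv, hc⟩
    obtain ⟨t, ht, rfl⟩ := comp hv
    refine sum_mem fun D hD => ?_
    have hD' := (Set.toFinite FF).mem_toFinset.1 hD
    have h1 : t D ∈ C D := by
      have h3 := F.sum_sub_mem ht hD'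
      have h5 : (∑ D' ∈ (Set.toFinite FF).toFinset, t D') ∈ C D := (iInf₂_le D hD' : iC FF C ≤ C D) hc
      have h6 := sub_mem h5 h3
      rwa [sub_sub_cancel] at h6
    have h7 : t D ∈ Z D := by rw [← F.NC h2 hf hD']; exact ⟨ht D, h1⟩
    exact (le_iSup₂ (f := fun D (_ : D ∈ FF) => Z D) D hD') h7
  · refine iSup₂_le fun D hD => le_inf ?_ (F.Z_iC h2 hf hD)
    exact (F.ZN h2 hf hD).trans (le_iSup₂ (f := fun D (_ : D ∈ FF) => N D) D hD)

/-- `(⨆ L) ∩ (⨅ C) = 0` -/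
theorem L_inf : (⨆ D ∈ FF, L D) ⊓ iC FF C = ⊥ := by
  classical
  rw [eq_bot_iff]
  rintro v ⟨hv, hc⟩
  obtain ⟨t, ht, rfl⟩ := comp hv
  rw [AddSubgroup.mem_bot]
  refine Finset.sum_eq_zero fun D hD => ?_
  have hD' := (Set.toFinite FF).mem_toFinset.1 hD
  have ht' : ∀ D ∈ FF, t D ∈ N D := fun D hD => F.LN hD (ht D)
  have h3 : (∑ D' ∈ (Set.toFinite FF).toFinset, t D') - t D ∈ C D := by
    rw [← Finset.add_sum_erase _ _ hD, add_sub_cancel_left]
    refine sum_mem fun D₁ hD₁ => ?_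
    have h3 := Finset.mem_erase.1 hD₁
    have h5 := (Set.toFinite FF).mem_toFinset.1 h3.2
    exact F.ind D hD' D₁ h5 h3.1 (ht' D₁ h5)
  have h5 : (∑ D' ∈ (Set.toFinite FF).toFinset, t D') ∈ C D := (iInf₂_le D hD' : iC FF C ≤ C D) hc
  have h6 := sub_mem h5 h3
  rw [sub_sub_cancel] at h6
  have h7 : t D ∈ L D ⊓ C D := ⟨ht D, h6⟩
  rw [F.LC h2 hf hD'] at h7
  exact AddSubgroup.mem_bot.1 h7

/-- components in `L D` are unique -/
theorem L_uniq {t t' : Subgroup X → V} (ht : ∀ D, t D ∈ L D) (ht' : ∀ D, t' D ∈ L D)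
    (h : (∑ D ∈ (Set.toFinite FF).toFinset, t D) - (∑ D ∈ (Set.toFinite FF).toFinset, t' D) ∈ iC FF C) :
    ∀ D ∈ FF, t D = t' D := by
  classical
  intro D hD
  have hm : D ∈ (Set.toFinite FF).toFinset := (Set.toFinite FF).mem_toFinset.2 hD
  have hd : ∀ D, t D - t' D ∈ L D := fun D => sub_mem (ht D) (ht' D)
  rw [← Finset.sum_sub_distrib] at h
  have h3 : (∑ D' ∈ (Set.toFinite FF).toFinset, (t D' - t' D')) - (t D - t' D) ∈ C D := by
    rw [← Finset.add_sum_erase _ _ hm, add_sub_cancel_left]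
    refine sum_mem fun D₁ hD₁ => ?_
    have h3 := Finset.mem_erase.1 hD₁
    have h5 := (Set.toFinite FF).mem_toFinset.1 h3.2
    exact F.ind D hD D₁ h5 h3.1 (F.LN h5 (hd D₁))
  have h5 := (iInf₂_le D hD : iC FF C ≤ C D) h
  have h6 := sub_mem h5 h3
  rw [sub_sub_cancel] at h6
  have h7 : t D - t' D ∈ L D ⊓ C D := ⟨hd D, h6⟩
  rw [F.LC h2 hf hD] at h7
  exact sub_eq_zero.1 (AddSubgroup.mem_bot.1 h7)

omit h2 hf [Finite X] [Finite V] in
/-- the other members of `FF` centralise `N D` -/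
theorem cent_N {D D' : Subgroup X} (hD : D ∈ FF) (hD' : D' ∈ FF) (hne : D' ≠ D) : ∀ x ∈ D', ∀ m ∈ N D, x • m = m :=
  (F.gb D hD).oth D' (F.sub hD') hne

/-- `C_V(⟨FF⟩) = (⨆ L) + (⨅ C)` -/
theorem fxd_sup : (fxd (⨆ D ∈ FF, D) : AddSubgroup V) = (⨆ D ∈ FF, L D) ⊔ iC FF C := by
  classical
  apply le_antisymm
  · intro v hv
    have h1 : v ∈ sN FF N ⊔ iC FF C := by rw [F.sup_inf]; exact AddSubgroup.mem_top v
    obtain ⟨n, hn, c, hc, rfl⟩ := AddSubgroup.mem_sup.1 h1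
    obtain ⟨t, ht, rfl⟩ := comp hn
    refine add_mem (sum_mem fun D hD => ?_) (AddSubgroup.mem_sup_right hc)
    have hD' := (Set.toFinite FF).mem_toFinset.1 hD
    -- `t D` is fixed by `D`
    have h3 : t D ∈ (fxd D : AddSubgroup V) := by
      rw [mem_fxd]
      intro x hx
      have e1 := mem_fxd.1 hv x ((le_iSup₂ (f := fun (D : Subgroup X) (_ : D ∈ FF) => D) D hD') hx)
      have h5 : (∑ D' ∈ (Set.toFinite FF).toFinset, t D') - t D + c ∈ (fxd D : AddSubgroup V) := by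
        rw [F.fx h2 hf hD']
        exact add_mem (AddSubgroup.mem_sup_right (F.sum_sub_mem ht hD'))
          (AddSubgroup.mem_sup_right ((iInf₂_le D hD' : iC FF C ≤ C D) hc))
      have e3 := mem_fxd.1 h5 x hx
      have e5 : t D = (∑ D' ∈ (Set.toFinite FF).toFinset, t D') + c
          - ((∑ D' ∈ (Set.toFinite FF).toFinset, t D') - t D + c) := by abel
      rw [e5, smul_sub, e1, e3]
    rw [F.fx h2 hf hD'] at h3
    obtain ⟨l, hl, z, hz, h5⟩ := AddSubgroup.mem_sup.1 h3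
    have h6 : z ∈ Z D := by
      rw [← F.NC h2 hf hD']
      refine ⟨?_, hz⟩
      have h7 := sub_mem (ht D) (F.LN hD' hl)
      rwa [← h5, add_sub_cancel_left] at h7
    rw [← h5]
    exact add_mem (AddSubgroup.mem_sup_left ((le_iSup₂ (f := fun D (_ : D ∈ FF) => L D) D hD') hl))
      (AddSubgroup.mem_sup_right (F.Z_iC h2 hf hD' h6))
  · refine sup_le (iSup₂_le fun D hD => ?_) ?_
    · intro l hl
      rw [mem_fxd]
      have h1 : (⨆ D ∈ FF, D) ≤ MulAction.stabilizer X l := iSup₂_le fun D' hD' x hx => by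
        rw [MulAction.mem_stabilizer_iff]
        by_cases h : D' = D
        · subst h
          have h3 : l ∈ (fxd D' : AddSubgroup V) := by rw [F.fx h2 hf hD]; exact AddSubgroup.mem_sup_left hl
          exact mem_fxd.1 h3 x hx
        · exact F.cent_N hD hD' h x hx l (F.LN hD hl)
      exact fun x hx => MulAction.mem_stabilizer_iff.1 (h1 hx)
    · intro c hc
      rw [mem_fxd]
      have h1 : (⨆ D ∈ FF, D) ≤ MulAction.stabilizer X c := iSup₂_le fun D' hD' x hx => by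
        rw [MulAction.mem_stabilizer_iff]
        have h3 : c ∈ (fxd D' : AddSubgroup V) := by
          rw [F.fx h2 hf hD']
          exact AddSubgroup.mem_sup_right ((iInf₂_le D' hD' : iC FF C ≤ C D') hc)
        exact mem_fxd.1 h3 x hx
      exact fun x hx => MulAction.mem_stabilizer_iff.1 (h1 hx)

end all

/-! ### invariance -/

theorem inv_N (g : X) {m : V} (hm : m ∈ sN FF N) : g • m ∈ sN FF N := by
  have h1 : sN FF N ≤ (sN FF N).comap (DistribSMul.toAddMonoidHom V g) := by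
    refine iSup₂_le fun D hD x hx => ?_
    obtain ⟨D', hD', -, h3, -⟩ := F.perm g D hD
    exact (le_iSup₂ (f := fun D (_ : D ∈ FF) => N D) D' hD') ((h3 x).1 hx)
  exact h1 hm

theorem inv_Z (g : X) {m : V} (hm : m ∈ ⨆ D ∈ FF, Z D) : g • m ∈ ⨆ D ∈ FF, Z D := by
  have h1 : (⨆ D ∈ FF, Z D) ≤ (⨆ D ∈ FF, Z D).comap (DistribSMul.toAddMonoidHom V g) := by
    refine iSup₂_le fun D hD x hx => ?_
    obtain ⟨D', hD', -, -, -, h3⟩ := F.perm g D hD
    exact (le_iSup₂ (f := fun D (_ : D ∈ FF) => Z D) D' hD') ((h3 x).1 hx)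
  exact h1 hm

theorem inv_C (g : X) {m : V} (hm : m ∈ iC FF C) : g • m ∈ iC FF C := by
  simp only [AddSubgroup.mem_iInf] at hm ⊢
  intro D hD
  obtain ⟨D', hD', -, -, h3, -⟩ := F.perm g⁻¹ D hD
  rw [h3, inv_smul_smul]
  exact hm D' hD'

theorem inv_L {g : X} (hg : g ∈ St EE) {m : V} (hm : m ∈ ⨆ D ∈ FF, L D) : g • m ∈ ⨆ D ∈ FF, L D := by
  have h1 : (⨆ D ∈ FF, L D) ≤ (⨆ D ∈ FF, L D).comap (DistribSMul.toAddMonoidHom V g) := by
    refine iSup₂_le fun D hD x hx => ?_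
    obtain ⟨hD', -, -, h3, -⟩ := F.st g hg D hD
    exact (le_iSup₂ (f := fun D (_ : D ∈ FF) => L D) _ hD') ((h3 x).1 hx)
  exact h1 hm

/-- a member of `EE` outside `FF` centralises the blocks -/
theorem oth_EE {A : Subgroup X} (hA : A ∈ EE) (hAF : A ∉ FF) : ∀ a ∈ A, ∀ m ∈ sN FF N, a • m = m := by
  intro a ha m hm
  have h1 : sN FF N ≤ (fxd A : AddSubgroup V) := iSup₂_le fun D hD x hx b hb =>
    (F.gb D hD).oth A hA (fun e => hAF (e ▸ hD)) b hb x hx
  exact mem_fxd.1 (h1 hm) a ha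

/-! ### the block group -/

omit F in
/-- the normal closure of the root groups -/
def EB (FF : Set (Subgroup X)) : Subgroup X := Subgroup.normalClosure ((⨆ D ∈ FF, D : Subgroup X) : Set X)

omit F in
instance EB_normal : (EB FF).Normal := Subgroup.normalClosure_normal

omit F in
theorem le_EB {D : Subgroup X} (hD : D ∈ FF) : D ≤ EB FF :=
  (le_iSup₂ (f := fun (D : Subgroup X) (_ : D ∈ FF) => D) D hD).trans Subgroup.subset_normalClosure

omit F in
theorem ncl_le_EB {D : Subgroup X} (hD : D ∈ FF) : Subgroup.normalClosure (D : Set X) ≤ EB FF := by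
  exact Subgroup.normalClosure_le_normal (le_EB hD)

section eb

variable [Finite X] [Finite V]
include h2 hf

/-- `C_V(EB) = ⨅ C` -/
theorem fxd_EB : (fxd (EB FF) : AddSubgroup V) = iC FF C := by
  apply le_antisymm
  · refine le_iInf₂ fun D hD v hv => ?_
    obtain ⟨K, k1, -, k3, -, -, -, -, -, -, -, k11⟩ := (F.gb D hD).nb.exists_grp h2 hf (F.four D hD)
    have hK : K ≤ EB FF := by
      refine k11.trans ((Subgroup.closure_le _).2 ?_)
      rintro x ⟨g, -, y, hy, rfl⟩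
      exact (EB_normal (FF := FF)).conj_mem _ (le_EB hD hy) g
    rw [← k3]
    exact fun k hk => hv k (hK hk)
  · intro v hv
    rw [mem_fxd]
    have h1 : EB FF ≤ {
        carrier := {x | ∀ c ∈ iC FF C, x • c = c}
        mul_mem' := fun {a b} ha hb c hc => by rw [mul_smul, hb c hc, ha c hc]
        one_mem' := fun c _ => one_smul _ _
        inv_mem' := fun {a} ha c hc => by rw [inv_smul_eq_iff, ha c hc] } := by
      have hle : (⨆ D ∈ FF, D : Subgroup X) ≤ {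
        carrier := {x | ∀ c ∈ iC FF C, x • c = c}
        mul_mem' := fun {a b} ha hb c hc => by rw [mul_smul, hb c hc, ha c hc]
        one_mem' := fun c _ => one_smul _ _
        inv_mem' := fun {a} ha c hc => by rw [inv_smul_eq_iff, ha c hc] } := iSup₂_le fun D hD x hx c hc => by
        have h3 : c ∈ (fxd D : AddSubgroup V) := by
          rw [F.fx h2 hf hD]
          exact AddSubgroup.mem_sup_right ((iInf₂_le D hD : iC FF C ≤ C D) hc)
        exact mem_fxd.1 h3 x hx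
      rw [EB, Subgroup.normalClosure, Subgroup.closure_le]
      intro x hx
      obtain ⟨y, hy, hyx⟩ := Group.mem_conjugatesOfSet_iff.1 hx
      obtain ⟨g, hg⟩ := isConj_iff.1 hyx
      intro c hc
      have h3 := hle hy (g⁻¹ • c) (F.inv_C g⁻¹ hc)
      rw [← hg, mul_smul, mul_smul, h3, smul_inv_smul]
    exact fun k hk => h1 hk v hv

/-- `[V, EB] = ⨆ N` -/
theorem brk_EB : brk V (EB FF) = sN FF N := by
  apply le_antisymm
  · have h1 : EB FF ≤ {
        carrier := {x | ∀ v : V, x • v - v ∈ sN FF N}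
        mul_mem' := by
          intro a b ha hb v
          have e1 : (a * b) • v - v = (a • (b • v) - b • v) + (b • v - v) := by rw [mul_smul]; abel
          rw [e1]
          exact add_mem (ha _) (hb v)
        one_mem' := fun v => by rw [one_smul, sub_self]; exact zero_mem _
        inv_mem' := by
          intro a ha v
          have e1 : a⁻¹ • v - v = -(a • (a⁻¹ • v) - a⁻¹ • v) := by rw [smul_inv_smul]; abel
          rw [e1]
          exact neg_mem (ha _) } := by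
      have hle : (⨆ D ∈ FF, D : Subgroup X) ≤ {
        carrier := {x | ∀ v : V, x • v - v ∈ sN FF N}
        mul_mem' := by
          intro a b ha hb v
          have e1 : (a * b) • v - v = (a • (b • v) - b • v) + (b • v - v) := by rw [mul_smul]; abel
          rw [e1]
          exact add_mem (ha _) (hb v)
        one_mem' := fun v => by rw [one_smul, sub_self]; exact zero_mem _
        inv_mem' := by
          intro a ha v
          have e1 : a⁻¹ • v - v = -(a • (a⁻¹ • v) - a⁻¹ • v) := by rw [smul_inv_smul]; abel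
          rw [e1]
          exact neg_mem (ha _) } := iSup₂_le fun D hD x hx v => by
        have h3 := sub_mem_brk hx v
        rw [F.bk h2 hf hD] at h3
        exact (sup_le (F.LN hD) (F.ZN h2 hf hD)).trans (le_iSup₂ (f := fun D (_ : D ∈ FF) => N D) D hD) h3
      rw [EB, Subgroup.normalClosure, Subgroup.closure_le]
      intro x hx
      obtain ⟨y, hy, hyx⟩ := Group.mem_conjugatesOfSet_iff.1 hx
      obtain ⟨g, hg⟩ := isConj_iff.1 hyx
      intro v
      have h3 := F.inv_N g (hle hy (g⁻¹ • v))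
      rw [← hg, mul_smul, mul_smul]
      rwa [smul_sub, smul_inv_smul] at h3
    exact brk_le fun x hx v => h1 hx v
  · refine iSup₂_le fun D hD => ?_
    obtain ⟨K, k1, k2, -, -, -, -, -, -, -, -, k11⟩ := (F.gb D hD).nb.exists_grp h2 hf (F.four D hD)
    have hK : K ≤ EB FF := by
      refine k11.trans ((Subgroup.closure_le _).2 ?_)
      rintro x ⟨g, -, y, hy, rfl⟩
      exact (EB_normal (FF := FF)).conj_mem _ (le_EB hD hy) g
    rw [← k2]
    exact brk_le fun x hx v => sub_mem_brk (hK hx) v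

/-- the torus -/
theorem tor {D : Subgroup X} (hD : D ∈ FF) {u v : V} (hu : u ∈ L D) (hu0 : u ≠ 0) (hv : v ∈ L D) (hv0 : v ≠ 0) :
    ∃ x ∈ EB FF, (∀ D' ∈ FF, MulAut.conj x • D' = D' ∨ D' ≠ D) ∧ MulAut.conj x • D = D ∧ x • u = v ∧
      (∀ c ∈ C D, x • c = c) ∧ (∀ m, m ∈ L D ↔ x • m ∈ L D) ∧ ∀ m, m ∈ N D ↔ x • m ∈ N D := by
  obtain ⟨x, h1, h3, h5, h6, h7, h8⟩ := (F.gb D hD).nb.tor h2 hf (F.four D hD) hu hu0 hv hv0
  refine ⟨x, ncl_le_EB hD h6, fun D' _ => ?_, h1, h3, h5, h7, h8⟩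
  by_cases h : D' = D
  · subst h; exact Or.inl h1
  · exact Or.inr h

/-- **`EB` is transitive on the elements of `⨆ L` with full support** (modulo nothing); the element centralises
`⨅ C` and normalises every `L D`. -/
theorem full {t t' : Subgroup X → V} (ht : ∀ D, t D ∈ L D) (ht' : ∀ D, t' D ∈ L D) (h0 : ∀ D ∈ FF, t D ≠ 0)
    (h0' : ∀ D ∈ FF, t' D ≠ 0) :
    ∃ x ∈ EB FF, (∀ D ∈ FF, x • t D = t' D) ∧
      x • (∑ D ∈ (Set.toFinite FF).toFinset, t D) = ∑ D ∈ (Set.toFinite FF).toFinset, t' D := by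
  classical
  have key : ∀ s : Finset (Subgroup X), (∀ D ∈ s, D ∈ FF) →
      ∃ x ∈ EB FF, (∀ D ∈ s, x • t D = t' D) ∧ ∀ D ∈ FF, D ∉ s → ∀ m ∈ N D, x • m = m := by
    intro s
    induction s using Finset.induction_on with
    | empty => exact fun _ => ⟨1, one_mem _, by simp, fun D _ _ m _ => one_smul _ _⟩
    | insert D s hD ih =>
      intro hs
      obtain ⟨x, hx, h1, h3⟩ := ih fun D' hD' => hs D' (Finset.mem_insert_of_mem hD')
      have hDF := hs D (Finset.mem_insert_self _ _)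
      obtain ⟨y, hy, -, -, h5, h6, -⟩ := F.tor h2 hf hDF (ht D) (h0 D hDF) (ht' D) (h0' D hDF)
      have hyN : ∀ D' ∈ FF, D' ≠ D → ∀ m ∈ N D', y • m = m := fun D' hD' hne m hm =>
        h6 m (F.ind D hDF D' hD' hne hm)
      refine ⟨y * x, mul_mem hy hx, fun D' hD' => ?_, fun D' hD' hns m hm => ?_⟩
      · rw [mul_smul]
        rcases Finset.mem_insert.1 hD' with rfl | hD's
        · rw [h3 D' hDF hD _ (F.LN hDF (ht D'))]
          exact h5
        · have hne : D' ≠ D := by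
            rintro rfl
            exact hD hD's
          rw [h1 D' hD's]
          exact hyN D' (hs D' hD') hne _ (F.LN (hs D' hD') (ht' D'))
      · have hne : D' ≠ D := by
          rintro rfl
          exact hns (Finset.mem_insert_self _ _)
        rw [mul_smul, h3 D' hD' (fun h => hns (Finset.mem_insert_of_mem h)) m hm]
        exact hyN D' hD' hne m hm
  obtain ⟨x, hx, h1, -⟩ := key (Set.toFinite FF).toFinset fun D hD => (Set.toFinite FF).mem_toFinset.1 hD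
  refine ⟨x, hx, fun D hD => h1 D ((Set.toFinite FF).mem_toFinset.2 hD), ?_⟩
  rw [Finset.smul_sum]
  exact Finset.sum_congr rfl fun D hD => h1 D hD

/-- every member of `EE` centralises `⨆ Z` -/
theorem EE_Z {A : Subgroup X} (hA : A ∈ EE) : (⨆ D ∈ FF, Z D) ≤ (fxd A : AddSubgroup V) := by
  refine iSup₂_le fun D hD => ?_
  by_cases h : A = D
  · subst h
    rw [F.fx h2 hf hD]
    exact (F.ZC h2 hf hD).trans le_sup_right
  · intro m hm
    rw [mem_fxd]
    exact fun a ha => (F.gb D hD).oth A hA h a ha m (F.ZN h2 hf hD hm)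

/-- the normal closure of `EE` centralises `⨆ Z` -/
theorem ncl_Z : (⨆ D ∈ FF, Z D) ≤ (fxd (Subgroup.normalClosure ((⨆ A ∈ EE, A : Subgroup X) : Set X)) :
    AddSubgroup V) := by
  intro m hm
  rw [mem_fxd]
  let T : Subgroup X := {
    carrier := {x | ∀ c ∈ (⨆ D ∈ FF, Z D), x • c = c}
    mul_mem' := fun {a b} ha hb c hc => by rw [mul_smul, hb c hc, ha c hc]
    one_mem' := fun c _ => one_smul _ _
    inv_mem' := fun {a} ha c hc => by rw [inv_smul_eq_iff, ha c hc] }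
  have hle : (⨆ A ∈ EE, A : Subgroup X) ≤ T := iSup₂_le fun A hA a ha c hc =>
    mem_fxd.1 (F.EE_Z h2 hf hA hc) a ha
  have h1 : Subgroup.normalClosure ((⨆ A ∈ EE, A : Subgroup X) : Set X) ≤ T := by
    rw [Subgroup.normalClosure, Subgroup.closure_le]
    intro x hx
    obtain ⟨y, hy, hyx⟩ := Group.mem_conjugatesOfSet_iff.1 hx
    obtain ⟨g, hg⟩ := isConj_iff.1 hyx
    intro c hc
    have h3 := hle hy (g⁻¹ • c) (F.inv_Z g⁻¹ hc)
    rw [← hg, mul_smul, mul_smul, h3, smul_inv_smul]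
  exact fun k hk => h1 hk m hm

/-- a nonzero radical: `S` fixes a nonzero vector of `⨆ Z` -/
theorem exists_z {D : Subgroup X} (hD : D ∈ FF) (hZ : Z D ≠ ⊥) (hS : IsPGroup 2 S) :
    ∃ z ∈ (⨆ D ∈ FF, Z D), z ≠ 0 ∧ ∀ s ∈ S, s • z = z := by
  have hf2 : Fact (Nat.Prime 2) := ⟨Nat.prime_two⟩
  set T : AddSubgroup V := ⨆ D ∈ FF, Z D with hT
  let _ : MulAction S T :=
    { smul := fun s t => ⟨(s : X) • (t : V), F.inv_Z s t.2⟩
      one_smul := fun t => Subtype.ext (one_smul _ _)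
      mul_smul := fun a b t => Subtype.ext (mul_smul (a : X) (b : X) (t : V)) }
  have hT0 : T ≠ ⊥ := fun h0 => hZ (le_bot_iff.1 ((le_iSup₂ (f := fun D (_ : D ∈ FF) => Z D) D hD).trans h0.le))
  have hcard : 2 ∣ Nat.card T := by
    obtain ⟨t, ht, ht0⟩ := (AddSubgroup.bot_or_exists_ne_zero T).resolve_left hT0
    have h1 : addOrderOf (⟨t, ht⟩ : T) = 2 := by
      refine addOrderOf_eq_prime ?_ fun h0 => ht0 (congrArg Subtype.val h0)
      rw [two_nsmul]
      exact Subtype.ext (h2 t)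
    rw [← h1]
    exact addOrderOf_dvd_natCard _
  have h0 : (0 : T) ∈ MulAction.fixedPoints S T := fun s => Subtype.ext (smul_zero (s : X))
  obtain ⟨z, hz, hz0⟩ := hS.exists_fixed_point_of_prime_dvd_card_of_fixed_point T hcard h0
  exact ⟨z, z.2, fun h => hz0 (Subtype.ext h.symm), fun s hs => congrArg Subtype.val (hz ⟨s, hs⟩)⟩

end eb

end FamN

end Cfsg.Agent.Omega.NOThreeL.RRed.Blk.AsmN

end

section


/-!
# NO-3L, box R, nonsplit blocks (#26560): the bridge `Bk`/`BkD` and (N0)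

* `toD` : a split block is a block with `d = 0`; `BkD.toBk` : the converse;
* **`BkD.n0`** : a 2-element `s` which is trivial on `l = e(F)`, normalises `C` and the root group centralises `D = d(F)`;
* `BkD.n0'` : then `s` centralises the root group.
-/

set_option autoImplicit false
set_option linter.unusedSectionVars false

namespace Cfsg.Agent.Omega.NOThreeL.RRed.Blk.GamD

open Cfsg.Agent.Omega.NOThreeL.RRed.NS (fxd mem_fxd)
open Cfsg.Agent.Omega.NOThreeL.RRed.Blk.TypesGam (NO rt up_mem Bk)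

universe u v w w'

variable {X : Type u} {V : Type v} [Group X] [AddCommGroup V] [DistribMulAction X V]
variable {F : Type w} [Field F] {e f d : F →+ V} {C : AddSubgroup V} {up lo : F → X}

/-- a split block is a block with the radical `0` -/
theorem toD (h : Bk e f C up lo) : BkD e f 0 C up lo where
  dec := h.dec
  ind := h.ind
  dC := fun _ => C.zero_mem
  up_e := h.up_e
  up_f := fun t x => by rw [h.up_f, AddMonoidHom.zero_apply, add_zero]
  up_c := h.up_c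
  lo_e := fun t x => by rw [h.lo_e, AddMonoidHom.zero_apply, add_zero]
  lo_f := h.lo_f
  lo_c := h.lo_c

/-- the converse -/
theorem BkD.toBk (h : BkD e f d C up lo) (hd : ∀ x, d x = 0) : Bk e f C up lo where
  dec := h.dec
  ind := h.ind
  up_e := h.up_e
  up_f := fun t x => by rw [h.up_f, hd, add_zero]
  up_c := h.up_c
  lo_e := fun t x => by rw [h.lo_e, hd, add_zero]
  lo_f := h.lo_f
  lo_c := h.lo_c

section nzero

variable (h : BkD e f d C up lo) (h2 : ∀ v : V, v + v = 0) (hf : ∀ x : X, (∀ v : V, x • v = v) → x = 1)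
include h h2 hf

/-- the comparison of `s` with the root group -/
theorem BkD.exists_a {s : X} (se : ∀ z, s • e z = e z) (sd : ∀ x, s • d x ∈ C)
    (sA : ∀ t, s * up t * s⁻¹ ∈ rt up) :
    ∃ a : F, a ≠ 0 ∧ (∀ t, s * up t * s⁻¹ = up (a * t)) ∧ ∀ x, s • d x = d (a⁻¹ * x) := by
  have h1 : ∀ t, ∃ t', up t' = s * up t * s⁻¹ := fun t => (h.mem_rt h2 hf).1 (sA t)
  choose τ hτ using h1
  have h3 : ∀ z, ∃ y x, ∃ c ∈ C, s • f z = e x + f y + c := fun z => by
    obtain ⟨x, y, c, hc, e1⟩ := h.dec (s • f z)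
    exact ⟨y, x, c, hc, e1⟩
  choose ψ px pc hpc hψ using h3
  have key : ∀ t z, t * z = τ t * ψ z ∧ s • d (t * z ^ 2) = d (τ t * ψ z ^ 2) := by
    intro t z
    have e1 : up (τ t) • (s • f z) = s • (up t • f z) := by
      rw [hτ, mul_smul, mul_smul, inv_smul_smul]
    rw [h.up_f, smul_add, smul_add, se] at e1
    have e2 : up (τ t) • (s • f z) = s • f z + (e (τ t * ψ z) + d (τ t * ψ z ^ 2)) := by
      rw [hψ z, smul_add, smul_add, h.up_e, h.up_f, h.up_c _ _ (hpc z)]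
      abel
    rw [e2, add_assoc] at e1
    have e3 := add_left_cancel e1
    have e4 : e (τ t * ψ z) + f 0 + d (τ t * ψ z ^ 2) = e (t * z) + f 0 + s • d (t * z ^ 2) := by
      rw [map_zero, add_zero, add_zero, e3]
    obtain ⟨e5, -, e6⟩ := h.uniq (h.dC _) (sd _) e4
    exact ⟨e5.symm, e6.symm⟩
  have h4 : (1 : F) = τ 1 * ψ 1 := by
    have := (key 1 1).1
    rwa [one_mul] at this
  have ha : τ 1 ≠ 0 := by
    intro h0
    rw [h0, zero_mul] at h4
    exact one_ne_zero h4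
  have hψ1 : ψ 1 = (τ 1)⁻¹ := by
    apply mul_left_cancel₀ ha
    rw [mul_inv_cancel₀ ha, ← h4]
  have hψz : ∀ z, ψ z = (τ 1)⁻¹ * z := by
    intro z
    have := (key 1 z).1
    rw [one_mul] at this
    conv_rhs => rw [this]
    rw [inv_mul_cancel_left₀ ha]
  have hτt : ∀ t, τ t = τ 1 * t := by
    intro t
    have := (key t 1).1
    rw [mul_one, hψ1] at this
    calc τ t = τ t * (τ 1)⁻¹ * τ 1 := by rw [inv_mul_cancel_right₀ ha]
      _ = t * τ 1 := by rw [← this]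
      _ = τ 1 * t := mul_comm _ _
  refine ⟨τ 1, ha, fun t => ?_, fun x => ?_⟩
  · rw [← hτ, hτt t]
  · have e1 := (key x 1).2
    rw [one_pow, mul_one, hτt x, hψ1] at e1
    rw [e1]
    congr 1
    field_simp

/-- **(N0).** A 2-element which is trivial on `l`, maps `D` into `C` and normalises the root group, centralises `D` and
the root group. -/
theorem BkD.n0_aux {s : X} {n : ℕ} (hs : s ^ (2 ^ n) = 1) (se : ∀ z, s • e z = e z) (sd : ∀ x, s • d x ∈ C)
    (sA : ∀ t, s * up t * s⁻¹ ∈ rt up) : (∀ z, s • d z = d z) ∧ ∀ t, s * up t * s⁻¹ = up t := by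
  obtain ⟨a, ha, h1, h3⟩ := h.exists_a h2 hf se sd sA
  have h4 : ∀ (m : ℕ) t, s ^ m * up t * (s ^ m)⁻¹ = up (a ^ m * t) := by
    intro m
    induction m with
    | zero => intro t; rw [pow_zero, pow_zero, one_mul, one_mul, inv_one, mul_one]
    | succ m ih =>
      intro t
      have e1 : s ^ (m + 1) * up t * (s ^ (m + 1))⁻¹ = s * (s ^ m * up t * (s ^ m)⁻¹) * s⁻¹ := by
        rw [pow_succ']; group
      rw [e1, ih, h1, pow_succ', mul_assoc]
  have h5 : a ^ (2 ^ n) = 1 := by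
    have e1 := h4 (2 ^ n) 1
    rw [hs, inv_one, mul_one, one_mul, mul_one] at e1
    exact (h.up_inj e1).symm
  have hF := h.two h2
  have h6 : ∀ (m : ℕ) (x : F), (x + 1) ^ (2 ^ m) = x ^ (2 ^ m) + 1 := by
    intro m
    induction m with
    | zero => intro x; rw [pow_zero, pow_one, pow_one]
    | succ m ih =>
      intro x
      rw [pow_succ, pow_mul, ih, h.sq h2, one_pow, ← pow_mul]
  have h7 : a = 1 := by
    have e1 := h6 n a
    rw [h5, hF] at e1
    have e2 := pow_eq_zero_iff (pow_ne_zero n two_ne_zero) |>.1 e1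
    rw [add_eq_zero_iff_eq_neg.1 e2, neg_eq_iff_add_eq_zero]
    exact hF 1
  refine ⟨fun z => ?_, fun t => ?_⟩
  · rw [h3, h7, inv_one, one_mul]
  · rw [h1, h7, one_mul]

/-- **(N0)** for a root group `D` given as a subgroup -/
theorem BkD.n0 {s : X} {n : ℕ} (hs : s ^ (2 ^ n) = 1) (se : ∀ z ∈ e.range, s • z = z) (sC : ∀ c ∈ C, s • c ∈ C)
    (sA : s ∈ Subgroup.normalizer (rt up : Set X)) : ∀ z ∈ d.range, s • z = z := by
  rintro _ ⟨z, rfl⟩
  refine (h.n0_aux h2 hf hs (fun z => se _ ⟨z, rfl⟩) (fun x => sC _ (h.dC x)) fun t => ?_).1 z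
  exact (Subgroup.mem_normalizer_iff.1 sA _).1 (up_mem t)

end nzero

end Cfsg.Agent.Omega.NOThreeL.RRed.Blk.GamD

end

section


/-!
# NO-3L, box R, nonsplit blocks (#26560), module level: uniqueness and (N0) over `NBd`

* **`NBd.eq`** : two natural blocks (split or not) with the same root group `D`, `|D| ≥ 4`, and the same radical `Z`
  have the same `N`, `C`, `L`;
* **`NBd.n0`** : a 2-element which centralises `L` and normalises `C` and `D` centralises `Z`;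
* `NBd.two_mem`, `NBd.card`.
-/

set_option autoImplicit false
set_option linter.unusedSectionVars false

namespace Cfsg.Agent.Omega.NOThreeL.RRed.Blk.AsmN

open Cfsg.Agent.Omega.NOThreeL.RRed.Blk.TypesGam (rt up_mem NO Bk)
open Cfsg.Agent.Omega.NOThreeL.RRed.Blk.GamD (BkD)

universe u v

variable {X : Type u} {V : Type v} [Group X] [AddCommGroup V] [DistribMulAction X V]
variable {D : Subgroup X} {N C L Z N' C' L' : AddSubgroup V}

/-- **Uniqueness**: `N`, `C`, `L` depend only on the root group and the radical. -/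
theorem NBd.eq_of [Finite V] [Finite X] (h2 : ∀ v : V, v + v = 0) (hf : ∀ x : X, (∀ v : V, x • v = v) → x = 1)
    (hno : NO X V) (h4 : 4 ≤ Nat.card D) (h : NBd D N C L Z) (h' : NBd D N' C' L' Z) :
    N = N' ∧ C = C' ∧ L = L' := by
  obtain ⟨F, _, _, e, f, d, up, lo, b, rfl, rfl, rfl, rfl⟩ := h.ex
  obtain ⟨F', _, _, e', f', d', up', lo', b', hrt, rfl, rfl, hdd⟩ := h'.ex
  rw [b.card_rt h2 hf] at h4
  have hd' : ∀ x, d' x ∈ C := fun x => by
    have : d' x ∈ d.range := hdd ▸ ⟨x, rfl⟩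
    obtain ⟨y, hy⟩ := this
    rw [← hy]
    exact b.dC y
  have hd1 : ∀ x, d x ∈ C' := fun x => by
    have : d x ∈ d'.range := hdd ▸ ⟨x, rfl⟩
    obtain ⟨y, hy⟩ := this
    rw [← hy]
    exact b'.dC y
  by_cases hd : ∃ x, d x ≠ 0
  · obtain ⟨e1, e3, -, e5⟩ := b.eq b' h2 hf hno hd (by omega) hrt.symm hd' hd1
    exact ⟨e5, e1, e3⟩
  · push Not at hd
    have hd0 : d.range = ⊥ := by
      rw [eq_bot_iff]
      rintro _ ⟨x, rfl⟩
      exact AddSubgroup.mem_bot.2 (hd x)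
    have hd0' : ∀ x, d' x = 0 := fun x => by
      have : d' x ∈ d.range := hdd ▸ ⟨x, rfl⟩
      rw [hd0] at this
      exact AddSubgroup.mem_bot.1 this
    obtain ⟨e1, e3, e5⟩ := (b.toBk hd).eq (b'.toBk hd0') h2 hf hno h4 hrt.symm
    refine ⟨?_, e1, e3⟩
    rw [hdd, e5]

/-- **(N0)** -/
theorem NBd.n0 (h2 : ∀ v : V, v + v = 0) (hf : ∀ x : X, (∀ v : V, x • v = v) → x = 1) (h : NBd D N C L Z) {s : X}
    {n : ℕ} (hs : s ^ (2 ^ n) = 1) (sL : ∀ z ∈ L, s • z = z) (sC : ∀ c ∈ C, s • c ∈ C)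
    (sD : s ∈ Subgroup.normalizer (D : Set X)) : ∀ z ∈ Z, s • z = z := by
  obtain ⟨F, _, _, e, f, d, up, lo, b, rfl, rfl, rfl, rfl⟩ := h.ex
  exact b.n0 h2 hf hs sL sC sD

/-- the order of the root group is the order of `L` -/
theorem NBd.card_L (h2 : ∀ v : V, v + v = 0) (hf : ∀ x : X, (∀ v : V, x • v = v) → x = 1) (h : NBd D N C L Z) :
    Nat.card L = Nat.card D := by
  obtain ⟨F, _, _, e, f, d, up, lo, b, rfl, rfl, rfl, rfl⟩ := h.ex
  rw [b.card_rt h2 hf]
  refine (Nat.card_congr (Equiv.ofBijective (fun x : F => (⟨e x, ⟨x, rfl⟩⟩ : e.range)) ⟨?_, ?_⟩)).symm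
  · intro x y hxy
    have e1 : e x = e y := congrArg Subtype.val hxy
    have e2 : e x + f 0 + 0 = e y + f 0 + 0 := by rw [e1]
    exact (b.uniq C.zero_mem C.zero_mem e2).1
  · rintro ⟨_, ⟨x, rfl⟩⟩
    exact ⟨x, rfl⟩

end Cfsg.Agent.Omega.NOThreeL.RRed.Blk.AsmN

end

section


/-!
# NO-3L, box R: a family of natural blocks with radicals (#26560), consequences (module level, helper842)

`X` is finite and acts faithfully on the elementary abelian 2-group `V` (additive), `T ∈ Syl₂(X)`.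

* `nb_*` : one block;
* `FX T FF N C L Z` : a family of blocks, permuted by `X`, indexed by its root groups `D ≤ T`; `FF` is closed under
  conjugation in `T` (`wc`), lines go to lines (`lin`);
* `EO FF` : the normal closure of the root groups: fixes all blocks, centralises the radicals;
* `FX.conjN`, `FX.same`;
* **`FX.sec`** : `x v - w ∈ C₂`, `v ∈ L₁`, `w ∈ L₂`, `x N₁ = N₂` : `x v = w`;
* **`FX.alt`** : `s ∈ T` trivial on all lines is trivial on all radicals;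
* **`FX.sep`**, **`FX.tr`**, **`FX.gen`**.
-/

set_option autoImplicit false
set_option linter.unusedSectionVars false

namespace Cfsg.Agent.Omega.NOThreeL.RRed.Blk.FamX

open Subgroup
open Cfsg.Agent.Omega.NOThreeL.RRed.Blk.TypesGam (rt up_mem hh wt)
open Cfsg.Agent.Omega.NOThreeL.RRed.Blk.Types (mem_cj card_cj)
open Cfsg.Agent.Omega.NOThreeL.RRed.Blk.GamD
open Cfsg.Agent.Omega.NOThreeL.RRed.Blk.AsmN (NBd)
open scoped Pointwise

universe u v w

variable {X : Type u} {V : Type v} [Group X] [AddCommGroup V] [DistribMulAction X V]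

/-! ### One block -/

section one

variable {D : Subgroup X} {N C L Z : AddSubgroup V} (h : NBd D N C L Z)
include h

theorem nb_ZC : Z ≤ C := by
  obtain ⟨F, _, _, e, f, d, up, lo, hb, rfl, rfl, rfl, rfl⟩ := h.ex
  rintro _ ⟨x, rfl⟩
  exact hb.dC x

theorem nb_ZN : Z ≤ N := by
  obtain ⟨F, _, _, e, f, d, up, lo, hb, rfl, rfl, rfl, rfl⟩ := h.ex
  exact le_sup_right

theorem nb_LN : L ≤ N := by
  obtain ⟨F, _, _, e, f, d, up, lo, hb, rfl, rfl, rfl, rfl⟩ := h.ex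
  exact le_sup_left.trans le_sup_left

theorem nb_LC {v : V} (hL : v ∈ L) (hC : v ∈ C) : v = 0 := by
  obtain ⟨F, _, _, e, f, d, up, lo, hb, rfl, rfl, rfl, rfl⟩ := h.ex
  obtain ⟨x, rfl⟩ := hL
  have h1 := (hb.ind x 0 (by rwa [map_zero, add_zero])).1
  rw [h1, map_zero]

theorem nb_NC {v : V} (hN : v ∈ N) (hC : v ∈ C) : v ∈ Z := by
  obtain ⟨F, _, _, e, f, d, up, lo, hb, rfl, rfl, rfl, rfl⟩ := h.ex
  obtain ⟨_, h1, _, ⟨z, rfl⟩, rfl⟩ := AddSubgroup.mem_sup.1 hN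
  obtain ⟨_, ⟨x, rfl⟩, _, ⟨y, rfl⟩, rfl⟩ := AddSubgroup.mem_sup.1 h1
  have h3 : e x + f y ∈ C := by
    have h5 := sub_mem hC (hb.dC z)
    rwa [add_sub_cancel_right] at h5
  obtain ⟨rfl, rfl⟩ := hb.ind x y h3
  rw [map_zero, map_zero, zero_add, zero_add]
  exact ⟨z, rfl⟩

/-- `V = N + C` -/
theorem nb_top (v : V) : ∃ n ∈ N, ∃ c ∈ C, v = n + c := by
  obtain ⟨F, _, _, e, f, d, up, lo, hb, rfl, rfl, rfl, rfl⟩ := h.ex
  obtain ⟨x, y, c, hc, rfl⟩ := hb.dec v
  exact ⟨e x + f y, AddSubgroup.mem_sup_left (add_mem (AddSubgroup.mem_sup_left ⟨x, rfl⟩) (AddSubgroup.mem_sup_right ⟨y, rfl⟩)),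
    c, hc, rfl⟩

variable (h2 : ∀ v : V, v + v = 0) (hf : ∀ x : X, (∀ v : V, x • v = v) → x = 1)
include h2 hf

theorem nb_C {a : X} (ha : a ∈ D) {c : V} (hc : c ∈ C) : a • c = c := by
  obtain ⟨F, _, _, e, f, d, up, lo, hb, rfl, rfl, rfl, rfl⟩ := h.ex
  obtain ⟨t, rfl⟩ := (hb.mem_rt h2 hf).1 ha
  exact hb.up_c t c hc

theorem nb_L {a : X} (ha : a ∈ D) {v : V} (hv : v ∈ L) : a • v = v := by
  obtain ⟨F, _, _, e, f, d, up, lo, hb, rfl, rfl, rfl, rfl⟩ := h.ex
  obtain ⟨t, rfl⟩ := (hb.mem_rt h2 hf).1 ha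
  obtain ⟨x, rfl⟩ := hv
  exact hb.up_e t x

theorem nb_Z {a : X} (ha : a ∈ D) {v : V} (hv : v ∈ Z) : a • v = v := nb_C h h2 hf ha (nb_ZC h hv)

theorem nb_brk {a : X} (ha : a ∈ D) (v : V) : a • v - v ∈ N := by
  obtain ⟨F, _, _, e, f, d, up, lo, hb, rfl, rfl, rfl, rfl⟩ := h.ex
  obtain ⟨t, rfl⟩ := (hb.mem_rt h2 hf).1 ha
  obtain ⟨x, y, c, hc, rfl⟩ := hb.dec v
  rw [smul_add, smul_add, hb.up_e, hb.up_f, hb.up_c t c hc]
  have e1 : e x + (f y + e (t * y) + d (t * y ^ 2)) + c - (e x + f y + c) = e (t * y) + d (t * y ^ 2) := by abel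
  rw [e1]
  exact add_mem (AddSubgroup.mem_sup_left (AddSubgroup.mem_sup_left ⟨_, rfl⟩)) (AddSubgroup.mem_sup_right ⟨_, rfl⟩)

/-- `D` moves `N` modulo `C` -/
theorem nb_mv : ∃ a ∈ D, ∃ n ∈ N, a • n - n ∉ C := by
  obtain ⟨F, _, _, e, f, d, up, lo, hb, rfl, rfl, rfl, rfl⟩ := h.ex
  refine ⟨up 1, up_mem _, f 1, AddSubgroup.mem_sup_left (AddSubgroup.mem_sup_right ⟨1, rfl⟩), fun h1 => ?_⟩
  rw [hb.up_f, mul_one, one_pow, mul_one] at h1
  have h3 : e 1 + f 0 ∈ C := by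
    have h5 := sub_mem h1 (hb.dC 1)
    have e1 : f 1 + e 1 + d 1 - f 1 - d 1 = e 1 + f 0 := by rw [map_zero]; abel
    rwa [e1] at h5
  exact one_ne_zero (hb.ind 1 0 h3).1

/-- the elements of the normal closure of `D` which we need -/
theorem nb_lo {F : Type} [Field F] {e f d : F →+ V} {up lo : F → X} (hb : BkD e f d C up lo) (t : F) :
    lo t = wt up lo 1 * up t * (wt up lo 1)⁻¹ := by
  have hw : ∀ {v w : V}, wt up lo 1 • v = w → (wt up lo 1)⁻¹ • w = v := fun e1 => by rw [← e1, inv_smul_smul]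
  refine hb.ext hf (fun z => ?_) (fun z => ?_) fun c hc => ?_
  · have e1 : wt up lo 1 • f z = e z := by rw [hb.wt_f h2 one_ne_zero, one_mul]
    rw [mul_smul, mul_smul, hw e1, hb.up_f, smul_add, smul_add, e1, hb.wt_e h2 one_ne_zero, inv_one, one_mul,
      hb.wt_c _ (hb.dC _), hb.lo_e]
  · have e1 : wt up lo 1 • e z = f z := by rw [hb.wt_e h2 one_ne_zero, inv_one, one_mul]
    rw [mul_smul, mul_smul, hw e1, hb.up_e, e1, hb.lo_f]
  · have e1 : wt up lo 1 • c = c := hb.wt_c _ hc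
    rw [mul_smul, mul_smul, hw e1, hb.up_c _ c hc, e1, hb.lo_c _ c hc]

/-- a torus element of the normal closure which moves `v ∈ L` to `w ∈ L` -/
theorem nb_tor {E : Subgroup X} (hE : ∀ x : X, ∀ a ∈ D, x * a * x⁻¹ ∈ E) {v w : V} (hv : v ∈ L) (hw : w ∈ L) (v0 : v ≠ 0)
    (w0 : w ≠ 0) : ∃ g ∈ E, g • v = w ∧ ∀ c ∈ C, g • c = c := by
  obtain ⟨F, _, _, e, f, d, up, lo, hb, rfl, rfl, rfl, rfl⟩ := h.ex
  obtain ⟨x, rfl⟩ := hv
  obtain ⟨y, rfl⟩ := hw
  have hx : x ≠ 0 := fun e1 => v0 (by rw [e1, map_zero])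
  have hy : y ≠ 0 := fun e1 => w0 (by rw [e1, map_zero])
  have hup : ∀ t, up t ∈ E := fun t => by
    have := hE 1 _ (up_mem (up := up) t)
    simpa using this
  have hlo : ∀ t, lo t ∈ E := fun t => by
    rw [nb_lo h h2 hf hb t]
    exact hE _ _ (up_mem t)
  have hwt : ∀ t, wt up lo t ∈ E := fun t => by
    rw [wt]
    exact mul_mem (mul_mem (hup _) (hlo _)) (hup _)
  refine ⟨hh up lo (y * x⁻¹), ?_, ?_, fun c hc => hb.hh_c _ hc⟩
  · rw [hh]
    exact mul_mem (hwt _) (hwt _)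
  · rw [hb.hh_e h2 (mul_ne_zero hy (inv_ne_zero hx)), mul_assoc, inv_mul_cancel₀ hx, mul_one]

/-- `N` is generated by the `[v, g]` -/
theorem nb_gen (h4 : 4 ≤ Nat.card D) {E : Subgroup X} (hE : ∀ x : X, ∀ a ∈ D, x * a * x⁻¹ ∈ E) {W : AddSubgroup V}
    (hW : ∀ g ∈ E, ∀ m ∈ W, g • m ∈ W) {v : V} (hv : v ∈ L) (v0 : v ≠ 0) (hvW : ∀ g ∈ E, g • v - v ∈ W) : N ≤ W := by
  obtain ⟨F, _, _, e, f, d, up, lo, hb, hD, rfl, rfl, rfl⟩ := h.ex
  obtain ⟨x, rfl⟩ := hv
  have hx : x ≠ 0 := fun e1 => v0 (by rw [e1, map_zero])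
  have hcard : 4 ≤ Nat.card F := by rw [← hb.card_rt h2 hf, hD]; exact h4
  obtain ⟨c₀, hc0, hc1⟩ : ∃ c₀ : F, c₀ ≠ 0 ∧ c₀ ≠ 1 := by
    classical
    by_contra hcon
    push Not at hcon
    have h5 : Nat.card F ≤ 2 := by
      have : Fintype F := Fintype.ofFinite F
      rw [Nat.card_eq_fintype_card, ← Finset.card_univ]
      refine (Finset.card_le_card (t := {0, 1}) fun y _ => ?_).trans Finset.card_le_two
      rw [Finset.mem_insert, Finset.mem_singleton]
      by_cases hy : y = 0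
      · exact Or.inl hy
      · exact Or.inr (hcon y hy)
    omega
  subst hD
  have hup : ∀ t, up t ∈ E := fun t => by
    have := hE 1 _ (up_mem (up := up) t)
    simpa using this
  have hlo : ∀ t, lo t ∈ E := fun t => by
    rw [nb_lo h h2 hf hb t]
    exact hE _ _ (up_mem t)
  -- `f s + d (s x) ∈ W`
  have k1 : ∀ s : F, f s + d (s * x) ∈ W := fun s => by
    have h5 := hvW _ (hlo (s * x⁻¹))
    rw [hb.lo_e] at h5
    have e1 : e x + f (s * x⁻¹ * x) + d (s * x⁻¹ * x ^ 2) - e x = f (s * x⁻¹ * x) + d (s * x⁻¹ * x ^ 2) := by abel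
    have e3 : s * x⁻¹ * x = s := by rw [mul_assoc, inv_mul_cancel₀ hx, mul_one]
    have e5 : s * x⁻¹ * x ^ 2 = s * x := by rw [pow_two, ← mul_assoc, e3]
    rwa [e1, e3, e5] at h5
  -- `e r + d (r s) ∈ W` for `s ≠ 0`
  have k3 : ∀ r s : F, s ≠ 0 → e r + d (r * s) ∈ W := fun r s hs => by
    have h5 := sub_mem (hW _ (hup (r * s⁻¹)) _ (k1 s)) (k1 s)
    rw [smul_add, hb.up_f, hb.up_c _ _ (hb.dC _)] at h5
    have e1 : f s + e (r * s⁻¹ * s) + d (r * s⁻¹ * s ^ 2) + d (s * x) - (f s + d (s * x)) =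
        e (r * s⁻¹ * s) + d (r * s⁻¹ * s ^ 2) := by abel
    have e3 : r * s⁻¹ * s = r := by rw [mul_assoc, inv_mul_cancel₀ hs, mul_one]
    have e5 : r * s⁻¹ * s ^ 2 = r * s := by rw [pow_two, ← mul_assoc, e3]
    rwa [e1, e3, e5] at h5
  have k5 : ∀ r : F, d r ∈ W := fun r => by
    have hne : c₀ - 1 ≠ 0 := sub_ne_zero.2 hc1
    have h5 := sub_mem (k3 (r * (c₀ - 1)⁻¹) c₀ hc0) (k3 (r * (c₀ - 1)⁻¹) 1 one_ne_zero)
    have e1 : e (r * (c₀ - 1)⁻¹) + d (r * (c₀ - 1)⁻¹ * c₀) - (e (r * (c₀ - 1)⁻¹) + d (r * (c₀ - 1)⁻¹ * 1))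
        = d (r * (c₀ - 1)⁻¹ * c₀) - d (r * (c₀ - 1)⁻¹ * 1) := by abel
    rw [e1, ← map_sub, ← mul_sub, mul_assoc, inv_mul_cancel₀ hne, mul_one] at h5
    exact h5
  refine sup_le (sup_le ?_ ?_) ?_
  · rintro _ ⟨r, rfl⟩
    have h5 := sub_mem (k3 r 1 one_ne_zero) (k5 (r * 1))
    rwa [add_sub_cancel_right] at h5
  · rintro _ ⟨s, rfl⟩
    have h5 := sub_mem (k1 s) (k5 (s * x))
    rwa [add_sub_cancel_right] at h5
  · rintro _ ⟨r, rfl⟩
    exact k5 r

/-- **(N0)** : `s` normalises `D`, `C`, is trivial on `L` and has 2-power order: it is trivial on `Z`. -/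
theorem nb_alt {s : X} (hs : MulAut.conj s • D = D) (hC : ∀ c ∈ C, s • c ∈ C) (hN : ∀ n ∈ N, s • n ∈ N)
    (hL : ∀ v ∈ L, s • v = v) (h2s : ∃ n, s ^ 2 ^ n = 1) : ∀ z ∈ Z, s • z = z := by
  obtain ⟨F, _, _, e, f, d, up, lo, hb, rfl, rfl, rfl, rfl⟩ := h.ex
  obtain ⟨n, hn⟩ := h2s
  have hse : ∀ x, s • e x = e x := fun x => hL _ ⟨x, rfl⟩
  -- `s f x = f (ψ x) + e (γ x) + c`
  have hsf : ∀ x, ∃ y a, ∃ c ∈ C, s • f x = e a + f y + c := fun x => by
    obtain ⟨a, y, c, hc, e1⟩ := hb.dec (s • f x)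
    exact ⟨y, a, c, hc, e1⟩
  -- `s up t s⁻¹ = up t'`
  have hsu : ∀ t, ∃ t', s * up t = up t' * s := fun t => by
    have h1 : s * up t * s⁻¹ ∈ rt up := by
      rw [← hs, mem_cj]
      have e1 : s⁻¹ * (s * up t * s⁻¹) * s = up t := by group
      rw [e1]
      exact up_mem t
    obtain ⟨t', ht'⟩ := (hb.mem_rt h2 hf).1 h1
    exact ⟨t', by rw [ht']; group⟩
  have key : ∀ t x t' y a, ∀ c ∈ C, s * up t = up t' * s → s • f x = e a + f y + c →
      t' * y = t * x ∧ s • d (t * x ^ 2) = d (t' * y ^ 2) := by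
    intro t x t' y a c hc hu hx
    have h1 : (s * up t) • f x = e (a + t * x) + f y + (s • d (t * x ^ 2) + c) := by
      rw [mul_smul, hb.up_f, smul_add, smul_add, hx, hse, map_add]; abel
    have h3 : (up t' * s) • f x = e (a + t' * y) + f y + (d (t' * y ^ 2) + c) := by
      rw [mul_smul, hx, smul_add, smul_add, hb.up_e, hb.up_f, hb.up_c _ c hc, map_add]; abel
    rw [hu, h3] at h1
    have h5 := hb.uniq (C.add_mem (hb.dC _) hc) (C.add_mem (hC _ (hb.dC _)) hc) h1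
    exact ⟨add_left_cancel h5.1, (add_right_cancel h5.2.2).symm⟩
  choose ψ γ κ hκ hψ using hsf
  choose φ hφ using hsu
  have k1 : ∀ t x, φ t * ψ x = t * x := fun t x => (key t x _ _ _ _ (hκ x) (hφ t) (hψ x)).1
  have k3 : ∀ t x, s • d (t * x ^ 2) = d (φ t * ψ x ^ 2) := fun t x => (key t x _ _ _ _ (hκ x) (hφ t) (hψ x)).2
  have hφ1 : φ 1 ≠ 0 := fun e1 => by
    have := k1 1 1
    rw [e1, zero_mul, one_mul] at this
    exact zero_ne_one this
  have hψx : ∀ x, ψ x = (φ 1)⁻¹ * x := fun x => by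
    have h1 := k1 1 x
    rw [one_mul] at h1
    have h3 : (φ 1)⁻¹ * x = (φ 1)⁻¹ * (φ 1 * ψ x) := by rw [h1]
    rw [h3, inv_mul_cancel_left₀ hφ1]
  -- `s d u = d (c u)`
  have hsd : ∀ u, s • d u = d ((φ 1)⁻¹ * u) := fun u => by
    have h1 := k3 u 1
    rw [one_pow, mul_one] at h1
    rw [h1]
    congr 1
    have h5 := k1 u 1
    rw [mul_one] at h5
    rw [pow_two, ← mul_assoc, h5, hψx, mul_one, mul_comm]
  -- powers
  have hpow : ∀ k : ℕ, ∃ a, ∃ c ∈ C, s ^ k • f 1 = e a + f ((φ 1)⁻¹ ^ k) + c := by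
    intro k
    induction k with
    | zero => exact ⟨0, 0, C.zero_mem, by rw [pow_zero, one_smul, pow_zero, map_zero, zero_add, add_zero]⟩
    | succ k ih =>
      obtain ⟨a, c, hc, h1⟩ := ih
      refine ⟨a + γ ((φ 1)⁻¹ ^ k), κ ((φ 1)⁻¹ ^ k) + s • c, C.add_mem (hκ _) (hC c hc), ?_⟩
      rw [pow_succ', mul_smul, h1, smul_add, smul_add, hse, hψ, hψx, ← pow_succ', map_add]
      abel
  have hc1 : (φ 1)⁻¹ ^ 2 ^ n = 1 := by
    obtain ⟨a, c, hc, h1⟩ := hpow (2 ^ n)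
    rw [hn, one_smul] at h1
    have h3 : e 0 + f 1 + 0 = e a + f ((φ 1)⁻¹ ^ 2 ^ n) + c := by rw [map_zero, zero_add, add_zero]; exact h1
    exact (hb.uniq C.zero_mem hc h3).2.1.symm
  have hc : (φ 1)⁻¹ = 1 := by
    have hch : CharP F 2 := by
      refine CharTwo.of_one_ne_zero_of_two_eq_zero one_ne_zero ?_
      have := hb.two h2 1
      rwa [one_add_one_eq_two] at this
    have : ExpChar F 2 := ExpChar.prime Nat.prime_two
    have h4 : ((φ 1)⁻¹ - 1) ^ 2 ^ n = 0 := by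
      rw [sub_pow_expChar_pow, one_pow, hc1, sub_self]
    exact sub_eq_zero.1 ((pow_eq_zero_iff (by positivity)).1 h4)
  rintro _ ⟨u, rfl⟩
  rw [hsd, hc, one_mul]

end one

/-! ### Sylow -/

/-- Sylow's theorem -/
theorem two_conj [Finite X] {K A B : Subgroup X} (hA : IsPGroup 2 A) (hB : IsPGroup 2 B) (hAK : A ≤ K) (hBK : B ≤ K) :
    ∃ k ∈ K, ∃ R ≤ K, IsPGroup 2 R ∧ A ≤ R ∧ ∀ b ∈ B, k * b * k⁻¹ ∈ R := by
  have hp : Fact (Nat.Prime 2) := ⟨Nat.prime_two⟩
  obtain ⟨R, hR⟩ := (hA.comap_subtype (K := K)).exists_le_sylow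
  obtain ⟨R', hR'⟩ := (hB.comap_subtype (K := K)).exists_le_sylow
  obtain ⟨g, hg⟩ := MulAction.exists_smul_eq K R' R
  refine ⟨g, g.2, (R : Subgroup K).map K.subtype, map_subtype_le _, R.isPGroup'.map _, ?_, fun b hb => ?_⟩
  · intro a ha
    exact ⟨⟨a, hAK ha⟩, hR (mem_subgroupOf.2 ha), rfl⟩
  · have h1 : (⟨b, hBK hb⟩ : K) ∈ R' := hR' (mem_subgroupOf.2 hb)
    have h2 : g * (⟨b, hBK hb⟩ : K) * g⁻¹ ∈ (R : Subgroup K) := by
      rw [← hg]
      exact smul_mem_pointwise_smul _ (MulAut.conj g) _ h1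
    exact ⟨_, h2, rfl⟩

theorem conj_le_syl [Finite X] (T : Sylow 2 X) {R : Subgroup X} (hR : IsPGroup 2 R) : ∃ g : X, ∀ r ∈ R, g * r * g⁻¹ ∈ T := by
  have hp : Fact (Nat.Prime 2) := ⟨Nat.prime_two⟩
  obtain ⟨R', hR'⟩ := hR.exists_le_sylow
  obtain ⟨g, hg⟩ := MulAction.exists_smul_eq X R' T
  refine ⟨g, fun r hr => ?_⟩
  rw [← hg]
  exact smul_mem_pointwise_smul _ (MulAut.conj g) _ (hR' hr)

/-! ### The family -/

/-- **The family of blocks.** -/
structure FX (T : Sylow 2 X) (FF : Set (Subgroup X)) (N C L Z : Subgroup X → AddSubgroup V) : Prop where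
  le : ∀ D ∈ FF, D ≤ T
  nb : ∀ D ∈ FF, NBd D (N D) (C D) (L D) (Z D)
  ind : ∀ D ∈ FF, ∀ D' ∈ FF, D' ≠ D → N D' ≤ C D
  perm : ∀ x : X, ∀ D ∈ FF, ∃ D' ∈ FF, (∀ m, m ∈ N D ↔ x • m ∈ N D') ∧ (∀ m, m ∈ C D ↔ x • m ∈ C D') ∧
    ∀ m, m ∈ Z D ↔ x • m ∈ Z D'
  wc : ∀ D ∈ FF, ∀ x : X, MulAut.conj x • D ≤ (T : Subgroup X) → MulAut.conj x • D ∈ FF
  lin : ∀ D ∈ FF, ∀ x : X, MulAut.conj x • D ∈ FF → ∀ m, m ∈ L D ↔ x • m ∈ L (MulAut.conj x • D)
  two : ∀ v : V, v + v = 0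
  faith : ∀ x : X, (∀ v : V, x • v = v) → x = 1
  four : ∀ D ∈ FF, 4 ≤ Nat.card D

/-- the normal closure of the root groups -/
def EO (FF : Set (Subgroup X)) : Subgroup X := normalClosure {a | ∃ D ∈ FF, a ∈ D}

instance (FF : Set (Subgroup X)) : (EO FF).Normal := normalClosure_normal

theorem mem_EO {FF : Set (Subgroup X)} {D : Subgroup X} (hD : D ∈ FF) (x : X) {a : X} (ha : a ∈ D) :
    x * a * x⁻¹ ∈ EO FF := (normalClosure_normal (s := {a | ∃ D ∈ FF, a ∈ D})).conj_mem _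
  (subset_normalClosure ⟨D, hD, ha⟩) x

theorem le_EO {FF : Set (Subgroup X)} {D : Subgroup X} (hD : D ∈ FF) : D ≤ EO FF := fun a ha =>
  subset_normalClosure ⟨D, hD, ha⟩

namespace FX

variable {T : Sylow 2 X} {FF : Set (Subgroup X)} {N C L Z : Subgroup X → AddSubgroup V} (h : FX T FF N C L Z)
include h

/-- blocks are different -/
theorem inj {D D' : Subgroup X} (hD : D ∈ FF) (hD' : D' ∈ FF) (hN : ∀ m, m ∈ N D → m ∈ N D') : D = D' := by
  by_contra hne
  obtain ⟨a, ha, n, hn, h1⟩ := nb_mv (h.nb D hD) h.two h.faith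
  have h3 : N D ≤ C D' := h.ind D' hD' D hD hne
  have h5 : a • n - n ∈ N D := nb_brk (h.nb D hD) h.two h.faith ha n
  have h6 : a • n - n ∈ Z D' := nb_NC (h.nb D' hD') (hN _ h5) (h3 h5)
  have h7 : N D' ≤ C D := h.ind D hD D' hD' (Ne.symm hne)
  exact h1 (h7 (nb_ZN (h.nb D' hD') h6))

/-- `x N D = N (x D x⁻¹)` -/
theorem conjN {D : Subgroup X} (hD : D ∈ FF) {x : X} (hx : MulAut.conj x • D ∈ FF) :
    (∀ m, m ∈ N D ↔ x • m ∈ N (MulAut.conj x • D)) ∧ (∀ m, m ∈ C D ↔ x • m ∈ C (MulAut.conj x • D)) ∧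
      ∀ m, m ∈ Z D ↔ x • m ∈ Z (MulAut.conj x • D) := by
  obtain ⟨D', hD', h1, h3, h5⟩ := h.perm x D hD
  have h6 : D' = MulAut.conj x • D := by
    by_contra hne
    obtain ⟨a, ha, n, hn, h7⟩ := nb_mv (h.nb D hD) h.two h.faith
    apply h7
    have h8 : x • n ∈ C (MulAut.conj x • D) := h.ind _ hx D' hD' hne ((h1 n).1 hn)
    have h9 : x * a * x⁻¹ ∈ MulAut.conj x • D := by
      rw [mem_cj]
      have e1 : x⁻¹ * (x * a * x⁻¹) * x = a := by group
      rwa [e1]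
    have h10 := nb_C (h.nb _ hx) h.two h.faith h9 h8
    rw [mul_smul, mul_smul, inv_smul_smul] at h10
    rw [smul_left_cancel x h10, sub_self]
    exact zero_mem _
  rw [← h6]
  exact ⟨h1, h3, h5⟩

/-- the group which fixes all blocks and centralises the radicals -/
def St (_ : FX T FF N C L Z) : Subgroup X where
  carrier := {g | ∀ D ∈ FF, (∀ m, m ∈ N D ↔ g • m ∈ N D) ∧ (∀ m, m ∈ C D ↔ g • m ∈ C D) ∧ ∀ m ∈ Z D, g • m = m}
  mul_mem' := by
    intro a b ha hb D hD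
    obtain ⟨a1, a2, a3⟩ := ha D hD
    obtain ⟨b1, b2, b3⟩ := hb D hD
    exact ⟨fun m => by rw [mul_smul, ← a1, ← b1], fun m => by rw [mul_smul, ← a2, ← b2],
      fun m hm => by rw [mul_smul, b3 m hm, a3 m hm]⟩
  one_mem' := fun D _ => ⟨fun m => by rw [one_smul], fun m => by rw [one_smul], fun m _ => one_smul _ _⟩
  inv_mem' := by
    intro a ha D hD
    obtain ⟨a1, a2, a3⟩ := ha D hD
    exact ⟨fun m => by rw [a1 (a⁻¹ • m), smul_inv_smul], fun m => by rw [a2 (a⁻¹ • m), smul_inv_smul],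
      fun m hm => by rw [inv_smul_eq_iff, a3 m hm]⟩

theorem EO_le : EO FF ≤ h.St := by
  have hn : h.St.Normal := ⟨fun g hg x D hD => by
    obtain ⟨D', hD', h1, h3, h5⟩ := h.perm x⁻¹ D hD
    obtain ⟨g1, g2, g3⟩ := hg D' hD'
    refine ⟨fun m => ?_, fun m => ?_, fun m hm => ?_⟩
    · rw [h1, g1, mul_smul, mul_smul, h1 (x • g • x⁻¹ • m), inv_smul_smul]
    · rw [h3, g2, mul_smul, mul_smul, h3 (x • g • x⁻¹ • m), inv_smul_smul]
    · rw [mul_smul, mul_smul, g3 _ ((h5 m).1 hm), smul_inv_smul]⟩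
  refine normalClosure_le_normal ?_
  rintro a ⟨D, hD, ha⟩ D' hD'
  by_cases hne : D' = D
  · subst hne
    have hb := h.nb D' hD
    refine ⟨fun m => ⟨fun hm => ?_, fun hm => ?_⟩, fun c => ⟨fun hc => ?_, fun hc => ?_⟩, fun m hm => nb_Z hb h.two h.faith ha hm⟩
    · have e1 : a • m = (a • m - m) + m := by abel
      rw [e1]; exact add_mem (nb_brk hb h.two h.faith ha m) hm
    · have e1 : m = a • m - (a • m - m) := by abel
      rw [e1]; exact sub_mem hm (nb_brk hb h.two h.faith ha m)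
    · rw [nb_C hb h.two h.faith ha hc]; exact hc
    · have e1 := nb_C hb h.two h.faith (D'.inv_mem ha) hc
      rw [inv_smul_smul] at e1
      rw [e1]; exact hc
  · have hb := h.nb D hD
    have k1 : N D' ≤ C D := h.ind D hD D' hD' hne
    have k3 : N D ≤ C D' := h.ind D' hD' D hD (Ne.symm hne)
    refine ⟨fun m => ⟨fun hm => ?_, fun hm => ?_⟩, fun c => ⟨fun hc => ?_, fun hc => ?_⟩, fun m hm => ?_⟩
    · rw [nb_C hb h.two h.faith ha (k1 hm)]; exact hm
    · have e1 := nb_C hb h.two h.faith (D.inv_mem ha) (k1 hm)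
      rw [inv_smul_smul] at e1
      rw [e1]; exact hm
    · have e1 : a • c = (a • c - c) + c := by abel
      rw [e1]; exact add_mem (k3 (nb_brk hb h.two h.faith ha c)) hc
    · have e1 : c = a • c - (a • c - c) := by abel
      rw [e1]; exact sub_mem hc (k3 (nb_brk hb h.two h.faith ha c))
    · exact nb_C hb h.two h.faith ha (k1 (nb_ZN (h.nb D' hD') hm))

/-- two members of `FF` on the same block in one Sylow group -/
theorem same {D₁ D₂ : Subgroup X} (h1 : D₁ ∈ FF) (h2 : D₂ ∈ FF) {g x : X} (hg : MulAut.conj g • D₂ ≤ (T : Subgroup X))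
    (hx : MulAut.conj x • D₁ ≤ (T : Subgroup X)) (hN : ∀ m, m ∈ N D₁ ↔ (g⁻¹ * x) • m ∈ N D₂) :
    MulAut.conj x • D₁ = MulAut.conj g • D₂ := by
  have k1 := h.wc D₁ h1 x hx
  have k2 := h.wc D₂ h2 g hg
  refine h.inj k1 k2 fun m hm => ?_
  have e1 : m = x • x⁻¹ • m := (smul_inv_smul _ _).symm
  rw [e1, ← (h.conjN h1 k1).1, hN, smul_smul] at hm
  have e2 : g⁻¹ * x * x⁻¹ = g⁻¹ := by group
  rw [e2, (h.conjN h2 k2).1, smul_inv_smul] at hm
  exact hm

variable [Finite X]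

/-- **Two lines over one vector.** -/
theorem sec {D₁ D₂ : Subgroup X} (h1 : D₁ ∈ FF) (h2 : D₂ ∈ FF) {x : X} (hN : ∀ m, m ∈ N D₁ ↔ x • m ∈ N D₂) {v w : V}
    (hv : v ∈ L D₁) (hw : w ∈ L D₂) (hz : x • v - w ∈ C D₂) : x • v = w := by
  have hb1 := h.nb D₁ h1
  have hb2 := h.nb D₂ h2
  have hzZ : x • v - w ∈ Z D₂ :=
    nb_NC hb2 (sub_mem ((hN v).1 (nb_LN hb1 hv)) (nb_LN hb2 hw)) hz
  set K : Subgroup X := EO FF ⊓ MulAction.stabilizer X w with hK
  have hp1 : ∀ {D}, D ∈ FF → IsPGroup 2 D := fun hD => T.isPGroup'.to_le (h.le _ hD)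
  have hKz : ∀ k ∈ K, k • (x • v - w) = x • v - w := fun k hk => ((h.EO_le hk.1) D₂ h2).2.2 _ hzZ
  have hD2 : D₂ ≤ K := fun a ha => ⟨le_EO h2 ha, MulAction.mem_stabilizer_iff.2 (nb_L hb2 h.two h.faith ha hw)⟩
  have hD1 : MulAut.conj x • D₁ ≤ K := by
    intro y hy
    have hy1 := mem_cj.1 hy
    have e1 : y = x * (x⁻¹ * y * x) * x⁻¹ := by group
    have hyE : y ∈ EO FF := by rw [e1]; exact mem_EO h1 x hy1
    refine ⟨hyE, MulAction.mem_stabilizer_iff.2 ?_⟩
    have k1 : y • x • v = x • v := by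
      have := nb_L hb1 h.two h.faith hy1 hv
      rw [mul_smul, mul_smul, inv_smul_eq_iff] at this
      exact this
    have k2 : y • (x • v - w) = x • v - w := ((h.EO_le hyE) D₂ h2).2.2 _ hzZ
    rw [smul_sub, k1] at k2
    exact sub_right_inj.1 k2
  obtain ⟨k, hk, R, hRK, hR2, hAR, hBR⟩ := two_conj (hp1 h2) ((hp1 h1).map (MulAut.conj x).toMonoidHom) hD2 hD1
  obtain ⟨g, hg⟩ := conj_le_syl T hR2
  have e0 : MulAut.conj (g * k * x) • D₁ = MulAut.conj g • D₂ := by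
    refine h.same h1 h2 (fun y hy => ?_) (fun y hy => ?_) fun m => ?_
    · have hy1 := mem_cj.1 hy
      have := hg _ (hAR hy1)
      have e1 : g * (g⁻¹ * y * g) * g⁻¹ = y := by group
      rwa [e1] at this
    · have hy1 := mem_cj.1 hy
      have hy2 : x * ((g * k * x)⁻¹ * y * (g * k * x)) * x⁻¹ ∈ MulAut.conj x • D₁ := by
        rw [mem_cj]
        have e1 : x⁻¹ * (x * ((g * k * x)⁻¹ * y * (g * k * x)) * x⁻¹) * x = (g * k * x)⁻¹ * y * (g * k * x) := by group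
        rwa [e1]
      have := hg _ (hBR _ hy2)
      have e1 : g * (k * (x * ((g * k * x)⁻¹ * y * (g * k * x)) * x⁻¹) * k⁻¹) * g⁻¹ = y := by group
      rwa [e1] at this
    · have e1 : g⁻¹ * (g * k * x) = k * x := by group
      rw [e1, mul_smul, hN, ((h.EO_le hk.1) D₂ h2).1]
  have e3 : MulAut.conj (k * x) • D₁ = D₂ := by
    have e1 : MulAut.conj (g * k * x) = MulAut.conj g * MulAut.conj (k * x) := by rw [← map_mul, mul_assoc]
    rw [e1, mul_smul] at e0
    exact smul_left_cancel _ e0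
  have k1 : (k * x) • v ∈ L D₂ := by
    have := (h.lin D₁ h1 (k * x) (e3 ▸ h2) v).1 hv
    rwa [e3] at this
  have k3 : (k * x) • v = x • v := by
    have e1 : x • v = (x • v - w) + w := by abel
    have e2 : k • w = w := MulAction.mem_stabilizer_iff.1 hk.2
    rw [mul_smul, e1, smul_add, hKz k hk, e2]
  rw [k3] at k1
  exact sub_eq_zero.1 (nb_LC hb2 (sub_mem k1 hw) hz)

/-- **(N0)** -/
theorem alt {s : X} (hs : s ∈ T) (hL : ∀ D ∈ FF, ∀ v ∈ L D, s • v = v) : ∀ D ∈ FF, ∀ z ∈ Z D, s • z = z := by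
  intro D hD
  have hb := h.nb D hD
  have hc : MulAut.conj s • D ∈ FF := h.wc D hD s fun y hy => by
    have hy1 := h.le D hD (mem_cj.1 hy)
    have e1 : y = s * (s⁻¹ * y * s) * s⁻¹ := by group
    rw [e1]
    exact mul_mem (mul_mem hs hy1) (inv_mem hs)
  have heq : MulAut.conj s • D = D := by
    by_contra hne
    obtain ⟨a, ha, n, hn, h7⟩ := nb_mv hb h.two h.faith
    -- a non-zero vector of the line
    obtain ⟨F, _, _, e, f, d, up, lo, hB, e1, e2, e3, e4⟩ := hb.ex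
    have hv : e 1 ∈ L D := e3 ▸ ⟨1, rfl⟩
    have h8 : e 1 ∈ L (MulAut.conj s • D) := by
      have := (h.lin D hD s hc _).1 hv
      rwa [hL D hD _ hv] at this
    have h9 : e 1 ∈ C D := h.ind D hD _ hc hne (nb_LN (h.nb _ hc) h8)
    have h10 := (hB.ind 1 0 (by rwa [map_zero, add_zero])).1
    exact one_ne_zero h10
  have h3 := h.conjN hD hc
  rw [heq] at h3
  obtain ⟨n, hn⟩ := T.isPGroup' ⟨s, hs⟩
  refine nb_alt hb h.two h.faith heq (fun c hc => (h3.2.1 c).1 hc) (fun m hm => (h3.1 m).1 hm) (hL D hD) ⟨n, ?_⟩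
  exact congrArg Subtype.val hn

end FX

end Cfsg.Agent.Omega.NOThreeL.RRed.Blk.FamX

end

section


/-!
# NO-3L, box R, natural blocks with radicals: from 19's `FamN` to 842's `FX` (#27284)

* `wc`, `lin` : `FF` is closed under conjugation in the Sylow group, lines go to lines; **`fx_of`**;
* `EO_eq` : the two normal closures agree.
-/

set_option autoImplicit false
set_option linter.unusedSectionVars false

namespace Cfsg.Agent.Omega.NOThreeL.RRed.Blk.FxOf

open Cfsg.Agent.Omega.NOThreeL.RRed.NS (fxd brk mem_fxd)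
open Cfsg.Agent.Omega.NOThreeL.RRed.Blk.Types
open Cfsg.Agent.Omega.NOThreeL.RRed.Blk.TypesN
open Cfsg.Agent.Omega.NOThreeL.RRed.Blk.Asm (St mem_St mem_map)
open Cfsg.Agent.Omega.NOThreeL.RRed.Blk.AsmN
open Cfsg.Agent.Omega.NOThreeL.RRed.Blk.AsmN.FamN
open Cfsg.Agent.Omega.NOThreeL.RRed.Blk.FamX (FX EO)
open scoped Pointwise

universe u v

variable {X : Type u} {V : Type v} [Group X] [AddCommGroup V] [DistribMulAction X V]

/-! ### the family -/

section fam

variable {S : Subgroup X} {EE FF : Set (Subgroup X)} {N C L Z : Subgroup X → AddSubgroup V}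
  (F : FamN S EE FF N C L Z) (h2 : ∀ v : V, v + v = 0) (hf : ∀ x : X, (∀ v : V, x • v = v) → x = 1)
include F h2 hf

variable [Finite V]

theorem card_L {D : Subgroup X} (hD : D ∈ FF) : L D ≠ ⊥ := by
  intro h0
  have h1 := (F.gb D hD).nb.card_L h2 hf
  rw [h0] at h1
  have h3 := F.four D hD
  rw [← h1] at h3
  simp at h3

/-- a root group is determined by its block -/
theorem eq_of_N {D D' : Subgroup X} (hD : D ∈ FF) (hD' : D' ∈ FF) (h : N D = N D') : D = D' := by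
  by_contra hne
  have h1 := F.ind D hD D' hD' (fun e => hne e.symm)
  rw [← h] at h1
  refine card_L F h2 hf hD ?_
  rw [← F.LC h2 hf hD]
  exact (inf_eq_left.2 ((F.LN hD).trans h1)).symm

/-- `D` does not centralise its block -/
theorem moves_N {D : Subgroup X} (hD : D ∈ FF) : ¬ ∀ a ∈ D, ∀ m ∈ N D, a • m = m := by
  intro h
  have h1 : N D ≤ (fxd D : AddSubgroup V) := fun m hm => mem_fxd.2 fun a ha => h a ha m hm
  have h3 : (fxd D : AddSubgroup V) = ⊤ := by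
    rw [eq_top_iff, ← F.NC_top hD]
    refine sup_le h1 ?_
    rw [F.fx h2 hf hD]
    exact le_sup_right
  have h5 : D = ⊥ := by
    rw [eq_bot_iff]
    intro a ha
    rw [Subgroup.mem_bot]
    refine hf a fun v => ?_
    have : v ∈ (fxd D : AddSubgroup V) := h3 ▸ AddSubgroup.mem_top v
    exact mem_fxd.1 this a ha
  have h6 := F.four D hD
  rw [h5] at h6
  simp at h6

variable {T : Subgroup X} (EEc : ∀ B ∈ EE, ∀ x : X, MulAut.conj x • B ≤ S → MulAut.conj x • B ∈ EE)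
include EEc

/-- `FF` is closed under conjugation in `S` -/
theorem wc {D : Subgroup X} (hD : D ∈ FF) {x : X} (hx : MulAut.conj x • D ≤ S) : MulAut.conj x • D ∈ FF ∧
    ∀ m : V, m ∈ N D ↔ x • m ∈ N (MulAut.conj x • D) := by
  obtain ⟨D', hD', -, h1, -⟩ := F.perm x D hD
  by_cases h : MulAut.conj x • D = D'
  · rw [h]; exact ⟨hD', h1⟩
  · exfalso
    refine moves_N F h2 hf hD fun a ha m hm => ?_
    have h3 : x * a * x⁻¹ ∈ MulAut.conj x • D := by
      rw [mem_cj]; convert ha using 1; group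
    have h5 := (F.gb D' hD').oth _ (EEc D (F.sub hD) x hx) h _ h3 _ ((h1 m).1 hm)
    rw [mul_smul, mul_smul, inv_smul_smul] at h5
    exact smul_left_cancel x h5

/-- the lines are permuted -/
theorem lin {D : Subgroup X} (hD : D ∈ FF) {x : X} (hx : MulAut.conj x • D ≤ S) :
    ∀ m : V, m ∈ L D ↔ x • m ∈ L (MulAut.conj x • D) := by
  obtain ⟨hF, hN⟩ := wc F h2 hf EEc hD hx
  have h1 : GBd EE (MulAut.conj x • D) ((N D).map (DistribSMul.toAddMonoidHom V x))
      ((C D).map (DistribSMul.toAddMonoidHom V x)) ((L D).map (DistribSMul.toAddMonoidHom V x))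
      ((Z D).map (DistribSMul.toAddMonoidHom V x)) := by
    refine ⟨(F.gb D hD).nb.conj x, fun A hA hne a ha m hm => ?_⟩
    refine (F.gb _ hF).oth A hA hne a ha m ?_
    rw [mem_map] at hm
    have h3 := (hN _).1 hm
    rwa [smul_inv_smul] at h3
  obtain ⟨-, -, h3, -⟩ := F.uniq _ hF _ _ _ _ h1
  intro m
  rw [← h3, mem_map, inv_smul_smul]

end fam

/-- the two normal closures agree -/
theorem EO_eq (FF : Set (Subgroup X)) : EO FF = EB FF := by
  apply le_antisymm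
  · refine Subgroup.normalClosure_le_normal ?_
    rintro a ⟨D, hD, ha⟩
    exact le_EB hD ha
  · refine Subgroup.normalClosure_le_normal ?_
    have h1 : (⨆ D ∈ FF, D : Subgroup X) ≤ EO FF := iSup₂_le fun D hD => FamX.le_EO hD
    exact h1

/-- **From `FamN` to `FX`.** -/
theorem fx_of [Finite V] {T : Sylow 2 X} {EE FF : Set (Subgroup X)} {N C L Z : Subgroup X → AddSubgroup V}
    (F : FamN (T : Subgroup X) EE FF N C L Z) (h2 : ∀ v : V, v + v = 0)
    (hf : ∀ x : X, (∀ v : V, x • v = v) → x = 1)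
    (EEc : ∀ B ∈ EE, ∀ x : X, MulAut.conj x • B ≤ (T : Subgroup X) → MulAut.conj x • B ∈ EE) : FX T FF N C L Z where
  le := F.le
  nb := fun D hD => (F.gb D hD).nb
  ind := F.ind
  perm := fun x D hD => by
    obtain ⟨D', hD', -, h1, h3, h5⟩ := F.perm x D hD
    exact ⟨D', hD', h1, h3, h5⟩
  wc := fun D hD x hx => (wc F h2 hf EEc hD hx).1
  lin := fun D hD x hx => lin F h2 hf EEc hD (F.le _ hx)
  two := h2
  faith := hf
  four := F.four

end Cfsg.Agent.Omega.NOThreeL.RRed.Blk.FxOf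

end
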