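import Cfsg.Agent.Mrg.Omega.NOThreeL.RRed.Blk.TypesNat
import Cfsg.Agent.Mrg.Omega.NOThreeL.RRed.Blk.AsmNDef


/-!
# NO-3L, box R: `BkDOf.exists_bkD` at a given Weyl element (helper623's proof, `p` fixed)
-/

set_option autoImplicit false
set_option linter.unusedSectionVars false

namespace Cfsg.Agent.Omega.NOThreeL.RRed.Blk.AcNAt

open Subgroup Cfsg Cfsg.Agent.ZN
open Cfsg.Agent.Omega.FFThm Cfsg.Agent.Lib.SL2Mat
open Cfsg.Agent.Omega.NatPair (ap)
open Cfsg.Agent.Omega.NO3S.ThmB Cfsg.Agent.Omega.NO3S.KeyRad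
open Cfsg.Agent.Omega.NOThreeL.RSplit (Nrm)
open Cfsg.Agent.Omega.NOThreeL.RRed.NS
open Cfsg.Agent.Omega.NOThreeL.RRed.Blk.TypesNat (sup_top)
open Cfsg.Agent.Omega.NOThreeL.RRed.Blk.BkDOf (e_wl)
open Cfsg.Agent.Omega.NOThreeL.RRed.Blk.GamD (BkD)
open scoped Pointwise

universe u v w

variable {G : Type u} [Group G] {F : Type} [Field F] {S P V D U H : Subgroup G} {k : ℕ}

/-- **`BkDOf.exists_bkD` for a given Weyl element `p`.** -/
theorem exists_bkD_at [Finite G] [Finite F] [CharP F 2] {M : NatKM F S P V D k} (h : Nb M) (hF : 2 < Nat.card F)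
    (Q : Nrm H U) (hPH : P ≤ H) (hVU : V ≤ U) {A : Subgroup G} {j : Fin k} (O : One M U A j) (hAP : A ≤ P)
    {p : G} (hp : p ∈ P) (hpA : ActsSL M.e V D p (sg j (wl F))) :
    ∃ (e f del : F →+ Q.Mod) (up lo : F → H),
      BkD e f del (Q.ad (centralizer ((A ⊔ MulAut.conj p • A : Subgroup G) : Set G))) up lo ∧
      (∀ t, (up t : G) ∈ A) ∧ (∀ t, (lo t : G) ∈ MulAut.conj p • A) ∧
      (∀ a (ha : a ∈ A), ∃ t, ∀ m : Q.Mod, (⟨a, hPH (hAP ha)⟩ : H) • m = up t • m) ∧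
      e.range ⊔ del.range = Q.ad (YY h j) ∧ e.range ⊔ f.range ⊔ del.range = Q.ad (blk M j) ∧
      del.range = Q.ad (DD M j) := by
  obtain ⟨l, g, C⟩ := exists_cd h hF j
  have hfm : ∀ t, p * l t * p⁻¹ ∈ blk M j := fun t => conj_blk h hp hpA (C.lm t)
  have hlU : ∀ t, l t ∈ U := fun t => hVU (C.lV h t)
  have hbU : ∀ {w}, w ∈ blk M j → w ∈ U := fun hw => hVU (blk_le h j hw)
  have hfe : ∀ t, M.e (p * l t * p⁻¹) j = ![0, t] := fun t => by
    rw [e_wl h hpA (C.lm t), C.le]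
    rfl
  let e : F →+ Q.Mod := AddMonoidHom.mk' (fun s => Q.of (l s) (hlU s)) fun s t => Nrm.ext (C.la s t)
  let f : F →+ Q.Mod := AddMonoidHom.mk' (fun s => Q.of (p * l s * p⁻¹) (hbU (hfm s))) fun s t => Nrm.ext (by
    rw [Nrm.val_of, Nrm.val_add, Nrm.val_of, Nrm.val_of, C.la]
    group)
  let del : F →+ Q.Mod := AddMonoidHom.mk' (fun s => Q.of (g s) (hbU (C.gm s))) fun s t => Nrm.ext (C.ga s t)
  have hev : ∀ s, Q.val (e s) = l s := fun _ => rfl
  have hfv : ∀ s, Q.val (f s) = p * l s * p⁻¹ := fun _ => rfl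
  have hdv : ∀ s, Q.val (del s) = g s := fun _ => rfl
  have hef : ∀ x y, Q.val (e x + f y) ∈ blk M j ∧ M.e (Q.val (e x + f y)) j = ![x, y] := fun x y => by
    rw [Nrm.val_add, hev, hfv]
    refine ⟨mul_mem (C.lm x) (hfm y), ?_⟩
    rw [TypesNat.e_mul h (C.lm x) (hfm y), C.le, hfe]
    refine vec_eq ?_ ?_ <;> simp
  -- root elements
  choose a ha haA using O.all
  have haP : ∀ t, a t ∈ P := fun t => hAP (ha t)
  set E : Subgroup G := A ⊔ MulAut.conj p • A with hE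
  have hEP : E ≤ P := sup_le hAP (conj_le_P hAP hp)
  have hbA : ∀ t, p * a t * p⁻¹ ∈ MulAut.conj p • A := fun t => by
    rw [mem_conj_iff]
    have e1 : p⁻¹ * (p * a t * p⁻¹) * p = a t := by group
    rw [e1]
    exact ha t
  have hbP : ∀ t, p * a t * p⁻¹ ∈ P := fun t => conj_le_P hAP hp (hbA t)
  -- the fixed points of `E`
  have hfix : ∀ m : Q.Mod, m ∈ Q.ad (centralizer (E : Set G)) ↔ ∀ x ∈ E, x * Q.val m * x⁻¹ = Q.val m := by
    intro m
    rw [Nrm.mem_ad, mem_centralizer_iff]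
    exact forall₂_congr fun x _ => mul_inv_eq_iff_eq_mul.symm
  have hDE : ∀ m : Q.Mod, Q.val m ∈ DD M j → m ∈ Q.ad (centralizer (E : Set G)) := by
    intro m hm
    have h1 : E ≤ centralizer ({Q.val m} : Set G) := by
      refine sup_le (fun x hx => ?_) fun x hx => ?_
      · rw [mem_centralizer_singleton_iff]
        exact cent_YY h O hAP hx (DD_le_YY h j hm)
      · rw [mem_centralizer_singleton_iff]
        exact mul_inv_eq_iff_eq_mul.1 (fix_D h O hAP hp hpA hm.2 hx)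
    exact (hfix m).2 fun x hx => mul_inv_eq_iff_eq_mul.2 (mem_centralizer_singleton_iff.1 (h1 hx))
  have hDm : ∀ m : Q.Mod, m ∈ Q.ad (centralizer (E : Set G)) → Q.val m ∈ blk M j → Q.val m ∈ DD M j := by
    intro m h2 h1
    have h3 := (hfix m).1 h2
    exact mem_DD_of_fixed h O hAP hp hpA h1 (fun x hx => h3 x (mem_sup_left hx)) fun x hx => h3 x (mem_sup_right hx)
  have hind : ∀ x y, e x + f y ∈ Q.ad (centralizer (E : Set G)) → x = 0 ∧ y = 0 := by
    intro x y hxy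
    have h1 := (mem_DD h (hef x y).1).1 (hDm _ hxy (hef x y).1)
    rw [(hef x y).2] at h1
    exact ⟨congrFun h1 0, congrFun h1 1⟩
  have hmA : (A.subgroupOf H).map H.subtype = A :=
    (subgroupOf_map_subtype _ _).trans (inf_eq_left.2 (hAP.trans hPH))
  have hcE : Q.ad (centralizer (E : Set G)) =
      (fxd (A.subgroupOf H) : AddSubgroup Q.Mod) ⊓ fxd (MulAut.conj (⟨p, hPH hp⟩ : H) • A.subgroupOf H) := by
    rw [fxd_eq, fxd_eq, map_conj, hmA, TypesNat.ad_inf, hE]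
    congr 1
    ext x
    rw [mem_inf, mem_centralizer_iff, mem_centralizer_iff, mem_centralizer_iff]
    constructor
    · exact fun h1 => ⟨fun y hy => h1 y (mem_sup_left hy), fun y hy => h1 y (mem_sup_right hy)⟩
    · rintro ⟨h1, h2⟩ y hy
      have h3 : A ⊔ MulAut.conj p • A ≤ centralizer ({x} : Set G) :=
        sup_le (fun z hz => mem_centralizer_singleton_iff.2 (h1 z hz))
          fun z hz => mem_centralizer_singleton_iff.2 (h2 z hz)
      exact mem_centralizer_singleton_iff.1 (h3 hy)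
  have hi : (Q.ad (centralizer (E : Set G))).index ≤ Nat.card F ^ 2 := by
    rw [hcE, pow_two]
    refine AddSubgroup.index_inf_le.trans (Nat.mul_le_mul ?_ ?_)
    · rw [index_fxd, hmA]
      exact relIndex_le h O hAP
    · rw [index_fxd_conj, index_fxd, hmA]
      exact relIndex_le h O hAP
  -- `W = e(F) ⊕ f(F)`
  have hinj : Function.Injective (fun x : F × F => e x.1 + f x.2) := by
    intro x y hxy
    have h1 := congrArg (fun m => M.e (Q.val m) j) hxy
    simp only [(hef _ _).2] at h1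
    exact Prod.ext (congrFun h1 0) (congrFun h1 1)
  have hmemW : ∀ m : Q.Mod, m ∈ e.range ⊔ f.range ↔ ∃ x y, e x + f y = m := by
    intro m
    rw [AddSubgroup.mem_sup]
    constructor
    · rintro ⟨_, ⟨x, rfl⟩, _, ⟨y, rfl⟩, h1⟩
      exact ⟨x, y, h1⟩
    · rintro ⟨x, y, h1⟩
      exact ⟨_, ⟨x, rfl⟩, _, ⟨y, rfl⟩, h1⟩
  have hcard : Nat.card (e.range ⊔ f.range : AddSubgroup Q.Mod) = Nat.card F ^ 2 := by
    rw [pow_two, ← Nat.card_prod]
    refine (Nat.card_congr (Equiv.ofBijective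
      (fun x : F × F => (⟨e x.1 + f x.2, (hmemW _).2 ⟨_, _, rfl⟩⟩ : (e.range ⊔ f.range : AddSubgroup Q.Mod))) ⟨?_, ?_⟩)).symm
    · intro x y hxy
      exact hinj (congrArg Subtype.val hxy)
    · rintro ⟨m, hm⟩
      obtain ⟨x, y, h1⟩ := (hmemW m).1 hm
      exact ⟨(x, y), Subtype.ext h1⟩
  have h0 : (e.range ⊔ f.range) ⊓ Q.ad (centralizer (E : Set G)) = ⊥ := by
    rw [eq_bot_iff]
    rintro m ⟨h1, h2⟩
    obtain ⟨x, y, rfl⟩ := (hmemW m).1 h1
    obtain ⟨rfl, rfl⟩ := hind x y h2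
    rw [map_zero, map_zero, add_zero]
    exact AddSubgroup.mem_bot.2 rfl
  have htop := sup_top Q h0 hi hcard.ge
  have hdec : ∀ v : Q.Mod, ∃ x y, ∃ c ∈ Q.ad (centralizer (E : Set G)), v = e x + f y + c := by
    intro v
    have h1 : v ∈ (e.range ⊔ f.range) ⊔ Q.ad (centralizer (E : Set G)) := by rw [htop]; exact AddSubgroup.mem_top _
    obtain ⟨w, hw, c, hc, rfl⟩ := AddSubgroup.mem_sup.1 h1
    obtain ⟨x, y, rfl⟩ := (hmemW w).1 hw
    exact ⟨x, y, c, hc, rfl⟩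
  -- `a t` on `blk M j`
  have hcm : ∀ t, ∀ v ∈ blk M j, a t * v * (a t)⁻¹ = l (t * M.e v j 1) * g (t * M.e v j 1 ^ 2) * v := by
    intro t v hv
    rw [← C.cm (a t) (haP t) t (haA t) v (blk_le h j hv)]
    group
  -- commutation inside `V`
  have hcc : ∀ {x y : G}, x ∈ V → y ∈ V → x * y = y * x := fun hx hy => h.cm hx hy
  refine ⟨e, f, del, fun t => ⟨a t, hPH (haP t)⟩, fun t => ⟨p * a t * p⁻¹, hPH (hbP t)⟩, ?_, ha, hbA, ?_, ?_, ?_, ?_⟩
  · refine
      { dec := hdec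
        ind := hind
        dC := fun s => hDE _ (C.gDD h s)
        up_e := fun t x => ?_
        up_f := fun t x => ?_
        up_c := fun t c hc => ?_
        lo_e := fun t x => ?_
        lo_f := fun t x => ?_
        lo_c := fun t c hc => ?_ }
    · refine Nrm.ext ?_
      rw [Nrm.val_smul]
      change a t * l x * (a t)⁻¹ = l x
      rw [hcm t _ (C.lm x), C.le]
      simp [C.l_zero, C.g_zero]
    · refine Nrm.ext ?_
      rw [Nrm.val_smul, Nrm.val_add, Nrm.val_add]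
      change a t * (p * l x * p⁻¹) * (a t)⁻¹ = p * l x * p⁻¹ * l (t * x) * g (t * x ^ 2)
      rw [hcm t _ (hfm x), hfe]
      change l (t * x) * g (t * x ^ 2) * (p * l x * p⁻¹) = _
      rw [hcc (mul_mem (C.lV h _) (C.gV h _)) (blk_le h j (hfm x))]
      group
    · exact (smul_eq_iff Q _ c).2 ((hfix c).1 hc _ (mem_sup_left (ha t)))
    · refine Nrm.ext ?_
      rw [Nrm.val_smul, Nrm.val_add, Nrm.val_add]
      change p * a t * p⁻¹ * l x * (p * a t * p⁻¹)⁻¹ = l x * (p * l (t * x) * p⁻¹) * g (t * x ^ 2)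
      have hpi : ActsSL M.e V D p⁻¹ (sg j (wl F)⁻¹) := by
        have h1 := h.acts_inv hp hpA
        have h2 : (sg j (wl F))⁻¹ = (sg j (wl F)⁻¹ : Fin k → _) :=
          inv_eq_of_mul_eq_one_right (by rw [← sg_mul, mul_inv_cancel, sg_one])
        rwa [h2] at h1
      have hv : p⁻¹ * l x * p ∈ blk M j := by
        have h1 := conj_blk h (inv_mem hp) hpi (C.lm x)
        rwa [inv_inv] at h1
      have hv1 : M.e (p⁻¹ * l x * p) j 1 = x := by
        have h1 := e_wl h hpA hv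
        have e1 : p * (p⁻¹ * l x * p) * p⁻¹ = l x := by group
        rw [e1, C.le] at h1
        exact (congrFun h1 0).symm
      have h2 := hcm t _ hv
      rw [hv1] at h2
      have h3 : p * g (t * x ^ 2) * p⁻¹ = g (t * x ^ 2) := by
        rw [hpA.2 _ (C.gD (t * x ^ 2)), mul_inv_cancel_right]
      calc p * a t * p⁻¹ * l x * (p * a t * p⁻¹)⁻¹
          = p * (a t * (p⁻¹ * l x * p) * (a t)⁻¹) * p⁻¹ := by group
        _ = p * (l (t * x) * g (t * x ^ 2) * (p⁻¹ * l x * p)) * p⁻¹ := by rw [h2]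
        _ = (p * l (t * x) * p⁻¹) * (p * g (t * x ^ 2) * p⁻¹) * l x := by group
        _ = (p * l (t * x) * p⁻¹) * g (t * x ^ 2) * l x := by rw [h3]
        _ = l x * ((p * l (t * x) * p⁻¹) * g (t * x ^ 2)) :=
          hcc (mul_mem (blk_le h j (hfm _)) (C.gV h _)) (C.lV h _)
        _ = _ := by group
    · refine Nrm.ext ?_
      rw [Nrm.val_smul]
      change p * a t * p⁻¹ * (p * l x * p⁻¹) * (p * a t * p⁻¹)⁻¹ = p * l x * p⁻¹
      have h2 := hcm t _ (C.lm x)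
      rw [C.le] at h2
      have h3 : a t * l x * (a t)⁻¹ = l x := by
        rw [h2]
        simp [C.l_zero, C.g_zero]
      calc p * a t * p⁻¹ * (p * l x * p⁻¹) * (p * a t * p⁻¹)⁻¹ = p * (a t * l x * (a t)⁻¹) * p⁻¹ := by group
        _ = _ := by rw [h3]
    · exact (smul_eq_iff Q _ c).2 ((hfix c).1 hc _ (mem_sup_right (hbA t)))
  · -- `A` acts as the `up t`
    intro x hx
    obtain ⟨β, hβ⟩ := O.act x hx
    refine ⟨β, fun m => ?_⟩
    obtain ⟨x', y', c, hc, rfl⟩ := hdec m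
    have e1 : (⟨x, hPH (hAP hx)⟩ : H) • (e x' + f y') = (⟨a β, hPH (haP β)⟩ : H) • (e x' + f y') := by
      refine Nrm.ext ?_
      rw [Nrm.val_smul, Nrm.val_smul]
      exact h.same (hAP hx) (haP β) hβ (haA β) (blk_le h j (hef x' y').1)
    have e2 : (⟨x, hPH (hAP hx)⟩ : H) • c = (⟨a β, hPH (haP β)⟩ : H) • c := by
      rw [(smul_eq_iff Q _ c).2 ((hfix c).1 hc _ (mem_sup_left hx)),
        (smul_eq_iff Q _ c).2 ((hfix c).1 hc _ (mem_sup_left (ha β)))]
    calc (⟨x, hPH (hAP hx)⟩ : H) • (e x' + f y' + c)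
        = (⟨x, hPH (hAP hx)⟩ : H) • (e x' + f y') + (⟨x, hPH (hAP hx)⟩ : H) • c := smul_add _ _ _
      _ = (⟨a β, hPH (haP β)⟩ : H) • (e x' + f y') + (⟨a β, hPH (haP β)⟩ : H) • c := by rw [e1, e2]
      _ = (⟨a β, hPH (haP β)⟩ : H) • (e x' + f y' + c) := (smul_add _ _ _).symm
  · apply le_antisymm
    · refine sup_le ?_ ?_
      · rintro _ ⟨s, rfl⟩
        exact C.lY h s
      · rintro _ ⟨s, rfl⟩
        exact C.gY h s
    · intro m hm
      obtain ⟨s, x, hsx⟩ := C.exists_eq h hm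
      have h1 : m = e s + del x := Nrm.ext (by rw [hsx]; rfl)
      rw [h1]
      exact add_mem (AddSubgroup.mem_sup_left ⟨s, rfl⟩) (AddSubgroup.mem_sup_right ⟨x, rfl⟩)
  · apply le_antisymm
    · refine sup_le (sup_le ?_ ?_) ?_
      · rintro _ ⟨s, rfl⟩
        exact C.lm s
      · rintro _ ⟨s, rfl⟩
        exact hfm s
      · rintro _ ⟨s, rfl⟩
        exact C.gm s
    · intro m hm
      obtain ⟨x, y, c, hc, rfl⟩ := hdec m
      have h1 : Q.val c ∈ blk M j := by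
        have h2 : Q.val (e x + f y + c) ∈ blk M j := hm
        rw [Nrm.val_add] at h2
        exact (mul_mem_cancel_left (hef x y).1).1 h2
      obtain ⟨s, hs⟩ := C.gs _ h1 (hDm c hc h1).2
      have h3 : c = del s := Nrm.ext hs.symm
      rw [h3]
      exact add_mem (AddSubgroup.mem_sup_left ((hmemW _).2 ⟨x, y, rfl⟩)) (AddSubgroup.mem_sup_right ⟨s, rfl⟩)
  · ext m
    constructor
    · rintro ⟨s, rfl⟩
      exact C.gDD h s
    · intro hm
      obtain ⟨s, hs⟩ := C.gs _ hm.1 hm.2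
      exact ⟨s, Nrm.ext hs⟩

end Cfsg.Agent.Omega.NOThreeL.RRed.Blk.AcNAt
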