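import Cfsg.Agent.Mrg.Omega.NOThreeL.RRed.Blk.TypesLine
import Cfsg.Agent.Mrg.Omega.NOThreeL.RRed.Blk.AsmNDef
import Cfsg.Agent.Mrg.Omega.NOThreeL.RRed.Blk.TypesNat

section


/-!
# NO-3L, box R: nonsplit natural blocks (`GamD.BkD`): transport and conjugation

* `mapD`, `cjD`, `BkD_tr` : `BkD` under a homomorphism, conjugation, a pair of isomorphisms;
* `NBd_tr`, `NBd_cj`, `GBd_tr`, `GBd_cj` : the same for `AsmN.NBd`, `AsmN.GBd`; `NBd_brk` : `[V, D] = L + Z`, `NBd_fxd` :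
  `C_V(D) = L + C`; **`NBd_eq`** : same `D`, same `Z` ⟹ same `N`, `C`, `L` (split or not); **`NBd_perm`**, `NBd_permg`;
* **`IsNBD Q A R D N C`** : `A ≤ H` acts on `U` as the root group of such a block (`R` the line, `D` the radical);
  `IsNBD.conj` (`g ∈ H`), `IsNBD.conjN` (`n ∈ N(U) ∩ N(H)`), `IsNBD.toNBd` (over `XH Q`), `IsNBD.comm` (`[U, A] = R D`),
  `IsNBD.cent` (`C_U(A) = R C`), **`IsNBD.eq`**, **`IsNBD.perm`**, `IsNB.toD`.
-/

set_option autoImplicit false
set_option linter.unusedSectionVars false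

namespace Cfsg.Agent.Omega.NOThreeL.RRed.Blk.TypesNat

open Subgroup Cfsg Cfsg.Agent.ZN
open Cfsg.Agent.Omega.FFThm Cfsg.Agent.Lib.SL2Mat
open Cfsg.Agent.Omega.NO3S.ThmB Cfsg.Agent.Omega.NO3S.KeyRad
open Cfsg.Agent.Omega.NOThreeL.RSplit (Nrm)
open Cfsg.Agent.Omega.NOThreeL.RRed.NS hiding rt
open Cfsg.Agent.Omega.NOThreeL.RRed.Blk.TypesGam (Bk rt NO)
open Cfsg.Agent.Omega.NOThreeL.RRed.Blk.GamD (BkD)
open scoped Pointwise

universe u v w w'

/-! ### transport of `BkD` -/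

section mapD

variable {X : Type u} {X' : Type v} {V : Type w} [Group X] [Group X'] [AddCommGroup V] [DistribMulAction X V]
  [DistribMulAction X' V] {F : Type w'} [Field F] {e f d : F →+ V} {C : AddSubgroup V} {up lo : F → X}

theorem mapD (h : BkD e f d C up lo) (φ : X →* X') (hφ : ∀ (x : X) (v : V), φ x • v = x • v) :
    BkD e f d C (fun t => φ (up t)) (fun t => φ (lo t)) where
  dC := h.dC
  dec := h.dec
  ind := h.ind
  up_e t x := by rw [hφ, h.up_e]
  up_f t x := by rw [hφ, h.up_f]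
  up_c t c hc := by rw [hφ, h.up_c t c hc]
  lo_e t x := by rw [hφ, h.lo_e]
  lo_f t x := by rw [hφ, h.lo_f]
  lo_c t c hc := by rw [hφ, h.lo_c t c hc]

/-- conjugation -/
theorem cjD (h : BkD e f d C up lo) (g : X) :
    BkD (gm g e) (gm g f) (gm g d) (g • C) (fun t => g * up t * g⁻¹) (fun t => g * lo t * g⁻¹) where
  dC x := ⟨d x, h.dC x, rfl⟩
  dec v := by
    obtain ⟨x, y, c, hc, hv⟩ := h.dec (g⁻¹ • v)
    refine ⟨x, y, g • c, ⟨c, hc, rfl⟩, ?_⟩
    rw [gm_apply, gm_apply, ← smul_add, ← smul_add, ← hv, smul_inv_smul]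
  ind x y hxy := by
    refine h.ind x y ?_
    rw [gm_apply, gm_apply, ← smul_add, mem_smul', inv_smul_smul] at hxy
    exact hxy
  up_e t x := by rw [gm_apply, mul_smul, mul_smul, inv_smul_smul, h.up_e]
  up_f t x := by rw [gm_apply, mul_smul, mul_smul, inv_smul_smul, h.up_f, smul_add, smul_add]; rfl
  up_c t c hc := by
    rw [mem_smul'] at hc
    rw [mul_smul, mul_smul, h.up_c t _ hc, smul_inv_smul]
  lo_e t x := by rw [gm_apply, mul_smul, mul_smul, inv_smul_smul, h.lo_e, smul_add, smul_add]; rfl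
  lo_f t x := by rw [gm_apply, mul_smul, mul_smul, inv_smul_smul, h.lo_f]
  lo_c t c hc := by
    rw [mem_smul'] at hc
    rw [mul_smul, mul_smul, h.lo_c t _ hc, smul_inv_smul]

end mapD

section trD

variable {X : Type u} {X' : Type v} {V : Type w} {V' : Type w} [Group X] [Group X'] [AddCommGroup V] [AddCommGroup V']
  [DistribMulAction X V] [DistribMulAction X' V']

/-- transport by a pair of isomorphisms (also from `(X, V)` to `(X', V')`) -/
theorem BkD_tr {F : Type w'} [Field F] {e f d : F →+ V} {C : AddSubgroup V} {up lo : F → X}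
    (h : BkD e f d C up lo) (τ : V ≃+ V') (σ : X → X') (hτ : ∀ (x : X) (v : V), τ (x • v) = σ x • τ v) :
    BkD (τ.toAddMonoidHom.comp e) (τ.toAddMonoidHom.comp f) (τ.toAddMonoidHom.comp d) (C.map τ.toAddMonoidHom)
      (fun t => σ (up t)) (fun t => σ (lo t)) where
  dC x := ⟨d x, h.dC x, rfl⟩
  dec v := by
    obtain ⟨x, y, c, hc, hv⟩ := h.dec (τ.symm v)
    refine ⟨x, y, τ c, ⟨c, hc, rfl⟩, ?_⟩
    change v = τ (e x) + τ (f y) + τ c
    rw [← map_add, ← map_add, ← hv, τ.apply_symm_apply]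
  ind x y hxy := by
    obtain ⟨c, hc, h1⟩ := hxy
    have h2 : τ c = τ (e x + f y) := by
      rw [map_add]
      exact h1
    exact h.ind x y (τ.injective h2 ▸ hc)
  up_e t x := by
    change σ (up t) • τ (e x) = τ (e x)
    rw [← hτ, h.up_e]
  up_f t x := by
    change σ (up t) • τ (f x) = τ (f x) + τ (e (t * x)) + τ (d _)
    rw [← hτ, h.up_f, map_add, map_add]
  up_c t c hc := by
    obtain ⟨c, hc, rfl⟩ := hc
    change σ (up t) • τ c = τ c
    rw [← hτ, h.up_c t c hc]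
  lo_e t x := by
    change σ (lo t) • τ (e x) = τ (e x) + τ (f (t * x)) + τ (d _)
    rw [← hτ, h.lo_e, map_add, map_add]
  lo_f t x := by
    change σ (lo t) • τ (f x) = τ (f x)
    rw [← hτ, h.lo_f]
  lo_c t c hc := by
    obtain ⟨c, hc, rfl⟩ := hc
    change σ (lo t) • τ c = τ c
    rw [← hτ, h.lo_c t c hc]

end trD

/-! ### `AsmN.NBd`, `AsmN.GBd` -/

section nbd

variable {X : Type u} {X' : Type v} {V : Type w} {V' : Type w} [Group X] [Group X'] [AddCommGroup V] [AddCommGroup V']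
  [DistribMulAction X V] [DistribMulAction X' V']

theorem map_rt' {F : Type w'} {up : F → X} (σ : X →* X') : rt (fun t => σ (up t)) = (rt up).map σ := by
  rw [rt, rt, MonoidHom.map_closure]
  congr 1
  ext y
  constructor
  · rintro ⟨t, rfl⟩
    exact ⟨up t, ⟨t, rfl⟩, rfl⟩
  · rintro ⟨_, ⟨t, rfl⟩, rfl⟩
    exact ⟨t, rfl⟩

/-- transport of `NBd` by a pair `(τ, σ)` -/
theorem NBd_tr {D : Subgroup X} {N C L Z : AddSubgroup V} (h : AsmN.NBd D N C L Z) (τ : V ≃+ V') (σ : X →* X')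
    (hτ : ∀ (x : X) (v : V), τ (x • v) = σ x • τ v) :
    AsmN.NBd (D.map σ) (N.map τ.toAddMonoidHom) (C.map τ.toAddMonoidHom) (L.map τ.toAddMonoidHom)
      (Z.map τ.toAddMonoidHom) := by
  obtain ⟨F, i1, i2, e, f, d, up, lo, hb, rfl, rfl, rfl, rfl⟩ := h.ex
  refine ⟨F, i1, i2, _, _, _, _, _, BkD_tr hb τ σ hτ, map_rt' σ, ?_, ?_, ?_⟩
  · rw [AddSubgroup.map_sup, AddSubgroup.map_sup, AddMonoidHom.range_comp, AddMonoidHom.range_comp,
      AddMonoidHom.range_comp]
  · exact AddMonoidHom.range_comp _ _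
  · exact AddMonoidHom.range_comp _ _

theorem GBd_tr {EE : Set (Subgroup X)} {D : Subgroup X} {N C L Z : AddSubgroup V} (h : AsmN.GBd EE D N C L Z)
    (τ : V ≃+ V') (σ : X ≃* X') (hτ : ∀ (x : X) (v : V), τ (x • v) = σ x • τ v) {EE' : Set (Subgroup X')}
    (hE : ∀ A' ∈ EE', ∃ A ∈ EE, A' = A.map σ.toMonoidHom) :
    AsmN.GBd EE' (D.map σ.toMonoidHom) (N.map τ.toAddMonoidHom) (C.map τ.toAddMonoidHom) (L.map τ.toAddMonoidHom)
      (Z.map τ.toAddMonoidHom) where
  nb := NBd_tr h.nb τ σ.toMonoidHom hτ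
  oth := by
    intro A' hA' hne
    obtain ⟨A, hA, rfl⟩ := hE A' hA'
    rintro _ ⟨a, ha, rfl⟩ _ ⟨m, hm, rfl⟩
    have h1 := h.oth A hA (fun h2 => hne (h2 ▸ rfl)) a ha m hm
    change σ a • τ m = τ m
    rw [← hτ, h1]

end nbd

section cjnb

variable {X : Type u} {V : Type w} [Group X] [AddCommGroup V] [DistribMulAction X V]

theorem map_smulA (g : X) (N : AddSubgroup V) :
    N.map (DistribMulAction.toAddEquiv V g).toAddMonoidHom = g • N := rfl

/-- conjugation by `g ∈ X` -/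
theorem NBd_cj {D : Subgroup X} {N C L Z : AddSubgroup V} (h : AsmN.NBd D N C L Z) (g : X) :
    AsmN.NBd (MulAut.conj g • D) (g • N) (g • C) (g • L) (g • Z) := by
  refine NBd_tr h (DistribMulAction.toAddEquiv V g) (MulAut.conj g).toMonoidHom fun x v => ?_
  change g • x • v = (g * x * g⁻¹) • g • v
  rw [mul_smul, mul_smul, inv_smul_smul]

theorem GBd_cj {EE : Set (Subgroup X)} {D : Subgroup X} {N C L Z : AddSubgroup V} (h : AsmN.GBd EE D N C L Z) (g : X)
    {EE' : Set (Subgroup X)} (hE : ∀ A' ∈ EE', ∃ A ∈ EE, A' = MulAut.conj g • A) :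
    AsmN.GBd EE' (MulAut.conj g • D) (g • N) (g • C) (g • L) (g • Z) := by
  refine GBd_tr h (DistribMulAction.toAddEquiv V g) (MulAut.conj g) (fun x v => ?_) hE
  change g • x • v = (g * x * g⁻¹) • g • v
  rw [mul_smul, mul_smul, inv_smul_smul]

end cjnb

/-! ### the line, the fixed space -/

section lin

variable {X : Type u} {V : Type w} [Group X] [AddCommGroup V] [DistribMulAction X V]

theorem BkD_sub {F : Type w'} [Field F] {e f d : F →+ V} {C : AddSubgroup V} {up lo : F → X} (h : BkD e f d C up lo)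
    (t x y : F) {c : V} (hc : c ∈ C) : up t • (e x + f y + c) - (e x + f y + c) = e (t * y) + d (t * y ^ 2) := by
  rw [smul_add, smul_add, h.up_e, h.up_f, h.up_c t c hc]
  abel

/-- `[V, D] = L + Z` -/
theorem BkD_brk {F : Type w'} [Field F] {e f d : F →+ V} {C : AddSubgroup V} {up lo : F → X} (h : BkD e f d C up lo)
    (h2 : ∀ v : V, v + v = 0) (hf : ∀ x : X, (∀ v : V, x • v = v) → x = 1) (h4 : 2 < Nat.card F) :
    brk V (rt up) = e.range ⊔ d.range := by
  have hfin : Finite F := Nat.finite_of_card_ne_zero (by omega)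
  apply le_antisymm
  · rw [brk, AddSubgroup.closure_le]
    rintro _ ⟨a, ha, v, rfl⟩
    obtain ⟨t, rfl⟩ := (h.mem_rt h2 hf).1 ha
    obtain ⟨x, y, c, hc, rfl⟩ := h.dec v
    rw [BkD_sub h t x y hc]
    exact add_mem (AddSubgroup.mem_sup_left ⟨_, rfl⟩) (AddSubgroup.mem_sup_right ⟨_, rfl⟩)
  · have key : ∀ t y : F, e (t * y) + d (t * y ^ 2) ∈ brk V (rt up) := by
      intro t y
      have h1 := BkD_sub h t 0 y C.zero_mem
      rw [← h1]
      exact AddSubgroup.subset_closure ⟨_, TypesGam.up_mem t, _, rfl⟩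
    -- `e s + d (s y)`, `y ≠ 0`
    have k2 : ∀ s y : F, y ≠ 0 → e s + d (s * y) ∈ brk V (rt up) := by
      intro s y hy
      have h1 := key (s * y⁻¹) y
      have e1 : s * y⁻¹ * y = s := by field_simp
      have e2 : s * y⁻¹ * y ^ 2 = s * y := by field_simp
      rwa [e1, e2] at h1
    have k3 : ∀ s, d s ∈ brk V (rt up) := by
      intro s
      obtain ⟨x, hx0, hx1⟩ : ∃ x : F, x ≠ 0 ∧ x ≠ 1 := by
        by_contra hcon
        push Not at hcon
        have h1 : Nat.card F ≤ 2 := by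
          have h3 : (Set.univ : Set F) ⊆ {0, 1} := fun x _ => by
            by_cases hx : x = 0
            · exact Or.inl hx
            · exact Or.inr (hcon x hx)
          have h4 := Set.ncard_le_ncard h3 (Set.toFinite _)
          rw [Set.ncard_univ] at h4
          exact h4.trans ((Set.ncard_insert_le 0 {1}).trans (by rw [Set.ncard_singleton]))
        omega
      have hx2 : x + 1 ≠ 0 := by
        intro h3
        apply hx1
        have h5 := h.two h2 (1 : F)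
        exact add_right_cancel (h3.trans h5.symm)
      have h3 := add_mem (k2 s x hx0) (k2 s (x + 1) hx2)
      have e1 : e s + d (s * x) + (e s + d (s * (x + 1))) = d s := by
        have e2 : s * (x + 1) = s * x + s := by ring
        rw [e2, map_add]
        have e3 : e s + d (s * x) + (e s + (d (s * x) + d s)) = (e s + e s) + (d (s * x) + d (s * x)) + d s := by abel
        rw [e3, h2, h2, add_zero, zero_add]
      rwa [e1] at h3
    refine sup_le ?_ ?_
    · rintro _ ⟨s, rfl⟩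
      have h3 := sub_mem (k2 s 1 one_ne_zero) (k3 (s * 1))
      rwa [add_sub_cancel_right] at h3
    · rintro _ ⟨s, rfl⟩
      exact k3 s

/-- `C_V(D) = L + C` -/
theorem BkD_fxd {F : Type w'} [Field F] {e f d : F →+ V} {C : AddSubgroup V} {up lo : F → X} (h : BkD e f d C up lo)
    (h2 : ∀ v : V, v + v = 0) (hf : ∀ x : X, (∀ v : V, x • v = v) → x = 1) :
    (fxd (rt up) : AddSubgroup V) = e.range ⊔ C := by
  apply le_antisymm
  · intro v hv
    obtain ⟨x, y, c, hc, rfl⟩ := h.dec v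
    have h1 := hv _ (TypesGam.up_mem 1)
    have h3 := BkD_sub h 1 x y hc
    rw [h1, sub_self, one_mul, one_mul] at h3
    have h5 : e y + f 0 ∈ C := by
      have e1 : e y + f 0 = - d (y ^ 2) := by
        rw [map_zero, add_zero]
        exact eq_neg_of_add_eq_zero_left h3.symm
      rw [e1]
      exact neg_mem (h.dC _)
    obtain ⟨rfl, -⟩ := h.ind _ _ h5
    rw [map_zero, add_zero]
    exact add_mem (AddSubgroup.mem_sup_left ⟨_, rfl⟩) (AddSubgroup.mem_sup_right hc)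
  · refine sup_le ?_ ?_
    · rintro _ ⟨s, rfl⟩ a ha
      obtain ⟨t, rfl⟩ := (h.mem_rt h2 hf).1 ha
      exact h.up_e t s
    · rintro c hc a ha
      obtain ⟨t, rfl⟩ := (h.mem_rt h2 hf).1 ha
      exact h.up_c t c hc

theorem NBd_brk {D : Subgroup X} {N C L Z : AddSubgroup V} (h : AsmN.NBd D N C L Z) (h2 : ∀ v : V, v + v = 0)
    (hf : ∀ x : X, (∀ v : V, x • v = v) → x = 1) (h4 : 2 < Nat.card D) : brk V D = L ⊔ Z := by
  obtain ⟨F, i1, i2, e, f, d, up, lo, hb, rfl, rfl, rfl, rfl⟩ := h.ex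
  rw [hb.card_rt h2 hf] at h4
  exact BkD_brk hb h2 hf h4

theorem NBd_fxd {D : Subgroup X} {N C L Z : AddSubgroup V} (h : AsmN.NBd D N C L Z) (h2 : ∀ v : V, v + v = 0)
    (hf : ∀ x : X, (∀ v : V, x • v = v) → x = 1) : (fxd D : AddSubgroup V) = L ⊔ C := by
  obtain ⟨F, i1, i2, e, f, d, up, lo, hb, rfl, rfl, rfl, rfl⟩ := h.ex
  exact BkD_fxd hb h2 hf

/-- a nonsplit or split block depends only on its root group and its radical -/
theorem NBd_eq [Finite X] [Finite V] {D : Subgroup X} {N C L Z N' C' L' : AddSubgroup V} (h : AsmN.NBd D N C L Z)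
    (h' : AsmN.NBd D N' C' L' Z) (h2 : ∀ v : V, v + v = 0) (hf : ∀ x : X, (∀ v : V, x • v = v) → x = 1)
    (hno : NO X V) (h4 : 4 ≤ Nat.card D) : N = N' ∧ C = C' ∧ L = L' := by
  obtain ⟨F, i1, i2, e, f, d, up, lo, hb, hD, rfl, rfl, rfl⟩ := h.ex
  obtain ⟨F', j1, j2, e', f', d', up', lo', hb', hD', rfl, rfl, hdd⟩ := h'.ex
  have hcF : 4 ≤ Nat.card F := by
    rw [← hb.card_rt h2 hf, hD]
    exact h4
  have m1 : ∀ x, d' x ∈ d.range := fun x => hdd ▸ ⟨x, rfl⟩
  have m2 : ∀ x, d x ∈ d'.range := fun x => hdd.symm ▸ ⟨x, rfl⟩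
  by_cases hd : ∃ x, d x ≠ 0
  · obtain ⟨h5, h6, -, h7⟩ := hb.eq hb' h2 hf hno hd (by omega) (hD.trans hD'.symm)
      (fun x => by obtain ⟨y, hy⟩ := m1 x; rw [← hy]; exact hb.dC y)
      (fun x => by obtain ⟨y, hy⟩ := m2 x; rw [← hy]; exact hb'.dC y)
    exact ⟨h7, h5, h6⟩
  · push Not at hd
    have hd' : ∀ x, d' x = 0 := fun x => by
      obtain ⟨y, hy⟩ := m1 x
      rw [← hy, hd]
    have b : Bk e f C up lo :=
      { dec := hb.dec
        ind := hb.ind
        up_e := hb.up_e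
        up_f := fun t x => by rw [hb.up_f, hd, add_zero]
        up_c := hb.up_c
        lo_e := fun t x => by rw [hb.lo_e, hd, add_zero]
        lo_f := hb.lo_f
        lo_c := hb.lo_c }
    have b' : Bk e' f' C' up' lo' :=
      { dec := hb'.dec
        ind := hb'.ind
        up_e := hb'.up_e
        up_f := fun t x => by rw [hb'.up_f, hd', add_zero]
        up_c := hb'.up_c
        lo_e := fun t x => by rw [hb'.lo_e, hd', add_zero]
        lo_f := hb'.lo_f
        lo_c := hb'.lo_c }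
    obtain ⟨h5, h6, h7⟩ := b.eq b' h2 hf hno hcF (hD.trans hD'.symm)
    refine ⟨?_, h5, h6⟩
    rw [h7, hdd]

end lin

/-- **conjugate root groups with conjugate radicals have conjugate blocks** -/
theorem NBd_perm {X : Type u} {X' : Type v} {V : Type w} {V' : Type w} [Group X] [Group X'] [AddCommGroup V]
    [AddCommGroup V'] [DistribMulAction X V] [DistribMulAction X' V'] [Finite X'] [Finite V'] {D : Subgroup X}
    {N C L Z : AddSubgroup V} (h : AsmN.NBd D N C L Z) (τ : V ≃+ V') (σ : X →* X')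
    (hτ : ∀ (x : X) (v : V), τ (x • v) = σ x • τ v) {D' : Subgroup X'} {N' C' L' Z' : AddSubgroup V'}
    (h' : AsmN.NBd D' N' C' L' Z') (h2 : ∀ v : V', v + v = 0) (hf : ∀ x : X', (∀ v : V', x • v = v) → x = 1)
    (hno : NO X' V') (h4 : 4 ≤ Nat.card D') (hD : D.map σ = D') (hZ : Z.map τ.toAddMonoidHom = Z') :
    N.map τ.toAddMonoidHom = N' ∧ C.map τ.toAddMonoidHom = C' ∧ L.map τ.toAddMonoidHom = L' := by
  have h1 := NBd_tr h τ σ hτ
  rw [hD, hZ] at h1
  exact NBd_eq h1 h' h2 hf hno h4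

/-- the same for `g ∈ X` -/
theorem NBd_permg {X : Type u} {V : Type w} [Group X] [AddCommGroup V] [DistribMulAction X V] [Finite X] [Finite V]
    {D D' : Subgroup X} {N C L Z N' C' L' Z' : AddSubgroup V} (h : AsmN.NBd D N C L Z) (h' : AsmN.NBd D' N' C' L' Z')
    (h2 : ∀ v : V, v + v = 0) (hf : ∀ x : X, (∀ v : V, x • v = v) → x = 1) (hno : NO X V) (h4 : 4 ≤ Nat.card D')
    (g : X) (hD : MulAut.conj g • D = D') (hZ : g • Z = Z') : g • N = N' ∧ g • C = C' ∧ g • L = L' := by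
  have h1 := NBd_cj h g
  rw [hD, hZ] at h1
  exact NBd_eq h1 h' h2 hf hno h4

/-! ### group level -/

section isnbd

variable {G : Type u} [Group G] {H U : Subgroup G}

/-- `A` acts on `U` as the root group of the natural block `N = R R⁻ D`, `U = R R⁻ × C`, `D ≤ C`. -/
structure NBD (Q : Nrm H U) (A R D N C : Subgroup G) {F : Type} [Field F] (e f d : F →+ Q.Mod) (up lo : F → H) :
    Prop where
  bk : BkD e f d (Q.ad C) up lo
  upA : ∀ t, (up t : G) ∈ A
  Aup : ∀ a : H, (a : G) ∈ A → ∃ t, ∀ m : Q.Mod, a • m = up t • m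
  AH : A ≤ H
  eR : e.range = Q.ad R
  dD : d.range = Q.ad D
  eN : (e.range ⊔ f.range) ⊔ d.range = Q.ad N
  RU : R ≤ U
  DU : D ≤ U
  NU : N ≤ U
  CU : C ≤ U

/-- `A` acts on `U` as the root group of a natural block `N` over a field with at least four elements,
`N = R R⁻ D`, `U = R R⁻ × C`, `D ≤ C`; `D = 1` : split. -/
def IsNBD (Q : Nrm H U) (A R D N C : Subgroup G) : Prop :=
  ∃ (F : Type) (_ : Field F) (_ : Finite F) (_ : CharP F 2) (e f d : F →+ Q.Mod) (up lo : F → H),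
    4 ≤ Nat.card F ∧ NBD Q A R D N C e f d up lo

variable {Q : Nrm H U} {A R D N C : Subgroup G} {n : G}

theorem NBD.conjN {F : Type} [Field F] {e f d : F →+ Q.Mod} {up lo : F → H} (h : NBD Q A R D N C e f d up lo)
    (hU : n ∈ normalizer (U : Set G)) (hH : n ∈ normalizer (H : Set G)) :
    NBD Q (MulAut.conj n • A) (MulAut.conj n • R) (MulAut.conj n • D) (MulAut.conj n • N) (MulAut.conj n • C)
      ((tau Q hU).toAddMonoidHom.comp e) ((tau Q hU).toAddMonoidHom.comp f) ((tau Q hU).toAddMonoidHom.comp d)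
      (fun t => cjH hH (up t)) (fun t => cjH hH (lo t)) where
  bk := by
    have h1 := BkD_tr h.bk (tau Q hU) (cjH hH) fun x v => tau_smul Q hU hH x v
    rw [map_tau] at h1
    exact h1
  upA t := conj_mem' (h.upA t)
  Aup a ha := by
    have h0 : n⁻¹ * (a : G) * n ∈ A := mem_conj.1 ha
    obtain ⟨t, ht⟩ := h.Aup ⟨_, h.AH h0⟩ h0
    refine ⟨t, fun m => ?_⟩
    have h2 := congrArg (tau Q hU) (ht ((tau Q hU).symm m))
    rw [tau_smul Q hU hH, tau_smul Q hU hH, (tau Q hU).apply_symm_apply] at h2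
    have h3 : cjH hH ⟨_, h.AH h0⟩ = a := by
      apply Subtype.ext
      change n * (n⁻¹ * (a : G) * n) * n⁻¹ = a
      group
    rwa [h3] at h2
  AH := by
    intro x hx
    have h1 := (mem_normalizer_iff.1 hH _).1 (h.AH (mem_conj.1 hx))
    have e1 : n * (n⁻¹ * x * n) * n⁻¹ = x := by group
    rwa [e1] at h1
  eR := by rw [AddMonoidHom.range_comp, h.eR, map_tau]
  dD := by rw [AddMonoidHom.range_comp, h.dD, map_tau]
  eN := by
    rw [AddMonoidHom.range_comp, AddMonoidHom.range_comp, AddMonoidHom.range_comp, ← AddSubgroup.map_sup,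
      ← AddSubgroup.map_sup, h.eN, map_tau]
  RU := conj_le_U hU h.RU
  DU := conj_le_U hU h.DU
  NU := conj_le_U hU h.NU
  CU := conj_le_U hU h.CU

theorem IsNBD.conjN (h : IsNBD Q A R D N C) (hU : n ∈ normalizer (U : Set G)) (hH : n ∈ normalizer (H : Set G)) :
    IsNBD Q (MulAut.conj n • A) (MulAut.conj n • R) (MulAut.conj n • D) (MulAut.conj n • N) (MulAut.conj n • C) := by
  obtain ⟨F, i1, i2, i3, e, f, d, up, lo, hF, h⟩ := h
  exact ⟨F, i1, i2, i3, _, _, _, _, _, hF, h.conjN hU hH⟩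

/-- conjugation by `g ∈ H` -/
theorem IsNBD.conj (h : IsNBD Q A R D N C) {g : G} (hg : g ∈ H) :
    IsNBD Q (MulAut.conj g • A) (MulAut.conj g • R) (MulAut.conj g • D) (MulAut.conj g • N) (MulAut.conj g • C) :=
  h.conjN (Q.nrm hg) (le_normalizer hg)

theorem IsNBD.AH (h : IsNBD Q A R D N C) : A ≤ H := by
  obtain ⟨F, i1, i2, i3, e, f, d, up, lo, hF, h⟩ := h
  exact h.AH

theorem IsNBD.NU (h : IsNBD Q A R D N C) : N ≤ U := by
  obtain ⟨F, i1, i2, i3, e, f, d, up, lo, hF, h⟩ := h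
  exact h.NU

theorem IsNBD.CU (h : IsNBD Q A R D N C) : C ≤ U := by
  obtain ⟨F, i1, i2, i3, e, f, d, up, lo, hF, h⟩ := h
  exact h.CU

theorem IsNBD.RN (h : IsNBD Q A R D N C) : R ≤ N := by
  obtain ⟨F, i1, i2, i3, e, f, d, up, lo, hF, h⟩ := h
  intro x hx
  have h1 : Q.of x (h.RU hx) ∈ e.range := by rw [h.eR]; exact hx
  have h2 : Q.of x (h.RU hx) ∈ Q.ad N := by
    rw [← h.eN]
    exact AddSubgroup.mem_sup_left (AddSubgroup.mem_sup_left h1)
  exact h2

theorem IsNBD.DN (h : IsNBD Q A R D N C) : D ≤ N := by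
  obtain ⟨F, i1, i2, i3, e, f, d, up, lo, hF, h⟩ := h
  intro x hx
  have h1 : Q.of x (h.DU hx) ∈ d.range := by rw [h.dD]; exact hx
  have h2 : Q.of x (h.DU hx) ∈ Q.ad N := by
    rw [← h.eN]
    exact AddSubgroup.mem_sup_right h1
  exact h2

theorem IsNBD.DC (h : IsNBD Q A R D N C) : D ≤ C := by
  obtain ⟨F, i1, i2, i3, e, f, d, up, lo, hF, h⟩ := h
  intro x hx
  have h1 : Q.of x (h.DU hx) ∈ d.range := by rw [h.dD]; exact hx
  obtain ⟨y, hy⟩ := h1
  have h2 := h.bk.dC y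
  rw [hy] at h2
  exact h2

/-- module level, over the group induced by `H` on `U` -/
theorem IsNBD.toNBd (h : IsNBD Q A R D N C) :
    AsmN.NBd ((A.subgroupOf H).map (ph Q)) (Q.ad N) (Q.ad C) (Q.ad R) (Q.ad D) := by
  obtain ⟨F, i1, i2, i3, e, f, d, up, lo, hF, h⟩ := h
  refine ⟨F, i1, i2, e, f, d, fun t => ph Q (up t), fun t => ph Q (lo t), mapD h.bk (ph Q) (ph_smul Q), ?_, h.eN, h.eR,
    h.dD⟩
  apply le_antisymm
  · rw [rt, closure_le]
    rintro _ ⟨t, rfl⟩
    exact ⟨up t, mem_subgroupOf.2 (h.upA t), rfl⟩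
  · rintro _ ⟨a, ha, rfl⟩
    obtain ⟨t, ht⟩ := h.Aup a (mem_subgroupOf.1 ha)
    rw [(ph_eq Q).2 ht]
    exact subset_closure ⟨t, rfl⟩

theorem two_ofN {U : Subgroup G} (Q : Nrm H U) (hU2 : IsElementaryAbelian 2 U) (v : Q.Mod) : v + v = 0 :=
  Nrm.ext (by
    rw [Nrm.val_add, Nrm.val_zero]
    have := hU2.2 _ (Q.val_mem v)
    rwa [pow_two] at this)

theorem IsNBD.card4 (h : IsNBD Q A R D N C) (hU2 : IsElementaryAbelian 2 U) :
    4 ≤ Nat.card ((A.subgroupOf H).map (ph Q)) := by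
  obtain ⟨F, i1, i2, i3, e, f, d, up, lo, hF, h⟩ := h
  have b := mapD h.bk (ph Q) (ph_smul Q)
  have h1 : rt (fun t => ph Q (up t)) = (A.subgroupOf H).map (ph Q) := by
    apply le_antisymm
    · rw [rt, closure_le]
      rintro _ ⟨t, rfl⟩
      exact ⟨up t, mem_subgroupOf.2 (h.upA t), rfl⟩
    · rintro _ ⟨a, ha, rfl⟩
      obtain ⟨t, ht⟩ := h.Aup a (mem_subgroupOf.1 ha)
      rw [(ph_eq Q).2 ht]
      exact subset_closure ⟨t, rfl⟩
  rw [← h1, b.card_rt (two_ofN Q hU2) (fun x hx => XH_faith Q x hx)]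
  exact hF

/-- **a block depends only on its root group (as a group acting on `U`) and its radical** -/
theorem IsNBD.eq' [Finite G] {A' R' N' C' : Subgroup G} (h : IsNBD Q A R D N C) (h' : IsNBD Q A' R' D N' C')
    (hU2 : IsElementaryAbelian 2 U) (hno : NoOverM U H)
    (hA : (A.subgroupOf H).map (ph Q) = (A'.subgroupOf H).map (ph Q)) : R = R' ∧ N = N' ∧ C = C' := by
  have h1 := h.toNBd
  have h3 := h'.toNBd
  rw [← hA] at h3
  obtain ⟨h5, h6, h7⟩ := NBd_eq h1 h3 (two_ofN Q hU2) (fun x hx => XH_faith Q x hx) (no_XH Q hno) (h.card4 hU2)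
  have k : ∀ {R D N C A : Subgroup G}, IsNBD Q A R D N C → R ≤ U := by
    rintro R D N C A ⟨F, i1, i2, i3, e, f, d, up, lo, hF, h⟩
    exact h.RU
  exact ⟨ad_inj Q (k h) (k h') h7, ad_inj Q h.NU h'.NU h5, ad_inj Q h.CU h'.CU h6⟩

theorem IsNBD.eq [Finite G] {R' N' C' : Subgroup G} (h : IsNBD Q A R D N C) (h' : IsNBD Q A R' D N' C')
    (hU2 : IsElementaryAbelian 2 U) (hno : NoOverM U H) : R = R' ∧ N = N' ∧ C = C' := h.eq' h' hU2 hno rfl

/-- **conjugate root groups with conjugate radicals have conjugate blocks** -/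
theorem IsNBD.perm [Finite G] {A' R' D' N' C' : Subgroup G} (h : IsNBD Q A R D N C) (h' : IsNBD Q A' R' D' N' C')
    (hU2 : IsElementaryAbelian 2 U) (hno : NoOverM U H) (hU : n ∈ normalizer (U : Set G))
    (hH : n ∈ normalizer (H : Set G)) (hA : MulAut.conj n • A = A') (hD : MulAut.conj n • D = D') :
    MulAut.conj n • R = R' ∧ MulAut.conj n • N = N' ∧ MulAut.conj n • C = C' := by
  have h1 := h.conjN hU hH
  rw [hA, hD] at h1
  exact h1.eq h' hU2 hno

/-- the same, if only the images of the root groups in `H / C_H(U)` are conjugate -/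
theorem IsNBD.perm' [Finite G] {A' R' D' N' C' : Subgroup G} (h : IsNBD Q A R D N C) (h' : IsNBD Q A' R' D' N' C')
    (hU2 : IsElementaryAbelian 2 U) (hno : NoOverM U H) (hU : n ∈ normalizer (U : Set G))
    (hH : n ∈ normalizer (H : Set G))
    (hA : ((MulAut.conj n • A).subgroupOf H).map (ph Q) = (A'.subgroupOf H).map (ph Q))
    (hD : MulAut.conj n • D = D') :
    MulAut.conj n • R = R' ∧ MulAut.conj n • N = N' ∧ MulAut.conj n • C = C' := by
  have h1 := h.conjN hU hH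
  rw [hD] at h1
  exact h1.eq' h' hU2 hno hA

/-- `[U, A] = R D` -/
theorem IsNBD.comm [Finite G] (h : IsNBD Q A R D N C) (hU2 : IsElementaryAbelian 2 U) :
    Q.ad (closure (covs U A)) = Q.ad R ⊔ Q.ad D := by
  have h1 := NBd_brk h.toNBd (two_ofN Q hU2) (fun x hx => XH_faith Q x hx) (by have := h.card4 hU2; omega)
  rw [← h1]
  have h3 : brk Q.Mod ((A.subgroupOf H).map (ph Q)) = brk Q.Mod (A.subgroupOf H) := by
    rw [brk, brk]
    congr 1
    ext m
    constructor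
    · rintro ⟨_, ⟨a, ha, rfl⟩, v, rfl⟩
      exact ⟨a, ha, v, rfl⟩
    · rintro ⟨a, ha, v, rfl⟩
      exact ⟨_, ⟨a, ha, rfl⟩, v, rfl⟩
  rw [h3, brk_eq, subgroupOf_map_subtype, inf_eq_left.2 h.AH]

/-- `C_U(A) = R C` -/
theorem IsNBD.cent [Finite G] (h : IsNBD Q A R D N C) (hU2 : IsElementaryAbelian 2 U) {m : Q.Mod} :
    (∀ a ∈ A, a * Q.val m * a⁻¹ = Q.val m) ↔ m ∈ Q.ad R ⊔ Q.ad C := by
  rw [← NBd_fxd h.toNBd (two_ofN Q hU2) (fun x hx => XH_faith Q x hx), mem_fxd]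
  constructor
  · rintro h1 _ ⟨a, ha, rfl⟩
    exact Nrm.ext (h1 a (mem_subgroupOf.1 ha))
  · intro h1 a ha
    have h3 := h1 _ ⟨⟨a, h.AH ha⟩, mem_subgroupOf.2 ha, rfl⟩
    exact congrArg Q.val h3

/-- split blocks -/
theorem IsNB.toD {A R N C : Subgroup G} (h : IsNB Q A R N C) : IsNBD Q A R ⊥ N C := by
  obtain ⟨F, i1, i2, i3, e, f, up, lo, hF, h⟩ := h
  have h0 : (0 : F →+ Q.Mod).range = ⊥ := by
    rw [eq_bot_iff]
    rintro _ ⟨x, rfl⟩
    exact AddSubgroup.mem_bot.2 rfl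
  have h1 : Q.ad (⊥ : Subgroup G) = ⊥ := by
    rw [eq_bot_iff]
    intro m hm
    exact AddSubgroup.mem_bot.2 (Nrm.eq_zero_iff.2 (Subgroup.mem_bot.1 hm))
  exact ⟨F, i1, i2, i3, e, f, 0, up, lo, hF,
    { bk :=
        { dC := fun _ => AddSubgroup.zero_mem _
          dec := h.bk.dec
          ind := h.bk.ind
          up_e := h.bk.up_e
          up_f := fun t x => by rw [h.bk.up_f, AddMonoidHom.zero_apply, add_zero]
          up_c := h.bk.up_c
          lo_e := fun t x => by rw [h.bk.lo_e, AddMonoidHom.zero_apply, add_zero]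
          lo_f := h.bk.lo_f
          lo_c := h.bk.lo_c }
      upA := h.upA
      Aup := h.Aup
      AH := h.AH
      eR := h.eR
      dD := by rw [h0, h1]
      eN := by rw [h0, sup_bot_eq, h.eN]
      RU := h.RU
      DU := bot_le
      NU := h.NU
      CU := h.CU }⟩

end isnbd

end Cfsg.Agent.Omega.NOThreeL.RRed.Blk.TypesNat

end

section


/-!
# NO-3L, box R, nonsplit blocks: the field `bad`, module level (helper878, bb #27357)

`FamN S EE FF N C L Z` (helper19), `α : V ≃+ V` and `φ : X ≃* X` with `α (x v) = φ(x) α(v)`, `φ` permutes `EE`,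
`α (⨆ N D) ≤ ⨆ N D`, `(a φ(a)⁻¹)` fixes `α m - m` for `a ∈ A ∈ EE`, `m ∈ ⨆ N D` : `AutN EE (⨆ N D) α φ`.

* `blk` : one block, `φ(A) = A`;
* **`bad`** : if `α` has odd order and fixes a vector all of whose `L`-components are `≠ 0` then `α` is trivial on `⨆ N D`.
-/

set_option autoImplicit false
set_option linter.unusedSectionVars false

namespace Cfsg.Agent.Omega.NOThreeL.RRed.Blk.BadFam

open Cfsg.Agent.Omega.NOThreeL.RRed.Blk.TypesGam (rt up_mem)
open Cfsg.Agent.Omega.NOThreeL.RRed.Blk.GamD (BkD)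
open Cfsg.Agent.Omega.NOThreeL.RRed.Blk.AsmN (FamN GBd NBd)
open scoped Pointwise

universe u v w

variable {X : Type u} {V : Type v} [Group X] [AddCommGroup V] [DistribMulAction X V]

/-- an automorphism of `(X, V)` with the commutator condition -/
structure AutN (EE : Set (Subgroup X)) (B : AddSubgroup V) (α : V ≃+ V) (φ : X ≃* X) : Prop where
  smul : ∀ (x : X) (v : V), α (x • v) = φ x • α v
  E : ∀ A ∈ EE, A.map φ.toMonoidHom ∈ EE
  E' : ∀ A' ∈ EE, ∃ A ∈ EE, A' = A.map φ.toMonoidHom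
  nB : ∀ m ∈ B, α m ∈ B
  com : ∀ A ∈ EE, ∀ a ∈ A, ∀ m ∈ B, (a * (φ a)⁻¹) • (α m - m) = α m - m

theorem iter_two {α : V ≃+ V} {m : V} (h : α (α m) = m) {n : ℕ} (hn : Odd n) : (⇑α)^[n] m = α m := by
  obtain ⟨k, rfl⟩ := hn
  change (⇑α)^[(2 * k).succ] m = α m
  rw [Function.iterate_succ_apply']
  congr 1
  induction k with
  | zero => rfl
  | succ k ih =>
    have e : 2 * (k + 1) = 2 * k + 2 := by ring
    rw [e, Function.iterate_add_apply]
    change (⇑α)^[2 * k] (α (α m)) = m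
    rw [h, ih]

/-- **one block** -/
theorem blk (h2 : ∀ v : V, v + v = 0) (hf : ∀ x : X, (∀ v : V, x • v = v) → x = 1)
    {F : Type w} [Field F] {e f d : F →+ V} {C : AddSubgroup V} {up lo : F → X} (h : BkD e f d C up lo)
    {α : V ≃+ V} {φ : X ≃* X} (hs : ∀ (x : X) (v : V), α (x • v) = φ x • α v)
    (hD : ∀ a ∈ rt up, φ a ∈ rt up)
    (hL : ∀ v ∈ e.range, α v ∈ e.range) (hC : ∀ v ∈ C, α v ∈ C)
    (hN : ∀ v ∈ (e.range ⊔ f.range) ⊔ d.range, α v ∈ (e.range ⊔ f.range) ⊔ d.range)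
    (hcom : ∀ a ∈ rt up, ∀ m ∈ (e.range ⊔ f.range) ⊔ d.range, (a * (φ a)⁻¹) • (α m - m) = α m - m)
    {n : ℕ} (hn : Odd n) (hα : ∀ v, (⇑α)^[n] v = v)
    {e₀ : V} (he : α e₀ = e₀) (hc : ∃ x ∈ e.range, x ≠ 0 ∧ e₀ - x ∈ C) :
    ∀ m ∈ (e.range ⊔ f.range) ⊔ d.range, α m = m := by
  obtain ⟨_, ⟨x₀, rfl⟩, hx0, hxc⟩ := hc
  have hx0' : x₀ ≠ 0 := fun h1 => hx0 (by rw [h1, map_zero])
  have hfN : ∀ y, f y ∈ (e.range ⊔ f.range) ⊔ d.range := fun y =>
    AddSubgroup.mem_sup_left (AddSubgroup.mem_sup_right ⟨y, rfl⟩)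
  choose χ hχ using fun x : F => (show ∃ x', e x' = α (e x) from hL _ ⟨x, rfl⟩)
  choose τ hτ using fun t : F => (h.mem_rt h2 hf).1 (hD (up t) (up_mem t))
  choose γ ψ c hcC hψ using fun y : F => h.dec (α (f y))
  -- `α` fixes `e x₀`
  have hχ0 : χ x₀ = x₀ := by
    have h1 : α (e₀ - e x₀) ∈ C := hC _ hxc
    rw [map_sub, he] at h1
    have h3 : e (χ x₀ - x₀) + f 0 ∈ C := by
      rw [map_sub, map_zero, add_zero, hχ]
      have e1 : α (e x₀) - e x₀ = (e₀ - e x₀) - (e₀ - α (e x₀)) := by abel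
      rw [e1]
      exact C.sub_mem hxc h1
    exact sub_eq_zero.1 (h.ind _ _ h3).1
  -- (1)
  have key1 : ∀ t y, χ (t * y) = τ t * ψ y ∧ α (d (t * y ^ 2)) = d (τ t * ψ y ^ 2) := by
    intro t y
    have h1 := hs (up t) (f y)
    rw [h.up_f, map_add, map_add, ← hτ t, hψ y, smul_add, smul_add, h.up_e, h.up_f, h.up_c _ _ (hcC y), ← hχ] at h1
    have h3 : e (χ (t * y)) + f 0 + α (d (t * y ^ 2)) = e (τ t * ψ y) + f 0 + d (τ t * ψ y ^ 2) := by
      rw [map_zero, add_zero, add_zero]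
      have e1 : e (γ y) + f (ψ y) + c y + e (χ (t * y)) + α (d (t * y ^ 2)) =
          (e (γ y) + f (ψ y) + c y) + (e (χ (t * y)) + α (d (t * y ^ 2))) := by abel
      have e2 : e (γ y) + (f (ψ y) + e (τ t * ψ y) + d (τ t * ψ y ^ 2)) + c y =
          (e (γ y) + f (ψ y) + c y) + (e (τ t * ψ y) + d (τ t * ψ y ^ 2)) := by abel
      rw [e1, e2] at h1
      exact add_left_cancel h1
    obtain ⟨h4, -, h5⟩ := h.uniq (hC _ (h.dC _)) (h.dC _) h3
    exact ⟨h4, h5⟩
  -- (2)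
  have key2 : ∀ t y, (t + τ t) * (ψ y - y) = 0 := by
    intro t y
    have h1 := hcom (up t) (up_mem t) (f y) (hfN y)
    rw [← hτ t, h.up_inv h2 hf, h.up_add hf, hψ y] at h1
    have e1 : e (γ y) + f (ψ y) + c y - f y = e (γ y) + f (ψ y - y) + c y := by rw [map_sub]; abel
    rw [e1, smul_add, smul_add, h.up_e, h.up_f, h.up_c _ _ (hcC y)] at h1
    have h3 : e ((t + τ t) * (ψ y - y)) + f 0 + d ((t + τ t) * (ψ y - y) ^ 2) = e 0 + f 0 + 0 := by
      rw [map_zero, map_zero, add_zero, add_zero, add_zero]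
      have e2 : e (γ y) + (f (ψ y - y) + e ((t + τ t) * (ψ y - y)) + d ((t + τ t) * (ψ y - y) ^ 2)) + c y =
          (e (γ y) + f (ψ y - y) + c y) + (e ((t + τ t) * (ψ y - y)) + d ((t + τ t) * (ψ y - y) ^ 2)) := by abel
      rw [e2] at h1
      exact add_eq_left.1 h1
    exact (h.uniq (h.dC _) C.zero_mem h3).1
  have hF2 : ∀ x : F, x + x = 0 := h.two h2
  -- the identities
  have hid : (∀ x, χ x = x) ∧ (∀ y, ψ y = y) ∧ ∀ t, τ t = t := by
    by_cases hψi : ∀ y, ψ y = y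
    · have h1 : ∀ t y, χ (t * y) = τ t * y := fun t y => by rw [(key1 t y).1, hψi]
      have h3 : τ 1 = 1 := by
        have h4 := h1 1 x₀
        rw [one_mul, hχ0] at h4
        exact mul_right_cancel₀ hx0' (by rw [← h4, one_mul])
      have h4 : ∀ x, χ x = x := fun x => by
        have h5 := h1 1 x
        rwa [one_mul, h3, one_mul] at h5
      refine ⟨h4, hψi, fun t => ?_⟩
      have h5 := h1 t 1
      rw [mul_one, mul_one, h4] at h5
      exact h5.symm
    · push Not at hψi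
      obtain ⟨y₀, hy₀⟩ := hψi
      have hτi : ∀ t, τ t = t := fun t => by
        rcases mul_eq_zero.1 (key2 t y₀) with h1 | h1
        · have h3 := hF2 t
          have h4 : t + τ t = t + t := by rw [h1, h3]
          exact add_left_cancel h4
        · exact (hy₀ (sub_eq_zero.1 h1)).elim
      have h1 : ∀ t y, χ (t * y) = t * ψ y := fun t y => by rw [(key1 t y).1, hτi]
      have h3 : ψ 1 = 1 := by
        have h4 := h1 x₀ 1
        rw [mul_one, hχ0] at h4
        exact mul_left_cancel₀ hx0' (by rw [← h4, mul_one])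
      have h4 : ∀ x, χ x = x := fun x => by
        have h5 := h1 x 1
        rwa [mul_one, h3, mul_one] at h5
      refine ⟨h4, fun y => ?_, hτi⟩
      have h5 := h1 1 y
      rw [one_mul, one_mul, h4] at h5
      exact h5.symm
  obtain ⟨hχi, hψi, hτi⟩ := hid
  have ae : ∀ x, α (e x) = e x := fun x => by rw [← hχ, hχi]
  have ad : ∀ x, α (d x) = d x := fun x => by
    have h1 := (key1 x 1).2
    rwa [hτi, hψi, one_pow, mul_one] at h1
  -- `α` is trivial on `f F`
  have af : ∀ y, α (f y) = f y := by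
    intro y
    have h1 : α (f y) ∈ (e.range ⊔ f.range) ⊔ d.range := hN _ (hfN y)
    obtain ⟨m, hm, _, ⟨z, rfl⟩, h3⟩ := AddSubgroup.mem_sup.1 h1
    obtain ⟨_, ⟨x', rfl⟩, _, ⟨y', rfl⟩, rfl⟩ := AddSubgroup.mem_sup.1 hm
    have h4 := hψ y
    rw [hψi, ← h3] at h4
    obtain ⟨h5, h6, h7⟩ := h.uniq (h.dC z) (hcC y) h4
    have h8 : α (f y) = f y + (e (γ y) + d z) := by rw [hψ y, hψi, h7]; abel
    have h9 : α (α (f y)) = f y := by
      rw [h8, map_add, map_add, ae, ad, h8, add_assoc, h2, add_zero]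
    have h10 := iter_two h9 hn
    rw [hα] at h10
    exact h10.symm
  intro m hm
  obtain ⟨m', hm', _, ⟨z, rfl⟩, rfl⟩ := AddSubgroup.mem_sup.1 hm
  obtain ⟨_, ⟨x', rfl⟩, _, ⟨y', rfl⟩, rfl⟩ := AddSubgroup.mem_sup.1 hm'
  rw [map_add, map_add, ae, af, ad]

section fam

variable {S : Subgroup X} {EE FF : Set (Subgroup X)} {N C L Z : Subgroup X → AddSubgroup V}

/-- `φ(D) ∈ FF` -/
theorem mem_FF (h2 : ∀ v : V, v + v = 0) (hf : ∀ x : X, (∀ v : V, x • v = v) → x = 1) (h : FamN S EE FF N C L Z)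
    {α : V ≃+ V} {φ : X ≃* X} (a : AutN EE (⨆ D ∈ FF, N D) α φ) {D : Subgroup X} (hD : D ∈ FF) :
    D.map φ.toMonoidHom ∈ FF := by
  by_contra hcon
  have hDE := a.E D (h.sub hD)
  -- `φ(D)` centralises `⨆ N D`
  have h1 : ∀ x ∈ D.map φ.toMonoidHom, ∀ m ∈ (⨆ D ∈ FF, N D : AddSubgroup V), x • m = m := by
    intro x hx
    have h3 : (⨆ D ∈ FF, N D : AddSubgroup V) ≤
        { carrier := {m : V | x • m = m}
          zero_mem' := smul_zero x
          add_mem' := fun {a b} (ha : x • a = a) (hb : x • b = b) => by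
            change x • (a + b) = a + b
            rw [smul_add, ha, hb]
          neg_mem' := fun {a} (ha : x • a = a) => by
            change x • (-a) = -a
            rw [smul_neg, ha] } := by
      refine iSup₂_le fun D' hD' m hm => ?_
      exact (h.gb D' hD').oth _ hDE (fun e => hcon (e ▸ hD')) x hx m hm
    exact fun m hm => h3 hm
  obtain ⟨F, i1, i2, e, f, d, up, lo, hb, hrt, hN, hL, hZ⟩ := (h.gb D hD).nb.ex
  have hfN : f 1 ∈ N D := by
    rw [← hN]
    exact AddSubgroup.mem_sup_left (AddSubgroup.mem_sup_right ⟨1, rfl⟩)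
  have h3 : φ (up 1) • α (f 1) = α (f 1) := by
    refine h1 _ ⟨up 1, ?_, rfl⟩ _ (a.nB _ ?_)
    · rw [SetLike.mem_coe, ← hrt]
      exact up_mem 1
    · exact (le_iSup₂_of_le (f := fun (D : Subgroup X) (_ : D ∈ FF) => N D) D hD le_rfl) hfN
  rw [← a.smul] at h3
  have h4 := α.injective h3
  rw [hb.up_f, mul_one, one_pow, mul_one, add_assoc] at h4
  have h5 : e 1 + f 0 + d 1 = e 0 + f 0 + 0 := by
    rw [map_zero, map_zero, add_zero, add_zero, add_zero]
    exact add_eq_left.1 h4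
  exact one_ne_zero (hb.uniq (hb.dC _) (C D).zero_mem h5).1

/-- **the field `bad`, module level** -/
theorem bad (h2 : ∀ v : V, v + v = 0) (hf : ∀ x : X, (∀ v : V, x • v = v) → x = 1) (h : FamN S EE FF N C L Z)
    {α : V ≃+ V} {φ : X ≃* X} (a : AutN EE (⨆ D ∈ FF, N D) α φ) {n : ℕ} (hn : Odd n) (hα : ∀ v, (⇑α)^[n] v = v)
    {e₀ : V} (he : α e₀ = e₀) (hc : ∀ D ∈ FF, ∃ x ∈ L D, x ≠ 0 ∧ e₀ - x ∈ C D) :
    ∀ m ∈ (⨆ D ∈ FF, N D : AddSubgroup V), α m = m := by
  have hNB : ∀ D ∈ FF, ∀ m ∈ N D, m ∈ (⨆ D ∈ FF, N D : AddSubgroup V) := fun D hD m hm =>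
    (le_iSup₂_of_le (f := fun (D : Subgroup X) (_ : D ∈ FF) => N D) D hD le_rfl) hm
  have key : ∀ D ∈ FF, ∀ m ∈ N D, α m = m := by
    intro D hD
    have hD' := mem_FF h2 hf h a hD
    obtain ⟨u1, u2, u3, -⟩ := h.uniq _ hD' _ _ _ _
      (TypesNat.GBd_tr (h.gb D hD) α φ a.smul (EE' := EE) a.E')
    have nN : ∀ m ∈ N D, α m ∈ N (D.map φ.toMonoidHom) := fun m hm => by rw [← u1]; exact ⟨m, hm, rfl⟩
    obtain ⟨F, i1, i2, e, f, d, up, lo, hb, hrt, hN, hL, hZ⟩ := (h.gb D hD).nb.ex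
    have hDD : D.map φ.toMonoidHom = D := by
      by_contra hne
      have hup : up 1 ∈ D := by rw [← hrt]; exact up_mem 1
      have hf1 : f 1 ∈ N D := by
        rw [← hN]
        exact AddSubgroup.mem_sup_left (AddSubgroup.mem_sup_right ⟨1, rfl⟩)
      have hx : f 1 + e 1 + d 1 ∈ N D := by
        rw [← hN]
        exact AddSubgroup.add_mem _ (AddSubgroup.mem_sup_left (AddSubgroup.add_mem _
          (AddSubgroup.mem_sup_right ⟨1, rfl⟩) (AddSubgroup.mem_sup_left ⟨1, rfl⟩)))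
          (AddSubgroup.mem_sup_right ⟨1, rfl⟩)
      have h1 := a.com D (h.sub hD) (up 1) hup (f 1) (hNB D hD _ hf1)
      -- `φ(D)` centralises `N D`
      have h3 : (φ (up 1))⁻¹ • f 1 = f 1 := by
        rw [inv_smul_eq_iff]
        exact ((h.gb D hD).oth _ (h.sub hD') hne (φ (up 1)) ⟨up 1, hup, rfl⟩ _ hf1).symm
      have h4 : (φ (up 1))⁻¹ • α (f 1) = α (f 1 + e 1 + d 1) := by
        rw [← map_inv, ← a.smul, hb.up_inv h2 hf, hb.up_f, mul_one, one_pow, mul_one]
      have h5 : up 1 • α (f 1 + e 1 + d 1) = α (f 1 + e 1 + d 1) :=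
        (h.gb _ hD').oth D (h.sub hD) (Ne.symm hne) (up 1) hup _ (nN _ hx)
      rw [mul_smul, smul_sub (φ (up 1))⁻¹, h3, h4, smul_sub, h5, hb.up_f, mul_one, one_pow, mul_one] at h1
      have h6 : α (e 1 + d 1) = e 1 + d 1 := by
        have e1 : α (f 1 + e 1 + d 1) = α (f 1) + α (e 1 + d 1) := by rw [← map_add, add_assoc]
        rw [e1] at h1
        have e2 : α (e 1 + d 1) = (α (f 1) + α (e 1 + d 1) - (f 1 + e 1 + d 1)) - (α (f 1) - f 1) + (e 1 + d 1) := by
          abel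
        rw [e2, h1]
        abel
      have hed : e 1 + d 1 ∈ N D := by
        rw [← hN]
        exact AddSubgroup.add_mem _ (AddSubgroup.mem_sup_left (AddSubgroup.mem_sup_left ⟨1, rfl⟩))
          (AddSubgroup.mem_sup_right ⟨1, rfl⟩)
      have h7 : e 1 + d 1 ∈ C D := by
        rw [← h6]
        exact h.ind D hD _ hD' hne (nN _ hed)
      have h8 : e 1 + f 0 ∈ C D := by
        rw [map_zero, add_zero]
        have e1 : e 1 = e 1 + d 1 - d 1 := by abel
        rw [e1]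
        exact (C D).sub_mem h7 (hb.dC _)
      exact one_ne_zero (hb.ind _ _ h8).1
    rw [hDD] at u1 u2 u3
    intro m hm
    rw [← hN] at hm
    refine blk h2 hf hb a.smul ?_ ?_ ?_ ?_ ?_ hn hα he ?_ m hm
    · intro x hx
      rw [hrt] at hx ⊢
      rw [← hDD]
      exact ⟨x, hx, rfl⟩
    · intro v hv
      rw [hL] at hv ⊢
      rw [← u3]
      exact ⟨v, hv, rfl⟩
    · intro v hv
      rw [← u2]
      exact ⟨v, hv, rfl⟩
    · intro v hv
      rw [hN] at hv ⊢
      rw [← u1]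
      exact ⟨v, hv, rfl⟩
    · intro x hx m hm
      rw [hrt] at hx
      rw [hN] at hm
      exact a.com D (h.sub hD) x hx m (hNB D hD m hm)
    · rw [hL]
      exact hc D hD
  intro m hm
  have h1 : (⨆ D ∈ FF, N D : AddSubgroup V) ≤
      { carrier := {m : V | α m = m}
        zero_mem' := map_zero α
        add_mem' := fun {a b} (ha : α a = a) (hb : α b = b) => by
          change α (a + b) = a + b
          rw [map_add, ha, hb]
        neg_mem' := fun {a} (ha : α a = a) => by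
          change α (-a) = -a
          rw [map_neg, ha] } := iSup₂_le fun D hD m hm => key D hD m hm
  exact h1 hm

end fam

end Cfsg.Agent.Omega.NOThreeL.RRed.Blk.BadFam

end

section


/-!
# NO-3L, box R: nonsplit natural blocks: the blocks of a natural module

* **`isNBD_of`** : `Nb M`, `One M U A j`, `2 < |F|` ⟹ `∃ p ∈ P, ∃ R, IsNBD Q A R (DD M j) (blk M j) (U ⊓ C(⟨A, A^p⟩))`,
  `Q.ad R ⊔ Q.ad (DD M j) = Q.ad (YY h j)`;
* `nbd_of` : the same over `XH Q`.
-/

set_option autoImplicit false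
set_option linter.unusedSectionVars false

namespace Cfsg.Agent.Omega.NOThreeL.RRed.Blk.IsNBDOf

open Subgroup Cfsg Cfsg.Agent.ZN
open Cfsg.Agent.Omega.FFThm Cfsg.Agent.Lib.SL2Mat
open Cfsg.Agent.Omega.NO3S.ThmB Cfsg.Agent.Omega.NO3S.KeyRad
open Cfsg.Agent.Omega.NOThreeL.RSplit (Nrm)
open Cfsg.Agent.Omega.NOThreeL.RRed.NS
open Cfsg.Agent.Omega.NOThreeL.RRed.Blk.TypesNat (IsNBD NBD XH ph)
open Cfsg.Agent.Omega.NOThreeL.RRed.Blk
open scoped Pointwise

universe u

variable {G : Type u} [Group G] {F : Type} [Field F] {S P V D U H : Subgroup G} {k : ℕ}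

/-- back to `G` -/
theorem ad_un (Q : Nrm H U) (B : AddSubgroup Q.Mod) : Q.ad (un Q B) = B := by
  ext m
  exact val_mem_un Q

theorem un_le (Q : Nrm H U) (B : AddSubgroup Q.Mod) : un Q B ≤ U := by
  rintro _ ⟨m, -, rfl⟩
  exact Q.val_mem m

/-- **The blocks of a natural module, with radical.** -/
theorem isNBD_of [Finite G] [Finite F] [CharP F 2] {M : NatKM F S P V D k} (h : Nb M) (hF : 2 < Nat.card F)
    (Q : Nrm H U) (hPH : P ≤ H) (hVU : V ≤ U) {A : Subgroup G} {j : Fin k} (O : One M U A j) (hAP : A ≤ P) :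
    ∃ p ∈ P, ∃ R : Subgroup G, Q.ad R ⊔ Q.ad (DD M j) = Q.ad (YY h j) ∧
      IsNBD Q A R (DD M j) (blk M j) (U ⊓ centralizer ((A ⊔ MulAut.conj p • A : Subgroup G) : Set G)) := by
  obtain ⟨e, f, d, up, lo, p, hp, hb, h1, -, h3, h4, h5, h6⟩ := BkDOf.exists_bkD h hF Q hPH hVU O hAP
  have hF4 : 4 ≤ Nat.card F := by
    by_contra hcon
    have h6 : Nat.card F = 3 := by omega
    have h7 : (3 : ℕ) • (1 : F) = 0 := by rw [← h6]; exact card_nsmul_eq_zero'
    have h8 : (2 : ℕ) • (1 : F) = 0 := by rw [two_nsmul]; exact CharTwo.add_self_eq_zero 1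
    have h9 : (3 : ℕ) • (1 : F) = (2 : ℕ) • (1 : F) + 1 := succ_nsmul _ _
    rw [h7, h8, zero_add] at h9
    exact zero_ne_one h9
  have hC : Q.ad (U ⊓ centralizer ((A ⊔ MulAut.conj p • A : Subgroup G) : Set G)) =
      Q.ad (centralizer ((A ⊔ MulAut.conj p • A : Subgroup G) : Set G)) :=
    le_antisymm (Nrm.ad_mono inf_le_right) fun m hm => ⟨Q.val_mem m, hm⟩
  refine ⟨p, hp, un Q e.range, ?_, F, inferInstance, inferInstance, inferInstance, e, f, d, up, lo, hF4, ?_⟩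
  · rw [ad_un, ← h6, h4]
  · exact
      { bk := by
          rw [hC]
          exact ⟨hb.dec, hb.ind, hb.dC, hb.up_e, hb.up_f, hb.up_c, hb.lo_e, hb.lo_f, hb.lo_c⟩
        upA := h1
        Aup := fun a ha => h3 a ha
        AH := hAP.trans hPH
        eR := (ad_un Q _).symm
        dD := h6
        eN := h5
        RU := un_le Q _
        DU := (DD_le_YY h j).trans ((YY_le_V h j).trans hVU)
        NU := (blk_le h j).trans hVU
        CU := inf_le_left }

/-- over the group induced by `H` on `U` -/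
theorem nbd_of [Finite G] [Finite F] [CharP F 2] {M : NatKM F S P V D k} (h : Nb M) (hF : 2 < Nat.card F)
    (Q : Nrm H U) (hPH : P ≤ H) (hVU : V ≤ U) {A : Subgroup G} {j : Fin k} (O : One M U A j) (hAP : A ≤ P) :
    ∃ p ∈ P, ∃ L : AddSubgroup Q.Mod, L ⊔ Q.ad (DD M j) = Q.ad (YY h j) ∧
      AsmN.NBd ((A.subgroupOf H).map (ph Q)) (Q.ad (blk M j))
        (Q.ad (centralizer ((A ⊔ MulAut.conj p • A : Subgroup G) : Set G))) L (Q.ad (DD M j)) := by
  obtain ⟨p, hp, R, h1, h2⟩ := isNBD_of h hF Q hPH hVU O hAP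
  refine ⟨p, hp, Q.ad R, h1, ?_⟩
  have hC : Q.ad (U ⊓ centralizer ((A ⊔ MulAut.conj p • A : Subgroup G) : Set G)) =
      Q.ad (centralizer ((A ⊔ MulAut.conj p • A : Subgroup G) : Set G)) :=
    le_antisymm (Nrm.ad_mono inf_le_right) fun m hm => ⟨Q.val_mem m, hm⟩
  rw [← hC]
  exact h2.toNBd

end Cfsg.Agent.Omega.NOThreeL.RRed.Blk.IsNBDOf

end
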