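import Cfsg.Agent.Mrg.Omega.NOThreeL.RRed.Blk.AsmG
import Cfsg.Agent.Mrg.Omega.NOThreeL.RRed.Blk.AsmLn


/-!
# NO-3L, box R: assembly of the natural blocks: conjugates of the minimal exact groups; `lnY` for `L`

* `exists_conj_im` : `im Q A' ≤ im Q S`, `A' ≤ L` a 2-group ⟹ `A'^c ≤ S` for some `c ∈ C_L(U)`;
* `EEc` : the set `im Q '' EE S U` contains all its conjugates which lie in the image of `S`;
* `Inp.ln` : `D^g = D'^x` with `x` trivial on the other blocks.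
-/

set_option autoImplicit false
set_option linter.unusedSectionVars false

namespace Cfsg.Agent.Omega.NOThreeL.RRed.Blk.AsmG

open Subgroup Cfsg Cfsg.Agent.ZN Cfsg.Agent.Omega.MinPar
open Cfsg.Agent.Omega.FFThm
open Cfsg.Agent.Omega.NOThreeL.RSplit (Nrm)
open Cfsg.Agent.Omega.NOThreeL.RRed.NS (fxd brk mem_fxd smul_eq_iff conj_eq_cj)
open Cfsg.Agent.Omega.NOThreeL.RRed.Blk.TypesNat (XH ph ph_smul XH_faith ph_eq ph_surj no_XH mem_ker imS)
open Cfsg.Agent.Omega.NOThreeL.RRed.Blk.TypesGam (NO)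
open Cfsg.Agent.Omega.NOThreeL.RRed.Blk.Asm Cfsg.Agent.Omega.NOThreeL.RRed.Blk.AsmCore
open scoped Pointwise

universe u

variable {G : Type u} [Group G]

/-- **Sylow in `S C_L(U)`** -/
theorem exists_conj_im [Finite G] {S : Sylow 2 G} {L U A' : Subgroup G} (Q : Nrm L U) (hSL : (S : Subgroup G) ≤ L)
    (hA' : A' ≤ L) (h2 : IsPGroup 2 A') (hle : im Q A' ≤ im Q (S : Subgroup G)) :
    ∃ c ∈ centralizer (U : Set G), c ∈ L ∧ MulAut.conj c • A' ≤ (S : Subgroup G) := by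
  have hn : (S : Subgroup G) ≤ normalizer ((centralizer (U : Set G) ⊓ L : Subgroup G) : Set G) := by
    intro s hs
    have h1 : s ∈ normalizer (centralizer (U : Set G) : Set G) := by
      have := Q.nrm (hSL hs)
      rw [mem_normalizer_iff] at this ⊢
      intro x
      simp only [mem_centralizer_iff]
      constructor
      · intro h v hv
        have h3 : s⁻¹ * v * s ∈ (U : Set G) := by
          rw [SetLike.mem_coe, this]
          have e : s * (s⁻¹ * v * s) * s⁻¹ = v := by group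
          rwa [e]
        have h4 := h _ h3
        have e1 : v * (s * x * s⁻¹) = s * ((s⁻¹ * v * s) * x) * s⁻¹ := by group
        rw [e1, h4]
        group
      · intro h v hv
        have h4 := h _ ((this v).1 hv)
        have e1 : s * (v * x) * s⁻¹ = s * (x * v) * s⁻¹ := by
          have e3 : s * (v * x) * s⁻¹ = (s * v * s⁻¹) * (s * x * s⁻¹) := by group
          rw [e3, h4]; group
        exact mul_left_cancel (mul_right_cancel e1)
    rw [mem_normalizer_iff] at h1 ⊢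
    intro x
    rw [mem_inf, mem_inf, ← h1]
    refine and_congr Iff.rfl ⟨fun h => mul_mem (mul_mem (hSL hs) h) (inv_mem (hSL hs)), fun h => ?_⟩
    have := mul_mem (mul_mem (inv_mem (hSL hs)) h) (hSL hs)
    have e : s⁻¹ * (s * x * s⁻¹) * s = x := by group
    rwa [e] at this
  have h3 : A' ≤ (S : Subgroup G) ⊔ (centralizer (U : Set G) ⊓ L : Subgroup G) := by
    intro a ha
    obtain ⟨s, hs, hsa⟩ := hle (ph_mem_im Q (a := ⟨a, hA' ha⟩) ha)
    have h4 : s⁻¹ * (⟨a, hA' ha⟩ : L) ∈ (ph Q).ker := by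
      rw [MonoidHom.mem_ker, map_mul, map_inv, hsa, inv_mul_cancel]
    rw [mem_ker Q] at h4
    have h5 : a = (s : G) * (((s⁻¹ * ⟨a, hA' ha⟩ : L) : G)) := by
      rw [coe_mul, coe_inv]; group
    rw [h5]
    exact mul_mem (mem_sup_left hs) (mem_sup_right ⟨h4, (s⁻¹ * ⟨a, hA' ha⟩ : L).2⟩)
  obtain ⟨m, hm, hAm⟩ := NS.exists_conj_le S (le_sup_left : (S : Subgroup G) ≤ (S : Subgroup G) ⊔
    (centralizer (U : Set G) ⊓ L : Subgroup G)) h2 h3
  have h5 : m⁻¹ ∈ (((S : Subgroup G) ⊔ (centralizer (U : Set G) ⊓ L : Subgroup G) : Subgroup G) : Set G) := inv_mem hm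
  rw [coe_mul_of_left_le_normalizer_right _ _ hn] at h5
  obtain ⟨s, hs, c, hc, h6⟩ := h5
  refine ⟨c, hc.1, hc.2, ?_⟩
  intro y hy
  have h7 : c⁻¹ * y * c ∈ A' := by
    have := NS.mem_conj.1 hy
    simpa using this
  have h8 := NS.mem_conj.1 (hAm h7)
  have h9 : m⁻¹ * (c⁻¹ * y * c) * m ∈ (S : Subgroup G) := by simpa using h8
  have e1 : m⁻¹ = s * c := h6.symm
  have e2 : m = c⁻¹ * s⁻¹ := by rw [← inv_inv m, e1, mul_inv_rev]
  rw [e1, e2] at h9
  have e3 : s * c * (c⁻¹ * y * c) * (c⁻¹ * s⁻¹) = s * y * s⁻¹ := by group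
  rw [e3] at h9
  have h10 := mul_mem (mul_mem (inv_mem hs) h9) hs
  have e4 : s⁻¹ * (s * y * s⁻¹) * s = y := by group
  rwa [e4] at h10

/-- **`EEc`** -/
theorem EEc [Finite G] {S : Sylow 2 G} {L U : Subgroup G} (Q : Nrm L U) (hSL : (S : Subgroup G) ≤ L) :
    ∀ D ∈ im Q '' EE (S : Subgroup G) U, ∀ g : XH Q, MulAut.conj g • D ≤ im Q (S : Subgroup G) →
      MulAut.conj g • D ∈ im Q '' EE (S : Subgroup G) U := by
  rintro _ ⟨A, hA, rfl⟩ g hle
  obtain ⟨x, rfl⟩ := ph_surj Q g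
  rw [← im_cj] at hle ⊢
  have h1 : MulAut.conj (x : G) • A ≤ L := by
    intro y hy
    have h3 := hSL (hA.1 (NS.mem_conj.1 hy))
    have h4 := mul_mem (mul_mem x.2 h3) (inv_mem x.2)
    have e : (x : G) * ((x : G)⁻¹ * y * x) * (x : G)⁻¹ = y := by group
    rwa [e] at h4
  have h2 : IsPGroup 2 ↥(MulAut.conj (x : G) • A) :=
    (S.isPGroup'.to_le hA.1).of_equiv (Subgroup.equivSMul (MulAut.conj (x : G)) A)
  obtain ⟨c, hcU, hcL, hc⟩ := exists_conj_im Q hSL h1 h2 hle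
  refine ⟨MulAut.conj c • MulAut.conj (x : G) • A, ⟨hc, ?_⟩, ?_⟩
  · rw [conj_eq_cj, conj_eq_cj]
    exact CI.mx_conj (CI.mx_conj hA.2 (Q.nrm x.2)) (Q.nrm hcL)
  · have h5 := im_cj Q (A := MulAut.conj (x : G) • A) ⟨c, hcL⟩
    have h6 : ph Q ⟨c, hcL⟩ = 1 := by
      rw [← MonoidHom.mem_ker, mem_ker Q]; exact hcU
    rw [h6, map_one, one_smul] at h5
    exact h5

/-- **`lnY` in `XH Q`** -/
theorem Inp.ln [Finite G] {S : Sylow 2 G} {L : Subgroup G} {Q : Nrm L (zl (S : Subgroup G) L)} (h : Inp S L Q)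
    (hSL : (S : Subgroup G) ≤ L) {RR : Set (Subgroup (XH Q))} (hR : RR ⊆ RRs S L Q) (g : XH Q) {D : Subgroup (XH Q)}
    (hD : D ∈ FFs (im Q '' EE (S : Subgroup G) (zl (S : Subgroup G) L)) RR) :
    ∃ D' ∈ FFs (im Q '' EE (S : Subgroup G) (zl (S : Subgroup G) L)) RR,
      ∃ x ∈ EX (FFs (im Q '' EE (S : Subgroup G) (zl (S : Subgroup G) L)) RR)
        (NN (im Q '' EE (S : Subgroup G) (zl (S : Subgroup G) L)) Q.Mod) D',
      (∀ m, m ∈ NN (im Q '' EE (S : Subgroup G) (zl (S : Subgroup G) L)) Q.Mod D ↔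
        g • m ∈ NN (im Q '' EE (S : Subgroup G) (zl (S : Subgroup G) L)) Q.Mod D') ∧
      MulAut.conj g • D = MulAut.conj x • D' := by
  obtain ⟨h1, -, h3, h4⟩ := h.main hR
  exact Fam.ln (imS Q S hSL) h4 h3 h1 (EEc Q hSL) g hD

end Cfsg.Agent.Omega.NOThreeL.RRed.Blk.AsmG
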