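import Cfsg.Agent.Mrg.Omega.NOThreeL.RRed.Blk.AsmPair
import Cfsg.Agent.Mrg.Omega.NOThreeL.RRed.Blk.TypesLine


/-!
# NO-3L, box R: from a family of natural blocks (`Asm.Fam`) to `Blk.Dec`, definitions (helper797)

* `Rs FF C = ⨅ C D`; `Eg FF N D` : the group generated by the conjugates `g D' g⁻¹`, `g N_{D'} = N_D`;
* `Fam.exists_dec` : `V = (⨆ N D) ⊕ Rs`; `Eg_N`, `Eg_oth`, `Eg_R`, `Eg_conj` : `Eg FF N D` normalises `N D`, centralises the
  other blocks and `Rs`;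
* `su Q W`, `pre Q W` : the subgroups of `G`.
-/

set_option autoImplicit false
set_option linter.unusedSectionVars false

namespace Cfsg.Agent.Omega.NOThreeL.RRed.Blk.Asm

open Cfsg.Agent.Omega.NOThreeL.RRed.NS (fxd brk mem_fxd)
open Cfsg.Agent.Omega.NOThreeL.RRed.Blk.TypesGam Cfsg.Agent.Omega.NOThreeL.RRed.Blk.Types
open Cfsg.Agent.Omega.NOThreeL.RRed.Blk.TypesEq
open scoped Pointwise

universe u v w

section mod

variable {X : Type u} {V : Type v} [Group X] [AddCommGroup V] [DistribMulAction X V]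

/-- the intersection of the complements of the blocks -/
def Rs (FF : Set (Subgroup X)) (C : Subgroup X → AddSubgroup V) : AddSubgroup V := ⨅ D ∈ FF, C D

theorem mem_Rs {FF : Set (Subgroup X)} {C : Subgroup X → AddSubgroup V} {m : V} : m ∈ Rs FF C ↔ ∀ D ∈ FF, m ∈ C D := by
  rw [Rs]; simp only [AddSubgroup.mem_iInf]

/-- the (canonical) group of the block `N D` -/
def Eg (FF : Set (Subgroup X)) (N : Subgroup X → AddSubgroup V) (D : Subgroup X) : Subgroup X :=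
  Subgroup.closure {x | ∃ g : X, ∃ D' ∈ FF, (∀ m, m ∈ N D' ↔ g • m ∈ N D) ∧ ∃ a ∈ D', x = g * a * g⁻¹}

variable {S : Subgroup X} {FF : Set (Subgroup X)} {N C : Subgroup X → AddSubgroup V}

theorem mem_Eg {g : X} {D D' : Subgroup X} (hD' : D' ∈ FF) (h : ∀ m, m ∈ N D' ↔ g • m ∈ N D) {a : X} (ha : a ∈ D') :
    g * a * g⁻¹ ∈ Eg FF N D := Subgroup.subset_closure ⟨g, D', hD', h, a, ha, rfl⟩

theorem le_Eg {D : Subgroup X} (hD : D ∈ FF) : D ≤ Eg FF N D := fun a ha => by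
  have h1 := mem_Eg (N := N) (g := 1) hD (fun m => by rw [one_smul]) ha
  rwa [one_mul, inv_one, mul_one] at h1

/-- `D` moves `N D` inside `N D` and centralises `C D` -/
theorem NB.act {D : Subgroup X} {N C : AddSubgroup V} (h : NB D N C) {a : X} (ha : a ∈ D) :
    (∀ m ∈ N, a • m ∈ N) ∧ ∀ m ∈ C, a • m = m := by
  obtain ⟨F, _, _, e, f, up, lo, hB, rfl, rfl⟩ := h.ex
  constructor
  · have h1 : rt up ≤ (show Subgroup X from
      { carrier := {x | ∀ m, m ∈ e.range ⊔ f.range ↔ x • m ∈ e.range ⊔ f.range}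
        mul_mem' := fun {x y} hx hy m => by rw [mul_smul, ← hx (y • m)]; exact hy m
        one_mem' := fun m => by rw [one_smul]
        inv_mem' := fun {x} hx m => by rw [hx (x⁻¹ • m), smul_inv_smul] }) := by
      refine (Subgroup.closure_le _).2 ?_
      rintro _ ⟨t, rfl⟩ m
      have key : ∀ n ∈ e.range ⊔ f.range, up t • n ∈ e.range ⊔ f.range := by
        intro n hn
        obtain ⟨_, ⟨x, rfl⟩, _, ⟨y, rfl⟩, rfl⟩ := AddSubgroup.mem_sup.1 hn
        rw [smul_add, hB.up_e, hB.up_f]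
        have e1 : e x + (f y + e (t * y)) = e (x + t * y) + f y := by rw [map_add]; abel
        rw [e1]
        exact AddSubgroup.add_mem_sup ⟨_, rfl⟩ ⟨_, rfl⟩
      refine ⟨key m, fun hm => ?_⟩
      obtain ⟨x, y, c, hc, rfl⟩ := hB.dec m
      obtain ⟨_, ⟨x', rfl⟩, _, ⟨y', rfl⟩, he⟩ := AddSubgroup.mem_sup.1 hm
      rw [smul_add, smul_add, hB.up_e, hB.up_f, hB.up_c t c hc] at he
      have e1 : e x' + f y' + 0 = e (x + t * y) + f y + c := by rw [add_zero, he, map_add]; abel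
      have e2 := (hB.uniq C.zero_mem hc e1).2.2
      rw [← e2, add_zero]
      exact AddSubgroup.add_mem_sup ⟨_, rfl⟩ ⟨_, rfl⟩
    exact fun m hm => (h1 ha m).1 hm
  · intro m hm
    have h1 : rt up ≤ MulAction.stabilizer X m := by
      refine (Subgroup.closure_le _).2 ?_
      rintro _ ⟨t, rfl⟩
      exact MulAction.mem_stabilizer_iff.2 (hB.up_c t m hm)
    exact MulAction.mem_stabilizer_iff.1 (h1 ha)

theorem NB.dec {D : Subgroup X} {N C : AddSubgroup V} (h : NB D N C) (v : V) : ∃ n ∈ N, ∃ c ∈ C, v = n + c := by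
  obtain ⟨F, _, _, e, f, up, lo, hB, rfl, rfl⟩ := h.ex
  obtain ⟨x, y, c, hc, rfl⟩ := hB.dec v
  exact ⟨_, AddSubgroup.add_mem_sup ⟨x, rfl⟩ ⟨y, rfl⟩, c, hc, rfl⟩

theorem NB.disj {D : Subgroup X} {N C : AddSubgroup V} (h : NB D N C) {v : V} (h1 : v ∈ N) (h3 : v ∈ C) : v = 0 := by
  obtain ⟨F, _, _, e, f, up, lo, hB, rfl, rfl⟩ := h.ex
  exact N_inf_C hB h1 h3

/-- generators of `Eg` act as wanted: induction principle -/
theorem Eg_ind {D : Subgroup X} {p : X → Prop} (h1 : p 1) (hm : ∀ x y, p x → p y → p (x * y)) (hi : ∀ x, p x → p x⁻¹)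
    (h : ∀ g : X, ∀ D' ∈ FF, (∀ m, m ∈ N D' ↔ g • m ∈ N D) → ∀ a ∈ D', p (g * a * g⁻¹)) : ∀ x ∈ Eg FF N D, p x := by
  intro x hx
  unfold Eg at hx
  induction hx using Subgroup.closure_induction with
  | mem x hx => obtain ⟨g, D', hD', h3, a, ha, rfl⟩ := hx; exact h g D' hD' h3 a ha
  | one => exact h1
  | mul x y _ _ hx hy => exact hm x y hx hy
  | inv x _ hx => exact hi x hx

theorem Eg_fix {D : Subgroup X} {m : V} (h : ∀ g : X, ∀ D' ∈ FF, (∀ m, m ∈ N D' ↔ g • m ∈ N D) → ∀ a ∈ D',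
    (g * a * g⁻¹) • m = m) : ∀ x ∈ Eg FF N D, x • m = m :=
  Eg_ind (one_smul _ _) (fun x y hx hy => by rw [mul_smul, hy, hx])
    (fun x hx => by rw [inv_smul_eq_iff, hx]) h

/-- `Eg FF N D` normalises `N D` -/
theorem Fam.Eg_N (F : Fam S FF N C) {D : Subgroup X} : ∀ x ∈ Eg FF N D, ∀ m, m ∈ N D ↔ x • m ∈ N D := by
  refine Eg_ind (fun m => by rw [one_smul]) (fun x y hx hy m => by rw [mul_smul, ← hx (y • m)]; exact hy m)
    (fun x hx m => by rw [hx (x⁻¹ • m), smul_inv_smul]) ?_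
  intro g D' hD' h a ha
  have key : ∀ a ∈ D', ∀ m, m ∈ N D → (g * a * g⁻¹) • m ∈ N D := by
    intro a ha m hm
    rw [mul_smul, mul_smul, ← h]
    refine ((F.nb D' hD').act ha).1 _ ?_
    rw [h, smul_inv_smul]; exact hm
  intro m
  refine ⟨key a ha m, fun hm => ?_⟩
  have h1 := key a⁻¹ (inv_mem ha) _ hm
  rw [← mul_smul] at h1
  convert h1 using 1
  rw [show g * a⁻¹ * g⁻¹ * (g * a * g⁻¹) = 1 by group, one_smul]

/-- `Eg FF N D` centralises the other blocks -/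
theorem Fam.Eg_oth (F : Fam S FF N C) {D : Subgroup X} (hD : D ∈ FF) {D₁ : Subgroup X} (hD₁ : D₁ ∈ FF) (hne : D₁ ≠ D)
    {m : V} (hm : m ∈ N D₁) : ∀ x ∈ Eg FF N D, x • m = m := by
  refine Eg_fix fun g D' hD' h a ha => ?_
  obtain ⟨D₂, hD₂, -, h1⟩ := F.perm g⁻¹ D₁ hD₁
  have h3 : D₂ ≠ D' := by
    rintro rfl
    -- `N D₁ = g N D' = N D`
    have e1 : N D₁ ≤ N D := fun m hm => by
      have h5 := (h (g⁻¹ • m)).1 ((h1 m).1 hm)
      rwa [smul_inv_smul] at h5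
    have h6 := F.ind D hD D₁ hD₁ hne
    apply (F.nb D₁ hD₁).ne_bot
    rw [AddSubgroup.eq_bot_iff_forall]
    exact fun x hx => (F.nb D hD).disj (e1 hx) (h6 hx)
  have h5 : g⁻¹ • m ∈ N D₂ := (h1 m).1 hm
  rw [mul_smul, mul_smul, ((F.nb D' hD').act ha).2 _ (F.ind D' hD' D₂ hD₂ h3 h5), smul_inv_smul]

/-- `Eg FF N D` centralises `Rs` -/
theorem Fam.Eg_R (F : Fam S FF N C) (hR : ∀ g : X, ∀ m ∈ Rs FF C, g • m ∈ Rs FF C) {D : Subgroup X} {m : V}
    (hm : m ∈ Rs FF C) : ∀ x ∈ Eg FF N D, x • m = m := by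
  refine Eg_fix fun g D' hD' _ a ha => ?_
  rw [mul_smul, mul_smul, ((F.nb D' hD').act ha).2 _ (mem_Rs.1 (hR g⁻¹ m hm) D' hD'), smul_inv_smul]

/-- `Eg` is permuted -/
theorem Eg_conj_le {D D₁ : Subgroup X} {x : X} (h : ∀ m, m ∈ N D ↔ x • m ∈ N D₁) :
    MulAut.conj x • Eg FF N D ≤ Eg FF N D₁ := by
  intro y hy
  rw [mem_cj] at hy
  have h1 : Eg FF N D ≤ (Eg FF N D₁).comap (MulAut.conj x).toMonoidHom := by
    refine (Subgroup.closure_le _).2 ?_
    rintro _ ⟨g, D', hD', h3, a, ha, rfl⟩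
    change MulAut.conj x (g * a * g⁻¹) ∈ Eg FF N D₁
    rw [MulAut.conj_apply]
    have e1 : x * (g * a * g⁻¹) * x⁻¹ = (x * g) * a * (x * g)⁻¹ := by group
    rw [e1]
    exact mem_Eg hD' (fun m => by rw [h3 m, h, mul_smul]) ha
  have h3 := h1 hy
  rw [Subgroup.mem_comap] at h3
  change MulAut.conj x (x⁻¹ * y * x) ∈ Eg FF N D₁ at h3
  rw [MulAut.conj_apply] at h3
  convert h3 using 1; group

theorem Eg_conj {D D₁ : Subgroup X} {x : X} (h : ∀ m, m ∈ N D ↔ x • m ∈ N D₁) :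
    MulAut.conj x • Eg FF N D = Eg FF N D₁ := by
  apply le_antisymm (Eg_conj_le h)
  have h1 : MulAut.conj x⁻¹ • Eg FF N D₁ ≤ Eg FF N D := Eg_conj_le fun m => by
    rw [h, smul_inv_smul]
  intro y hy
  rw [mem_cj]
  apply h1
  rw [mem_cj, inv_inv]
  convert hy using 1; group

/-- `V = (⨆ N D) + Rs` -/
theorem Fam.exists_dec [Finite X] (F : Fam S FF N C) (v : V) : ∃ n ∈ ⨆ D ∈ FF, N D, ∃ r ∈ Rs FF C, v = n + r := by
  classical
  have hfin : FF.Finite := Set.toFinite _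
  choose! n hn c hc hv using fun D (hD : D ∈ FF) => (F.nb D hD).dec v
  refine ⟨∑ D ∈ hfin.toFinset, n D, sum_mem fun D hD => ?_, v - ∑ D ∈ hfin.toFinset, n D, ?_, by abel⟩
  · have hD' := hfin.mem_toFinset.1 hD
    exact (le_iSup₂ (f := fun D (_ : D ∈ FF) => N D) D hD') (hn D hD')
  · rw [mem_Rs]
    intro D hD
    have hDf : D ∈ hfin.toFinset := hfin.mem_toFinset.2 hD
    rw [← Finset.add_sum_erase _ _ hDf]
    have e1 : v - (n D + ∑ x ∈ hfin.toFinset.erase D, n x) = c D - ∑ x ∈ hfin.toFinset.erase D, n x := by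
      have h1 : v - n D = c D := by rw [sub_eq_iff_eq_add, add_comm]; exact hv D hD
      rw [← h1]; abel
    rw [e1]
    refine sub_mem (hc D hD) (sum_mem fun D' hD' => ?_)
    have h3 := Finset.mem_erase.1 hD'
    have h5 := hfin.mem_toFinset.1 h3.2
    exact F.ind D hD D' h5 h3.1 (hn D' h5)

end mod

section grp

open Cfsg.Agent.Omega.NOThreeL.RSplit (Nrm)
open Cfsg.Agent.Omega.NOThreeL.RRed.Blk.TypesNat (XH ph ph_smul XH_faith ph_eq ph_surj mem_ker)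

variable {G : Type u} [Group G] {L U : Subgroup G} (Q : Nrm L U)

/-- the subgroup of `U` -/
def su (W : AddSubgroup Q.Mod) : Subgroup G where
  carrier := {x | ∃ hx : x ∈ U, Q.of x hx ∈ W}
  mul_mem' := by
    rintro a b ⟨ha, ha'⟩ ⟨hb, hb'⟩
    exact ⟨mul_mem ha hb, W.add_mem ha' hb'⟩
  one_mem' := ⟨one_mem _, W.zero_mem⟩
  inv_mem' := by
    rintro a ⟨ha, ha'⟩
    exact ⟨inv_mem ha, W.neg_mem ha'⟩

/-- the preimage in `L` -/
def pre (W : Subgroup (XH Q)) : Subgroup G := (W.comap (ph Q)).map L.subtype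

variable {Q}

theorem mem_su {W : AddSubgroup Q.Mod} {x : G} : x ∈ su Q W ↔ ∃ hx : x ∈ U, Q.of x hx ∈ W := Iff.rfl

theorem val_mem_su {W : AddSubgroup Q.Mod} {m : Q.Mod} : Q.val m ∈ su Q W ↔ m ∈ W :=
  ⟨fun ⟨_, h⟩ => h, fun h => ⟨Q.val_mem m, h⟩⟩

theorem mem_pre {W : Subgroup (XH Q)} {x : G} : x ∈ pre Q W ↔ ∃ hx : x ∈ L, ph Q ⟨x, hx⟩ ∈ W := by
  constructor
  · rintro ⟨y, hy, rfl⟩
    exact ⟨y.2, hy⟩
  · rintro ⟨hx, h⟩
    exact ⟨⟨x, hx⟩, h, rfl⟩

theorem su_le {W : AddSubgroup Q.Mod} : su Q W ≤ U := fun _ hx => hx.1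

theorem pre_le {W : Subgroup (XH Q)} : pre Q W ≤ L := by
  rintro _ ⟨y, -, rfl⟩; exact y.2

theorem su_mono {W W' : AddSubgroup Q.Mod} (h : W ≤ W') : su Q W ≤ su Q W' := fun _ hx => ⟨hx.1, h hx.2⟩

theorem ad_su {W : AddSubgroup Q.Mod} : Q.ad (su Q W) = W := by
  ext m; exact val_mem_su

theorem cent_le_pre {W : Subgroup (XH Q)} : L ⊓ Subgroup.centralizer (U : Set G) ≤ pre Q W := by
  rintro x ⟨hx, hc⟩
  refine mem_pre.2 ⟨hx, ?_⟩
  have h1 : (⟨x, hx⟩ : L) ∈ (ph Q).ker := (mem_ker Q).2 hc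
  rw [MonoidHom.mem_ker.1 h1]; exact one_mem _

theorem su_iSup {ι : Sort w} {W : ι → AddSubgroup Q.Mod} : su Q (⨆ i, W i) = ⨆ i, su Q (W i) := by
  apply le_antisymm
  · rintro x ⟨hx, h⟩
    have h1 : (⨆ i, W i) ≤ Q.ad (⨆ i, su Q (W i)) := by
      refine iSup_le fun i m hm => ?_
      exact (le_iSup (fun i => su Q (W i)) i) (val_mem_su.2 hm)
    exact h1 h
  · exact iSup_le fun i => su_mono (le_iSup W i)

theorem su_sup {W W' : AddSubgroup Q.Mod} : su Q (W ⊔ W') = su Q W ⊔ su Q W' := by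
  apply le_antisymm
  · rintro x ⟨hx, h⟩
    obtain ⟨a, ha, b, hb, hab⟩ := AddSubgroup.mem_sup.1 h
    have e1 : x = Q.val a * Q.val b := by
      rw [← Nrm.val_add, hab]; rfl
    rw [e1]
    exact Subgroup.mul_mem_sup (val_mem_su.2 ha) (val_mem_su.2 hb)
  · exact sup_le (su_mono le_sup_left) (su_mono le_sup_right)

theorem su_top : su Q ⊤ = U := le_antisymm su_le fun _ hx => ⟨hx, AddSubgroup.mem_top _⟩

/-- conjugation of the subgroups of `U` -/
theorem conj_su {W W' : AddSubgroup Q.Mod} (g : L) (h : ∀ m, m ∈ W ↔ ph Q g • m ∈ W') :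
    MulAut.conj (g : G) • su Q W = su Q W' := by
  have hU := Q.nrm g.2
  ext x
  rw [mem_cj]
  constructor
  · rintro ⟨hx, h1⟩
    have h3 := (h _).1 h1
    rw [ph_smul] at h3
    have h5 : x ∈ U := by
      have h6 := Q.nrm' g.2 hx
      convert h6 using 1; group
    refine ⟨h5, ?_⟩
    convert h3 using 1
    refine Nrm.ext ?_
    rw [Nrm.val_smul, Nrm.val_of, Nrm.val_of]; group
  · rintro ⟨hx, h1⟩
    have h5 : (g : G)⁻¹ * x * g ∈ U := by
      have h6 := Q.nrm' (inv_mem g.2) hx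
      convert h6 using 1; group
    refine ⟨h5, (h _).2 ?_⟩
    rw [ph_smul]
    convert h1 using 1
    refine Nrm.ext ?_
    rw [Nrm.val_smul, Nrm.val_of, Nrm.val_of]; group

/-- conjugation of the preimages -/
theorem conj_pre {W W' : Subgroup (XH Q)} (g : L) (h : MulAut.conj (ph Q g) • W = W') :
    MulAut.conj (g : G) • pre Q W = pre Q W' := by
  subst h
  ext x
  rw [mem_cj]
  constructor
  · intro h1
    obtain ⟨hx, h3⟩ := mem_pre.1 h1
    have h5 : x ∈ L := by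
      have h6 := mul_mem (mul_mem g.2 hx) (inv_mem g.2)
      convert h6 using 1; group
    refine mem_pre.2 ⟨h5, ?_⟩
    rw [mem_cj, ← map_inv, ← map_mul, ← map_mul]
    exact h3
  · intro h1
    obtain ⟨hx, h3⟩ := mem_pre.1 h1
    refine mem_pre.2 ⟨mul_mem (mul_mem (inv_mem g.2) hx) g.2, ?_⟩
    rw [mem_cj, ← map_inv, ← map_mul, ← map_mul] at h3
    exact h3

end grp

end Cfsg.Agent.Omega.NOThreeL.RRed.Blk.Asm
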