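import Cfsg.Agent.Mrg.Omega.NOThreeL.RRed.Blk.AsmCore
import Cfsg.Agent.Mrg.Omega.FF.GlobFam


/-!
# NO-3L, box R: assembly of the natural blocks, `Asm.Es`

* `fxd_card` : `|C_U(A)| = |C_V(im A)|`;
* `lift` : a subgroup of `im Q A` is the image of a subgroup `B` with `C_A(U) ≤ B ≤ A`;
* `quad_of_mx` : a minimal exact offender is quadratic (Timmesfeld replacement);
* **`es_of`** : `Es (im Q S) (im Q '' EE S U) Q.Mod`.
-/

set_option autoImplicit false
set_option linter.unusedSectionVars false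

namespace Cfsg.Agent.Omega.NOThreeL.RRed.Blk.AsmEsB

open Subgroup Cfsg Cfsg.Agent.ZN Cfsg.Agent.Omega.MinPar
open Cfsg.Agent.Omega.FFThm
open Cfsg.Agent.Omega.NOThreeL.RSplit (Nrm)
open Cfsg.Agent.Omega.NOThreeL.RRed.NS (fxd brk mem_fxd smul_eq_iff conj_eq_cj)
open Cfsg.Agent.Omega.NOThreeL.RRed.Blk.TypesNat (XH ph ph_smul XH_faith ph_eq ph_surj no_XH mem_ker)
open Cfsg.Agent.Omega.NOThreeL.RRed.Blk.TypesGam (NO)
open Cfsg.Agent.Omega.NOThreeL.RRed.Blk.Asm (Es)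
open Cfsg.Agent.Omega.NOThreeL.RRed.Blk.AsmCore (im mem_im ph_mem_im im_mono im_cj card_im fxd_im EE_cj)
open scoped Pointwise

universe u

variable {G : Type u} [Group G] {H U A : Subgroup G} (Q : Nrm H U)

/-- `|C_U(A)| = |C_V(im A)|` -/
theorem fxd_card (hA : A ≤ H) :
    Nat.card ↥(U ⊓ centralizer (A : Set G)) = Nat.card (fxd (im Q A) : AddSubgroup Q.Mod) := by
  rw [← Nrm.card_ad (A := Q) (inf_le_left : U ⊓ centralizer (A : Set G) ≤ U)]
  have h2 : Q.ad (U ⊓ centralizer (A : Set G)) = (fxd (im Q A) : AddSubgroup Q.Mod) := by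
    ext m
    rw [Nrm.mem_ad, mem_inf, fxd_im Q hA]
    exact ⟨fun h => h.2, fun h => ⟨Q.val_mem m, h⟩⟩
  rw [h2]

/-- the subgroups of `im Q A` -/
theorem lift (hA : A ≤ H) {F : Subgroup (XH Q)} (hF : F ≤ im Q A) :
    ∃ B ≤ A, A ⊓ centralizer (U : Set G) ≤ B ∧ im Q B = F := by
  refine ⟨A ⊓ (F.comap (ph Q)).map H.subtype, inf_le_left, ?_, ?_⟩
  · refine le_inf inf_le_left ?_
    intro x hx
    refine ⟨⟨x, hA hx.1⟩, ?_, rfl⟩
    change ph Q ⟨x, hA hx.1⟩ ∈ F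
    have h1 : (⟨x, hA hx.1⟩ : H) ∈ (ph Q).ker := (mem_ker Q).2 hx.2
    rw [MonoidHom.mem_ker.1 h1]
    exact one_mem _
  · apply le_antisymm
    · rintro _ ⟨a, ha, rfl⟩
      obtain ⟨b, hb, h1⟩ := ha.2
      obtain rfl : b = a := Subtype.ext h1
      exact hb
    · intro x hx
      obtain ⟨a, ha, rfl⟩ := hF hx
      exact ⟨a, ⟨ha, ⟨a, hx, rfl⟩⟩, rfl⟩

theorem el_im (hE : ElemM U A) : Types.El (im Q A) where
  sq := by
    rintro _ ⟨a, ha, rfl⟩
    rw [← map_mul]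
    have h1 : a * a ∈ (ph Q).ker := (mem_ker Q).2 (by
      have := hE.sq a ha
      rw [pow_two] at this
      exact this)
    exact MonoidHom.mem_ker.1 h1
  cm := by
    rintro _ ⟨a, ha, rfl⟩ _ ⟨b, hb, rfl⟩
    have h1 : a * b * a⁻¹ * b⁻¹ ∈ (ph Q).ker := (mem_ker Q).2 (hE.comm a ha b hb)
    have h2 := MonoidHom.mem_ker.1 h1
    rw [map_mul, map_mul, map_mul, map_inv, map_inv, mul_inv_eq_one, mul_inv_eq_iff_eq_mul] at h2
    exact h2

section fin

variable [Finite G]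

theorem card_mod : Nat.card Q.Mod = Nat.card U := rfl

/-- exactness in orders -/
theorem exact_iff (hA : A ≤ H) :
    Nat.card U * Nat.card ↥(A ⊓ centralizer (U : Set G)) = Nat.card A * Nat.card ↥(U ⊓ centralizer (A : Set G)) ↔
      Nat.card (im Q A) * Nat.card (fxd (im Q A) : AddSubgroup Q.Mod) = Nat.card Q.Mod := by
  rw [fxd_card Q hA, ← card_im Q hA, card_mod Q]
  have p : 0 < Nat.card ↥(A ⊓ centralizer (U : Set G)) := Nat.card_pos
  constructor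
  · intro h
    refine Nat.eq_of_mul_eq_mul_right p ?_
    rw [h]; ring
  · intro h
    rw [← h]; ring

theorem mm_eq (F : Subgroup (XH Q)) :
    FF.Basic.mm Q.Mod F = Nat.card F * Nat.card (fxd F : AddSubgroup Q.Mod) := rfl

/-- no over-offender -/
theorem mm_le (hno : NoOverM U H) {F : Subgroup (XH Q)} (hF : FF.Basic.EA F) :
    FF.Basic.mm Q.Mod F ≤ Nat.card Q.Mod := by
  have h1 := no_XH Q hno F (fun x hx y hy => hF.comm hx hy) (fun x hx => hF x hx)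
  rw [mm_eq, ← AddSubgroup.card_mul_index (fxd F : AddSubgroup Q.Mod), mul_comm]
  exact Nat.mul_le_mul_left _ h1

/-- **A minimal exact offender is quadratic.** -/
theorem quad_of_mx (hno : NoOverM U H) (h2 : ∀ v : Q.Mod, v + v = 0) (hA : A ≤ H) (hm : Mx U A) :
    ∀ a ∈ im Q A, ∀ b ∈ im Q A, ∀ v : Q.Mod, b • (a • v - v) = a • v - v := by
  have hel := el_im Q hm.toElemM
  have hEA : FF.Basic.EA (im Q A) := fun a ha => hel.sq a ha
  have hex : FF.Basic.mm Q.Mod (im Q A) = Nat.card Q.Mod := (exact_iff Q hA).1 hm.exact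
  have hbot : ∀ B ≤ H, im Q B = ⊥ → B ≤ centralizer (U : Set G) := by
    intro B hB h1 b hb
    have h3 : ph Q ⟨b, hB hb⟩ ∈ im Q B := ph_mem_im Q (a := ⟨b, hB hb⟩) hb
    rw [h1, mem_bot] at h3
    exact (mem_ker Q).1 (MonoidHom.mem_ker.2 h3)
  refine FF.Quad.quad h2 hEA (fun h => hm.ne (hbot A hA h)) (fun F hF => ?_) (fun F hF hF0 => ?_)
  · rw [hex]
    exact mm_le Q hno hF
  · rw [hex]
    obtain ⟨B, hBA, hcB, hB⟩ := lift Q hA hF.le
    refine lt_of_le_of_ne (mm_le Q hno (hEA.mono hF.le)) fun h3 => ?_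
    have h4 := (exact_iff Q (hBA.trans hA)).2 (by rw [hB]; exact h3)
    rcases hm.min B hBA h4 hcB with h5 | h5
    · apply hF0
      rw [← hB, eq_bot_iff]
      rintro _ ⟨b, hb, rfl⟩
      exact MonoidHom.mem_ker.1 ((mem_ker Q).2 (h5 hb))
    · apply hF.ne
      rw [← hB, h5]

/-- **`Es`.** -/
theorem es_of {S : Subgroup G} (SH : S ≤ H) (hno : NoOverM U H) (hU2 : IsElementaryAbelian 2 U) :
    Es (im Q S) (im Q '' AsmCore.EE S U) Q.Mod := by
  have h2 : ∀ v : Q.Mod, v + v = 0 := fun v => Nrm.ext (by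
    rw [Nrm.val_add, Nrm.val_zero]
    have := hU2.2 _ (Q.val_mem v)
    rwa [pow_two] at this)
  refine
    { le := ?_
      el := ?_
      exact := ?_
      quad := ?_
      nS := ?_ }
  · rintro _ ⟨A, hA, rfl⟩
    exact im_mono Q hA.1
  · rintro _ ⟨A, hA, rfl⟩
    exact el_im Q hA.2.toElemM
  · rintro _ ⟨A, hA, rfl⟩
    exact ((exact_iff Q (hA.1.trans SH)).1 hA.2.exact).ge
  · rintro _ ⟨A, hA, rfl⟩
    have h3 := quad_of_mx Q hno h2 (hA.1.trans SH) hA.2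
    rw [brk, AddSubgroup.closure_le]
    rintro _ ⟨a, ha, v, rfl⟩
    exact mem_fxd.2 fun b hb => h3 a ha b hb v
  · rintro _ ⟨s, hs, rfl⟩ _ ⟨A, hA, rfl⟩
    have hs' : (s : G) ∈ S := hs
    exact ⟨_, EE_cj hs' (Q.nrm s.2) hA, im_cj Q s⟩

end fin

end Cfsg.Agent.Omega.NOThreeL.RRed.Blk.AsmEsB
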