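import Cfsg.Agent.Mrg.Omega.NOThreeL.RRed.Blk.TypesNormN
import Cfsg.Agent.Mrg.Omega.NOThreeL.RRed.Blk.AsmEsB
import Cfsg.Agent.Mrg.Omega.NOThreeL.RRed.Blk.DecDef
import Cfsg.Agent.Mrg.Omega.NOThreeL.RZ.TwoC.DecE

section


/-!
# NO-3L, box R, nonsplit blocks (#26560, #26972): the input (SD) of `Uni.eq_Z` at group level

`M : NatKM F S P V D k`, `h : Nb M`, `One M U A j`, `A ≤ P ≤ H`, `V ≤ U`, `Q : Nrm H U`.

* `brk_im_eq` : `[Q, im A] = closure (covs U A)`; `brk_one` : `= Y_j`;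
* **`sd_of`** : `s ∈ im S` normalises `[V, A]` ⟹ it normalises `D_j`;
* **`nbd_sd`** : `nbd_of` with (SD);
* `noex_of` : a member of `EE` has no exact proper subgroup `≠ 1` (in `XH Q`).
-/

set_option autoImplicit false
set_option linter.unusedSectionVars false

namespace Cfsg.Agent.Omega.NOThreeL.RRed.Blk.UniSD

open Subgroup Cfsg Cfsg.Agent.ZN
open Cfsg.Agent.Omega.FFThm Cfsg.Agent.Lib.SL2Mat
open Cfsg.Agent.Omega.NO3S.ThmB Cfsg.Agent.Omega.NO3S.KeyRad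
open Cfsg.Agent.Omega.NOThreeL.RSplit (Nrm)
open Cfsg.Agent.Omega.NOThreeL.RRed.NS
open Cfsg.Agent.Omega.NOThreeL.RRed.Blk.TypesNat (XH ph ph_smul XH_faith ph_surj mem_ker)
open Cfsg.Agent.Omega.NOThreeL.RRed.Blk.AsmCore (im mem_im ph_mem_im im_mono brk_im)
open scoped Pointwise

universe u

variable {G : Type u} [Group G] {F : Type} [Field F] {S P V D U H A : Subgroup G} {k : ℕ}

/-- `[Q, im A]` -/
theorem brk_im_eq (Q : Nrm H U) (hA : A ≤ H) : brk Q.Mod (im Q A) = Q.ad (closure (covs U A)) := by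
  apply le_antisymm
  · exact brk_im Q fun x hx w hw => subset_closure ⟨x, hx, w, hw, rfl⟩
  · intro m hm
    have h1 : closure (covs U A) ≤ un Q (brk Q.Mod (im Q A)) := by
      rw [closure_le]
      rintro _ ⟨a, ha, u, hu, rfl⟩
      refine ⟨ph Q ⟨a, hA ha⟩ • Q.of u hu - Q.of u hu,
        AddSubgroup.subset_closure ⟨_, ph_mem_im Q (a := ⟨a, hA ha⟩) ha, _, rfl⟩, ?_⟩
      rw [ph_smul, Nrm.val_sub, Nrm.val_smul]
      rfl
    exact (val_mem_un Q).1 (h1 hm)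

variable [Finite G] [Finite F] [CharP F 2] {M : NatKM F S P V D k} (h : Nb M) (hF : 2 < Nat.card F) (Q : Nrm H U)
  (hPH : P ≤ H) (hVU : V ≤ U) {j : Fin k} (O : Cfsg.Agent.Omega.NO3S.ThmB.One M U A j) (hAP : A ≤ P)
include h hF hPH hVU O hAP

theorem brk_one : brk Q.Mod (im Q A) = Q.ad (YY h j) := by
  obtain ⟨l, g, C⟩ := exists_cd h hF j
  rw [brk_im_eq Q (hAP.trans hPH), YY_eq h C O hAP hVU hF]

/-- **(SD)** -/
theorem sd_of {s : XH Q} (hs : s ∈ im Q S) (hY : ∀ m ∈ brk Q.Mod (im Q A), s • m ∈ brk Q.Mod (im Q A)) :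
    ∀ m ∈ Q.ad (DD M j), s • m ∈ Q.ad (DD M j) := by
  rw [brk_one h hF Q hPH hVU O hAP] at hY
  intro m hm
  obtain ⟨t, ht, rfl⟩ := hs
  have h1 := hY m (Nrm.ad_mono (DD_le_YY h j) hm)
  have h2 : Q.val m ∈ DD M j := hm
  have h3 : (t : G) ∈ P := h.SP' ht
  have h4 := (mem_normalizer_iff.1 (h.DP' h3) _).1 h2.2
  refine Nrm.mem_ad.2 (mem_inf.2 ⟨YY_le h j h1, ?_⟩)
  rw [ph_smul, Nrm.val_smul]
  exact h4

/-- **the block of a natural module, with (SD)** -/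
theorem nbd_sd : ∃ p ∈ P, ∃ L : AddSubgroup Q.Mod, L ⊔ Q.ad (DD M j) = Q.ad (YY h j) ∧
    AsmN.NBd (im Q A) (Q.ad (blk M j)) (Q.ad (centralizer ((A ⊔ MulAut.conj p • A : Subgroup G) : Set G))) L
      (Q.ad (DD M j)) ∧
    ∀ s ∈ im Q S, (∀ m ∈ brk Q.Mod (im Q A), s • m ∈ brk Q.Mod (im Q A)) →
      ∀ m ∈ Q.ad (DD M j), s • m ∈ Q.ad (DD M j) := by
  obtain ⟨p, hp, L, h1, h2⟩ := IsNBDOf.nbd_of h hF Q hPH hVU O hAP
  exact ⟨p, hp, L, h1, h2, fun s hs hY => sd_of h hF Q hPH hVU O hAP hs hY⟩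

omit hVU O hAP h hF hPH [Finite F] [CharP F 2] in
/-- **(noex)** a minimal exact offender has no exact proper subgroup in `XH Q` -/
theorem noex_of (hno : NoOverM U H) (hA : A ≤ H) (hm : Mx U A) : ∀ B ≤ im Q A, B ≠ ⊥ → B ≠ im Q A →
    Nat.card B * Nat.card (fxd B : AddSubgroup Q.Mod) < Nat.card Q.Mod := by
  intro D hD h0 h1
  have hel := AsmEsB.el_im Q hm.toElemM
  have hEA : FF.Basic.EA (im Q A) := fun a ha => hel.sq a ha
  obtain ⟨B, hBA, hcB, hB⟩ := AsmEsB.lift Q hA hD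
  refine lt_of_le_of_ne (AsmEsB.mm_le Q hno (hEA.mono hD)) fun h3 => ?_
  have h4 := (AsmEsB.exact_iff Q (hBA.trans hA)).2 (by rw [hB]; exact h3)
  rcases hm.min B hBA h4 hcB with h5 | h5
  · apply h0
    rw [← hB, eq_bot_iff]
    rintro _ ⟨b, hb, rfl⟩
    exact MonoidHom.mem_ker.1 ((mem_ker Q).2 (h5 hb))
  · apply h1
    rw [← hB, h5]

end Cfsg.Agent.Omega.NOThreeL.RRed.Blk.UniSD

end

section


/-!
# NO-3L, box R: from a family of natural blocks (`Asm.Fam`) to `DecE.Orbs`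

Over helper797's `DecDef` (`su Q W`, `pre Q W`, `Eg FF N D`):

* `Bk.lo_eq` : `lo t = w (up t) w⁻¹`, `w = wt up lo 1`; **`Fam.Eg_tr`** : `Eg FF N D` is transitive on `N D ∖ {0}`;
* **`orbs_of_fam`** : `DecE.Orbs L (su Q (N b)) (pre Q (Eg FF N b)) (su Q (N b) ∖ {1})`;
* **`hdif_of_fam`** : `su Q (N b)` is generated by the quotients of elements of `su Q (N b) ∖ {1}`;
* **`pre_Eg_le`** : `pre Q (Eg FF N D) ≤ T ⊔ (L ⊓ C(U))` for every `T ⊴ L` which covers the members of `FF`;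
* `norm_iSup` : `N_G(S) ≤ N_G(⨆ N' b)` if `N_G(S)` permutes the `N' b`.
-/

set_option autoImplicit false
set_option linter.unusedSectionVars false

namespace Cfsg.Agent.Omega.NOThreeL.RRed.Blk.Asm

open Cfsg.Agent.Omega.NOThreeL.RRed.NS (fxd brk mem_fxd)
open Cfsg.Agent.Omega.NOThreeL.RRed.Blk.TypesGam Cfsg.Agent.Omega.NOThreeL.RRed.Blk.Types
open Cfsg.Agent.Omega.NOThreeL.RRed.Blk.TypesEq

open scoped Pointwise

universe u v w

section mod

variable {X : Type u} {V : Type v} [Group X] [AddCommGroup V] [DistribMulAction X V]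

section bk

variable {F : Type w} [Field F] {e f : F →+ V} {C : AddSubgroup V} {up lo : F → X}

/-- `lo t = w (up t) w⁻¹` -/
theorem bk_lo_eq (h : Bk e f C up lo) (h2 : ∀ v : V, v + v = 0) (hf : ∀ x : X, (∀ v : V, x • v = v) → x = 1) (t : F) :
    lo t = wt up lo 1 * up t * (wt up lo 1)⁻¹ := by
  have he : ∀ z, (wt up lo 1)⁻¹ • e z = f z := fun z => by
    rw [inv_smul_eq_iff, h.wt_f h2 one_ne_zero, one_mul]
  have hff : ∀ z, (wt up lo 1)⁻¹ • f z = e z := fun z => by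
    rw [inv_smul_eq_iff, h.wt_e h2 one_ne_zero, inv_one, one_mul]
  refine h.ext hf (fun z => ?_) (fun z => ?_) fun c hc => ?_
  · rw [mul_smul, mul_smul, he, h.up_f, smul_add, h.wt_f h2 one_ne_zero, h.wt_e h2 one_ne_zero, one_mul, inv_one,
      one_mul, h.lo_e]
  · rw [mul_smul, mul_smul, hff, h.up_e, h.wt_e h2 one_ne_zero, inv_one, one_mul, h.lo_f]
  · have hc' : (wt up lo 1)⁻¹ • c = c := by rw [inv_smul_eq_iff, h.wt_c _ hc]
    rw [mul_smul, mul_smul, hc', h.up_c _ c hc, h.wt_c _ hc, h.lo_c _ c hc]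

/-- `w` normalises the block -/
theorem bk_wt_N (h : Bk e f C up lo) (h2 : ∀ v : V, v + v = 0) (m : V) :
    m ∈ e.range ⊔ f.range ↔ wt up lo 1 • m ∈ e.range ⊔ f.range := by
  have key : ∀ m ∈ e.range ⊔ f.range, wt up lo 1 • m ∈ e.range ⊔ f.range := by
    intro m hm
    obtain ⟨_, ⟨x, rfl⟩, _, ⟨y, rfl⟩, rfl⟩ := AddSubgroup.mem_sup.1 hm
    rw [smul_add, h.wt_e h2 one_ne_zero, h.wt_f h2 one_ne_zero, add_comm]
    exact AddSubgroup.add_mem_sup ⟨_, rfl⟩ ⟨_, rfl⟩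
  refine ⟨key m, fun hm => ?_⟩
  have h1 := key _ hm
  obtain ⟨x, y, c, hc, rfl⟩ := h.dec m
  have e1 : wt up lo 1 • wt up lo 1 • (e x + f y + c) = e x + f y + c := by
    have e3 : wt up lo 1 • (e x + f y + c) = e y + f x + c := by
      rw [smul_add, smul_add, h.wt_e h2 one_ne_zero, h.wt_f h2 one_ne_zero, inv_one, one_mul, one_mul, h.wt_c _ hc]
      abel
    have e4 : wt up lo 1 • (e y + f x + c) = e x + f y + c := by
      rw [smul_add, smul_add, h.wt_e h2 one_ne_zero, h.wt_f h2 one_ne_zero, inv_one, one_mul, one_mul, h.wt_c _ hc]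
      abel
    rw [e3, e4]
  rwa [e1] at h1

/-- every non-zero vector of the block is moved to `f 1` by `⟨up, lo⟩` -/
theorem bk_tr (h : Bk e f C up lo) (h2 : ∀ v : V, v + v = 0) {E : Subgroup X} (hu : ∀ t, up t ∈ E) (hl : ∀ t, lo t ∈ E)
    {m : V} (hm : m ∈ e.range ⊔ f.range) (h0 : m ≠ 0) : ∃ x ∈ E, x • m = f 1 := by
  have two := h.two h2
  have B : ∀ y, y ≠ 0 → ∃ x ∈ E, x • f y = f 1 := by
    intro y hy
    refine ⟨up 1 * lo (y + 1) * up y⁻¹, mul_mem (mul_mem (hu _) (hl _)) (hu _), ?_⟩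
    have e1 : lo (y + 1) • (f y + e 1) = e 1 + f 1 := by
      rw [smul_add, h.lo_f, h.lo_e, mul_one, map_add]
      have e3 : f y + (e 1 + (f y + f 1)) = e 1 + f 1 + (f y + f y) := by abel
      rw [e3, h2, add_zero]
    have e4 : up 1 • (e 1 + f 1) = f 1 := by
      rw [smul_add, h.up_e, h.up_f, mul_one]
      have e3 : e 1 + (f 1 + e 1) = f 1 + (e 1 + e 1) := by abel
      rw [e3, h2, add_zero]
    rw [mul_smul, mul_smul, h.up_f, inv_mul_cancel₀ hy, e1, e4]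
  obtain ⟨_, ⟨x, rfl⟩, _, ⟨y, rfl⟩, rfl⟩ := AddSubgroup.mem_sup.1 hm
  by_cases hy : y = 0
  · subst hy
    have hx : x ≠ 0 := by
      rintro rfl
      apply h0
      rw [map_zero, map_zero, add_zero]
    refine ⟨up x * lo x⁻¹, mul_mem (hu _) (hl _), ?_⟩
    rw [map_zero, add_zero, mul_smul, h.lo_e, inv_mul_cancel₀ hx, smul_add, h.up_e, h.up_f, mul_one]
    have e3 : e x + (f 1 + e x) = f 1 + (e x + e x) := by abel
    rw [e3, h2, add_zero]
  · obtain ⟨g, hg, e1⟩ := B y hy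
    refine ⟨g * up (x * y⁻¹), mul_mem hg (hu _), ?_⟩
    have e3 : up (x * y⁻¹) • (e x + f y) = f y := by
      rw [smul_add, h.up_e, h.up_f, inv_mul_cancel_right₀ hy]
      have e4 : e x + (f y + e x) = f y + (e x + e x) := by abel
      rw [e4, h2, add_zero]
    rw [mul_smul, e3, e1]

end bk

variable {S : Subgroup X} {FF : Set (Subgroup X)} {N C : Subgroup X → AddSubgroup V}

/-- **`Eg FF N D` is transitive on `N D ∖ {0}`.** -/
theorem Fam.Eg_tr (F : Fam S FF N C) (h2 : ∀ v : V, v + v = 0) (hf : ∀ x : X, (∀ v : V, x • v = v) → x = 1)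
    {D : Subgroup X} (hD : D ∈ FF) {m m' : V} (hm : m ∈ N D) (h0 : m ≠ 0) (hm' : m' ∈ N D) (h0' : m' ≠ 0) :
    ∃ x ∈ Eg FF N D, x • m = m' := by
  obtain ⟨K, _, _, e, f, up, lo, hB, hrt, hN⟩ := (F.nb D hD).ex
  have hu : ∀ t, up t ∈ Eg FF N D := fun t => le_Eg hD (hrt ▸ up_mem t)
  have hl : ∀ t, lo t ∈ Eg FF N D := fun t => by
    rw [bk_lo_eq hB h2 hf]
    refine mem_Eg hD (fun m => ?_) (hrt ▸ up_mem t)
    rw [← hN]
    exact bk_wt_N hB h2 m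
  rw [← hN] at hm hm'
  obtain ⟨x, hx, e1⟩ := bk_tr hB h2 hu hl hm h0
  obtain ⟨y, hy, e3⟩ := bk_tr hB h2 hu hl hm' h0'
  exact ⟨y⁻¹ * x, mul_mem (inv_mem hy) hx, by rw [mul_smul, e1, inv_smul_eq_iff, e3]⟩

/-- two different non-zero vectors in a block -/
theorem NB.exists_two {D : Subgroup X} {N C : AddSubgroup V} (h : NB D N C) :
    ∃ a ∈ N, ∃ b ∈ N, a ≠ 0 ∧ b ≠ 0 ∧ a ≠ b := by
  obtain ⟨K, _, _, e, f, up, lo, hB, rfl, rfl⟩ := h.ex
  refine ⟨e 1, AddSubgroup.mem_sup_left ⟨1, rfl⟩, f 1, AddSubgroup.mem_sup_right ⟨1, rfl⟩, ?_, ?_, ?_⟩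
  · intro h0
    exact one_ne_zero (hB.ind 1 0 (by rw [h0, map_zero, add_zero]; exact C.zero_mem)).1
  · intro h0
    exact one_ne_zero (hB.ind 0 1 (by rw [h0, map_zero, add_zero]; exact C.zero_mem)).2
  · intro h0
    have e1 : e 1 + f (-1) ∈ C := by
      rw [map_neg, h0, add_neg_cancel]; exact C.zero_mem
    exact one_ne_zero (hB.ind 1 (-1) e1).1

end mod

section grp

open Cfsg.Agent.Omega.NOThreeL.RSplit (Nrm)
open Cfsg.Agent.Omega.NOThreeL.RRed.Blk.TypesNat (XH ph ph_smul XH_faith ph_eq ph_surj mem_ker)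

variable {G : Type u} [Group G] {L U : Subgroup G} {Q : Nrm L U}

variable {S : Subgroup (XH Q)} {FF : Set (Subgroup (XH Q))} {N C : Subgroup (XH Q) → AddSubgroup Q.Mod}

/-- **`Orbs`** -/
theorem orbs_of_fam [Finite G] (F : Fam S FF N C) (h2 : ∀ m : Q.Mod, m + m = 0) :
    Cfsg.Agent.Omega.NOThreeL.RZ.TwoC.DecE.Orbs L (fun b : FF => su Q (N b.1)) (fun b : FF => pre Q (Eg FF N b.1))
      (fun b : FF => (su Q (N b.1) : Set G) \ {1}) where
  sub b x hx := hx.1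
  one b h1 := h1.2 rfl
  odd b := by
    obtain ⟨a, ha, -, -, ha0, -, -⟩ := (F.nb b.1 b.2).exists_two
    have h1 : 2 ∣ Nat.card (su Q (N b.1)) := by
      let x : su Q (N b.1) := ⟨Q.val a, val_mem_su.2 ha⟩
      have hx1 : x ≠ 1 := fun h => ha0 (Nrm.eq_zero_iff.2 (congrArg Subtype.val h))
      have hx2 : x ^ 2 = 1 := by
        refine Subtype.ext ?_
        change (Q.val a) ^ 2 = 1
        rw [pow_two, ← Nrm.val_add, h2, Nrm.val_zero]
      have h3 := orderOf_eq_prime hx2 hx1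
      rw [← h3]; exact orderOf_dvd_natCard x
    have h3 : Nat.card ↥((su Q (N b.1) : Set G) \ {1}) + 1 = Nat.card (su Q (N b.1)) := by
      have h5 := Set.ncard_sdiff_singleton_add_one (s := (su Q (N b.1) : Set G)) (one_mem (su Q (N b.1)))
        (Set.toFinite _)
      rw [← Nat.card_coe_set_eq, ← Nat.card_coe_set_eq] at h5
      exact h5
    rw [← h3] at h1
    change Odd (Nat.card ↥((su Q (N b.1) : Set G) \ {1}))
    rcases Nat.even_or_odd (Nat.card ↥((su Q (N b.1) : Set G) \ {1})) with h5 | h5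
    · obtain ⟨k, hk⟩ := h5
      omega
    · exact h5
  tr b x hx y hy := by
    obtain ⟨⟨hxU, hx1⟩, hx0⟩ := hx
    obtain ⟨⟨hyU, hy1⟩, hy0⟩ := hy
    obtain ⟨g, hg, e1⟩ := F.Eg_tr h2 (XH_faith Q) b.2 hx1 (fun h => hx0 (Nrm.eq_zero_iff.1 h)) hy1
      (fun h => hy0 (Nrm.eq_zero_iff.1 h))
    obtain ⟨l, rfl⟩ := ph_surj Q g
    refine ⟨l, mem_pre.2 ⟨l.2, hg⟩, ?_⟩
    rw [ph_smul, Nrm.ext_iff, Nrm.val_smul] at e1
    exact e1
  inv g hg b c hbc x hx := by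
    refine ⟨?_, fun h1 => hx.2 ?_⟩
    · have h1 : g * x * g⁻¹ ∈ MulAut.conj g • su Q (N b.1) := by
        rw [mem_cj]
        have e1 : g⁻¹ * (g * x * g⁻¹) * g = x := by group
        rw [e1]; exact hx.1
      rw [hbc] at h1
      exact h1
    · have h3 : g * x * g⁻¹ = 1 := h1
      have e1 : x = g⁻¹ * (g * x * g⁻¹) * g := by group
      change x = 1
      rw [e1, h3]; group

/-- **`hdif`** -/
theorem hdif_of_fam (F : Fam S FF N C) (h2 : ∀ m : Q.Mod, m + m = 0) (b : FF) :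
    su Q (N b.1) ≤ Subgroup.closure {g | ∃ x ∈ (su Q (N b.1) : Set G) \ {1}, ∃ y ∈ (su Q (N b.1) : Set G) \ {1},
      g = y * x⁻¹} := by
  rintro v ⟨hvU, hv⟩
  by_cases h0 : v = 1
  · rw [h0]; exact one_mem _
  obtain ⟨a, ha, a', ha', h1, h3, h5⟩ := (F.nb b.1 b.2).exists_two
  have key : ∃ m ∈ N b.1, m ≠ 0 ∧ m ≠ Q.of v hvU := by
    by_cases h6 : a = Q.of v hvU
    · exact ⟨a', ha', h3, fun h7 => h5 (h6.trans h7.symm)⟩
    · exact ⟨a, ha, h1, h6⟩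
  obtain ⟨m, hm, hm0, hmv⟩ := key
  refine Subgroup.subset_closure ⟨Q.val m, ⟨val_mem_su.2 hm, fun h => hm0 (Nrm.eq_zero_iff.2 h)⟩, v * Q.val m,
    ⟨mul_mem (mem_su.2 ⟨hvU, hv⟩) (val_mem_su.2 hm), fun h => hmv ?_⟩, by group⟩
  have h7 : Q.of v hvU + m = 0 := Nrm.eq_zero_iff.2 h
  have h8 : m = Q.of v hvU + (Q.of v hvU + m) := by rw [← add_assoc, h2, zero_add]
  rw [h8, h7, add_zero]

/-- **`pre Q (Eg FF N D) ≤ T ⊔ (L ⊓ C(U))`** -/
theorem pre_Eg_le {T : Subgroup G} (hLT : L ≤ Subgroup.normalizer (T : Set G))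
    (hT : ∀ D ∈ FF, ∀ a ∈ D, ∃ t : L, (t : G) ∈ T ∧ ph Q t = a) {D : Subgroup (XH Q)} :
    pre Q (Eg FF N D) ≤ T ⊔ (L ⊓ Subgroup.centralizer (U : Set G)) := by
  have h1 : Eg FF N D ≤ (T.subgroupOf L).map (ph Q) := by
    refine (Subgroup.closure_le _).2 ?_
    rintro _ ⟨g, D', hD', -, a, ha, rfl⟩
    obtain ⟨l, rfl⟩ := ph_surj Q g
    obtain ⟨t, ht, rfl⟩ := hT D' hD' a ha
    refine ⟨l * t * l⁻¹, ?_, by rw [map_mul, map_mul, map_inv]⟩
    change (l : G) * t * (l : G)⁻¹ ∈ T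
    exact (Subgroup.mem_normalizer_iff.1 (hLT l.2) t).1 ht
  intro x hx
  obtain ⟨hxL, hx1⟩ := mem_pre.1 hx
  obtain ⟨t, ht, e1⟩ := h1 hx1
  have h3 : t⁻¹ * (⟨x, hxL⟩ : L) ∈ (ph Q).ker := by
    rw [MonoidHom.mem_ker, map_mul, map_inv, e1, inv_mul_cancel]
  have h5 := (mem_ker Q).1 h3
  have h6 : x = (t : G) * ((t⁻¹ * (⟨x, hxL⟩ : L) : L) : G) := by
    change x = (t : G) * ((t : G)⁻¹ * x)
    rw [mul_inv_cancel_left]
  rw [h6]
  exact Subgroup.mul_mem_sup ht ⟨(t⁻¹ * (⟨x, hxL⟩ : L)).2, h5⟩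

end grp

section norm

variable {G : Type u} [Group G] {ι : Sort w}

/-- `N_G(S)` normalises the product of the blocks -/
theorem norm_iSup {H : Subgroup G} {N' : ι → Subgroup G} (h : ∀ n ∈ H, ∀ b, ∃ c, MulAut.conj n • N' b = N' c) :
    H ≤ Subgroup.normalizer ((⨆ b, N' b : Subgroup G) : Set G) := by
  have key : ∀ n ∈ H, ∀ x ∈ ⨆ b, N' b, n * x * n⁻¹ ∈ ⨆ b, N' b := by
    intro n hn x hx
    have h1 : (⨆ b, N' b) ≤ (⨆ b, N' b).comap (MulAut.conj n).toMonoidHom := by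
      refine iSup_le fun b y hy => ?_
      obtain ⟨c, hc⟩ := h n hn b
      have h3 : n * y * n⁻¹ ∈ MulAut.conj n • N' b := by
        rw [mem_cj]
        have e1 : n⁻¹ * (n * y * n⁻¹) * n = y := by group
        rw [e1]; exact hy
      rw [hc] at h3
      exact (le_iSup N' c) h3
    exact h1 hx
  intro n hn
  rw [Subgroup.mem_normalizer_iff]
  refine fun x => ⟨key n hn x, fun hx => ?_⟩
  have h1 := key n⁻¹ (inv_mem hn) _ hx
  have e1 : n⁻¹ * (n * x * n⁻¹) * n⁻¹⁻¹ = x := by group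
  rwa [e1] at h1

end norm

end Cfsg.Agent.Omega.NOThreeL.RRed.Blk.Asm

end
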