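import Cfsg.Agent.Mrg.Omega.NOThreeL.RRed.Blk.AcNSame
import Cfsg.Agent.Mrg.Omega.NOThreeL.RRed.Blk.UniSD
import Cfsg.Agent.Mrg.Omega.NOThreeL.RRed.Blk.AsmOf
import Cfsg.Agent.Mrg.Omega.NOThreeL.RRed.Blk.TypesNormN
import Cfsg.Agent.Mrg.Omega.NOThreeL.RRed.Blk.AcNAt
import Cfsg.Agent.Mrg.Omega.NO3S.ThmB.Inst
import Cfsg.Agent.Mrg.Omega.NOThreeL.RRed.Blk.UniOf

section


/-!
# NO-3L, box R, nonsplit blocks (#26560, #27786 (ii)): `⟨EP^P⟩` normalises `C = C_U(⟨A, A^p⟩)`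

`M` natural, `One M U A j`, `p` the Weyl element, `NBd (im Q A) (blk M j) C L (DD M j)`.

* `exists_conj` : `q ∈ P` permutes the summands, `q c q⁻¹` acts on one summand if `c` does;
* `full_conj` : `U = V C_U(q a q⁻¹)`;
* `norm_other` : `x` on another summand normalises `C`;
* `exists_up` : an involution on the `j`-th summand is conjugate under `⟨A, A^p⟩` to one acting as `up β`;
* `norm_same` : `x` on the `j`-th summand normalises `C`;
* **`norm_gen`** : `q a q⁻¹` normalises `C`;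
* `nbd_at` : `NBd` at the given Weyl element;
* **`norm_C`**, `norm_N_Z` : `KP S P U` normalises `C` and `blk M j` and centralises `DD M j`.
-/

set_option autoImplicit false
set_option linter.unusedSectionVars false

namespace Cfsg.Agent.Omega.NOThreeL.RRed.Blk.AcNK

open Subgroup Cfsg Cfsg.Agent.ZN Cfsg.Agent.Omega.MinPar
open Cfsg.Agent.Omega.FFThm Cfsg.Agent.Lib.SL2Mat
open Cfsg.Agent.Omega.FrameFF (cv)
open Cfsg.Agent.Omega.NatPair
open Cfsg.Agent.Omega.NO3S.ThmB Cfsg.Agent.Omega.NO3S.KeyRad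
open Cfsg.Agent.Omega.NOThreeL.RSplit (Nrm)
open Cfsg.Agent.Omega.NOThreeL.RRed.NS
open Cfsg.Agent.Omega.NOThreeL.RRed.Blk.TypesNat (XH ph ph_smul XH_faith no_XH two_of NBd_permg)
open Cfsg.Agent.Omega.NOThreeL.RRed.Blk.AsmCore (EE EP KP im mem_im ph_mem_im im_mono fxd_im)
open scoped Pointwise

universe u

variable {G : Type u} [Group G] {F : Type} [Field F] {S P V D U H A : Subgroup G} {k : ℕ} {M : NatKM F S P V D k}

section grp

variable [CharP F 2] (h : Nb M)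
include h

/-- conjugation permutes the summands -/
theorem exists_conj {q : G} (hq : q ∈ P) : ∃ σ : Equiv.Perm (Fin k), ∀ i, ∀ c ∈ P,
    ∀ B : Matrix.SpecialLinearGroup (Fin 2) F, ActsSL M.e V D c (sg i B) →
      ∃ B', ActsSL M.e V D (q * c * q⁻¹) (sg (σ i) B') := by
  obtain ⟨σ, hσ⟩ := M.perm q hq
  refine ⟨σ, fun i c hc B hB => ?_⟩
  obtain ⟨B', hB'⟩ := M.norm q hq c hc (sg i B) hB.1
  refine ⟨B' (σ i), fun v hv l => ?_, fun d hd => ?_⟩
  · by_cases hl : l = σ i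
    · subst hl
      rw [sg_self]
      exact hB' v hv _
    · rw [sg_ne hl, ap_one]
      have hw : q⁻¹ * v * q ∈ V := by
        have := (mem_normalizer_iff.1 (h.VP' (inv_mem hq)) v).1 hv
        rwa [inv_inv] at this
      set w := q⁻¹ * v * q with hwd
      have hcw : c * w * c⁻¹ * w⁻¹ ∈ V := mul_mem ((mem_normalizer_iff.1 (h.VP' hc) w).1 hw) (inv_mem hw)
      have hqc : q * (c * w * c⁻¹ * w⁻¹) * q⁻¹ ∈ V := (mem_normalizer_iff.1 (h.VP' hq) _).1 hcw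
      have e1 : q * c * q⁻¹ * v * (q * c * q⁻¹)⁻¹ = q * (c * w * c⁻¹ * w⁻¹) * q⁻¹ * v := by rw [hwd]; group
      rw [e1, M.mul _ hqc _ hv, Pi.add_apply]
      have h0 : M.e (c * w * c⁻¹ * w⁻¹) (σ.symm l) = 0 := by
        have hne : σ.symm l ≠ i := fun h1 => hl (by rw [← h1, Equiv.apply_symm_apply])
        rw [M.mul _ ((mem_normalizer_iff.1 (h.VP' hc) w).1 hw) _ (inv_mem hw), Pi.add_apply, hB.1 w hw, sg_ne hne,
          ap_one, h.e_inv hw]
        funext t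
        exact CharTwo.add_self_eq_zero _
      have h1 := (hσ _ hcw (σ.symm l)).2 h0
      rw [Equiv.apply_symm_apply] at h1
      rw [h1, zero_add]
  · have hw : q⁻¹ * d * q ∈ D := by
      have := (mem_normalizer_iff.1 (h.DP' (inv_mem hq)) d).1 hd
      rwa [inv_inv] at this
    have h1 := hB.2 _ hw
    have e1 : q * c * q⁻¹ * d = q * (c * (q⁻¹ * d * q)) * q⁻¹ := by group
    rw [e1, h1]
    group

/-- `U = V C_U(q a q⁻¹)` -/
theorem full_conj (hPU : P ≤ normalizer (U : Set G)) {q a : G} (hq : q ∈ P)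
    (hfull : ∀ u ∈ U, ∃ v ∈ V, ∃ c ∈ U, a * c = c * a ∧ u = v * c) :
    ∀ u ∈ U, ∃ v ∈ V, ∃ c ∈ U, q * a * q⁻¹ * c = c * (q * a * q⁻¹) ∧ u = v * c := by
  intro u hu
  have hu' : q⁻¹ * u * q ∈ U := by
    have := (mem_normalizer_iff.1 (hPU (inv_mem hq)) u).1 hu
    rwa [inv_inv] at this
  obtain ⟨v, hv, c, hc, h1, h3⟩ := hfull _ hu'
  refine ⟨q * v * q⁻¹, (mem_normalizer_iff.1 (h.VP' hq) _).1 hv, q * c * q⁻¹, (mem_normalizer_iff.1 (hPU hq) _).1 hc, ?_, ?_⟩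
  · have e1 : q * a * q⁻¹ * (q * c * q⁻¹) = q * (a * c) * q⁻¹ := by group
    rw [e1, h1]; group
  · have e1 : q * v * q⁻¹ * (q * c * q⁻¹) = q * (v * c) * q⁻¹ := by group
    rw [e1, ← h3]; group

variable {j : Fin k} (O : Cfsg.Agent.Omega.NO3S.ThmB.One M U A j) (hAP : A ≤ P) {p : G} (hp : p ∈ P)
  (hpA : ActsSL M.e V D p (sg j (wl F)))
include O hAP hp hpA

/-- `⟨A, A^p⟩` centralises the other blocks -/
theorem cent_other {l : Fin k} (hl : l ≠ j) {y : G} (hy : y ∈ blk M l) {x : G} (hx : x ∈ A ⊔ MulAut.conj p • A) :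
    x * y = y * x := by
  have h1 : A ⊔ MulAut.conj p • A ≤ centralizer ({y} : Set G) := by
    refine sup_le (fun a ha => ?_) fun a ha => ?_
    · rw [mem_centralizer_singleton_iff]
      obtain ⟨β, hβ⟩ := O.act a ha
      exact h.dir (hAP ha) hβ (sg_ne hl _) (blk_le h l hy) fun l' hl' => e_blk h hl' hy
    · rw [mem_centralizer_singleton_iff]
      exact mul_inv_eq_iff_eq_mul.1 (cent_conj h O hAP hp hpA ha hl hy)
  exact mem_centralizer_singleton_iff.1 (h1 hx)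

/-- **another summand** -/
theorem norm_other {x : G} (hx : x ∈ P) {l : Fin k} (hl : l ≠ j) {B : Matrix.SpecialLinearGroup (Fin 2) F}
    (hB : ActsSL M.e V D x (sg l B)) (hfull : ∀ u ∈ U, ∃ v ∈ V, ∃ c ∈ U, x * c = c * x ∧ u = v * c)
    {u : G} (hu : u ∈ U) (hc : ∀ y ∈ A ⊔ MulAut.conj p • A, y * u = u * y) :
    ∀ y ∈ A ⊔ MulAut.conj p • A, y * (x * u * x⁻¹) = (x * u * x⁻¹) * y := by
  intro y hy
  obtain ⟨v, hv, c, hcU, h1, rfl⟩ := hfull u hu
  have e1 : x * (v * c) * x⁻¹ = (x * v * x⁻¹ * v⁻¹) * (v * c) := by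
    have e2 : x * (v * c) * x⁻¹ = x * v * x⁻¹ * (x * c * x⁻¹) := by group
    have e3 : x * c * x⁻¹ = c := by rw [h1]; group
    rw [e2, e3]; group
  have h3 : y * (x * v * x⁻¹ * v⁻¹) = (x * v * x⁻¹ * v⁻¹) * y :=
    cent_other h O hAP hp hpA hl (mem_blk hx hB hv) hy
  rw [e1]
  calc y * (x * v * x⁻¹ * v⁻¹ * (v * c)) = (y * (x * v * x⁻¹ * v⁻¹)) * (v * c) := by group
    _ = (x * v * x⁻¹ * v⁻¹) * (y * (v * c)) := by rw [h3]; group
    _ = _ := by rw [hc y hy]; group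

/-- `⟨A, A^p⟩` acts on the `j`-th summand -/
theorem acts_E {x : G} (hx : x ∈ A ⊔ MulAut.conj p • A) : x ∈ P ∧ ∃ B, ActsSL M.e V D x (sg j B) := by
  let K : Subgroup G := {
    carrier := {x | x ∈ P ∧ ∃ B : Matrix.SpecialLinearGroup (Fin 2) F, ActsSL M.e V D x (sg j B)}
    mul_mem' := by
      rintro a b ⟨ha, A', hA'⟩ ⟨hb, B', hB'⟩
      exact ⟨mul_mem ha hb, A' * B', by rw [sg_mul]; exact h.acts_mul hb hA' hB'⟩
    one_mem' := ⟨one_mem _, 1, by rw [sg_one]; exact Nb.acts_one⟩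
    inv_mem' := by
      rintro a ⟨ha, A', hA'⟩
      refine ⟨inv_mem ha, A'⁻¹, ?_⟩
      have h1 := h.acts_inv ha hA'
      have e1 : (sg j A' : Fin k → _)⁻¹ = sg j A'⁻¹ := by
        rw [inv_eq_iff_mul_eq_one, ← sg_mul, mul_inv_cancel, sg_one]
      rwa [e1] at h1 }
  have h1 : A ⊔ MulAut.conj p • A ≤ K := by
    refine sup_le (fun a ha => ?_) fun a ha => ?_
    · obtain ⟨β, hβ⟩ := O.act a ha
      exact ⟨hAP ha, _, hβ⟩
    · obtain ⟨β, hβ⟩ := acts_conj h O hAP hp hpA ha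
      exact ⟨conj_le_P hAP hp ha, _, hβ⟩
  exact h1 hx

omit h O hAP hp hpA [CharP F 2] in
theorem eq_up {B : Matrix.SpecialLinearGroup (Fin 2) F} {s : F} (hs : s ≠ 0) (h1 : ap B ![s, 0] = ![s, 0]) :
    B = up (ent B 0 1) := by
  have a0 := congrFun h1 0
  have a1 := congrFun h1 1
  rw [ap_zero'] at a0
  rw [ap_one'] at a1
  simp only [Matrix.cons_val_zero, Matrix.cons_val_one, mul_zero, add_zero] at a0 a1
  have b0 : ent B 0 0 = 1 := mul_right_cancel₀ hs (by rw [a0, one_mul])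
  have b1 : ent B 1 0 = 0 := (mul_eq_zero.1 a1).resolve_right hs
  have hd := det_eq B
  rw [b0, b1, mul_zero, sub_zero, one_mul] at hd
  exact ext_ent (b0.trans (up_00 _).symm) (up_01 _).symm (b1.trans (up_10 _).symm) (hd.trans (up_11 _).symm)

/-- **an involution is conjugate to `up β`** -/
theorem exists_up {x : G} (hx : x ∈ P) {B : Matrix.SpecialLinearGroup (Fin 2) F}
    (hB : ActsSL M.e V D x (sg j B)) (h2 : ∀ v ∈ V, x * x * v = v * (x * x)) (hne : ∃ v ∈ V, x * v ≠ v * x) :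
    ∃ e ∈ A ⊔ MulAut.conj p • A, ∃ β, ActsSL M.e V D (e * x * e⁻¹) (sg j (up β)) := by
  -- a vector which is moved
  obtain ⟨v, hv, hvne⟩ : ∃ v ∈ V, M.e (x * v * x⁻¹) j ≠ M.e v j := by
    by_contra hcon
    push Not at hcon
    obtain ⟨v, hv, hvne⟩ := hne
    refine hvne (h.triv x hx (fun w hw => ?_) hB.2 v hv)
    funext l
    by_cases hl : l = j
    · subst hl; exact hcon w hw
    · rw [hB.1 w hw, sg_ne hl, ap_one]
  have hxv : x * v * x⁻¹ ∈ V := (mem_normalizer_iff.1 (h.VP' hx) v).1 hv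
  have hm := mem_blk hx hB hv
  obtain ⟨e, he, hY⟩ := exists_YY h O hAP hp hpA hm
  obtain ⟨heP, g, hg⟩ := acts_E h O hAP hp hpA he
  refine ⟨e, he, ?_⟩
  -- `y = e x e⁻¹`
  have hgi := h.acts_inv heP hg
  have hy0 := h.acts_mul (inv_mem heP) (h.acts_mul hx hg hB) hgi
  have e1 : sg j g * sg j B * (sg j g)⁻¹ = (sg j (g * B * g⁻¹) : Fin k → _) := by
    rw [mul_inv_eq_iff_eq_mul, ← sg_mul, ← sg_mul, inv_mul_cancel_right]
  rw [e1] at hy0
  set y := e * x * e⁻¹ with hy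
  set C' := g * B * g⁻¹ with hC'
  have hyP : y ∈ P := mul_mem (mul_mem heP hx) (inv_mem heP)
  set w := e * v * e⁻¹ with hw
  have hwV : w ∈ V := (mem_normalizer_iff.1 (h.VP' heP) v).1 hv
  have hyw : y * w * y⁻¹ ∈ V := (mem_normalizer_iff.1 (h.VP' hyP) w).1 hwV
  -- the commutator `[y, w] = [x, v]^e`
  have hcm : y * w * y⁻¹ * w⁻¹ = e * (x * v * x⁻¹ * v⁻¹) * e⁻¹ := by rw [hy, hw]; group
  have hcoord : M.e (y * w * y⁻¹ * w⁻¹) j = M.e (y * w * y⁻¹) j + M.e w j := by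
    rw [M.mul _ hyw _ (inv_mem hwV), Pi.add_apply, h.e_inv hwV]
  have hs1 : M.e (y * w * y⁻¹ * w⁻¹) j 1 = 0 := by rw [hcm]; exact hY.2
  have hs0 : M.e (y * w * y⁻¹ * w⁻¹) j 0 ≠ 0 := by
    intro h0
    have h3 : M.e (y * w * y⁻¹ * w⁻¹) j = 0 := by
      funext t
      fin_cases t
      · exact h0
      · exact hs1
    rw [hcoord] at h3
    have h4 : M.e (y * w * y⁻¹) j = M.e w j := by
      rw [← sub_eq_zero]
      rw [← h3]
      funext t
      exact CharTwo.sub_eq_add _ _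
    -- back to `x`
    apply hvne
    have h5 : y * w * y⁻¹ = e * (x * v * x⁻¹) * e⁻¹ := by rw [hy, hw]; group
    rw [h5, hg.1 _ hxv, hw, hg.1 _ hv, sg_self] at h4
    have h6 := congrArg (ap g⁻¹) h4
    rwa [← ap_mul, ← ap_mul, inv_mul_cancel, ap_one, ap_one] at h6
  -- the vector `(s, 0)` is fixed
  have hyy : y * y * w * (y * y)⁻¹ = w := by
    have e2 : y * y * w * (y * y)⁻¹ = e * (x * x * v * (x * x)⁻¹) * e⁻¹ := by rw [hy, hw]; group
    rw [e2, h2 v hv, mul_inv_cancel_right]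
  have hfix : ap C' (M.e (y * w * y⁻¹ * w⁻¹) j) = M.e (y * w * y⁻¹ * w⁻¹) j := by
    have hmem : y * w * y⁻¹ * w⁻¹ ∈ V := mul_mem hyw (inv_mem hwV)
    have h3 := hy0.1 _ hmem j
    rw [sg_self] at h3
    rw [← h3]
    have e2 : y * (y * w * y⁻¹ * w⁻¹) * y⁻¹ = (y * y * w * (y * y)⁻¹) * (y * w * y⁻¹)⁻¹ := by group
    rw [e2, hyy, M.mul _ hwV _ (inv_mem hyw), Pi.add_apply, h.e_inv hyw, hcoord, add_comm]
  have hvec : M.e (y * w * y⁻¹ * w⁻¹) j = ![M.e (y * w * y⁻¹ * w⁻¹) j 0, 0] := by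
    funext t
    fin_cases t
    · rfl
    · exact hs1
  rw [hvec] at hfix
  exact ⟨_, by rw [eq_up hs0 hfix] at hy0; exact hy0⟩

end grp

section fin

variable [Finite G] [Finite F] [CharP F 2] (h : Nb M) (hF : 2 < Nat.card F) (Q : Nrm H U) (hPH : P ≤ H) (hVU : V ≤ U)
  (hU2 : IsElementaryAbelian 2 U) (noH : NoOverM U H)
  {j : Fin k} (O : Cfsg.Agent.Omega.NO3S.ThmB.One M U A j) (hAP : A ≤ P) {p : G} (hp : p ∈ P)
  (hpA : ActsSL M.e V D p (sg j (wl F))) {L : AddSubgroup Q.Mod} (h4 : 4 ≤ Nat.card (im Q A))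
  (nb : AsmN.NBd (im Q A) (Q.ad (blk M j)) (Q.ad (centralizer ((A ⊔ MulAut.conj p • A : Subgroup G) : Set G))) L
    (Q.ad (DD M j)))
include h hF hPH hVU hU2 noH O hAP hp hpA h4 nb

omit hAP hp hpA h4 nb hU2 noH in
/-- `y` acts as `up β` on the `j`-th summand: it commutes with `im Q A` -/
theorem comm_up (hU2 : IsElementaryAbelian 2 U) (noH : NoOverM U H) (hAP : A ≤ P) {y : G} (hy : y ∈ P) {β : F}
    (hβ : ActsSL M.e V D y (sg j (up β))) (hfull : ∀ u ∈ U, ∃ v ∈ V, ∃ c ∈ U, y * c = c * y ∧ u = v * c) {a : XH Q}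
    (ha : a ∈ im Q A) : a * ph Q ⟨y, hPH hy⟩ = ph Q ⟨y, hPH hy⟩ * a := by
  obtain ⟨l, g, C⟩ := exists_cd h hF j
  -- `[U, y] ≤ Y_j`
  have h1 : ∀ m : Q.Mod, ph Q ⟨y, hPH hy⟩ • m - m ∈ Q.ad (YY h j) := by
    intro m
    obtain ⟨v, hv, c, hc, h1, h3⟩ := hfull (Q.val m) (Q.val_mem m)
    rw [Nrm.mem_ad, ph_smul, Nrm.val_sub, Nrm.val_smul]
    have e1 : y * Q.val m * y⁻¹ * (Q.val m)⁻¹ = y * v * y⁻¹ * v⁻¹ := by
      rw [h3]
      have e2 : y * (v * c) * y⁻¹ * (v * c)⁻¹ = y * v * y⁻¹ * (y * c * y⁻¹) * c⁻¹ * v⁻¹ := by group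
      have e3 : y * c * y⁻¹ = c := by rw [h1]; group
      rw [e2, e3]; group
    change y * Q.val m * y⁻¹ * (Q.val m)⁻¹ ∈ YY h j
    rw [e1, C.cm y hy β hβ v hv]
    exact mul_mem (C.lY h _) (C.gY h _)
  -- `y` centralises `Y_j`
  have h3 : ∀ m ∈ Q.ad (YY h j), ph Q ⟨y, hPH hy⟩ • m = m := by
    intro m hm
    rw [ph_smul, smul_eq_iff]
    have h5 := C.cm y hy β hβ _ (YY_le_V h j hm)
    rw [hm.2, mul_zero, zero_pow two_ne_zero, mul_zero, C.l_zero, C.g_zero, one_mul] at h5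
    exact mul_inv_eq_one.1 h5
  have hbr := UniSD.brk_one h hF Q hPH hVU O hAP
  refine (Asm.sit (two_of Q hU2) (fun x hx => XH_faith Q x hx) (no_XH Q noH)).comm_of (mem_top _) (mem_top _)
    (fun m => ?_) fun m => ?_
  · refine h3 _ ?_
    rw [← hbr]
    exact Types.sub_mem_brk ha m
  · have h5 : Q.ad (YY h j) ≤ fxd (im Q A) := by
      intro m hm
      rw [fxd_im Q (hAP.trans hPH), mem_centralizer_iff]
      exact fun a ha => cent_YY h O hAP ha hm
    exact mem_fxd.1 (h5 (h1 m)) a ha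

/-- **the same summand** -/
theorem norm_same {x : G} (hx : x ∈ P) {B : Matrix.SpecialLinearGroup (Fin 2) F}
    (hB : ActsSL M.e V D x (sg j B)) (hxx : ∀ v ∈ V, x * x * v = v * (x * x))
    (hfull : ∀ u ∈ U, ∃ v ∈ V, ∃ c ∈ U, x * c = c * x ∧ u = v * c) {m : Q.Mod}
    (hm : m ∈ Q.ad (centralizer ((A ⊔ MulAut.conj p • A : Subgroup G) : Set G))) :
    ph Q ⟨x, hPH hx⟩ • m ∈ Q.ad (centralizer ((A ⊔ MulAut.conj p • A : Subgroup G) : Set G)) := by
  have hPU : P ≤ normalizer (U : Set G) := fun q hq => Q.nrm (hPH hq)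
  by_cases hne : ∃ v ∈ V, x * v ≠ v * x
  · obtain ⟨e, he, β, hβ⟩ := exists_up h O hAP hp hpA hx hB hxx hne
    obtain ⟨heP, -⟩ := acts_E h O hAP hp hpA he
    have hyP : e * x * e⁻¹ ∈ P := mul_mem (mul_mem heP hx) (inv_mem heP)
    have hyf := full_conj h hPU heP hfull
    have hc : ∀ a ∈ im Q A, a * ph Q ⟨e * x * e⁻¹, hPH hyP⟩ = ph Q ⟨e * x * e⁻¹, hPH hyP⟩ * a := fun a ha =>
      comm_up h hF Q hPH hVU O hU2 noH hAP hyP hβ hyf ha
    set y : XH Q := ph Q ⟨e * x * e⁻¹, hPH hyP⟩ with hy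
    have hcj : MulAut.conj y • im Q A = im Q A := by
      apply le_antisymm
      · intro z hz
        have h1 := Types.mem_cj.1 hz
        have h3 := hc _ h1
        have e1 : z = y⁻¹ * z * y := by
          have e2 : z * y = y * (y⁻¹ * z * y) := by group
          rw [← h3] at e2
          exact mul_right_cancel e2
        rw [e1]; exact h1
      · intro z hz
        rw [Types.mem_cj]
        have h3 := hc _ hz
        have e1 : y⁻¹ * z * y = z := by rw [mul_assoc, h3, inv_mul_cancel_left]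
        rw [e1]; exact hz
    have hZ : y • Q.ad (DD M j) = Q.ad (DD M j) := by
      have h5 : ∀ m ∈ Q.ad (DD M j), y • m = m := by
        intro m hm
        rw [hy, ph_smul, smul_eq_iff, mul_inv_eq_iff_eq_mul]
        exact hβ.2 _ hm.2
      apply le_antisymm
      · rintro _ ⟨m, hm, rfl⟩
        change y • m ∈ _
        rw [h5 m hm]; exact hm
      · exact fun m hm => ⟨m, hm, h5 m hm⟩
    obtain ⟨-, h7, -⟩ := NBd_permg nb nb (two_of Q hU2) (fun x hx => XH_faith Q x hx) (no_XH Q noH) h4 y hcj hZ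
    have h8 : ∀ m ∈ Q.ad (centralizer ((A ⊔ MulAut.conj p • A : Subgroup G) : Set G)), y • m ∈
        Q.ad (centralizer ((A ⊔ MulAut.conj p • A : Subgroup G) : Set G)) := by
      intro m hm
      exact (SetLike.ext_iff.1 h7 _).1 ⟨m, hm, rfl⟩
    -- `e` is trivial on `C`
    have he1 : ∀ m ∈ Q.ad (centralizer ((A ⊔ MulAut.conj p • A : Subgroup G) : Set G)),
        ph Q ⟨e, hPH heP⟩ • m = m := by
      intro m hm
      rw [ph_smul, smul_eq_iff, mul_inv_eq_iff_eq_mul]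
      exact mem_centralizer_iff.1 hm e he
    have e3 : ph Q ⟨x, hPH hx⟩ = (ph Q ⟨e, hPH heP⟩)⁻¹ * y * ph Q ⟨e, hPH heP⟩ := by
      rw [hy, ← map_inv, ← map_mul, ← map_mul]
      congr 1
      apply Subtype.ext
      change x = e⁻¹ * (e * x * e⁻¹) * e
      group
    rw [e3, mul_smul, mul_smul, he1 m hm]
    have h9 := h8 m hm
    rw [inv_smul_eq_iff.2 (he1 _ h9).symm]
    exact h9
  · push Not at hne
    have e1 : ph Q ⟨x, hPH hx⟩ • m = m := by
      rw [ph_smul, smul_eq_iff, mul_inv_eq_iff_eq_mul]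
      obtain ⟨v, hv, c, hc, h1, h3⟩ := hfull (Q.val m) (Q.val_mem m)
      change x * Q.val m = Q.val m * x
      rw [h3, ← mul_assoc, hne v hv, mul_assoc, h1, mul_assoc]
    rw [e1]; exact hm

/-- **`q a q⁻¹` normalises `C`.** -/
theorem norm_gen {A' : Subgroup G} (hA' : A' ≤ P) {i : Fin k} (O' : Cfsg.Agent.Omega.NO3S.ThmB.One M U A' i)
    {q : G} (hq : q ∈ P) {a : G} (ha : a ∈ A') (hx : q * a * q⁻¹ ∈ H) {m : Q.Mod}
    (hm : m ∈ Q.ad (centralizer ((A ⊔ MulAut.conj p • A : Subgroup G) : Set G))) :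
    ph Q ⟨q * a * q⁻¹, hx⟩ • m ∈ Q.ad (centralizer ((A ⊔ MulAut.conj p • A : Subgroup G) : Set G)) := by
  have hPU : P ≤ normalizer (U : Set G) := fun q hq => Q.nrm (hPH hq)
  have hxP : q * a * q⁻¹ ∈ P := mul_mem (mul_mem hq (hA' ha)) (inv_mem hq)
  obtain ⟨σ, hσ⟩ := exists_conj h hq
  obtain ⟨β, hβ⟩ := O'.act a ha
  obtain ⟨B, hB⟩ := hσ i a (hA' ha) _ hβ
  have hfull : ∀ u ∈ U, ∃ v ∈ V, ∃ c ∈ U, a * c = c * a ∧ u = v * c := by
    intro u hu
    obtain ⟨v, hv, -, c, hcU, hcc, h1⟩ := O'.full u hu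
    exact ⟨v, hv, c, hcU, hcc a ha, h1⟩
  have hf := full_conj h hPU hq hfull
  by_cases hl : σ i = j
  · rw [hl] at hB
    refine norm_same h hF Q hPH hVU hU2 noH O hAP hp hpA h4 nb hxP hB (fun v hv => ?_) hf hm
    -- `x²` is trivial on `V`
    have h1 := h.acts_mul (hA' ha) hβ hβ
    rw [← sg_mul, up_mul, CharTwo.add_self_eq_zero, up_zero, sg_one] at h1
    have hw : q⁻¹ * v * q ∈ V := by
      have := (mem_normalizer_iff.1 (h.VP' (inv_mem hq)) v).1 hv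
      rwa [inv_inv] at this
    have h3 := h.comm_of_one (mul_mem (hA' ha) (hA' ha)) h1 hw
    have e1 : q * a * q⁻¹ * (q * a * q⁻¹) * v = q * (a * a * (q⁻¹ * v * q)) * q⁻¹ := by group
    rw [e1, h3]; group
  · have hm1 := mem_centralizer_iff.1 hm
    have h5 := norm_other h O hAP hp hpA hxP hl hB hf (Q.val_mem m) fun y hy => hm1 y hy
    rw [Nrm.mem_ad, ph_smul, Nrm.val_smul, mem_centralizer_iff]
    exact fun y hy => h5 y hy

end fin

section at_

variable [Finite G] [Finite F] [CharP F 2] (h : Nb M) (hF : 2 < Nat.card F) (Q : Nrm H U) (hPH : P ≤ H) (hVU : V ≤ U)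
  {j : Fin k} (O : Cfsg.Agent.Omega.NO3S.ThmB.One M U A j) (hAP : A ≤ P) {p : G} (hp : p ∈ P)
  (hpA : ActsSL M.e V D p (sg j (wl F)))
include h hF hPH hVU O hAP hp hpA

/-- the block at the Weyl element `p` -/
theorem nbd_at : ∃ L : AddSubgroup Q.Mod, AsmN.NBd (im Q A) (Q.ad (blk M j))
    (Q.ad (centralizer ((A ⊔ MulAut.conj p • A : Subgroup G) : Set G))) L (Q.ad (DD M j)) := by
  obtain ⟨e, f, d, up, lo, hb, h1, -, h3, h4, h5, h6⟩ := AcNAt.exists_bkD_at h hF Q hPH hVU O hAP hp hpA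
  have hC : Q.ad (U ⊓ centralizer ((A ⊔ MulAut.conj p • A : Subgroup G) : Set G)) =
      Q.ad (centralizer ((A ⊔ MulAut.conj p • A : Subgroup G) : Set G)) :=
    le_antisymm (Nrm.ad_mono inf_le_right) fun m hm => ⟨Q.val_mem m, hm⟩
  have hF4 : 4 ≤ Nat.card F := by
    by_contra hcon
    have h6 : Nat.card F = 3 := by omega
    have h7 : (3 : ℕ) • (1 : F) = 0 := by rw [← h6]; exact card_nsmul_eq_zero'
    have h8 : (2 : ℕ) • (1 : F) = 0 := by rw [two_nsmul]; exact CharTwo.add_self_eq_zero 1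
    have h9 : (3 : ℕ) • (1 : F) = (2 : ℕ) • (1 : F) + 1 := succ_nsmul _ _
    rw [h7, h8, zero_add] at h9
    exact zero_ne_one h9
  have key : TypesNat.IsNBD Q A (un Q e.range) (DD M j) (blk M j)
      (U ⊓ centralizer ((A ⊔ MulAut.conj p • A : Subgroup G) : Set G)) :=
    ⟨F, inferInstance, inferInstance, inferInstance, e, f, d, up, lo, hF4,
      { bk := by rw [hC]; exact hb
        upA := h1
        Aup := fun a ha => h3 a ha
        AH := hAP.trans hPH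
        eR := (IsNBDOf.ad_un Q _).symm
        dD := h6
        eN := h5
        RU := IsNBDOf.un_le Q _
        DU := (DD_le_YY h j).trans ((YY_le_V h j).trans hVU)
        NU := (blk_le h j).trans hVU
        CU := inf_le_left }⟩
  refine ⟨Q.ad (un Q e.range), ?_⟩
  rw [← hC]
  exact key.toNBd

/-- `|F| ≤ |im Q A|` -/
theorem card_at : Nat.card F ≤ Nat.card (im Q A) := by
  obtain ⟨e, f, d, up, lo, hb, h1, -⟩ := AcNAt.exists_bkD_at h hF Q hPH hVU O hAP hp hpA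
  refine Nat.card_le_card_of_injective (fun t => (⟨ph Q (up t), ph_mem_im Q (h1 t)⟩ : im Q A)) fun s t hst => ?_
  have e1 : ph Q (up s) = ph Q (up t) := congrArg Subtype.val hst
  have e2 : up s • f 1 = up t • f 1 := by rw [← ph_smul, e1, ph_smul]
  rw [hb.up_f, hb.up_f, mul_one, mul_one, one_pow, mul_one, mul_one] at e2
  have e3 : e (s - t) + f 0 = d t - d s := by
    rw [map_sub, map_zero, add_zero]
    have e4 : e s + d s = e t + d t := by
      rw [add_assoc, add_assoc] at e2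
      exact add_left_cancel e2
    rw [sub_eq_sub_iff_add_eq_add, e4, add_comm]
  have e5 := (hb.ind (s - t) 0 (by rw [e3]; exact sub_mem (hb.dC _) (hb.dC _))).1
  exact sub_eq_zero.1 e5

end at_

/-! ### `KP S P U` -/

section kp

variable [Finite G] {S : Sylow 2 G} {L P H : Subgroup G} (hc : IsCharacteristicTwoType G)
  (hP : IsParS (S : Subgroup G) P) (hPL : P ≤ L) (LH : L ≤ H) (hU2 : IsElementaryAbelian 2 (zl (S : Subgroup G) L))
  (noH : NoOverM (zl (S : Subgroup G) L) H) (Q : Nrm H (zl (S : Subgroup G) L))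
  {F : Type} [Field F] [Finite F] [CharP F 2] {k : ℕ}
  (M : NatKM F (S : Subgroup G) P (zl (S : Subgroup G) P) (cv (S : Subgroup G) P) k)
  {A : Subgroup G} {j : Fin k}
include hc hP hPL LH hU2 noH Q M

theorem exists_one (hA : A ∈ EP (S : Subgroup G) P (zl (S : Subgroup G) L)) :
    ∃ i, Cfsg.Agent.Omega.NO3S.ThmB.One M (zl (S : Subgroup G) L) A i :=
  Tt.one (NO3S.ThmB.Inst.nb hc hP M) (tt_of_mx hA.1.2 noH ((hA.1.1.trans hP.le).trans (hPL.trans LH))) hU2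
    (NOThreeL.Star.zl_mono _ hPL) hA.1.1 hA.2

/-- **`KP` normalises `C`** -/
theorem norm_C (hF : 2 < Nat.card F) (hA : A ∈ EP (S : Subgroup G) P (zl (S : Subgroup G) L))
    (O : Cfsg.Agent.Omega.NO3S.ThmB.One M (zl (S : Subgroup G) L) A j) {p : G} (hp : p ∈ P)
    (hpA : ActsSL M.e (zl (S : Subgroup G) P) (cv (S : Subgroup G) P) p (sg j (wl F))) :
    ∀ x ∈ im Q (KP (S : Subgroup G) P (zl (S : Subgroup G) L)),
      ∀ m ∈ Q.ad (centralizer ((A ⊔ MulAut.conj p • A : Subgroup G) : Set G)),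
        x • m ∈ Q.ad (centralizer ((A ⊔ MulAut.conj p • A : Subgroup G) : Set G)) := by
  have h : Nb M := NO3S.ThmB.Inst.nb hc hP M
  have hVU : zl (S : Subgroup G) P ≤ zl (S : Subgroup G) L := NOThreeL.Star.zl_mono _ hPL
  have hPH := hPL.trans LH
  have hAP : A ≤ P := hA.1.1.trans hP.le
  obtain ⟨L', nb⟩ := nbd_at h hF Q hPH hVU O hAP hp hpA
  have h4 : 4 ≤ Nat.card (im Q A) := by
    refine le_trans ?_ (card_at h hF Q hPH hVU O hAP hp hpA)
    by_contra hcon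
    have h6 : Nat.card F = 3 := by omega
    have h7 : (3 : ℕ) • (1 : F) = 0 := by rw [← h6]; exact card_nsmul_eq_zero'
    have h8 : (2 : ℕ) • (1 : F) = 0 := by rw [two_nsmul]; exact CharTwo.add_self_eq_zero 1
    have h9 : (3 : ℕ) • (1 : F) = (2 : ℕ) • (1 : F) + 1 := succ_nsmul _ _
    rw [h7, h8, zero_add] at h9
    exact zero_ne_one h9
  set W : AddSubgroup Q.Mod := Q.ad (centralizer ((A ⊔ MulAut.conj p • A : Subgroup G) : Set G)) with hW
  let T : Subgroup (XH Q) := {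
    carrier := {x | ∀ m, m ∈ W ↔ x • m ∈ W}
    mul_mem' := fun {a b} ha hb m => by rw [mul_smul, ← ha, ← hb]
    one_mem' := fun m => by rw [one_smul]
    inv_mem' := fun {a} ha m => by rw [ha (a⁻¹ • m), smul_inv_smul] }
  have key : im Q (KP (S : Subgroup G) P (zl (S : Subgroup G) L)) ≤ T := by
    apply AsmCore.im_le_of
    rw [KP, closure_le]
    rintro _ ⟨q, hq, A', hA', a, ha, rfl⟩
    obtain ⟨i, O'⟩ : ∃ i, Cfsg.Agent.Omega.NO3S.ThmB.One M (zl (S : Subgroup G) L) A' i :=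
      Tt.one (NO3S.ThmB.Inst.nb hc hP M) (tt_of_mx hA'.1.2 noH ((hA'.1.1.trans hP.le).trans (hPL.trans LH))) hU2
        (NOThreeL.Star.zl_mono _ hPL) hA'.1.1 hA'.2
    have hAP' : A' ≤ P := hA'.1.1.trans hP.le
    have hx : q * a * q⁻¹ ∈ H := hPH (mul_mem (mul_mem hq (hAP' ha)) (inv_mem hq))
    have hx' : q * a⁻¹ * q⁻¹ ∈ H := hPH (mul_mem (mul_mem hq (hAP' (inv_mem ha))) (inv_mem hq))
    refine ⟨⟨q * a * q⁻¹, hx⟩, ?_, rfl⟩
    rw [SetLike.mem_coe, mem_comap]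
    change ∀ m, m ∈ W ↔ ph Q ⟨q * a * q⁻¹, hx⟩ • m ∈ W
    intro m
    refine ⟨fun hm => norm_gen h hF Q hPH hVU hU2 noH O hAP hp hpA h4 nb hAP' O' hq ha hx hm, fun hm => ?_⟩
    have h5 := norm_gen h hF Q hPH hVU hU2 noH O hAP hp hpA h4 nb hAP' O' hq (inv_mem ha) hx' hm
    have e1 : ph Q ⟨q * a⁻¹ * q⁻¹, hx'⟩ = (ph Q ⟨q * a * q⁻¹, hx⟩)⁻¹ := by
      rw [← map_inv]
      congr 1
      apply Subtype.ext
      change q * a⁻¹ * q⁻¹ = (q * a * q⁻¹)⁻¹
      group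
    rwa [e1, inv_smul_smul] at h5
  exact fun x hx m hm => (key hx m).1 hm

/-- `KP` normalises the block and centralises the radical -/
theorem norm_N_Z : ∀ x ∈ im Q (KP (S : Subgroup G) P (zl (S : Subgroup G) L)),
    (∀ m ∈ Q.ad (blk M j), x • m ∈ Q.ad (blk M j)) ∧ ∀ m ∈ Q.ad (DD M j), x • m = m := by
  have h : Nb M := NO3S.ThmB.Inst.nb hc hP M
  have hPH := hPL.trans LH
  let T : Subgroup (XH Q) := {
    carrier := {x | (∀ m, m ∈ Q.ad (blk M j) ↔ x • m ∈ Q.ad (blk M j)) ∧ ∀ m ∈ Q.ad (DD M j), x • m = m}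
    mul_mem' := fun {a b} ha hb => ⟨fun m => by rw [mul_smul, ← ha.1, ← hb.1], fun m hm => by
      rw [mul_smul, hb.2 m hm, ha.2 m hm]⟩
    one_mem' := ⟨fun m => by rw [one_smul], fun m _ => one_smul _ _⟩
    inv_mem' := fun {a} ha => ⟨fun m => by rw [ha.1 (a⁻¹ • m), smul_inv_smul], fun m hm => by
      rw [inv_smul_eq_iff, ha.2 m hm]⟩ }
  have key : im Q (KP (S : Subgroup G) P (zl (S : Subgroup G) L)) ≤ T := by
    apply AsmCore.im_le_of
    rw [KP, closure_le]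
    rintro _ ⟨q, hq, A', hA', a, ha, rfl⟩
    obtain ⟨i, O'⟩ : ∃ i, Cfsg.Agent.Omega.NO3S.ThmB.One M (zl (S : Subgroup G) L) A' i :=
      Tt.one (NO3S.ThmB.Inst.nb hc hP M) (tt_of_mx hA'.1.2 noH ((hA'.1.1.trans hP.le).trans (hPL.trans LH))) hU2
        (NOThreeL.Star.zl_mono _ hPL) hA'.1.1 hA'.2
    have hAP' : A' ≤ P := hA'.1.1.trans hP.le
    have hxP : q * a * q⁻¹ ∈ P := mul_mem (mul_mem hq (hAP' ha)) (inv_mem hq)
    obtain ⟨σ, hσ⟩ := exists_conj h hq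
    obtain ⟨β, hβ⟩ := O'.act a ha
    obtain ⟨B, hB⟩ := hσ i a (hAP' ha) _ hβ
    have hN : ∀ {x : G}, x ∈ P → (∃ B, ActsSL M.e (zl (S : Subgroup G) P) (cv (S : Subgroup G) P) x (sg (σ i) B)) →
        ∀ v ∈ blk M j, x * v * x⁻¹ ∈ blk M j := by
      rintro x hx ⟨B, hB⟩ v hv
      by_cases hl : σ i = j
      · rw [hl] at hB
        exact conj_blk h hx hB hv
      · have h1 := h.dir hx hB (sg_ne (Ne.symm hl) B) (blk_le h j hv) fun l hl => e_blk h hl hv
        rw [h1, mul_inv_cancel_right]; exact hv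
    have hBi := h.acts_inv hxP hB
    have hBi' : ∃ B', ActsSL M.e (zl (S : Subgroup G) P) (cv (S : Subgroup G) P) (q * a * q⁻¹)⁻¹ (sg (σ i) B') := by
      refine ⟨B⁻¹, ?_⟩
      have e1 : (sg (σ i) B : Fin k → _)⁻¹ = sg (σ i) B⁻¹ := by
        rw [inv_eq_iff_mul_eq_one, ← sg_mul, mul_inv_cancel, sg_one]
      rwa [e1] at hBi
    refine ⟨⟨q * a * q⁻¹, hPH hxP⟩, ?_, rfl⟩
    rw [SetLike.mem_coe, mem_comap]
    refine ⟨fun m => ?_, fun m hm => ?_⟩
    · rw [Nrm.mem_ad, Nrm.mem_ad, ph_smul, Nrm.val_smul]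
      refine ⟨fun hm => hN hxP ⟨B, hB⟩ _ hm, fun hm => ?_⟩
      have h5 := hN (inv_mem hxP) hBi' _ hm
      have e1 : (q * a * q⁻¹)⁻¹ * ((q * a * q⁻¹) * Q.val m * (q * a * q⁻¹)⁻¹) * (q * a * q⁻¹)⁻¹⁻¹ = Q.val m := by
        group
      have h6 : (q * a * q⁻¹)⁻¹ * ((q * a * q⁻¹) * Q.val m * (q * a * q⁻¹)⁻¹) * (q * a * q⁻¹)⁻¹⁻¹ ∈ blk M j := h5
      rwa [e1] at h6
    · rw [ph_smul, smul_eq_iff, mul_inv_eq_iff_eq_mul]
      exact hB.2 _ hm.2
  exact fun x hx => ⟨fun m hm => ((key hx).1 m).1 hm, (key hx).2⟩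

end kp

end Cfsg.Agent.Omega.NOThreeL.RRed.Blk.AcNK

end

section


/-!
# NO-3L, box R: the inputs `InN` of the family of nonsplit blocks

* **`oth_of`** : the other members of `EE` centralise the natural block (field `oth` of `InN`).
-/

set_option autoImplicit false
set_option linter.unusedSectionVars false

namespace Cfsg.Agent.Omega.NOThreeL.RRed.Blk.FamOf

open Subgroup Cfsg Cfsg.Agent.ZN Cfsg.Agent.Omega.MinPar
open Cfsg.Agent.Omega.FFThm
open Cfsg.Agent.Omega.FrameFF (cv)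
open Cfsg.Agent.Omega.NO3S.ThmB Cfsg.Agent.Omega.NO3S.KeyRad
open Cfsg.Agent.Omega.NOThreeL.Merge (MZ le_MZ isLoc_MZ)
open Cfsg.Agent.Omega.NOThreeL.RSplit (Nrm)
open Cfsg.Agent.Omega.NOThreeL.RRed.NS (fxd brk mem_fxd conj_eq_cj DD smul_eq_iff)
open Cfsg.Agent.Omega.NOThreeL.RRed.Blk.TypesNat (XH ph ph_smul)
open Cfsg.Agent.Omega.NOThreeL.RRed.Blk.AsmCore (im mem_im ph_mem_im im_mono im_cj im_le_of EP KP)
open scoped Pointwise

universe u

variable {G : Type u} [Group G] [Finite G] {S : Sylow 2 G}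

/-- **The other members of `EE` centralise the block.** -/
theorem oth_of (hc : IsCharacteristicTwoType G) (hL : IsLoc (S : Subgroup G) (MZ (S : Subgroup G)))
    (no : NoOverM (zl (S : Subgroup G) (MZ (S : Subgroup G))) (MZ (S : Subgroup G)))
    (Q : Nrm (normalizer (MZ (S : Subgroup G) : Set G)) (zl (S : Subgroup G) (MZ (S : Subgroup G)))) :
    ∀ D N Z, IsRt Q (zl (S : Subgroup G) (MZ (S : Subgroup G))) D N Z →
      ∀ A ∈ im Q '' AsmCore.EE (S : Subgroup G) (zl (S : Subgroup G) (MZ (S : Subgroup G))), A ≠ D →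
        ∀ a ∈ A, ∀ m ∈ N, a • m = m := by
  rintro D N Z ⟨P, hP, F, i1, i2, i3, k, M, A, j, hF, hA, rfl, O, rfl, rfl⟩ _ ⟨A', hA', rfl⟩ hne _ ⟨a, ha, rfl⟩ m hm
  have h := Inst.nb hc hP M
  have hPM := le_MZ hP
  have haA : (a : G) ∈ A' := ha
  have hmj : Q.val m ∈ blk M j := hm
  have key : (a : G) * Q.val m = Q.val m * a := by
    by_cases hmv : A' ≤ centralizer (zl (S : Subgroup G) P : Set G)
    · exact (mem_centralizer_iff.1 (hmv haA) _ (blk_le h j hmj)).symm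
    · obtain ⟨i, O'⟩ := AsmAct.one_of hc hL hP hPM no M ⟨hA', hmv⟩
      by_cases hij : i = j
      · subst hij
        exact absurd (AcNSame.same_im hc hL hP hPM le_normalizer (no_norm hL.le no) Q M hA ⟨hA', hmv⟩ O O') hne
      · obtain ⟨β, hβ⟩ := O'.act a haA
        exact cent_sg h (hP.le (hA'.1 haA)) hβ (blk_le h j hmj) (e_blk h hij hmj)
  rw [ph_smul, smul_eq_iff, key, mul_inv_cancel_right]

end Cfsg.Agent.Omega.NOThreeL.RRed.Blk.FamOf

end

section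


/-!
# NO-3L, box R: the field `oth` of `FamOf.InN` (nonsplit natural blocks, group level)

* **`oth`** : the members of `im Q '' EE` other than `im Q A` centralise the block of `A ∈ EP S P (zl S L)` (`Q : Nrm H`);
* **`oth_N`** : `FamOf.InN.oth`.
-/

set_option autoImplicit false
set_option linter.unusedSectionVars false

namespace Cfsg.Agent.Omega.NOThreeL.RRed.Blk.OthN

open Subgroup Cfsg Cfsg.Agent.ZN Cfsg.Agent.Omega.MinPar
open Cfsg.Agent.Omega.FFThm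
open Cfsg.Agent.Omega.FrameFF (cv)
open Cfsg.Agent.Omega.NO3S.ThmB Cfsg.Agent.Omega.NO3S.KeyRad
open Cfsg.Agent.Omega.NOThreeL.Merge (MZ le_MZ)
open Cfsg.Agent.Omega.NOThreeL.RSplit (Nrm)
open Cfsg.Agent.Omega.NOThreeL.RRed.Blk.TypesNat (XH ph ph_smul)
open Cfsg.Agent.Omega.NOThreeL.RRed.Blk.AsmCore
open scoped Pointwise

universe u

variable {G : Type u} [Group G] [Finite G] {S : Sylow 2 G} {L P H : Subgroup G}

/-- the other members of `EE` centralise the block -/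
theorem oth (hc : IsCharacteristicTwoType G) (hL : IsLoc (S : Subgroup G) L) (hP : IsParS (S : Subgroup G) P)
    (hPL : P ≤ L) (LH : L ≤ H) (noH : NoOverM (zl (S : Subgroup G) L) H) (Q : Nrm H (zl (S : Subgroup G) L))
    {F : Type} [Field F] [Finite F] [CharP F 2] {k : ℕ}
    (M : NatKM F (S : Subgroup G) P (zl (S : Subgroup G) P) (cv (S : Subgroup G) P) k) {A : Subgroup G}
    (hA : A ∈ EP (S : Subgroup G) P (zl (S : Subgroup G) L)) {j : Fin k}
    (O : NO3S.ThmB.One M (zl (S : Subgroup G) L) A j) :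
    ∀ B ∈ im Q '' EE (S : Subgroup G) (zl (S : Subgroup G) L), B ≠ im Q A → ∀ b ∈ B, ∀ m ∈ Q.ad (blk M j), b • m = m := by
  have h := Inst.nb hc hP M
  have no : NoOverM (zl (S : Subgroup G) L) L := fun B hB => noH B (hB.trans LH)
  rintro _ ⟨B, hB, rfl⟩ hne _ ⟨b, hb, rfl⟩ m hm
  have hm' : Q.val m ∈ blk M j := hm
  rw [ph_smul, Nrm.ext_iff, Nrm.val_smul]
  have hbB : (b : G) ∈ B := hb
  have hbP : (b : G) ∈ P := hP.le (hB.1 hbB)
  by_cases hBP : B ≤ centralizer (zl (S : Subgroup G) P : Set G)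
  · have h1 := mem_centralizer_iff.1 (hBP hbB) _ (blk_le h j hm')
    rw [← h1, mul_inv_cancel_right]
  · have hBE : B ∈ EP (S : Subgroup G) P (zl (S : Subgroup G) L) := ⟨hB, hBP⟩
    obtain ⟨i, O'⟩ := AsmAct.one_of hc hL hP hPL no M hBE
    have hij : i ≠ j := by
      rintro rfl
      exact hne (AcNSame.same_im hc hL hP hPL LH noH Q M hA hBE O O')
    obtain ⟨β, hβ⟩ := O'.act b hbB
    rw [cent_sg h hbP hβ (blk_le h j hm') (e_blk h hij hm'), mul_inv_cancel_right]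

/-- **`FamOf.InN.oth`** -/
theorem oth_N (hc : IsCharacteristicTwoType G) (hL : IsLoc (S : Subgroup G) (MZ (S : Subgroup G)))
    (no : NoOverM (zl (S : Subgroup G) (MZ (S : Subgroup G))) (MZ (S : Subgroup G)))
    (Q : Nrm (normalizer (MZ (S : Subgroup G) : Set G)) (zl (S : Subgroup G) (MZ (S : Subgroup G)))) :
    ∀ D N Z, FamOf.IsRt Q (zl (S : Subgroup G) (MZ (S : Subgroup G))) D N Z →
      ∀ A ∈ im Q '' EE (S : Subgroup G) (zl (S : Subgroup G) (MZ (S : Subgroup G))), A ≠ D →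
        ∀ a ∈ A, ∀ m ∈ N, a • m = m := by
  rintro D N Z ⟨P, hP, F, i1, i2, i3, k, M, A, j, hF, hA, rfl, O, rfl, rfl⟩ B hB hne b hb m hm
  exact oth hc hL hP (le_MZ hP) le_normalizer (FamOf.no_norm hL.le no) Q M hA O B hB hne b hb m hm

end Cfsg.Agent.Omega.NOThreeL.RRed.Blk.OthN

end
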