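import Cfsg.Agent.Mrg.Omega.NOThreeL.RRed.NS.Three
import Cfsg.Agent.Lib.SL2Mat

section


/-!
# NO-3L, box R: `clo up lo = SL₂(F)` for a natural block `Bk e f C up lo` (for `RRed/Blk/AsmNBs.lean`)

* `SLA e f C x B` : `x` acts on `e(F) ⊕ f(F)` as the matrix `B ∈ SL₂(F)` and trivially on `C`;
* **`Bk.mem_clo_iff`** : `x ∈ clo up lo ↔ ∃ B, SLA e f C x B`;  `Bk.exists_sla` : every `B` occurs;
* `Bk.mem_rt_of` : a 2-element of `clo up lo` which normalises `e(F)` is in the root group;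
* `Bk.clo_of_conj` : `s` normalises `C` and maps SL-elements to SL-elements: `s` normalises `clo up lo`;
* `Bk.tr` : transport by an automorphism of `(X, V)`.
-/

set_option autoImplicit false
set_option linter.unusedSectionVars false

namespace Cfsg.Agent.Omega.NOThreeL.RRed.Blk.AsmSL

open Matrix
open Cfsg.Agent.Omega.NOThreeL.RRed.NS (fxd mem_fxd)
open Cfsg.Agent.Omega.NOThreeL.RRed.Blk.TypesGam
open Cfsg.Agent.Omega.NOThreeL.RRed.Blk.TypesEq
open Cfsg.Agent.Omega.NOThreeL.RRed.Blk.TypesClo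
open scoped Pointwise

universe u v w w'

variable {X : Type u} {V : Type v} [Group X] [AddCommGroup V] [DistribMulAction X V]
variable {F : Type w} [Field F] {e f : F →+ V} {C : AddSubgroup V} {up lo : F → X}

/-- `x` acts on `e(F) ⊕ f(F)` as the matrix `B` and trivially on `C` -/
structure SLA (e f : F →+ V) (C : AddSubgroup V) (x : X) (B : Matrix.SpecialLinearGroup (Fin 2) F) : Prop where
  act : ∀ w : Fin 2 → F, x • (e (w 0) + f (w 1)) = e (B.1.mulVec w 0) + f (B.1.mulVec w 1)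
  triv : ∀ c ∈ C, x • c = c

theorem SLA.one : SLA e f C (1 : X) 1 where
  act w := by rw [one_smul, Matrix.SpecialLinearGroup.coe_one, Matrix.one_mulVec]
  triv c _ := one_smul _ _

theorem SLA.mul {x y : X} {A B : Matrix.SpecialLinearGroup (Fin 2) F} (hx : SLA e f C x A) (hy : SLA e f C y B) :
    SLA e f C (x * y) (A * B) where
  act w := by
    rw [mul_smul, hy.act, hx.act, Matrix.SpecialLinearGroup.coe_mul, ← Matrix.mulVec_mulVec]
  triv c hc := by rw [mul_smul, hy.triv c hc, hx.triv c hc]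

theorem SLA.inv {x : X} {B : Matrix.SpecialLinearGroup (Fin 2) F} (hx : SLA e f C x B) : SLA e f C x⁻¹ B⁻¹ where
  act w := by
    rw [inv_smul_eq_iff, hx.act, Matrix.mulVec_mulVec, ← Matrix.SpecialLinearGroup.coe_mul, mul_inv_cancel,
      Matrix.SpecialLinearGroup.coe_one, Matrix.one_mulVec]
  triv c hc := by rw [inv_smul_eq_iff, hx.triv c hc]

theorem up_vec (t : F) (w : Fin 2 → F) : (Cfsg.Agent.Lib.SL2Mat.up t).1.mulVec w = ![w 0 + t * w 1, w 1] := by
  funext i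
  fin_cases i <;> simp [Cfsg.Agent.Lib.SL2Mat.up, Cfsg.Agent.Lib.SL2Mat.mk, Matrix.mulVec, dotProduct, Fin.sum_univ_two]

theorem lo_vec (t : F) (w : Fin 2 → F) : (Cfsg.Agent.Lib.SL2Mat.lo t).1.mulVec w = ![w 0, t * w 0 + w 1] := by
  funext i
  fin_cases i <;> simp [Cfsg.Agent.Lib.SL2Mat.lo, Cfsg.Agent.Lib.SL2Mat.mk, Matrix.mulVec, dotProduct, Fin.sum_univ_two]

section bk

variable (h : Bk e f C up lo)
include h

theorem sla_up (t : F) : SLA e f C (up t) (Cfsg.Agent.Lib.SL2Mat.up t) where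
  act w := by
    rw [up_vec, smul_add, h.up_e, h.up_f]
    simp only [Matrix.cons_val_zero, Matrix.cons_val_one, map_add]
    abel
  triv := h.up_c t

theorem sla_lo (t : F) : SLA e f C (lo t) (Cfsg.Agent.Lib.SL2Mat.lo t) where
  act w := by
    rw [lo_vec, smul_add, h.lo_e, h.lo_f]
    simp only [Matrix.cons_val_zero, Matrix.cons_val_one, map_add]
    abel
  triv := h.lo_c t

theorem exists_sla (B : Matrix.SpecialLinearGroup (Fin 2) F) : ∃ x ∈ clo up lo, SLA e f C x B := by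
  obtain ⟨a, b, c, d, rfl⟩ := Cfsg.Agent.Lib.SL2Mat.exists_up_lo B
  exact ⟨up a * lo b * up c * lo d, mul_mem (mul_mem (mul_mem (up_mem_clo _ _ a) (lo_mem_clo _ _ b)) (up_mem_clo _ _ c))
    (lo_mem_clo _ _ d), (((sla_up h a).mul (sla_lo h b)).mul (sla_up h c)).mul (sla_lo h d)⟩

theorem sla_of_clo {x : X} (hx : x ∈ clo up lo) : ∃ B, SLA e f C x B := by
  refine Subgroup.closure_induction (p := fun x _ => ∃ B, SLA e f C x B) ?_ ⟨1, SLA.one⟩ ?_ ?_ hx
  · rintro x (⟨t, rfl⟩ | ⟨t, rfl⟩)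
    · exact ⟨_, sla_up h t⟩
    · exact ⟨_, sla_lo h t⟩
  · rintro x y _ _ ⟨A, hA⟩ ⟨B, hB⟩
    exact ⟨A * B, hA.mul hB⟩
  · rintro x _ ⟨A, hA⟩
    exact ⟨A⁻¹, hA.inv⟩

variable (hf : ∀ x : X, (∀ v : V, x • v = v) → x = 1)
include hf

theorem sla_uniq {x y : X} {B : Matrix.SpecialLinearGroup (Fin 2) F} (hx : SLA e f C x B) (hy : SLA e f C y B) :
    x = y := by
  refine h.ext hf (fun z => ?_) (fun z => ?_) fun c hc => by rw [hx.triv c hc, hy.triv c hc]
  · have h1 := hx.act ![z, 0]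
    have h2 := hy.act ![z, 0]
    rw [← h2] at h1
    simpa using h1
  · have h1 := hx.act ![0, z]
    have h2 := hy.act ![0, z]
    rw [← h2] at h1
    simpa using h1

theorem mem_clo {x : X} {B : Matrix.SpecialLinearGroup (Fin 2) F} (hx : SLA e f C x B) : x ∈ clo up lo := by
  obtain ⟨y, hy, h1⟩ := exists_sla h B
  rw [sla_uniq h hf hx h1]
  exact hy

theorem mem_clo_iff {x : X} : x ∈ clo up lo ↔ ∃ B, SLA e f C x B :=
  ⟨fun hx => sla_of_clo h hx, fun ⟨_, hB⟩ => mem_clo h hf hB⟩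

theorem eq_up {x : X} {t : F} (hx : SLA e f C x (Cfsg.Agent.Lib.SL2Mat.up t)) : x = up t :=
  sla_uniq h hf hx (sla_up h t)

omit hf in
/-- coordinates are unique -/
theorem vec_uniq {a b a' b' : F} (h1 : e a + f b = e a' + f b') : a = a' ∧ b = b' := by
  have h2 : e a + f b + 0 = e a' + f b' + 0 := by rw [h1]
  have h3 := h.uniq C.zero_mem C.zero_mem h2
  exact ⟨h3.1, h3.2.1⟩

/-- a 2-element of `clo up lo` which normalises `e(F)` is a root element -/
theorem mem_rt_of (h2 : ∀ v : V, v + v = 0) {x : X} (hx : x ∈ clo up lo) (hx2 : ∃ n, x ^ 2 ^ n = 1)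
    (he : ∃ z, x • e 1 = e z) : x ∈ rt up := by
  obtain ⟨B, hB⟩ := sla_of_clo h hx
  obtain ⟨z, hz⟩ := he
  obtain ⟨n, hn⟩ := hx2
  have two := h.two h2
  -- the lower left entry
  have h10 : B.1 1 0 = 0 := by
    have h1 := hB.act ![1, 0]
    simp only [Matrix.cons_val_zero, Matrix.cons_val_one, map_zero, add_zero] at h1
    rw [hz] at h1
    have h3 : e z + f 0 = e (B.1.mulVec ![1, 0] 0) + f (B.1.mulVec ![1, 0] 1) := by rw [map_zero, add_zero]; exact h1
    have h4 := (vec_uniq h h3).2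
    simp [Matrix.mulVec, dotProduct, Fin.sum_univ_two] at h4
    exact h4.symm
  -- powers
  have hpow : ∀ k : ℕ, x ^ k • e 1 = e (B.1 0 0 ^ k) := by
    intro k
    induction k with
    | zero => rw [pow_zero, one_smul, pow_zero]
    | succ k ih =>
      rw [pow_succ', mul_smul, ih]
      have h1 := hB.act ![B.1 0 0 ^ k, 0]
      simp [Matrix.mulVec, dotProduct, Fin.sum_univ_two, h10] at h1
      rw [h1, pow_succ']
  have h00 : B.1 0 0 = 1 := by
    have h1 := hpow (2 ^ n)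
    rw [hn, one_smul] at h1
    have h3 := (vec_uniq h (a := 1) (b := 0) (a' := B.1 0 0 ^ 2 ^ n) (b' := 0) (by rw [h1])).1
    have hc : CharP F 2 := by
      refine CharTwo.of_one_ne_zero_of_two_eq_zero one_ne_zero ?_
      have := two 1
      rwa [one_add_one_eq_two] at this
    have := hc
    have : ExpChar F 2 := ExpChar.prime Nat.prime_two
    have h4 : (B.1 0 0 - 1) ^ 2 ^ n = 0 := by
      rw [sub_pow_expChar_pow, one_pow, ← h3, sub_self]
    exact sub_eq_zero.1 ((pow_eq_zero_iff (by positivity)).1 h4)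
  have h11 : B.1 1 1 = 1 := by
    have h1 := B.2
    rw [Matrix.det_fin_two, h10, h00, mul_zero, sub_zero, one_mul] at h1
    exact h1
  have hBe : B = Cfsg.Agent.Lib.SL2Mat.up (B.1 0 1) := by
    refine Cfsg.Agent.Lib.SL2Mat.ext_ent ?_ ?_ ?_ ?_
    · exact h00
    · rfl
    · exact h10
    · exact h11
  rw [hBe] at hB
  rw [eq_up h hf hB]
  exact up_mem _

/-- `s` normalises `C` and maps SL-elements to SL-elements: `s` normalises `clo up lo` -/
theorem clo_of_conj [Finite X] {s : X} (hC : ∀ c ∈ C, s⁻¹ • c ∈ C)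
    (hs : ∀ x ∈ clo up lo, ∃ B : Matrix.SpecialLinearGroup (Fin 2) F, ∀ w : Fin 2 → F,
      (s * x * s⁻¹) • (e (w 0) + f (w 1)) = e (B.1.mulVec w 0) + f (B.1.mulVec w 1)) :
    MulAut.conj s • clo up lo = clo up lo := by
  have h1 : MulAut.conj s • clo up lo ≤ clo up lo := by
    rintro _ ⟨x, hx, rfl⟩
    change s * x * s⁻¹ ∈ clo up lo
    obtain ⟨B, hB⟩ := hs x hx
    refine mem_clo h hf (B := B) ⟨hB, fun c hc => ?_⟩
    obtain ⟨A, hA⟩ := sla_of_clo h hx
    rw [mul_smul, mul_smul, hA.triv _ (hC c hc), smul_inv_smul]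
  exact Subgroup.eq_of_le_of_card_ge h1 (Nat.card_congr (Subgroup.equivSMul (MulAut.conj s) (clo up lo)).toEquiv).le

/-- the semilinear case -/
theorem clo_semi [Finite X] {s : X} (hC : ∀ c ∈ C, s⁻¹ • c ∈ C) (σ : F ≃+* F) (M : GL (Fin 2) F)
    (hM : ∀ w : Fin 2 → F, s • (e (w 0) + f (w 1)) =
      e (M.1.mulVec (fun i => σ (w i)) 0) + f (M.1.mulVec (fun i => σ (w i)) 1)) :
    MulAut.conj s • clo up lo = clo up lo := by
  refine clo_of_conj h hf hC fun x hx => ?_
  obtain ⟨A, hA⟩ := sla_of_clo h hx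
  refine ⟨Cfsg.Agent.Lib.SL2Mat.conjGL M (Cfsg.Agent.Lib.SL2Mat.fieldAut σ A), fun w => ?_⟩
  -- the preimage of `w`
  let w1 : Fin 2 → F := fun i => σ.symm ((M⁻¹).1.mulVec w i)
  have e1 : (fun i => σ (w1 i)) = (M⁻¹).1.mulVec w := by
    funext i
    exact σ.apply_symm_apply _
  have e2 : M.1.mulVec ((M⁻¹).1.mulVec w) = w := by
    rw [Matrix.mulVec_mulVec, ← Matrix.GeneralLinearGroup.coe_mul, mul_inv_cancel]
    exact Matrix.one_mulVec w
  have e3 : s • (e (w1 0) + f (w1 1)) = e (w 0) + f (w 1) := by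
    rw [hM, e1, e2]
  have e4 : s⁻¹ • (e (w 0) + f (w 1)) = e (w1 0) + f (w1 1) := by
    rw [inv_smul_eq_iff, e3]
  have e5 : (fun i => σ (A.1.mulVec w1 i)) = (Cfsg.Agent.Lib.SL2Mat.fieldAut σ A).1.mulVec ((M⁻¹).1.mulVec w) := by
    rw [← e1]
    funext i
    simp only [Matrix.mulVec, dotProduct, Fin.sum_univ_two, map_add, map_mul]
    rfl
  rw [mul_smul, mul_smul, e4, hA.act, hM, e5, Cfsg.Agent.Lib.SL2Mat.conjGL_val, ← Matrix.mulVec_mulVec,
    ← Matrix.mulVec_mulVec]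

end bk

/-! ### transport by an automorphism of `(X, V)` -/

section tr

variable (ψ : X ≃* X) (γ : V ≃+ V) (hψ : ∀ (x : X) (v : V), ψ x • γ v = γ (x • v))

include hψ in
theorem bk_tr (h : Bk e f C up lo) :
    Bk (γ.toAddMonoidHom.comp e) (γ.toAddMonoidHom.comp f) (C.map γ.toAddMonoidHom) (fun t => ψ (up t))
      (fun t => ψ (lo t)) where
  dec v := by
    obtain ⟨x, y, c, hc, e1⟩ := h.dec (γ.symm v)
    refine ⟨x, y, γ c, ⟨c, hc, rfl⟩, ?_⟩
    change v = γ (e x) + γ (f y) + γ c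
    rw [← map_add, ← map_add, ← e1, γ.apply_symm_apply]
  ind := by
    rintro x y ⟨c, hc, e1⟩
    have e2 : γ c = γ (e x + f y) := by
      rw [map_add]; exact e1
    exact h.ind x y (γ.injective e2 ▸ hc)
  up_e t x := by
    change ψ (up t) • γ (e x) = γ (e x)
    rw [hψ, h.up_e]
  up_f t x := by
    change ψ (up t) • γ (f x) = γ (f x) + γ (e (t * x))
    rw [hψ, h.up_f, map_add]
  up_c := by
    rintro t _ ⟨c, hc, rfl⟩
    change ψ (up t) • γ c = γ c
    rw [hψ, h.up_c t c hc]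
  lo_e t x := by
    change ψ (lo t) • γ (e x) = γ (e x) + γ (f (t * x))
    rw [hψ, h.lo_e, map_add]
  lo_f t x := by
    change ψ (lo t) • γ (f x) = γ (f x)
    rw [hψ, h.lo_f]
  lo_c := by
    rintro t _ ⟨c, hc, rfl⟩
    change ψ (lo t) • γ c = γ c
    rw [hψ, h.lo_c t c hc]

end tr

end Cfsg.Agent.Omega.NOThreeL.RRed.Blk.AsmSL

end

section


/-!
# NO-3L, box R: the groups `T = clo up lo` of a family of natural blocks, definitions (for `NBs.sD`)

* `NBT D T N C` : `D` is the root group of the natural block `N`, `V = N ⊕ C`, `T = clo up lo ≅ SL₂(F)`;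
* `TD S A N C` : there is such a `T` which is normalised by `N_S(A)`;
* `Tor S FF N C` : every `D ∈ FF` of order 4 is conjugate to some `A ∈ FF` with `TD`.
-/

set_option autoImplicit false
set_option linter.unusedSectionVars false

namespace Cfsg.Agent.Omega.NOThreeL.RRed.Blk.AsmT

open Cfsg.Agent.Omega.NOThreeL.RRed.Blk.TypesGam
open Cfsg.Agent.Omega.NOThreeL.RRed.Blk.TypesClo
open Cfsg.Agent.Omega.NOThreeL.RRed.Blk.Asm
open scoped Pointwise

universe u v

variable {X : Type u} {V : Type v} [Group X] [AddCommGroup V] [DistribMulAction X V]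

/-- `D` is the root group of the natural block `N`, `V = N ⊕ C`, `T = clo up lo`. -/
structure NBT (D T : Subgroup X) (N C : AddSubgroup V) : Prop where
  ex : ∃ (F : Type) (_ : Field F) (_ : Finite F) (e f : F →+ V) (up lo : F → X),
    Bk e f C up lo ∧ rt up = D ∧ clo up lo = T ∧ e.range ⊔ f.range = N

/-- some `T` is normalised by `N_S(A)` -/
def TD (S A : Subgroup X) (N C : AddSubgroup V) : Prop :=
  ∃ T : Subgroup X, NBT A T N C ∧ ∀ s ∈ S, MulAut.conj s • A = A → MulAut.conj s • T = T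

/-- input for `NBs.sD` (needed for `|F| = 4` only) -/
def Tor (S : Subgroup X) (FF : Set (Subgroup X)) (N C : Subgroup X → AddSubgroup V) : Prop :=
  ∀ D ∈ FF, Nat.card D = 4 → ∃ A ∈ FF, ∃ m : X, MulAut.conj m • A = D ∧ TD S A (N A) (C A)

theorem NBT.nb {D T : Subgroup X} {N C : AddSubgroup V} (h : NBT D T N C) : NB D N C := by
  obtain ⟨F, i1, i2, e, f, up, lo, h1, h2, -, h4⟩ := h.ex
  exact ⟨F, i1, i2, e, f, up, lo, h1, h2, h4⟩

theorem NB.exists_nbt {D : Subgroup X} {N C : AddSubgroup V} (h : NB D N C) : ∃ T, NBT D T N C := by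
  obtain ⟨F, i1, i2, e, f, up, lo, h1, h2, h4⟩ := h.ex
  exact ⟨_, F, i1, i2, e, f, up, lo, h1, h2, rfl, h4⟩

theorem NBT.le {D T : Subgroup X} {N C : AddSubgroup V} (h : NBT D T N C) : D ≤ T := by
  obtain ⟨F, i1, i2, e, f, up, lo, h1, h2, h3, h4⟩ := h.ex
  rw [← h2, ← h3]
  exact (Subgroup.closure_le _).2 fun x ⟨t, ht⟩ => ht ▸ up_mem_clo up lo t

/-- `T` centralises `C` -/
theorem NBT.cent {D T : Subgroup X} {N C : AddSubgroup V} (h : NBT D T N C) {x : X} (hx : x ∈ T) {c : V} (hc : c ∈ C) :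
    x • c = c := by
  obtain ⟨F, i1, i2, e, f, up, lo, h1, h2, h3, h4⟩ := h.ex
  obtain ⟨B, hB⟩ := AsmSL.sla_of_clo h1 (h3.symm ▸ hx)
  exact hB.triv c hc

theorem clo_cj {F : Type} (up lo : F → X) (g : X) :
    clo (fun t => g * up t * g⁻¹) (fun t => g * lo t * g⁻¹) = MulAut.conj g • clo up lo := by
  rw [clo, clo, Subgroup.smul_closure, Set.smul_set_union]
  congr 2
  · ext x
    constructor
    · rintro ⟨t, rfl⟩
      exact ⟨up t, ⟨t, rfl⟩, rfl⟩
    · rintro ⟨_, ⟨t, rfl⟩, rfl⟩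
      exact ⟨t, rfl⟩
  · ext x
    constructor
    · rintro ⟨t, rfl⟩
      exact ⟨lo t, ⟨t, rfl⟩, rfl⟩
    · rintro ⟨_, ⟨t, rfl⟩, rfl⟩
      exact ⟨t, rfl⟩

theorem NBT.conj {D T : Subgroup X} {N C : AddSubgroup V} (h : NBT D T N C) (g : X) :
    NBT (MulAut.conj g • D) (MulAut.conj g • T) (N.map (DistribSMul.toAddMonoidHom V g))
      (C.map (DistribSMul.toAddMonoidHom V g)) := by
  obtain ⟨F, i1, i2, e, f, up, lo, h1, h2, h3, h4⟩ := h.ex
  refine ⟨F, i1, i2, _, _, _, _, h1.conj g, ?_, ?_, ?_⟩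
  · rw [TypesEq.rt_conj, h2]
  · rw [clo_cj, h3]
  · rw [← h4, AddSubgroup.map_sup, AddMonoidHom.range_comp, AddMonoidHom.range_comp]

end Cfsg.Agent.Omega.NOThreeL.RRed.Blk.AsmT

end

section


/-!
# NO-3L, box R: THEOREM TYPES (T4) for natural blocks WITH A RADICAL (helper855, #26560)

`X` acts faithfully on `V` (additive, `v + v = 0`), no over-offender (`NO`).  `BkD e f d C up lo` : a natural block over
`F` with radical `d(F) ≤ C`, `V = e(F) ⊕ f(F) ⊕ C`, root elements `up t : f x ↦ f x + e (t x) + d (t x²)`,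
`lo t : e x ↦ e x + f (t x) + d (t x²)`, trivial on `C`.

* `BkD.memK` : an element which fixes `e(F) + C` and is trivial on the quotient is in the root group;
* **`BkD.gam`** (`d ≠ 0`, `|F| > 2`) : an element which is trivial on `e(F) + d(F)`, maps `c ∈ C` into `c + e(F)` and
  `f z` into `f z + C + e(F)` is in the root group `rt up`.
-/

set_option autoImplicit false
set_option linter.unusedSectionVars false

namespace Cfsg.Agent.Omega.NOThreeL.RRed.Blk.GamD

open Cfsg.Agent.Omega.NOThreeL.RRed.NS (fxd mem_fxd)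
open Cfsg.Agent.Omega.NOThreeL.RRed.Blk.TypesGam (NO rt up_mem card_le_of Dat wt hh)

universe u v w w'

variable {X : Type u} {V : Type v} [Group X] [AddCommGroup V] [DistribMulAction X V]

/-- a natural block with a radical -/
structure BkD {F : Type w} [Field F] (e f d : F →+ V) (C : AddSubgroup V) (up lo : F → X) : Prop where
  dec : ∀ v : V, ∃ x y, ∃ c ∈ C, v = e x + f y + c
  ind : ∀ x y, e x + f y ∈ C → x = 0 ∧ y = 0
  dC : ∀ x, d x ∈ C
  up_e : ∀ t x, up t • e x = e x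
  up_f : ∀ t x, up t • f x = f x + e (t * x) + d (t * x ^ 2)
  up_c : ∀ t, ∀ c ∈ C, up t • c = c
  lo_e : ∀ t x, lo t • e x = e x + f (t * x) + d (t * x ^ 2)
  lo_f : ∀ t x, lo t • f x = f x
  lo_c : ∀ t, ∀ c ∈ C, lo t • c = c

section

variable {F : Type w} [Field F] {e f d : F →+ V} {C : AddSubgroup V} {up lo : F → X}

theorem BkD.swap (h : BkD e f d C up lo) : BkD f e d C lo up where
  dec := by
    intro v
    obtain ⟨x, y, c, hc, e1⟩ := h.dec v
    exact ⟨y, x, c, hc, by rw [e1]; abel⟩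
  ind := by
    intro x y hm
    rw [add_comm] at hm
    exact (h.ind y x hm).symm
  dC := h.dC
  up_e := h.lo_f
  up_f := h.lo_e
  up_c := h.lo_c
  lo_e := h.up_f
  lo_f := h.up_e
  lo_c := h.up_c

/-- uniqueness of the components -/
theorem BkD.uniq (h : BkD e f d C up lo) {x y x' y' : F} {c c' : V} (hc : c ∈ C) (hc' : c' ∈ C)
    (e1 : e x + f y + c = e x' + f y' + c') : x = x' ∧ y = y' ∧ c = c' := by
  have e2 : e (x - x') + f (y - y') = c' - c := by
    rw [map_sub, map_sub]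
    have e3 : e x + f y = e x' + f y' + c' - c := by rw [← e1]; abel
    have e4 : e x - e x' + (f y - f y') = (e x + f y) - (e x' + f y') := by abel
    rw [e4, e3]; abel
  obtain ⟨h1, h2⟩ := h.ind _ _ (e2 ▸ C.sub_mem hc' hc)
  have h3 := sub_eq_zero.1 h1
  have h4 := sub_eq_zero.1 h2
  subst h3 h4
  exact ⟨rfl, rfl, add_left_cancel e1⟩

/-- the projections -/
theorem BkD.proj' (h : BkD e f d C up lo) :
    ∃ (px py : V →+ F) (pc : V →+ V), (∀ v, v = e (px v) + f (py v) + pc v) ∧ ∀ v, pc v ∈ C := by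
  choose px py pc hpc hv using h.dec
  refine ⟨AddMonoidHom.mk' px ?_, AddMonoidHom.mk' py ?_, AddMonoidHom.mk' pc ?_, hv, hpc⟩
  all_goals
    intro a b
    have e1 : e (px (a + b)) + f (py (a + b)) + pc (a + b)
        = e (px a + px b) + f (py a + py b) + (pc a + pc b) := by
      rw [← hv (a + b), map_add, map_add]
      conv_lhs => rw [hv a, hv b]
      abel
    obtain ⟨h1, h2, h3⟩ := h.uniq (hpc _) (C.add_mem (hpc a) (hpc b)) e1
    first | exact h1 | exact h2 | exact h3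

theorem BkD.proj (h : BkD e f d C up lo) :
    ∃ (px py : V →+ F) (pc : V →+ V), (∀ v, v = e (px v) + f (py v) + pc v) ∧ (∀ v, pc v ∈ C) ∧
      ∀ a b, ∀ c ∈ C, px (e a + f b + c) = a ∧ py (e a + f b + c) = b ∧ pc (e a + f b + c) = c := by
  obtain ⟨px, py, pc, hv, hpc⟩ := h.proj'
  exact ⟨px, py, pc, hv, hpc, fun a b c hc => h.uniq (hpc _) hc (hv _).symm⟩

variable (h : BkD e f d C up lo) (h2 : ∀ v : V, v + v = 0) (hf : ∀ x : X, (∀ v : V, x • v = v) → x = 1)
include h h2 hf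

omit h2 in
/-- two elements which agree on the three parts are equal -/
theorem BkD.ext {x y : X} (he : ∀ z, x • e z = y • e z) (hff : ∀ z, x • f z = y • f z)
    (hc : ∀ c ∈ C, x • c = y • c) : x = y := by
  have h1 : y⁻¹ * x = 1 := by
    refine hf _ fun v => ?_
    obtain ⟨a, b, c, hcc, rfl⟩ := h.dec v
    have e1 : x • (e a + f b + c) = y • (e a + f b + c) := by
      rw [smul_add, smul_add, smul_add, smul_add, he, hff, hc c hcc]
    rw [mul_smul, e1, inv_smul_smul]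
  exact (inv_mul_eq_one.1 h1).symm

omit hf in
theorem BkD.two (x : F) : x + x = 0 := by
  refine (h.ind (x + x) 0 ?_).1
  rw [map_add, map_zero, h2, add_zero]
  exact C.zero_mem

omit hf in
theorem BkD.sq (x y : F) : (x + y) ^ 2 = x ^ 2 + y ^ 2 := by
  have hF := h.two h2
  have e2 : (x + y) ^ 2 = x ^ 2 + y ^ 2 + (x * y + x * y) := by ring
  rw [e2, hF, add_zero]

omit h2 in
theorem BkD.up_zero : up 0 = 1 := by
  refine h.ext hf (fun z => ?_) (fun z => ?_) fun c hc => ?_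
  · rw [h.up_e, one_smul]
  · rw [h.up_f, zero_mul, zero_mul, map_zero, map_zero, add_zero, add_zero, one_smul]
  · rw [h.up_c _ c hc, one_smul]

omit h2 in
theorem BkD.up_add (s t : F) : up s * up t = up (s + t) := by
  refine h.ext hf (fun z => ?_) (fun z => ?_) fun c hc => ?_
  · rw [mul_smul, h.up_e, h.up_e, h.up_e]
  · rw [mul_smul, h.up_f, smul_add, smul_add, h.up_f, h.up_e, h.up_c _ _ (h.dC _), h.up_f, add_mul, add_mul, map_add,
      map_add]
    abel
  · rw [mul_smul, h.up_c _ c hc, h.up_c _ c hc, h.up_c _ c hc]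

theorem BkD.up_inv (t : F) : (up t)⁻¹ = up t := by
  rw [inv_eq_iff_mul_eq_one, h.up_add hf, h.two h2, h.up_zero hf]

theorem BkD.mem_rt {a : X} : a ∈ rt up ↔ ∃ t, up t = a := by
  constructor
  · intro ha
    refine Subgroup.closure_induction (p := fun a _ => ∃ t, up t = a) ?_ ⟨0, h.up_zero hf⟩ ?_ ?_ ha
    · rintro _ ⟨t, rfl⟩
      exact ⟨t, rfl⟩
    · rintro _ _ _ _ ⟨s, rfl⟩ ⟨t, rfl⟩
      exact ⟨s + t, (h.up_add hf s t).symm⟩
    · rintro _ _ ⟨t, rfl⟩
      exact ⟨t, (h.up_inv h2 hf t).symm⟩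
  · rintro ⟨t, rfl⟩
    exact up_mem t

omit h2 hf in
theorem BkD.up_inj {s t : F} (e1 : up s = up t) : s = t := by
  have e2 := h.up_f s 1
  rw [e1, h.up_f, mul_one, mul_one, one_pow, mul_one, mul_one] at e2
  have e3 : e t + f 0 + d t = e s + f 0 + d s := by
    rw [map_zero, add_zero, add_zero]
    rw [add_assoc, add_assoc] at e2
    exact add_left_cancel e2
  exact (h.uniq (h.dC _) (h.dC _) e3).1.symm

theorem BkD.card_rt : Nat.card (rt up) = Nat.card F := by
  refine (Nat.card_congr (Equiv.ofBijective (fun t : F => (⟨up t, up_mem t⟩ : rt up)) ⟨?_, ?_⟩)).symm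
  · intro s t e1
    exact h.up_inj (congrArg Subtype.val e1)
  · rintro ⟨a, ha⟩
    obtain ⟨t, rfl⟩ := (h.mem_rt h2 hf).1 ha
    exact ⟨t, rfl⟩

end

section gen

/-- A subgroup trivial on `T` and on `V/T` is elementary abelian. -/
theorem elab_of (h2 : ∀ v : V, v + v = 0) (hf : ∀ x : X, (∀ v : V, x • v = v) → x = 1) (T : AddSubgroup V)
    (W : Subgroup X) (h1 : ∀ x ∈ W, ∀ v ∈ T, x • v = v) (h3 : ∀ x ∈ W, ∀ v, x • v - v ∈ T) :
    (∀ x ∈ W, ∀ y ∈ W, x * y = y * x) ∧ ∀ x ∈ W, x * x = 1 := by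
  have key : ∀ x ∈ W, ∀ y ∈ W, ∀ v : V, (x * y) • v = v + (x • v - v) + (y • v - v) := by
    intro x hx y hy v
    have e1 : y • v = v + (y • v - v) := by abel
    rw [mul_smul]
    conv_lhs => rw [e1]
    rw [smul_add, h1 x hx _ (h3 y hy v)]
    abel
  constructor
  · intro x hx y hy
    have h4 : (y * x)⁻¹ * (x * y) = 1 := by
      refine hf _ fun v => ?_
      rw [mul_smul, inv_smul_eq_iff, key x hx y hy, key y hy x hx]
      abel
    exact (inv_mul_eq_one.1 h4).symm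
  · intro x hx
    refine hf _ fun v => ?_
    rw [key x hx x hx, add_assoc, h2, add_zero]

/-- the group of all elements which are trivial on `T`, on `V/T` and on `R` -/
def Wg (T R : AddSubgroup V) : Subgroup X where
  carrier := {x | (∀ v ∈ T, x • v = v) ∧ (∀ v, x • v - v ∈ T) ∧ ∀ v ∈ R, x • v = v}
  one_mem' := ⟨fun _ _ => one_smul _ _, fun v => by rw [one_smul, sub_self]; exact T.zero_mem, fun _ _ => one_smul _ _⟩
  mul_mem' := by
    rintro x y ⟨hx1, hx2, hx3⟩ ⟨hy1, hy2, hy3⟩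
    refine ⟨fun v hv => by rw [mul_smul, hy1 v hv, hx1 v hv], fun v => ?_, fun v hv => by
      rw [mul_smul, hy3 v hv, hx3 v hv]⟩
    have e1 : (x * y) • v - v = (x • (y • v) - y • v) + (y • v - v) := by rw [mul_smul]; abel
    rw [e1]
    exact T.add_mem (hx2 _) (hy2 _)
  inv_mem' := by
    rintro x ⟨hx1, hx2, hx3⟩
    refine ⟨fun v hv => by rw [inv_smul_eq_iff, hx1 v hv], fun v => ?_, fun v hv => by
      rw [inv_smul_eq_iff, hx3 v hv]⟩
    have e1 : x⁻¹ • v - v = -(x • (x⁻¹ • v) - x⁻¹ • v) := by rw [smul_inv_smul]; abel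
    rw [e1]
    exact T.neg_mem (hx2 _)

theorem mem_Wg {T R : AddSubgroup V} {x : X} :
    x ∈ (Wg T R : Subgroup X) ↔ (∀ v ∈ T, x • v = v) ∧ (∀ v, x • v - v ∈ T) ∧ ∀ v ∈ R, x • v = v := Iff.rfl

end gen

section gam

variable {F : Type w} [Field F] [Finite F] {e f d : F →+ V} {C : AddSubgroup V} {up lo : F → X} [Finite V] [Finite X]

/-- LEMMA K : an element which fixes `e(F) + C` and is trivial on the quotient is in the root group. -/
theorem BkD.memK (h : BkD e f d C up lo) (h2 : ∀ v : V, v + v = 0) (hf : ∀ x : X, (∀ v : V, x • v = v) → x = 1)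
    (hno : NO X V) {g : X} (ge : ∀ z, g • e z = e z) (gc : ∀ c ∈ C, g • c = c)
    (gf : ∀ z, ∃ x, ∃ c ∈ C, g • f z = f z + (e x + c)) : g ∈ rt up := by
  obtain ⟨px, py, pc, hv, hpc⟩ := h.proj'
  have hU : ∀ v : V, py v = 0 ↔ ∃ x, ∃ c ∈ C, v = e x + c := by
    intro v
    constructor
    · intro h0
      refine ⟨px v, pc v, hpc v, ?_⟩
      have e1 := hv v
      rw [h0, map_zero, add_zero] at e1
      exact e1
    · rintro ⟨x, c, hc, rfl⟩
      have e1 : e (px (e x + c)) + f (py (e x + c)) + pc (e x + c) = e x + f 0 + c := by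
        rw [← hv, map_zero, add_zero]
      exact (h.uniq (hpc _) hc e1).2.1
  let W : Subgroup X := Wg py.ker ⊥
  obtain ⟨hcom, hsq⟩ := elab_of h2 hf py.ker W (fun x hx v hv => hx.1 v hv) fun x hx v => hx.2.1 v
  have hcard : Nat.card W ≤ Nat.card F := card_le_of hno py W hcom hsq fun x hx v h0 => hx.1 v h0
  have hle : rt up ≤ W := by
    intro a ha
    obtain ⟨t, rfl⟩ := (h.mem_rt h2 hf).1 ha
    refine ⟨fun v h0 => ?_, fun v => ?_, fun v hv => ?_⟩
    · obtain ⟨x, c, hc, rfl⟩ := (hU v).1 h0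
      rw [smul_add, h.up_e, h.up_c t c hc]
    · rw [AddMonoidHom.mem_ker, hU]
      obtain ⟨x, y, c, hc, rfl⟩ := h.dec v
      refine ⟨t * y, d (t * y ^ 2), h.dC _, ?_⟩
      rw [smul_add, smul_add, h.up_e, h.up_f, h.up_c t c hc]
      abel
    · rw [AddSubgroup.mem_bot.1 hv, smul_zero]
  have hgW : g ∈ W := by
    refine ⟨fun v h0 => ?_, fun v => ?_, fun v hv => ?_⟩
    · obtain ⟨x, c, hc, rfl⟩ := (hU v).1 h0
      rw [smul_add, ge, gc c hc]
    · rw [AddMonoidHom.mem_ker, hU]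
      obtain ⟨x, y, c, hc, rfl⟩ := h.dec v
      obtain ⟨a, c', hc', e1⟩ := gf y
      refine ⟨a, c', hc', ?_⟩
      rw [smul_add, smul_add, ge, e1, gc c hc]
      abel
    · rw [AddSubgroup.mem_bot.1 hv, smul_zero]
  have heq : rt up = W := by
    refine Subgroup.eq_of_le_of_card_ge hle ?_
    rw [h.card_rt h2 hf]
    exact hcard
  rw [heq]
  exact hgW

omit [Finite F] [Finite V] [Finite X] in
theorem BkD.exists_dat (h : BkD e f d C up lo) {g : X} (ge : ∀ z, g • e z = e z)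
    (gc : ∀ c ∈ C, ∃ x, g • c = c + e x) (gf : ∀ z, ∃ x, ∃ c ∈ C, g • f z = f z + c + e x) :
    ∃ (σ : V →+ F) (ρ : F →+ V) (γ : F →+ F), Dat e f C g σ ρ γ := by
  obtain ⟨px, py, pc, hv, hpc, hu⟩ := h.proj
  refine ⟨px.comp ((DistribSMul.toAddMonoidHom V g).comp pc),
    pc.comp ((DistribSMul.toAddMonoidHom V g).comp f),
    px.comp ((DistribSMul.toAddMonoidHom V g).comp f), ge, ?_, ?_, fun s => hpc _⟩
  · intro c hc
    obtain ⟨x, hx⟩ := gc c hc
    have e1 : pc c = c := by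
      have := (hu 0 0 c hc).2.2
      rwa [map_zero, map_zero, zero_add, zero_add] at this
    have e2 : px (c + e x) = x := by
      have := (hu x 0 c hc).1
      rwa [map_zero, add_zero, add_comm] at this
    show g • c = c + e (px (g • pc c))
    rw [e1, hx, e2]
  · intro s
    obtain ⟨x, c, hc, hx⟩ := gf s
    have e1 : g • f s = e x + f s + c := by rw [hx]; abel
    show g • f s = f s + pc (g • f s) + e (px (g • f s))
    rw [e1, (hu x s c hc).1, (hu x s c hc).2.2]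
    abel

section torus
omit [Finite F] [Finite V] [Finite X]
variable (h : BkD e f d C up lo) (h2 : ∀ v : V, v + v = 0)
include h h2

theorem BkD.wt_e {t : F} (ht : t ≠ 0) (x : F) : wt up lo t • e x = f (t⁻¹ * x) := by
  rw [wt, mul_smul, mul_smul, h.up_e, h.lo_e, smul_add, smul_add, h.up_e, h.up_f, h.up_c _ _ (h.dC _),
    mul_inv_cancel_left₀ ht]
  have e0 : t * (t⁻¹ * x) ^ 2 = t⁻¹ * x ^ 2 := by
    field_simp
  rw [e0]
  have e1 : e x + (f (t⁻¹ * x) + e x + d (t⁻¹ * x ^ 2)) + d (t⁻¹ * x ^ 2)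
      = f (t⁻¹ * x) + ((e x + e x) + (d (t⁻¹ * x ^ 2) + d (t⁻¹ * x ^ 2))) := by abel
  rw [e1, h2, h2, add_zero, add_zero]

theorem BkD.wt_f {t : F} (ht : t ≠ 0) (y : F) : wt up lo t • f y = e (t * y) := by
  rw [wt, mul_smul, mul_smul, h.up_f]
  simp only [smul_add, h.lo_f, h.lo_e, h.lo_c _ _ (h.dC _), inv_mul_cancel_left₀ ht, h.up_f, h.up_e,
    h.up_c _ _ (h.dC _)]
  have e0 : t⁻¹ * (t * y) ^ 2 = t * y ^ 2 := by
    field_simp
  rw [e0]
  have e1 : f y + e (t * y) + d (t * y ^ 2) + (e (t * y) + (f y + e (t * y) + d (t * y ^ 2)) + d (t * y ^ 2))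
        + d (t * y ^ 2)
      = e (t * y) + ((f y + f y) + (e (t * y) + e (t * y)) + (d (t * y ^ 2) + d (t * y ^ 2))
        + (d (t * y ^ 2) + d (t * y ^ 2))) := by abel
  rw [e1, h2 (f y), h2 (e (t * y)), h2 (d (t * y ^ 2)), add_zero, add_zero, add_zero, add_zero]

omit h2 in
theorem BkD.wt_c (t : F) {c : V} (hc : c ∈ C) : wt up lo t • c = c := by
  rw [wt, mul_smul, mul_smul, h.up_c _ c hc, h.lo_c _ c hc, h.up_c _ c hc]

theorem BkD.hh_e {t : F} (ht : t ≠ 0) (x : F) : hh up lo t • e x = e (t * x) := by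
  rw [hh, mul_smul, h.wt_e h2 one_ne_zero, h.wt_f h2 ht, inv_one, one_mul]

theorem BkD.hh_f {t : F} (ht : t ≠ 0) (y : F) : hh up lo t • f y = f (t⁻¹ * y) := by
  rw [hh, mul_smul, h.wt_f h2 one_ne_zero, h.wt_e h2 ht, one_mul]

omit h2 in
theorem BkD.hh_c (t : F) {c : V} (hc : c ∈ C) : hh up lo t • c = c := by
  rw [hh, mul_smul, h.wt_c _ hc, h.wt_c _ hc]

theorem BkD.hhi_e {t : F} (ht : t ≠ 0) (x : F) : (hh up lo t)⁻¹ • e x = e (t⁻¹ * x) := by
  rw [inv_smul_eq_iff, h.hh_e h2 ht, mul_inv_cancel_left₀ ht]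

theorem BkD.hhi_f {t : F} (ht : t ≠ 0) (y : F) : (hh up lo t)⁻¹ • f y = f (t * y) := by
  rw [inv_smul_eq_iff, h.hh_f h2 ht, inv_mul_cancel_left₀ ht]

omit h2 in
theorem BkD.hhi_c (t : F) {c : V} (hc : c ∈ C) : (hh up lo t)⁻¹ • c = c := by
  rw [inv_smul_eq_iff, h.hh_c t hc]

/-- the torus conjugates -/
theorem BkD.conj_h {g : X} {σ : V →+ F} {ρ : F →+ V} {γ : F → F} (D : Dat e f C g σ ρ γ) {t : F} (ht : t ≠ 0) :
    Dat e f C (hh up lo t * g * (hh up lo t)⁻¹) ((AddMonoidHom.mulLeft t).comp σ)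
      (ρ.comp (AddMonoidHom.mulLeft t)) (fun s => t * γ (t * s)) where
  ee := by
    intro z
    rw [mul_smul, mul_smul, h.hhi_e h2 ht, D.ee, h.hh_e h2 ht, mul_inv_cancel_left₀ ht]
  cc := by
    intro c hc
    rw [mul_smul, mul_smul, h.hhi_c t hc, D.cc c hc, smul_add, h.hh_c t hc, h.hh_e h2 ht]
    rfl
  ff := by
    intro s
    rw [mul_smul, mul_smul, h.hhi_f h2 ht, D.ff, smul_add, smul_add, h.hh_f h2 ht, h.hh_c t (D.rc _),
      h.hh_e h2 ht, inv_mul_cancel_left₀ ht]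
    rfl
  rc := fun s => D.rc _

/-- the `F`-line through an element with `γ = 0` -/
theorem BkD.dat_mul {g : X} {σ : V →+ F} {ρ : F →+ V} (D : Dat e f C g σ ρ (fun _ => 0)) (a : F) :
    ∃ x : X, Dat e f C x ((AddMonoidHom.mulLeft a).comp σ) (ρ.comp (AddMonoidHom.mulLeft a)) (fun _ => 0) := by
  by_cases ha : a = 0
  · subst ha
    refine ⟨1, fun z => one_smul _ _, fun c _ => ?_, fun s => ?_, fun s => ?_⟩
    · show (1 : X) • c = c + e (0 * σ c)
      rw [zero_mul, map_zero, add_zero, one_smul]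
    · show (1 : X) • f s = f s + ρ (0 * s) + e 0
      rw [zero_mul, map_zero, map_zero, add_zero, add_zero, one_smul]
    · show ρ (0 * s) ∈ C
      exact D.rc _
  · have D1 := h.conj_h h2 D ha
    refine ⟨_, D1.ee, D1.cc, fun s => ?_, D1.rc⟩
    have e1 := D1.ff s
    rw [e1, mul_zero]

end torus

section lin
variable (h : BkD e f d C up lo) (h2 : ∀ v : V, v + v = 0) (hf : ∀ x : X, (∀ v : V, x • v = v) → x = 1) (hno : NO X V)
  (hd : ∃ x, d x ≠ 0)
include h h2 hf hno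

omit hf hno [Finite V] [Finite X] in
theorem BkD.sqrt (s : F) : ∃ x, x ^ 2 = s := by
  have hF := h.two h2
  have hinj : Function.Injective (fun x : F => x ^ 2) := by
    intro x y hxy
    have e1 : (x + y) ^ 2 = 0 := by
      have hxy' : x ^ 2 = y ^ 2 := hxy
      rw [h.sq h2, hxy', hF]
    have e3 := pow_eq_zero_iff (two_ne_zero) |>.1 e1
    rw [add_eq_zero_iff_eq_neg.1 e3, neg_eq_iff_add_eq_zero]
    exact hF y
  exact (Finite.surjective_of_injective hinj) s

include hd in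
/-- a root element whose `d`-part vanishes is trivial -/
theorem BkD.lin {P Q : X} {κ : F → F} (Pe : ∀ z, P • e z = e z) (Qe : ∀ z, Q • e z = e z)
    (PQ : ∀ c ∈ C, P • c = Q • c) (Qc : ∀ c ∈ C, ∃ x, Q • c = c + e x)
    (Qf : ∀ s, ∃ x, ∃ c ∈ C, Q • f s = f s + c + e x) (Pf : ∀ s, P • f s = Q • f s + e (κ s)) :
    ∀ s, κ s = 0 := by
  have Qie : ∀ z, Q⁻¹ • e z = e z := fun z => by rw [inv_smul_eq_iff, Qe]
  have dc : ∀ c ∈ C, (P * Q⁻¹) • c = c := by
    intro c hc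
    obtain ⟨x, hx⟩ := Qc c hc
    have e1 : Q⁻¹ • c = c - e x := by
      rw [inv_smul_eq_iff, smul_sub, hx, Qe]; abel
    rw [mul_smul, e1, smul_sub, PQ c hc, hx, Pe]; abel
  have df : ∀ s, (P * Q⁻¹) • f s = f s + e (κ s) := by
    intro s
    obtain ⟨x, c, hc, hx⟩ := Qf s
    have e1 : Q⁻¹ • f s = f s - Q⁻¹ • c - e x := by
      have e2 : Q⁻¹ • (Q • f s) = Q⁻¹ • (f s + c + e x) := by rw [hx]
      rw [inv_smul_smul, smul_add, smul_add, Qie] at e2
      have e4 : f s - Q⁻¹ • c - e x = Q⁻¹ • f s := by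
        conv_lhs => rw [e2]
        abel
      exact e4.symm
    have e3 : P • (Q⁻¹ • c) = c := by rw [← mul_smul]; exact dc c hc
    rw [mul_smul, e1, smul_sub, smul_sub, e3, Pe, Pf, hx]; abel
  have hm : P * Q⁻¹ ∈ rt up := by
    refine h.memK h2 hf hno (fun z => ?_) dc fun z => ⟨κ z, 0, C.zero_mem, by rw [df, add_zero]⟩
    rw [mul_smul, Qie, Pe]
  obtain ⟨t, ht⟩ := (h.mem_rt h2 hf).1 hm
  have key : ∀ s, κ s = t * s ∧ d (t * s ^ 2) = 0 := by
    intro s
    have e1 := df s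
    rw [← ht, h.up_f] at e1
    have e2 : e (κ s) + f 0 + 0 = e (t * s) + f 0 + d (t * s ^ 2) := by
      rw [map_zero, add_zero, add_zero, add_zero]
      rw [add_assoc] at e1
      exact (add_left_cancel e1).symm
    obtain ⟨e3, -, e4⟩ := h.uniq C.zero_mem (h.dC _) e2
    exact ⟨e3, e4.symm⟩
  have ht0 : t = 0 := by
    by_contra ht0
    obtain ⟨x, hx⟩ := hd
    obtain ⟨s, hs⟩ := h.sqrt h2 (t⁻¹ * x)
    apply hx
    have := (key s).2
    rwa [hs, mul_inv_cancel_left₀ ht0] at this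
  intro s
  rw [(key s).1, ht0, zero_mul]

include hd in
/-- `σρ = 0` -/
theorem BkD.tau {g : X} {σ : V →+ F} {ρ : F →+ V} {γ : F → F} (D : Dat e f C g σ ρ γ) (s : F) : σ (ρ s) = 0 := by
  refine h.lin h2 hf hno hd (P := g * g) (Q := 1) (κ := fun s => σ (ρ s)) (fun z => ?_) (fun z => one_smul _ _)
    (fun c hc => ?_) (fun c hc => ⟨0, by rw [one_smul, map_zero, add_zero]⟩)
    (fun s => ⟨0, 0, C.zero_mem, by rw [one_smul, map_zero, add_zero, add_zero]⟩) (fun s => ?_) s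
  · rw [mul_smul, D.ee, D.ee]
  · rw [mul_smul, D.cc c hc, smul_add, D.cc c hc, D.ee, one_smul, add_assoc, h2, add_zero]
  · rw [mul_smul, D.ff, smul_add, smul_add, D.ff, D.cc _ (D.rc s), D.ee, one_smul]
    have e1 : f s + ρ s + e (γ s) + (ρ s + e (σ (ρ s))) + e (γ s)
        = f s + e (σ (ρ s)) + ((ρ s + ρ s) + (e (γ s) + e (γ s))) := by abel
    rw [e1, h2, h2, add_zero, add_zero]

include hd in
/-- `γ` is linear -/
theorem BkD.gam_lin {g : X} {σ : V →+ F} {ρ : F →+ V} {γ : F →+ F} (D : Dat e f C g σ ρ γ) (s : F) :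
    γ s = γ 1 * s := by
  have hF := h.two h2
  have key : ∀ c s, γ (c * s) = c * γ s := by
    intro c s
    by_cases hc0 : c = 0
    · subst hc0; simp
    by_cases hc1 : c + 1 = 0
    · have e1 : c = 1 := by
        have := add_eq_zero_iff_eq_neg.1 hc1
        rw [this, neg_eq_iff_add_eq_zero]
        exact hF 1
      subst e1
      rw [one_mul, one_mul]
    have D1 := h.conj_h h2 D hc0
    have D2 := h.conj_h h2 D hc1
    have e0 := h.lin h2 hf hno hd (P := hh up lo c * g * (hh up lo c)⁻¹ * g)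
      (Q := hh up lo (c + 1) * g * (hh up lo (c + 1))⁻¹)
      (κ := fun s => c * γ (c * s) + γ s + (c + 1) * γ ((c + 1) * s)) (fun z => by rw [mul_smul, D.ee, D1.ee])
      (fun z => D2.ee z) (fun v hv => by
        rw [mul_smul, D.cc v hv, smul_add, D1.cc v hv, D1.ee, D2.cc v hv]
        show v + e (c * σ v) + e (σ v) = v + e ((c + 1) * σ v)
        rw [add_mul, one_mul, map_add]; abel)
      (fun v hv => ⟨_, D2.cc v hv⟩) (fun s => ⟨_, _, D2.rc s, D2.ff s⟩) (fun s => by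
        rw [mul_smul, D.ff, smul_add, smul_add, D1.ff, D1.cc _ (D.rc s), D1.ee, D2.ff]
        show f s + ρ (c * s) + e (c * γ (c * s)) + (ρ s + e (c * σ (ρ s))) + e (γ s)
          = f s + ρ ((c + 1) * s) + e ((c + 1) * γ ((c + 1) * s))
            + e (c * γ (c * s) + γ s + (c + 1) * γ ((c + 1) * s))
        have e1 : ρ ((c + 1) * s) = ρ (c * s) + ρ s := by rw [add_mul, one_mul, map_add]
        rw [e1, h.tau h2 hf hno hd D s, mul_zero]
        simp only [map_add, map_zero]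
        have e2 : f s + (ρ (c * s) + ρ s) + e ((c + 1) * γ ((c + 1) * s))
            + (e (c * γ (c * s)) + e (γ s) + e ((c + 1) * γ ((c + 1) * s)))
            = (e ((c + 1) * γ ((c + 1) * s)) + e ((c + 1) * γ ((c + 1) * s)))
              + (f s + ρ (c * s) + ρ s + e (c * γ (c * s)) + e (γ s)) := by abel
        rw [e2, h2, zero_add]
        abel) s
    have e5 : γ ((c + 1) * s) = γ (c * s) + γ s := by rw [add_mul, one_mul, map_add]
    have e0' : c * γ (c * s) + γ s + (c + 1) * γ ((c + 1) * s) = 0 := e0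
    rw [e5] at e0'
    have e3 : γ (c * s) = (c * γ (c * s) + γ s + (c + 1) * (γ (c * s) + γ s)) + c * γ s
        - ((c * γ (c * s) + c * γ (c * s)) + (γ s + γ s) + (c * γ s + c * γ s)) := by ring
    rw [e3, e0', hF (c * γ (c * s)), hF (γ s), hF (c * γ s)]; ring
  have := key s 1
  rw [mul_one] at this
  rw [this, mul_comm]

include hd in
/-- the main case -/
theorem BkD.false_of (h4 : 2 < Nat.card F) {g : X} {σ : V →+ F} {ρ : F →+ V}
    (D : Dat e f C g σ ρ (fun _ => 0)) (hsd : ∀ z, σ (d z) = 0) {c1 : V} (hc1 : c1 ∈ C) (hs : σ c1 ≠ 0) : False := by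
  have hF := h.two h2
  have hsr := h.tau h2 hf hno hd D
  obtain ⟨px, py, pc, hv, hpc, hu⟩ := h.proj
  set T : AddSubgroup V := e.range ⊔ ρ.range ⊔ d.range with hT
  set R : AddSubgroup V := C ⊓ σ.ker with hR
  have hTe : ∀ z, e z ∈ T := fun z => (le_sup_left.trans le_sup_left : e.range ≤ T) ⟨z, rfl⟩
  have hTr : ∀ z, ρ z ∈ T := fun z => (le_sup_right.trans le_sup_left : ρ.range ≤ T) ⟨z, rfl⟩
  have hTd : ∀ z, d z ∈ T := fun z => (le_sup_right : d.range ≤ T) ⟨z, rfl⟩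
  have hTfix : ∀ x : X, (∀ z, x • e z = e z) → (∀ z, x • ρ z = ρ z) → (∀ z, x • d z = d z) → ∀ v ∈ T, x • v = v := by
    intro x x1 x2 x3 v hv
    obtain ⟨v1, hv1, _, ⟨z3, rfl⟩, rfl⟩ := AddSubgroup.mem_sup.1 hv
    obtain ⟨_, ⟨z1, rfl⟩, _, ⟨z2, rfl⟩, rfl⟩ := AddSubgroup.mem_sup.1 hv1
    rw [smul_add, smul_add, x1, x2, x3]
  -- membership in `W`
  have hW : ∀ x : X, (∀ z, x • e z = e z) → (∀ z, x • f z - f z ∈ T) → (∀ c ∈ C, x • c - c ∈ T) →
      (∀ c ∈ C, σ c = 0 → x • c = c) → x ∈ (Wg T R : Subgroup X) := by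
    intro x x1 x2 x3 x4
    refine ⟨hTfix x x1 (fun z => x4 _ (D.rc z) (hsr z)) fun z => x4 _ (h.dC z) (hsd z), fun v => ?_, fun v hv =>
      x4 v hv.1 hv.2⟩
    obtain ⟨a, b, c, hc, rfl⟩ := h.dec v
    have e1 : x • (e a + f b + c) - (e a + f b + c) = (x • f b - f b) + (x • c - c) := by
      rw [smul_add, smul_add, x1]; abel
    rw [e1]
    exact T.add_mem (x2 b) (x3 c hc)
  obtain ⟨hcom, hsq⟩ := elab_of h2 hf T (Wg T R : Subgroup X) (fun x hx v hv => hx.1 v hv) fun x hx v => hx.2.1 v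
  let π : V →+ F × (C.map σ) := py.prod ((σ.comp pc).codRestrict _ fun v => ⟨pc v, hpc v, rfl⟩)
  have hup : Nat.card (Wg T R : Subgroup X) ≤ Nat.card (F × (C.map σ)) := by
    refine card_le_of hno π _ hcom hsq ?_
    intro x hx v hv0
    have hv1 : py v = 0 := congrArg Prod.fst hv0
    have hv2 : σ (pc v) = 0 := congrArg Subtype.val (congrArg Prod.snd hv0)
    conv_lhs => rw [hv v]
    rw [hv1, map_zero, add_zero, smul_add, hx.1 _ (hTe _), hx.2.2 _ ⟨hpc v, hv2⟩]
    conv_rhs => rw [hv v]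
    rw [hv1, map_zero, add_zero]
  have hex : ∀ p : F × F, ∃ x : X, (∀ z, x • e z = e z) ∧
      (∀ s, x • f s = f s + ρ (p.1 * s) + e (p.2 * s) + d (p.2 * s ^ 2)) ∧
      ∀ c ∈ C, x • c = c + e (p.1 * σ c) := by
    rintro ⟨a, t⟩
    obtain ⟨x, Dx⟩ := h.dat_mul h2 D a
    refine ⟨up t * x, fun z => ?_, fun s => ?_, fun c hc => ?_⟩
    · rw [mul_smul, Dx.ee, h.up_e]
    · rw [mul_smul, Dx.ff, map_zero, add_zero, smul_add, h.up_f, h.up_c _ _ (Dx.rc s)]
      show f s + e (t * s) + d (t * s ^ 2) + ρ (a * s) = f s + ρ (a * s) + e (t * s) + d (t * s ^ 2)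
      abel
    · rw [mul_smul, Dx.cc c hc, smul_add, h.up_c _ c hc, h.up_e]
      rfl
  choose m hm1 hm2 hm3 using hex
  have hmW : ∀ p, m p ∈ (Wg T R : Subgroup X) := by
    intro p
    refine hW _ (hm1 p) (fun z => ?_) (fun c hc => ?_) fun c hc hsc => ?_
    · rw [hm2]
      have e1 : f z + ρ (p.1 * z) + e (p.2 * z) + d (p.2 * z ^ 2) - f z
          = ρ (p.1 * z) + e (p.2 * z) + d (p.2 * z ^ 2) := by abel
      rw [e1]
      exact T.add_mem (T.add_mem (hTr _) (hTe _)) (hTd _)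
    · rw [hm3 p c hc, add_sub_cancel_left]
      exact hTe _
    · rw [hm3 p c hc, hsc, mul_zero, map_zero, add_zero]
  have hinj : Function.Injective (fun p : F × F => (⟨m p, hmW p⟩ : (Wg T R : Subgroup X))) := by
    intro p p' hpp
    have e1 : m p = m p' := congrArg Subtype.val hpp
    have e2 := hm3 p c1 hc1
    rw [e1, hm3 p' c1 hc1] at e2
    have e3 : e (p'.1 * σ c1) + f 0 + c1 = e (p.1 * σ c1) + f 0 + c1 := by
      rw [map_zero, add_zero, add_zero, add_comm _ c1, add_comm _ c1, e2]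
    obtain ⟨e5, -, -⟩ := h.uniq hc1 hc1 e3
    have e6 : p.1 = p'.1 := mul_right_cancel₀ hs e5.symm
    have e7 := hm2 p 1
    rw [e1, hm2 p' 1, e6, mul_one, mul_one, mul_one, one_pow, mul_one, mul_one, add_assoc, add_assoc (f 1 + ρ p'.1)]
      at e7
    have e8 : e p'.2 + f 0 + d p'.2 = e p.2 + f 0 + d p.2 := by
      rw [map_zero, add_zero, add_zero]
      exact add_left_cancel e7
    obtain ⟨e9, -, -⟩ := h.uniq (h.dC _) (h.dC _) e8
    exact Prod.ext e6 e9.symm
  have hlow : Nat.card (F × F) ≤ Nat.card (Wg T R : Subgroup X) := Nat.card_le_card_of_injective _ hinj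
  have hq : 0 < Nat.card F := Nat.card_pos
  have htop : Nat.card F ≤ Nat.card (C.map σ) := by
    have := hlow.trans hup
    rw [Nat.card_prod, Nat.card_prod] at this
    exact Nat.le_of_mul_le_mul_left this hq
  have hsur : ∀ z : F, ∃ c ∈ C, σ c = z := by
    have h5 : C.map σ = ⊤ := AddSubgroup.eq_top_of_le_card _ htop
    intro z
    have : z ∈ C.map σ := by rw [h5]; trivial
    exact this
  have hbij : Function.Bijective (fun p : F × F => (⟨m p, hmW p⟩ : (Wg T R : Subgroup X))) := by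
    refine hinj.bijective_of_nat_card_le (hup.trans ?_)
    rw [Nat.card_prod, Nat.card_prod]
    exact Nat.mul_le_mul_left _ (Nat.card_le_card_of_injective _ Subtype.val_injective)
  -- the elements `y_k`
  have w1 : ∀ z, (wt up lo 1)⁻¹ • e z = f z := fun z => by
    rw [inv_smul_eq_iff, h.wt_f h2 one_ne_zero, one_mul]
  have w2 : ∀ z, (wt up lo 1)⁻¹ • f z = e z := fun z => by
    rw [inv_smul_eq_iff, h.wt_e h2 one_ne_zero, inv_one, one_mul]
  have w3 : ∀ c ∈ C, (wt up lo 1)⁻¹ • c = c := fun c hc => by rw [inv_smul_eq_iff, h.wt_c _ hc]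
  have gr : ∀ z, g • ρ z = ρ z := fun z => by rw [D.cc _ (D.rc z), hsr, map_zero, add_zero]
  have gd : ∀ z, g • d z = d z := fun z => by rw [D.cc _ (h.dC z), hsd, map_zero, add_zero]
  have gf : ∀ s, g • f s = f s + ρ s := fun s => by rw [D.ff, map_zero, add_zero]
  have main : ∀ k : F, ∀ c ∈ C, ρ (k * σ c) + d (k * σ c ^ 2) = 0 := by
    intro k
    obtain ⟨x2, Dx⟩ := h.dat_mul h2 D k
    set Y : X := g * (wt up lo 1 * x2 * (wt up lo 1)⁻¹) with hY
    have Ye : ∀ z, Y • e z = e z + ρ (k * z) := by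
      intro z
      have e1 : x2 • f z = f z + ρ (k * z) := by
        rw [Dx.ff, map_zero, add_zero]; rfl
      rw [hY, mul_smul, mul_smul, mul_smul, w1, e1, smul_add, h.wt_f h2 one_ne_zero, one_mul, h.wt_c _ (D.rc _),
        smul_add, D.ee, gr]
    have Yf : ∀ z, Y • f z = f z + ρ z := by
      intro z
      rw [hY, mul_smul, mul_smul, mul_smul, w2, Dx.ee, h.wt_e h2 one_ne_zero, inv_one, one_mul, gf]
    have Yc : ∀ c ∈ C, Y • c = c + e (σ c) + f (k * σ c) + ρ (k * σ c) := by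
      intro c hc
      have e1 : x2 • c = c + e (k * σ c) := by rw [Dx.cc c hc]; rfl
      rw [hY, mul_smul, mul_smul, mul_smul, w3 c hc, e1, smul_add, h.wt_c _ hc, h.wt_e h2 one_ne_zero, inv_one,
        one_mul, smul_add, D.cc c hc, gf]
      abel
    set Z : X := lo k * g * lo k with hZ
    have Ze : ∀ z, Z • e z = e z + ρ (k * z) := by
      intro z
      rw [hZ, mul_smul, mul_smul, h.lo_e]
      simp only [smul_add, D.ee, gf, gd, h.lo_e, h.lo_f, h.lo_c _ _ (D.rc _), h.lo_c _ _ (h.dC _)]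
      have e1 : e z + f (k * z) + d (k * z ^ 2) + (f (k * z) + ρ (k * z)) + d (k * z ^ 2)
          = e z + ρ (k * z) + ((f (k * z) + f (k * z)) + (d (k * z ^ 2) + d (k * z ^ 2))) := by abel
      rw [e1, h2, h2, add_zero, add_zero]
    have Zf : ∀ z, Z • f z = f z + ρ z := by
      intro z
      rw [hZ, mul_smul, mul_smul, h.lo_f, gf, smul_add, h.lo_f, h.lo_c _ _ (D.rc _)]
    have Zc : ∀ c ∈ C, Z • c = c + e (σ c) + f (k * σ c) + d (k * σ c ^ 2) := by
      intro c hc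
      rw [hZ, mul_smul, mul_smul, h.lo_c _ c hc, D.cc c hc, smul_add, h.lo_c _ c hc, h.lo_e]
      abel
    set y : X := Y * Z⁻¹ with hy
    have yZ : ∀ v : V, y • (Z • v) = Y • v := fun v => by rw [hy, mul_smul, inv_smul_smul]
    have yr : ∀ z, y • ρ z = ρ z := by
      intro z
      have e1 := yZ (ρ z)
      rw [Zc _ (D.rc z), Yc _ (D.rc z), hsr] at e1
      simpa using e1
    have yd : ∀ z, y • d z = d z := by
      intro z
      have e1 := yZ (d z)
      rw [Zc _ (h.dC z), Yc _ (h.dC z), hsd] at e1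
      simpa using e1
    have ye : ∀ z, y • e z = e z := by
      intro z
      have e1 := yZ (e z)
      rw [Ze, Ye, smul_add, yr] at e1
      exact add_right_cancel e1
    have yf : ∀ z, y • f z = f z := by
      intro z
      have e1 := yZ (f z)
      rw [Zf, Yf, smul_add, yr] at e1
      exact add_right_cancel e1
    have yc : ∀ c ∈ C, y • c = c + (ρ (k * σ c) + d (k * σ c ^ 2)) := by
      intro c hc
      have e1 := yZ c
      rw [Zc c hc, Yc c hc, smul_add, smul_add, smul_add, ye, yf, yd] at e1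
      have e2 : y • c + (e (σ c) + f (k * σ c) + d (k * σ c ^ 2))
          = (c + (ρ (k * σ c) + d (k * σ c ^ 2))) + (e (σ c) + f (k * σ c) + d (k * σ c ^ 2)) := by
        have e3 : y • c + (e (σ c) + f (k * σ c) + d (k * σ c ^ 2))
            = y • c + e (σ c) + f (k * σ c) + d (k * σ c ^ 2) := by abel
        rw [e3, e1]
        have e4 : c + (ρ (k * σ c) + d (k * σ c ^ 2)) + (e (σ c) + f (k * σ c) + d (k * σ c ^ 2))
            = c + e (σ c) + f (k * σ c) + ρ (k * σ c) + (d (k * σ c ^ 2) + d (k * σ c ^ 2)) := by abel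
        rw [e4, h2, add_zero]
      exact add_right_cancel e2
    have hyW : y ∈ (Wg T R : Subgroup X) := by
      refine hW _ ye (fun z => ?_) (fun c hc => ?_) fun c hc hsc => ?_
      · rw [yf, sub_self]; exact T.zero_mem
      · rw [yc c hc, add_sub_cancel_left]
        exact T.add_mem (hTr _) (hTd _)
      · rw [yc c hc, hsc]
        simp
    obtain ⟨p, hp⟩ := hbij.2 ⟨y, hyW⟩
    have e1 : m p = y := congrArg Subtype.val hp
    intro c hc
    have e2 := hm3 p c hc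
    rw [e1, yc c hc] at e2
    have e3 : e 0 + f 0 + (ρ (k * σ c) + d (k * σ c ^ 2)) = e (p.1 * σ c) + f 0 + 0 := by
      rw [map_zero, map_zero, add_zero, add_zero, add_zero, zero_add]
      exact add_left_cancel e2
    exact (h.uniq (C.add_mem (D.rc _) (h.dC _)) C.zero_mem e3).2.2
  have main' : ∀ s z : F, s ≠ 0 → ρ z + d (z * s) = 0 := by
    intro s z hs0
    obtain ⟨c, hc, hcs⟩ := hsur s
    have := main (z * s⁻¹) c hc
    rw [hcs, inv_mul_cancel_right₀ hs0] at this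
    have e1 : z * s⁻¹ * s ^ 2 = z * s := by field_simp
    rwa [e1] at this
  obtain ⟨c0, hc0, hc1'⟩ : ∃ c0 : F, c0 ≠ 0 ∧ c0 ≠ 1 := by
    by_contra hcon
    push Not at hcon
    have h3 : Nat.card F ≤ 2 := by
      have : (Set.univ : Set F) ⊆ {0, 1} := fun x _ => by
        by_cases hx : x = 0
        · exact Or.inl hx
        · exact Or.inr (hcon x hx)
      calc Nat.card F = Set.ncard (Set.univ : Set F) := (Set.ncard_univ F).symm
        _ ≤ Set.ncard ({0, 1} : Set F) := Set.ncard_le_ncard this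
        _ ≤ 2 := by
          have := Set.ncard_insert_le (0 : F) {1}
          rwa [Set.ncard_singleton] at this
    omega
  have hk : 1 + c0 ≠ 0 := by
    intro hk
    apply hc1'
    have e1 : 1 + c0 = 1 + 1 := by rw [hk, hF]
    exact add_left_cancel e1
  obtain ⟨x, hx⟩ := hd
  apply hx
  have e1 := main' 1 (x * (1 + c0)⁻¹) one_ne_zero
  have e2 := main' c0 (x * (1 + c0)⁻¹) hc0
  have e3 : d (x * (1 + c0)⁻¹ * 1) + d (x * (1 + c0)⁻¹ * c0) = 0 := by
    have e4 : d (x * (1 + c0)⁻¹ * 1) + d (x * (1 + c0)⁻¹ * c0)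
        = (ρ (x * (1 + c0)⁻¹) + d (x * (1 + c0)⁻¹ * 1)) + (ρ (x * (1 + c0)⁻¹) + d (x * (1 + c0)⁻¹ * c0))
          - (ρ (x * (1 + c0)⁻¹) + ρ (x * (1 + c0)⁻¹)) := by abel
    rw [e4, e1, e2, h2 (ρ _), add_zero, sub_zero]
  rw [← map_add, ← mul_add, inv_mul_cancel_right₀ hk] at e3
  exact e3

include hd in
/-- **`Gam = A`.** -/
theorem BkD.gam (h4 : 2 < Nat.card F) {g : X} (ge : ∀ z, g • e z = e z) (gd : ∀ z, g • d z = d z)
    (gc : ∀ c ∈ C, ∃ x, g • c = c + e x) (gf : ∀ z, ∃ x, ∃ c ∈ C, g • f z = f z + c + e x) : g ∈ rt up := by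
  by_contra hg
  obtain ⟨σ, ρ, γ, D⟩ := h.exists_dat ge gc gf
  have hl := h.gam_lin h2 hf hno hd D
  let ρ' : F →+ V := AddMonoidHom.mk' (fun s => ρ s + d (γ 1 * s ^ 2)) fun a b => by
    rw [h.sq h2, mul_add, map_add, map_add]; abel
  have D' : Dat e f C (up (γ 1) * g) σ ρ' (fun _ => 0) := by
    refine ⟨fun z => ?_, fun c hc => ?_, fun s => ?_, fun s => C.add_mem (D.rc _) (h.dC _)⟩
    · rw [mul_smul, D.ee, h.up_e]
    · rw [mul_smul, D.cc c hc, smul_add, h.up_c _ c hc, h.up_e]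
    · rw [mul_smul, D.ff, smul_add, smul_add, h.up_f, h.up_c _ _ (D.rc s), h.up_e, hl s, map_zero, add_zero]
      show f s + e (γ 1 * s) + d (γ 1 * s ^ 2) + ρ s + e (γ 1 * s) = f s + (ρ s + d (γ 1 * s ^ 2))
      have e1 : f s + e (γ 1 * s) + d (γ 1 * s ^ 2) + ρ s + e (γ 1 * s)
          = f s + (ρ s + d (γ 1 * s ^ 2)) + (e (γ 1 * s) + e (γ 1 * s)) := by abel
      rw [e1, h2, add_zero]
  have hg' : up (γ 1) * g ∉ rt up := fun hm => hg ((Subgroup.mul_mem_cancel_left _ (up_mem _)).1 hm)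
  by_cases hs : ∃ c1 ∈ C, σ c1 ≠ 0
  · obtain ⟨c1, hc1, hs⟩ := hs
    refine h.false_of h2 hf hno hd h4 D' (fun z => ?_) hc1 hs
    have e1 := D.cc _ (h.dC z)
    rw [gd] at e1
    have e2 : e (σ (d z)) + f 0 + 0 = e 0 + f 0 + 0 := by
      rw [map_zero, map_zero, add_zero, add_zero, add_zero, add_zero]
      exact (left_eq_add.1 e1)
    exact (h.uniq C.zero_mem C.zero_mem e2).1
  · push Not at hs
    refine hg' (h.memK h2 hf hno D'.ee (fun c hc => ?_) fun z => ?_)
    · rw [D'.cc c hc, hs c hc, map_zero, add_zero]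
    · refine ⟨0, ρ' z, D'.rc z, ?_⟩
      rw [D'.ff, map_zero, add_zero, zero_add]

end lin

end gam

end Cfsg.Agent.Omega.NOThreeL.RRed.Blk.GamD

end

section


/-!
# NO-3L, box R: THEOREM TYPES for nonsplit blocks (helper855, #26560), abstract part (T3n)

As `Dt`, `Bd` (`TypesAbs.lean`), for a nonsplit block `M_b = L + L⁻ + Δ`, `Δ ≤ C`: `M = N ⊕ C` as a `τ`-module,
`N = L ⊕ L⁻` (not `D`-invariant), `[M, D] ≥ L`, `C_M(D) = L + C`.

* `DtN`, `BdN`;
* `DtN.keep` : `B` normalises `C`;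
* `DtN.kill` : if `[M, B] ≤ C`, then `B` centralises `N`.
-/

set_option autoImplicit false
set_option linter.unusedSectionVars false

namespace Cfsg.Agent.Omega.NOThreeL.RRed.Blk.TypesN

open Subgroup
open scoped Pointwise
open Cfsg.Agent.Omega.NOThreeL.RRed.NS (fxd brk mem_fxd)
open Cfsg.Agent.Omega.NOThreeL.RRed.Blk.Types

universe u v

variable {H : Type u} {M : Type v} [Group H] [AddCommGroup M] [DistribMulAction H M]

/-- The data of (T3n): the exact group `D` of `P`, `M = N ⊕ C`, the line `L ≤ N`, the torus element `τ`. -/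
structure DtN (X D : Subgroup H) (L N C : AddSubgroup M) (τ : H) : Prop where
  DX : D ≤ X
  el : El D
  ex : Nat.card M ≤ Nat.card D * Nat.card (fxd D : AddSubgroup M)
  qd : brk M D ≤ fxd D
  fD : (fxd D : AddSubgroup M) ≤ L ⊔ C
  LD : L ≤ brk M D
  CD : C ≤ fxd D
  LN : L ≤ N
  τX : τ ∈ X
  τD : MulAut.conj τ • D = D
  τC : ∀ c ∈ C, τ • c = c
  τL : ∀ r ∈ L, τ • r ∈ L
  τN : ∀ n ∈ N, τ • n ∈ N
  fp : ∀ n ∈ N, τ • n = n → n = 0

/-- The data of (T3n): the exact group `B` of a conjugate of `P'`. -/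
structure BdN (X D B : Subgroup H) (L : AddSubgroup M) : Prop where
  BX : B ≤ X
  el : El B
  ex : Nat.card M ≤ Nat.card B * Nat.card (fxd B : AddSubgroup M)
  qd : brk M B ≤ fxd B
  cm : ∀ d ∈ D, ∀ b ∈ B, d * b = b * d
  BD : brk M B ≤ fxd D
  DB : brk M D ≤ fxd B
  tr : ∀ y ∈ brk M B, y ∈ L → y = 0
  ab : ∀ a ∈ D, (∀ m : M, a • m - m ∈ brk M B) → a = 1

namespace DtN

variable {X D : Subgroup H} {L N C : AddSubgroup M} {τ : H} (S : Sit M X) (T : DtN X D L N C τ)
include T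

theorem τR {r : M} (hr : r ∈ brk M D) : τ • r ∈ brk M D := by
  have h : τ • r ∈ brk M (MulAut.conj τ • D) := by
    have h1 : brk M D ≤ (brk M (MulAut.conj τ • D)).comap (DistribSMul.toAddMonoidHom M τ) := by
      apply brk_le
      intro a ha v
      rw [AddSubgroup.mem_comap, DistribSMul.toAddMonoidHom_apply, smul_sub]
      have h2 : τ * a * τ⁻¹ ∈ MulAut.conj τ • D := by rw [mem_cj]; convert ha using 1; group
      have h3 := sub_mem_brk (M := M) h2 (τ • v)
      have e : (τ * a * τ⁻¹) • τ • v = τ • a • v := by rw [← mul_smul, ← mul_smul]; congr 1; group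
      rw [e] at h3
      exact h3
    exact h1 hr
  rwa [T.τD] at h

theorem τR' {r : M} (hr : r ∈ brk M D) : τ⁻¹ • r ∈ brk M D := by
  rw [← T.τD] at hr
  exact brk_cj hr

theorem τF {m : M} (hm : m ∈ (fxd D : AddSubgroup M)) : τ • m ∈ (fxd D : AddSubgroup M) := by
  rw [← T.τD, fxd_cj, inv_smul_smul]; exact hm

theorem τC' {c : M} (hc : c ∈ C) : τ⁻¹ • c = c := by rw [inv_smul_eq_iff, T.τC c hc]

theorem key {B : Subgroup H} (hB : BdN X D B L) {x : M} (hx : x ∈ (fxd D : AddSubgroup M)) (hxB : x ∈ (fxd B : AddSubgroup M)) :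
    τ • x ∈ (fxd B : AddSubgroup M) ∧ τ⁻¹ • x ∈ (fxd B : AddSubgroup M) := by
  obtain ⟨r, hrL, c, hc, rfl⟩ := AddSubgroup.mem_sup.1 (T.fD hx)
  have hr := T.LD hrL
  have h1 : τ • (r + c) = (r + c) + (τ • r - r) := by rw [smul_add, T.τC c hc]; abel
  have h2 : τ⁻¹ • (r + c) = (r + c) + (τ⁻¹ • r - r) := by rw [smul_add, T.τC' hc]; abel
  rw [h1, h2]
  exact ⟨add_mem hxB (sub_mem (hB.DB (T.τR hr)) (hB.DB hr)),
    add_mem hxB (sub_mem (hB.DB (T.τR' hr)) (hB.DB hr))⟩

theorem brk_cjB {B : Subgroup H} (hB : BdN X D B L) {y : M} (hy : y ∈ brk M (MulAut.conj τ • B)) :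
    y ∈ (fxd B : AddSubgroup M) ∧ y ∈ (fxd D : AddSubgroup M) := by
  have h1 := brk_cj hy
  have e : y = τ • τ⁻¹ • y := (smul_inv_smul _ _).symm
  rw [e]
  exact ⟨(T.key hB (hB.BD h1) (hB.qd h1)).1, T.τF (hB.BD h1)⟩

include S

/-- `B` and `B^τ` commute. -/
theorem commB {B : Subgroup H} (hB : BdN X D B L) : ∀ b ∈ B, ∀ b' ∈ MulAut.conj τ • B, b * b' = b' * b := by
  intro b hb b' hb'
  refine S.comm_of (hB.BX hb) (S.cj_le T.τX hB.BX hb') (fun m => ?_) fun m => ?_
  · have h1 := sub_mem_brk (M := M) hb m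
    have h2 := (T.key hB (hB.BD h1) (hB.qd h1)).2
    exact mem_fxd.1 ((fxd_cj τ B).2 h2) b' hb'
  · exact mem_fxd.1 (T.brk_cjB hB (sub_mem_brk hb' m)).1 b hb

theorem commD {B : Subgroup H} (hB : BdN X D B L) : ∀ d ∈ D, ∀ b' ∈ MulAut.conj τ • B, d * b' = b' * d := by
  intro d hd b' hb'
  have h1 : τ⁻¹ * d * τ ∈ D := by
    have h2 : d ∈ MulAut.conj τ • D := by rw [T.τD]; exact hd
    exact mem_cj.1 h2
  have h3 := hB.cm _ h1 _ (mem_cj.1 hb')
  calc d * b' = τ * (τ⁻¹ * d * τ * (τ⁻¹ * b' * τ)) * τ⁻¹ := by group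
    _ = τ * (τ⁻¹ * b' * τ * (τ⁻¹ * d * τ)) * τ⁻¹ := by rw [h3]
    _ = b' * d := by group

theorem inf_eq {B : Subgroup H} (hB : BdN X D B L) : D ⊓ B = ⊥ := by
  rw [eq_bot_iff]
  intro x hx
  rw [mem_bot]
  exact hB.ab x (mem_inf.1 hx).1 fun m => sub_mem_brk (mem_inf.1 hx).2 m

/-- `B^τ ≤ D B` -/
theorem cj_le [Finite H] [Finite M] {B : Subgroup H} (hB : BdN X D B L) : MulAut.conj τ • B ≤ D ⊔ B := by
  have h1 : El (D ⊔ B) := T.el.sup hB.el hB.cm
  have h2 : ∀ x ∈ D ⊔ B, ∀ b' ∈ MulAut.conj τ • B, x * b' = b' * x := by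
    intro x hx b' hb'
    obtain ⟨d, hd, b, hb, rfl⟩ := (mem_sup_comm hB.cm).1 hx
    calc d * b * b' = d * (b * b') := by group
      _ = d * (b' * b) := by rw [commB S T hB b hb b' hb']
      _ = (d * b') * b := by group
      _ = (b' * d) * b := by rw [commD S T hB d hd b' hb']
      _ = b' * (d * b) := by group
  have h3 : (D ⊔ B) ⊔ MulAut.conj τ • B = D ⊔ B := by
    refine S.eq_of_le (sup_le (sup_le T.DX hB.BX) (S.cj_le T.τX hB.BX)) (h1.sup (hB.el.cj τ) h2) le_sup_left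
      (Sit.exact_sup hB.cm (inf_eq S T hB) T.ex hB.ex) ?_
    intro m hm
    refine mem_fxd_sup hm ?_
    have hmD : m ∈ (fxd D : AddSubgroup M) := mem_fxd.2 fun d hd => mem_fxd.1 hm d (mem_sup_left hd)
    have hmB : m ∈ (fxd B : AddSubgroup M) := mem_fxd.2 fun b hb => mem_fxd.1 hm b (mem_sup_right hb)
    exact (fxd_cj τ B).2 (T.key hB hmD hmB).2
  rw [← h3]; exact le_sup_right

/-- **(T3), first half.** `B` normalises `C`. -/
theorem keep [Finite H] [Finite M] {B : Subgroup H} (hB : BdN X D B L) {b : H} (hb : b ∈ B) {c : M} (hc : c ∈ C) :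
    b • c ∈ C := by
  have h1 : τ * b * τ⁻¹ ∈ D ⊔ B := by
    refine cj_le S T hB ?_
    rw [mem_cj]; convert hb using 1; group
  obtain ⟨d, hd, b₁, hb₁, e⟩ := (mem_sup_comm hB.cm).1 h1
  have hy := sub_mem_brk (M := M) hb c
  obtain ⟨r, hr, c₀, hc₀, ey⟩ := AddSubgroup.mem_sup.1 (T.fD (hB.BD hy))
  have h2 : τ • (b • c - c) = b₁ • c - c := by
    have e1 : τ • (b • c) = (τ * b * τ⁻¹) • c := by
      rw [mul_smul, mul_smul, T.τC' hc]
    rw [smul_sub, T.τC c hc, e1, ← e, mul_smul]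
    congr 1
    have h3 : b₁ • c ∈ (fxd D : AddSubgroup M) := by
      have e2 : b₁ • c = (b₁ • c - c) + c := by abel
      rw [e2]
      exact add_mem (hB.BD (sub_mem_brk hb₁ c)) (T.CD hc)
    exact mem_fxd.1 h3 d hd
  have h4 : τ • r - r = 0 := by
    apply hB.tr
    · have e3 : τ • r - r = (b₁ • c - c) - (b • c - c) := by
        rw [← h2, ← ey, smul_add, T.τC c₀ hc₀]; abel
      rw [e3]
      exact sub_mem (sub_mem_brk hb₁ c) hy
    · exact sub_mem (T.τL r hr) hr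
  have h5 : r = 0 := T.fp r (T.LN hr) (sub_eq_zero.1 h4)
  rw [h5, zero_add] at ey
  have e4 : b • c = (b • c - c) + c := by abel
  rw [e4, ← ey]
  exact add_mem hc₀ hc

/-- **(T3), second half.** If `[M, B] ≤ C`, then `B` centralises `N`. -/
theorem kill [Finite H] [Finite M] {B : Subgroup H} (hB : BdN X D B L) (hBC : brk M B ≤ C) {b : H} (hb : b ∈ B) {n : M}
    (hn : n ∈ N) : b • n = n := by
  have hb' : τ * b * τ⁻¹ ∈ MulAut.conj τ • B := by rw [mem_cj]; convert hb using 1; group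
  have hcb := commB S T hB b hb _ hb'
  -- `u` commutes with `D`, fixes `fxd D`
  have hfix : ∀ m ∈ (fxd D : AddSubgroup M), b • (τ * b * τ⁻¹) • m = m := by
    intro m hm
    obtain ⟨r, hrL, c, hc, rfl⟩ := AddSubgroup.mem_sup.1 (T.fD hm)
    have hr := T.LD hrL
    have e1 : (τ * b * τ⁻¹) • r = r := by
      rw [mul_smul, mul_smul, mem_fxd.1 (hB.DB (T.τR' hr)) b hb, smul_inv_smul]
    have e2 : (τ * b * τ⁻¹) • c = b • c := by
      rw [mul_smul, mul_smul, T.τC' hc]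
      exact T.τC _ (keep S T hB hb hc)
    rw [smul_add, e1, e2, smul_add, mem_fxd.1 (hB.DB hr) b hb, hB.el.smul_smul hb]
  have hzu : b * (τ * b * τ⁻¹) ∈ D := by
    have hel : El (zpowers (b * (τ * b * τ⁻¹))) := by
      have hsq : b * (τ * b * τ⁻¹) * (b * (τ * b * τ⁻¹)) = 1 := by
        calc b * (τ * b * τ⁻¹) * (b * (τ * b * τ⁻¹)) = b * ((τ * b * τ⁻¹) * b) * (τ * b * τ⁻¹) := by group
          _ = b * (b * (τ * b * τ⁻¹)) * (τ * b * τ⁻¹) := by rw [hcb]
          _ = (b * b) * (τ * (b * b) * τ⁻¹) := by group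
          _ = 1 := by rw [hB.el.sq b hb]; group
      constructor
      · rintro x ⟨k, rfl⟩
        calc (b * (τ * b * τ⁻¹)) ^ k * (b * (τ * b * τ⁻¹)) ^ k = (b * (τ * b * τ⁻¹) * (b * (τ * b * τ⁻¹))) ^ k := by
              rw [← zpow_add, ← pow_two, ← zpow_natCast, ← zpow_mul]; congr 1; push_cast; ring
          _ = 1 := by rw [hsq, one_zpow]
      · rintro x ⟨k, rfl⟩ y ⟨l, rfl⟩
        exact ((Commute.refl _).zpow_zpow k l).eq
    have hcd : ∀ d ∈ D, ∀ x ∈ zpowers (b * (τ * b * τ⁻¹)), d * x = x * d := by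
      rintro d hd x ⟨k, rfl⟩
      have h1 : Commute d (b * (τ * b * τ⁻¹)) :=
        Commute.mul_right (hB.cm d hd b hb) (commD S T hB d hd _ hb')
      exact (h1.zpow_right k).eq
    have h1 : D ⊔ zpowers (b * (τ * b * τ⁻¹)) = D := by
      refine S.eq_of_le (sup_le T.DX ?_) (T.el.sup hel hcd) le_sup_left T.ex ?_
      · rw [zpowers_le]
        exact mul_mem (hB.BX hb) (S.cj_le T.τX hB.BX hb')
      · intro m hm
        refine mem_fxd_sup hm (mem_fxd.2 ?_)
        rintro x ⟨k, rfl⟩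
        have h2 : b * (τ * b * τ⁻¹) ∈ MulAction.stabilizer H m := by
          rw [MulAction.mem_stabilizer_iff, mul_smul]; exact hfix m hm
        exact MulAction.mem_stabilizer_iff.1 (zpow_mem h2 k)
    rw [← h1]
    exact mem_sup_right (mem_zpowers _)
  have hu1 : b * (τ * b * τ⁻¹) = 1 := by
    refine hB.ab _ hzu fun m => ?_
    have h1 := sub_mem_brk (M := M) hb (((τ * b * τ⁻¹)) • m)
    have h2 := brk_cj (sub_mem_brk (M := M) hb' m)
    have h3 : (τ * b * τ⁻¹) • m - m ∈ brk M B := by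
      have e : (τ * b * τ⁻¹) • m - m = τ • τ⁻¹ • ((τ * b * τ⁻¹) • m - m) := (smul_inv_smul _ _).symm
      rw [e, T.τC _ (hBC h2)]; exact h2
    have e : (b * (τ * b * τ⁻¹)) • m - m = (b • (τ * b * τ⁻¹) • m - (τ * b * τ⁻¹) • m) + ((τ * b * τ⁻¹) • m - m) := by
      rw [mul_smul b]; abel
    rw [e]
    exact add_mem h1 h3
  have hcomm : τ * b = b * τ := by
    have h1 : τ * b * τ⁻¹ = b := by
      have h2 : b * (τ * b * τ⁻¹) = b * b := by rw [hu1, hB.el.sq b hb]
      exact mul_left_cancel h2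
    calc τ * b = (τ * b * τ⁻¹) * τ := by group
      _ = b * τ := by rw [h1]
  have hz : ∀ m ∈ N, b • (τ • m - m) = τ • m - m := by
    intro m _
    have e1 : b • τ • m - τ • m = τ • (b • m - m) := by
      rw [smul_sub, ← mul_smul, ← mul_smul, hcomm]
    rw [T.τC _ (hBC (sub_mem_brk hb m))] at e1
    rw [smul_sub]
    have e2 : b • τ • m = τ • m + (b • m - m) := by rw [← e1]; abel
    rw [e2]; abel
  -- `τ - 1` is onto on `N`
  have hsur : Function.Surjective (fun m : N => (⟨τ • (m : M) - m, sub_mem (T.τN _ m.2) m.2⟩ : N)) := by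
    refine Finite.surjective_of_injective ?_
    rintro ⟨x, hx⟩ ⟨y, hy⟩ e
    have e1 : τ • x - x = τ • y - y := congrArg Subtype.val e
    have e2 : τ • (x - y) = x - y := by
      rw [smul_sub, sub_eq_sub_iff_add_eq_add]
      rw [sub_eq_sub_iff_add_eq_add] at e1
      rw [e1]; abel
    have e3 := T.fp _ (sub_mem hx hy) e2
    exact Subtype.ext (sub_eq_zero.1 e3)
  obtain ⟨m, hm⟩ := hsur ⟨n, hn⟩
  have hm' : τ • (m : M) - m = n := congrArg Subtype.val hm
  rw [← hm']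
  exact hz _ m.2

end DtN

end Cfsg.Agent.Omega.NOThreeL.RRed.Blk.TypesN

end
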