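import Cfsg.Agent.Mrg.Omega.NOThreeL.RRed.Blk.AsmNDef
import Cfsg.Agent.Mrg.Omega.NOThreeL.RRed.Blk.AsmSL
import Cfsg.Agent.Mrg.Omega.NOThreeL.RRed.Blk.TypesAway

section


/-!
# NO-3L, box R, nonsplit blocks: the field `bad` on one block (helper502, #26560, #27278)

`α : V ≃+ V` of odd order, `φ : X → X` compatible with it; `α` normalises the root group, the line, the radical, the
complement and the block, fixes a vector with nonzero line component, and `[a, α]` centralises `[m, α]`.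

* **`BkD.bad`**, **`NBd.bad`** : then `α` is trivial on the block.
-/

set_option autoImplicit false
set_option linter.unusedSectionVars false

namespace Cfsg.Agent.Omega.NOThreeL.RRed.Blk.GamD

open Cfsg.Agent.Omega.NOThreeL.RRed.Blk.TypesGam (rt up_mem)

universe u v w

section

variable {X : Type u} {V : Type v} [Group X] [AddCommGroup V] [DistribMulAction X V]
variable {F : Type w} [Field F] {e f d : F →+ V} {C : AddSubgroup V} {up lo : F → X}

/-- components of an element of the block -/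
theorem mem_blkD {v : V} (hv : v ∈ e.range ⊔ f.range ⊔ d.range) : ∃ x y z, v = e x + f y + d z := by
  obtain ⟨w, hw, c, ⟨z, rfl⟩, rfl⟩ := AddSubgroup.mem_sup.1 hv
  obtain ⟨a, ⟨x, rfl⟩, b, ⟨y, rfl⟩, rfl⟩ := AddSubgroup.mem_sup.1 hw
  exact ⟨x, y, z, rfl⟩

/-- **`bad` on one block** -/
theorem BkD.bad (h : BkD e f d C up lo) (h2 : ∀ v : V, v + v = 0) (hf : ∀ x : X, (∀ v : V, x • v = v) → x = 1)
    (α : V ≃+ V) (φ : X → X) (ha : ∀ x v, φ x • α v = α (x • v)) {n : ℕ} (hn : Odd n) (hαn : ∀ v, (α^[n]) v = v)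
    (hA : ∀ a ∈ rt up, φ a ∈ rt up) (hL : ∀ x, α (e x) ∈ e.range)
    (hN : ∀ x, α (f x) ∈ e.range ⊔ f.range ⊔ d.range) (hC : ∀ c ∈ C, α c ∈ C) (hZ : ∀ x, α (d x) ∈ d.range)
    {v₀ : V} {x₀ : F} (h0 : x₀ ≠ 0) (hv : v₀ - e x₀ ∈ C) (hfix : α v₀ = v₀)
    (hcom : ∀ a ∈ rt up, ∀ m ∈ e.range ⊔ f.range ⊔ d.range, (a * (φ a)⁻¹) • (α m - m) = α m - m) :
    ∀ m ∈ e.range ⊔ f.range ⊔ d.range, α m = m := by
  have hF : ∀ x : F, x + x = 0 := h.two h2
  have hneg : ∀ v : V, -v = v := fun v => (eq_neg_of_add_eq_zero_left (h2 v)).symm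
  have hnegF : ∀ x : F, -x = x := fun x => (eq_neg_of_add_eq_zero_left (hF x)).symm
  choose χ hχ using hL
  choose ζ hζ using hZ
  have hN' : ∀ x, ∃ a b c, α (f x) = e a + f b + d c := fun x => mem_blkD (hN x)
  choose a ψ b hψ using hN'
  have hτ : ∀ t, ∃ s, up s = φ (up t) := fun t => (h.mem_rt h2 hf).1 (hA _ (up_mem t))
  choose τ hτ using hτ
  -- the relation
  have rel : ∀ t y, χ (t * y) = τ t * ψ y ∧ α (d (t * y ^ 2)) = d (τ t * ψ y ^ 2) := by
    intro t y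
    have e1 := ha (up t) (f y)
    rw [← hτ, hψ, smul_add, smul_add, h.up_e, h.up_f, h.up_c _ _ (h.dC _), h.up_f, map_add, map_add, hψ, ← hχ] at e1
    have e2 : e (τ t * ψ y) + d (τ t * ψ y ^ 2) = e (χ (t * y)) + α (d (t * y ^ 2)) := by
      have e3 : e (a y) + f (ψ y) + d (b y) + (e (τ t * ψ y) + d (τ t * ψ y ^ 2)) =
          e (a y) + f (ψ y) + d (b y) + (e (χ (t * y)) + α (d (t * y ^ 2))) := by
        calc _ = e (a y) + (f (ψ y) + e (τ t * ψ y) + d (τ t * ψ y ^ 2)) + d (b y) := by abel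
          _ = _ := by rw [e1]; abel
      exact add_left_cancel e3
    have e4 : e (τ t * ψ y) + f 0 + d (τ t * ψ y ^ 2) = e (χ (t * y)) + f 0 + α (d (t * y ^ 2)) := by
      rw [map_zero, add_zero, add_zero]; exact e2
    obtain ⟨h5, -, h6⟩ := h.uniq (h.dC _) (hC _ (h.dC _)) e4
    exact ⟨h5.symm, h6.symm⟩
  -- the commutator condition
  have com : ∀ t y, (t + τ t) * (y + ψ y) = 0 := by
    intro t y
    have e1 := hcom (up t) (up_mem t) (f y)
      (AddSubgroup.mem_sup_left (AddSubgroup.mem_sup_right ⟨y, rfl⟩))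
    have e2 : α (f y) - f y = e (a y) + f (y + ψ y) + d (b y) := by
      rw [hψ, sub_eq_add_neg, hneg, map_add]; abel
    rw [← hτ, h.up_inv h2 hf, h.up_add hf, e2, smul_add, smul_add, h.up_e, h.up_f, h.up_c _ _ (h.dC _)] at e1
    have e3 : e (a y) + f (y + ψ y) + d (b y) + (e ((t + τ t) * (y + ψ y)) + d ((t + τ t) * (y + ψ y) ^ 2)) =
        e (a y) + f (y + ψ y) + d (b y) + 0 := by
      rw [add_zero]
      refine Eq.trans ?_ e1
      abel
    have e4 := add_left_cancel e3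
    have e5 : e ((t + τ t) * (y + ψ y)) + f 0 + d ((t + τ t) * (y + ψ y) ^ 2) = e 0 + f 0 + 0 := by
      rw [map_zero, map_zero, add_zero, add_zero, add_zero]; exact e4
    exact (h.uniq (h.dC _) (C.zero_mem) e5).1
  -- `χ x₀ = x₀`
  have hx0 : χ x₀ = x₀ := by
    have e1 : e (χ x₀) + f 0 + α (v₀ - e x₀) = e x₀ + f 0 + (v₀ - e x₀) := by
      rw [map_sub, hfix, ← hχ]; abel
    exact (h.uniq (hC _ hv) hv e1).1
  have key : (∀ y, ψ y = y) ∧ (∀ t, τ t = t) ∧ ∀ x, χ x = x := by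
    have hor : (∀ t, τ t = t) ∨ ∀ y, ψ y = y := by
      by_contra hc
      push Not at hc
      obtain ⟨⟨t, ht⟩, y, hy⟩ := hc
      rcases mul_eq_zero.1 (com t y) with h5 | h5
      · exact ht (by rw [add_comm] at h5; rw [eq_neg_of_add_eq_zero_left h5, hnegF])
      · exact hy (by rw [add_comm] at h5; rw [eq_neg_of_add_eq_zero_left h5, hnegF])
    rcases hor with h5 | h5
    · have h6 : ∀ y, χ y = ψ y := fun y => by
        have := (rel 1 y).1
        rwa [h5, one_mul, one_mul] at this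
      have h7 : ∀ t, ψ t = t * ψ 1 := fun t => by
        have := (rel t 1).1
        rwa [h5, mul_one, h6] at this
      have h8 : ψ 1 = 1 := by
        have h9 := hx0
        rw [h6, h7] at h9
        exact mul_left_cancel₀ h0 (h9.trans (mul_one _).symm)
      have h9 : ∀ t, ψ t = t := fun t => by rw [h7, h8, mul_one]
      exact ⟨h9, h5, fun x => by rw [h6, h9]⟩
    · have h6 : ∀ t, χ t = τ t := fun t => by
        have := (rel t 1).1
        rwa [h5, mul_one, mul_one] at this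
      have h7 : ∀ y, τ y = τ 1 * y := fun y => by
        have := (rel 1 y).1
        rwa [h5, one_mul, h6] at this
      have h8 : τ 1 = 1 := by
        have h9 := hx0
        rw [h6, h7] at h9
        exact mul_right_cancel₀ h0 (h9.trans (one_mul _).symm)
      have h9 : ∀ t, τ t = t := fun t => by rw [h7, h8, one_mul]
      exact ⟨h5, h9, fun x => by rw [h6, h9]⟩
  obtain ⟨k1, k2, k3⟩ := key
  have ke : ∀ x, α (e x) = e x := fun x => by rw [← hχ, k3]
  have kd : ∀ x, α (d x) = d x := fun x => by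
    have := (rel x 1).2
    rwa [k1, k2, one_pow, mul_one] at this
  have kf : ∀ x, α (f x) = f x + (e (a x) + d (b x)) := fun x => by rw [hψ, k1]; abel
  have k22 : ∀ m ∈ e.range ⊔ f.range ⊔ d.range, α (α m) = m := by
    intro m hm
    obtain ⟨x, y, z, rfl⟩ := mem_blkD hm
    have e1 : α (e x + f y + d z) = e x + f y + d z + (e (a y) + d (b y)) := by
      rw [map_add, map_add, ke, kd, kf]; abel
    rw [e1, map_add, e1, map_add, ke, kd, add_assoc, h2, add_zero]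
  -- odd order
  obtain ⟨k, rfl⟩ := hn
  intro m hm
  have k4 : ∀ j : ℕ, (α^[2 * j]) m = m := by
    intro j
    induction j with
    | zero => rfl
    | succ j ih =>
      rw [mul_add, mul_one, Function.iterate_add_apply]
      show (α^[2 * j]) (α (α m)) = m
      rw [k22 m hm, ih]
  have k5 : α ((α^[2 * k]) m) = m := (Function.iterate_succ_apply' α (2 * k) m).symm.trans (hαn m)
  rwa [k4] at k5

end

end Cfsg.Agent.Omega.NOThreeL.RRed.Blk.GamD

namespace Cfsg.Agent.Omega.NOThreeL.RRed.Blk.AsmN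

open Cfsg.Agent.Omega.NOThreeL.RRed.Blk.TypesGam (rt)
open Cfsg.Agent.Omega.NOThreeL.RRed.Blk.GamD (BkD)

universe u v

variable {X : Type u} {V : Type v} [Group X] [AddCommGroup V] [DistribMulAction X V]

/-- **`bad` on one block** -/
theorem NBd.bad {D : Subgroup X} {N C L Z : AddSubgroup V} (h : NBd D N C L Z) (h2 : ∀ v : V, v + v = 0)
    (hf : ∀ x : X, (∀ v : V, x • v = v) → x = 1) (α : V ≃+ V) (φ : X → X) (ha : ∀ x v, φ x • α v = α (x • v))
    {n : ℕ} (hn : Odd n) (hαn : ∀ v, (α^[n]) v = v) (hA : ∀ a ∈ D, φ a ∈ D) (hL : ∀ x ∈ L, α x ∈ L)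
    (hN : ∀ x ∈ N, α x ∈ N) (hC : ∀ c ∈ C, α c ∈ C) (hZ : ∀ x ∈ Z, α x ∈ Z) {v₀ : V}
    (hv : ∃ x ∈ L, x ≠ 0 ∧ v₀ - x ∈ C) (hfix : α v₀ = v₀)
    (hcom : ∀ a ∈ D, ∀ m ∈ N, (a * (φ a)⁻¹) • (α m - m) = α m - m) : ∀ m ∈ N, α m = m := by
  obtain ⟨F, _, _, e, f, d, up, lo, hB, rfl, rfl, rfl, rfl⟩ := h.ex
  obtain ⟨_, ⟨x₀, rfl⟩, h0, hv⟩ := hv
  refine hB.bad h2 hf α φ ha hn hαn hA (fun x => hL _ ⟨x, rfl⟩) (fun x => hN _ ?_) hC (fun x => hZ _ ⟨x, rfl⟩)
    (fun hc => h0 (by rw [hc, map_zero])) hv hfix hcom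
  exact AddSubgroup.mem_sup_left (AddSubgroup.mem_sup_right ⟨x, rfl⟩)

end Cfsg.Agent.Omega.NOThreeL.RRed.Blk.AsmN

end

section


/-!
# NO-3L, box R: nonsplit natural blocks (helper855, #26560), (T3n), abstract form over `TypesN.DtN`

`V = N ⊕ C`, `L ≤ N`, `A` exact with `C_V(A) = L + C`, `E` generated by `E`-conjugates of `A`, `[V, E] ≤ W`, `C_V(E) ≤ C`.
`K` is generated by `K`-conjugates of exact groups `B ∈ B₀` which centralise `W`; `A` centralises `[V, K]`.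

* **`DtN.away`** : `K` centralises `N`, `A` and `[V, A]`; `[V, K] ≤ C`.
-/

set_option autoImplicit false
set_option linter.unusedSectionVars false

namespace Cfsg.Agent.Omega.NOThreeL.RRed.Blk.TThreeN

open Subgroup
open scoped Pointwise
open Cfsg.Agent.Omega.NOThreeL.RRed.NS (fxd brk mem_fxd)
open Cfsg.Agent.Omega.NOThreeL.RRed.Blk.Types Cfsg.Agent.Omega.NOThreeL.RRed.Blk.TypesN

universe u v

variable {X : Type u} {V : Type v} [Group X] [AddCommGroup V] [DistribMulAction X V]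

theorem brkMono {A B : Subgroup X} (h : A ≤ B) : brk V A ≤ brk V B := brk_le fun _ ha m => sub_mem_brk (h ha) m

theorem card_fxd_conj (x : X) (A : Subgroup X) :
    Nat.card (fxd (MulAut.conj x • A) : AddSubgroup V) = Nat.card (fxd A : AddSubgroup V) := by
  refine Nat.card_congr ⟨fun m => ⟨x⁻¹ • m.1, (fxd_cj x A).1 m.2⟩, fun m => ⟨x • m.1, (fxd_cj x A).2 ?_⟩, fun m => ?_,
    fun m => ?_⟩
  · rw [inv_smul_smul]; exact m.2
  · exact Subtype.ext (smul_inv_smul _ _)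
  · exact Subtype.ext (inv_smul_smul _ _)

/-- **(T3n)** -/
theorem away [Finite X] [Finite V] (S : Sit V (⊤ : Subgroup X)) {A E : Subgroup X} {L N C W : AddSubgroup V} {τ : X}
    (T : DtN ⊤ A L N C τ) (NC : ∀ m ∈ N, m ∈ C → m = 0) (sep : ∀ a ∈ A, (∀ m : V, a • m - m ∈ C) → a = 1) (AE : A ≤ E)
    (EW : brk V E ≤ W) (EC : (fxd E : AddSubgroup V) ≤ C)
    (genE : E ≤ closure {x | ∃ g ∈ E, ∃ a ∈ A, x = g * a * g⁻¹}) {K : Subgroup X} {B₀ : Set (Subgroup X)}
    (hel : ∀ B ∈ B₀, El B) (hex : ∀ B ∈ B₀, Nat.card V ≤ Nat.card B * Nat.card (fxd B : AddSubgroup V))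
    (hqd : ∀ B ∈ B₀, brk V B ≤ fxd B) (hBK : ∀ B ∈ B₀, B ≤ K) (hBW : ∀ B ∈ B₀, ∀ b ∈ B, ∀ n ∈ W, b • n = n)
    (hAK : ∀ a ∈ A, ∀ m ∈ brk V K, a • m = m)
    (gen : K ≤ closure {x | ∃ g ∈ K, ∃ B ∈ B₀, ∃ b ∈ B, x = g * b * g⁻¹}) :
    (∀ k ∈ K, ∀ n ∈ N, k • n = n) ∧ (∀ k ∈ K, ∀ n ∈ brk V A, k • n = n) ∧ brk V K ≤ C ∧
      ∀ k ∈ K, ∀ a ∈ A, k * a = a * k := by
  have hKA : brk V K ≤ fxd A := fun m hm => mem_fxd.2 fun a ha => hAK a ha m hm
  have hAW : brk V A ≤ W := (brkMono AE).trans EW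
  have hcm0 : ∀ B ∈ B₀, ∀ b ∈ B, ∀ a ∈ A, b * a = a * b := by
    intro B hB b hb a ha
    refine S.comm_of (mem_top _) (mem_top _) (fun m => ?_) fun m => ?_
    · exact hAK a ha _ (brkMono (hBK B hB) (sub_mem_brk hb m))
    · exact hBW B hB b hb _ (hAW (sub_mem_brk ha m))
  -- (1) `[V, B] ≤ C`
  have hBC0 : ∀ B ∈ B₀, brk V B ≤ C := by
    intro B hB
    have h1 := S.cent (D := B) (K := E) le_top (hel B hB) (hex B hB) (hqd B hB) le_top
      (fun m hm => mem_fxd.2 fun b hb => hBW B hB b hb m (EW hm)) (genE.trans (by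
        rw [closure_le]
        rintro _ ⟨g, hg, a, ha, rfl⟩
        exact subset_closure ⟨g, hg, a, fun b hb => (hcm0 B hB b hb a ha).symm, rfl⟩))
    exact h1.2.trans EC
  -- (2) `K` centralises `A` and `[V, A]`
  obtain ⟨hKc, hAfK⟩ := S.cent (D := A) (K := K) le_top T.el T.ex T.qd le_top hKA
    (gen.trans (by
      apply Subgroup.closure_mono
      rintro x ⟨g, hg, B, hB, b, hb, rfl⟩
      exact ⟨g, hg, b, fun d hd => hcm0 B hB b hb d hd, rfl⟩))
  -- (3) the conjugates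
  have hback : ∀ g ∈ K, ∀ B ∈ B₀, ∀ y ∈ brk V (MulAut.conj g • B), y ∈ brk V A → y ∈ C := by
    intro g hg B hB y hy hyA
    have h1 := brk_cj hy
    have h2 : g⁻¹ • y = y := mem_fxd.1 (hAfK hyA) _ (inv_mem hg)
    rw [h2] at h1
    exact hBC0 B hB h1
  have hcjK : ∀ g ∈ K, ∀ B ∈ B₀, MulAut.conj g • B ≤ K := by
    intro g hg B hB x hx
    have h1 := hBK B hB (mem_cj.1 hx)
    have e1 : x = g * (g⁻¹ * x * g) * g⁻¹ := by group
    rw [e1]; exact mul_mem (mul_mem hg h1) (inv_mem hg)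
  have hBd : ∀ g ∈ K, ∀ B ∈ B₀, BdN (⊤ : Subgroup X) A (MulAut.conj g • B) L := by
    intro g hg B hB
    have hle := hcjK g hg B hB
    refine
      { BX := le_top
        el := (hel B hB).cj g
        ex := ?_
        qd := ?_
        cm := fun d hd b hb => (hKc b (hle hb) d hd).symm
        BD := (brkMono hle).trans hKA
        DB := fun m hm => mem_fxd.2 fun b hb => mem_fxd.1 (hAfK hm) b (hle hb)
        tr := fun y hy hy' => NC y (T.LN hy') (hback g hg B hB y hy (T.LD hy'))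
        ab := fun a ha h => sep a ha fun m => hback g hg B hB _ (h m) (sub_mem_brk ha m) }
    · rw [card_cj, card_fxd_conj]
      exact hex B hB
    · intro m hm
      rw [fxd_cj]
      exact hqd B hB (brk_cj hm)
  have hkeep : ∀ k ∈ K, ∀ c ∈ C, k • c ∈ C := by
    have h1 : K ≤ {
        carrier := {x | ∀ c, c ∈ C ↔ x • c ∈ C}
        mul_mem' := fun {a b} ha hb c => by rw [mul_smul, ← ha, ← hb]
        one_mem' := fun c => by rw [one_smul]
        inv_mem' := fun {a} ha c => by rw [ha (a⁻¹ • c), smul_inv_smul] } := by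
      refine gen.trans ((Subgroup.closure_le _).2 ?_)
      rintro x ⟨g, hg, B, hB, b, hb, rfl⟩ c
      have hb' : g * b * g⁻¹ ∈ MulAut.conj g • B := by
        rw [mem_cj]; convert hb using 1; group
      constructor
      · exact fun hc => T.keep S (hBd g hg B hB) hb' hc
      · intro hc
        have h3 := T.keep S (hBd g hg B hB) hb' hc
        have h5 : (g * b * g⁻¹) * (g * b * g⁻¹) = 1 := ((hel B hB).cj g).sq _ hb'
        rw [← mul_smul, h5, one_smul] at h3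
        exact h3
    exact fun k hk c hc => (h1 hk c).1 hc
  have hBC : ∀ g ∈ K, ∀ B ∈ B₀, brk V (MulAut.conj g • B) ≤ C := by
    intro g hg B hB m hm
    have h1 := hkeep g hg _ (hBC0 B hB (brk_cj hm))
    rwa [smul_inv_smul] at h1
  refine ⟨fun k hk n hn => ?_, fun k hk n hn => mem_fxd.1 (hAfK hn) k hk, ?_, fun k hk a ha => hKc k hk a ha⟩
  · have h1 : K ≤ MulAction.stabilizer X n := by
      refine gen.trans ((Subgroup.closure_le _).2 ?_)
      rintro x ⟨g, hg, B, hB, b, hb, rfl⟩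
      have hb' : g * b * g⁻¹ ∈ MulAut.conj g • B := by
        rw [mem_cj]; convert hb using 1; group
      exact MulAction.mem_stabilizer_iff.2 (T.kill S (hBd g hg B hB) (hBC g hg B hB) hb' hn)
    exact MulAction.mem_stabilizer_iff.1 (h1 hk)
  · have h1 : K ≤ {
        carrier := {x | (∀ c, c ∈ C ↔ x • c ∈ C) ∧ ∀ v : V, x • v - v ∈ C}
        mul_mem' := by
          rintro a b ⟨ha, ha'⟩ ⟨hb, hb'⟩
          refine ⟨fun c => by rw [mul_smul, ← ha, ← hb], fun v => ?_⟩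
          have e1 : (a * b) • v - v = a • (b • v - v) + (a • v - v) := by
            rw [mul_smul, smul_sub]; abel
          rw [e1]
          exact add_mem ((ha _).1 (hb' v)) (ha' v)
        one_mem' := ⟨fun c => by rw [one_smul], fun v => by rw [one_smul, sub_self]; exact C.zero_mem⟩
        inv_mem' := by
          rintro a ⟨ha, ha'⟩
          refine ⟨fun c => by rw [ha (a⁻¹ • c), smul_inv_smul], fun v => ?_⟩
          rw [ha]
          have e1 : a • (a⁻¹ • v - v) = -(a • v - v) := by rw [smul_sub, smul_inv_smul]; abel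
          rw [e1]
          exact neg_mem (ha' v) } := by
      refine gen.trans ((Subgroup.closure_le _).2 ?_)
      rintro x ⟨g, hg, B, hB, b, hb, rfl⟩
      have hb' : g * b * g⁻¹ ∈ MulAut.conj g • B := by
        rw [mem_cj]; convert hb using 1; group
      refine ⟨fun c => ⟨fun hc => T.keep S (hBd g hg B hB) hb' hc, fun hc => ?_⟩, fun v =>
        hBC g hg B hB (sub_mem_brk hb' v)⟩
      have h3 := T.keep S (hBd g hg B hB) hb' hc
      have h5 : (g * b * g⁻¹) * (g * b * g⁻¹) = 1 := ((hel B hB).cj g).sq _ hb'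
      rw [← mul_smul, h5, one_smul] at h3
      exact h3
    exact brk_le fun k hk v => (h1 hk).2 v

/-- `[V, K] ≤ C = C_V(E)`, `K` centralises `[V, E]`: `E` and `K` commute. -/
theorem comm [Finite X] [Finite V] (S : Sit V (⊤ : Subgroup X)) {E K : Subgroup X} {C W : AddSubgroup V}
    (EW : brk V E ≤ W) (CE : C ≤ fxd E) (hC : brk V K ≤ C) (hW : ∀ k ∈ K, ∀ n ∈ W, k • n = n) :
    ∀ k ∈ K, ∀ x ∈ E, k * x = x * k := by
  intro k hk x hx
  refine S.comm_of (mem_top _) (mem_top _) (fun m => ?_) fun m => ?_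
  · exact mem_fxd.1 (CE (hC (sub_mem_brk hk m))) x hx
  · exact hW k hk _ (EW (sub_mem_brk hx m))

end Cfsg.Agent.Omega.NOThreeL.RRed.Blk.TThreeN

end

section


/-!
# NO-3L, box R: nonsplit natural blocks (helper855, #26560), (T3n) over `GamD.BkD`

`BkD e f d C up lo` a natural block with radical `d(F) ≤ C`, `|F| > 2`, `M = e(F) + f(F) + d(F)`, `A = rt up`,
`E = clo up lo`.

* `brk_rt` : `[V, A] = e(F) + d(F)`; `fxd_rt` : `C_V(A) = e(F) + C`; `fxd_clo` : `C_V(E) = C`; `brk_clo_eq` : `[V, E] = M`;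
* `dtN` : the data of `TypesAbsN`;
* **`away`** : `K` generated by the `K`-conjugates of exact groups `B ∈ B₀` which centralise `M`, `A` centralises
  `[V, K]`: `K` centralises `M`, `[V, K] ≤ C`, `K` commutes with `E`;
* **`pair`** : two blocks whose root groups centralise each other's `M`.
-/

set_option autoImplicit false
set_option linter.unusedSectionVars false

namespace Cfsg.Agent.Omega.NOThreeL.RRed.Blk.TThreeD

open Subgroup
open scoped Pointwise
open Cfsg.Agent.Omega.NOThreeL.RRed.NS (fxd brk mem_fxd)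
open Cfsg.Agent.Omega.NOThreeL.RRed.Blk.TypesGam (NO rt up_mem hh wt)
open Cfsg.Agent.Omega.NOThreeL.RRed.Blk.TypesClo (clo up_mem_clo lo_mem_clo)
open Cfsg.Agent.Omega.NOThreeL.RRed.Blk.Types (Sit El sub_mem_brk brk_le mem_cj card_cj exists_ne01 rt_le_clo)
open Cfsg.Agent.Omega.NOThreeL.RRed.Blk.TypesN (DtN)
open Cfsg.Agent.Omega.NOThreeL.RRed.Blk.GamD

universe u v w w'

variable {X : Type u} {V : Type v} [Group X] [AddCommGroup V] [DistribMulAction X V]
variable {F : Type w} [Field F] {e f d : F →+ V} {C : AddSubgroup V} {up lo : F → X}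

/-- `C_V(A) = e(F) + C` -/
theorem mem_fxd_rt (h : BkD e f d C up lo) {v : V} :
    v ∈ (fxd (rt up) : AddSubgroup V) ↔ ∃ x, ∃ c ∈ C, v = e x + c := by
  rw [mem_fxd]
  constructor
  · intro hv
    obtain ⟨x, y, c, hc, rfl⟩ := h.dec v
    have h1 := hv _ (up_mem (up := up) 1)
    rw [smul_add, smul_add, h.up_e, h.up_f, h.up_c 1 c hc, one_mul, one_mul] at h1
    have e1 : e (x + y) + f y + (d (y ^ 2) + c) = e x + f y + c := by
      rw [map_add, ← h1]; abel
    have e3 := (h.uniq (add_mem (h.dC _) hc) hc e1).1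
    have hy : y = 0 := by simpa using e3
    refine ⟨x, c, hc, ?_⟩
    rw [hy, map_zero, add_zero]
  · rintro ⟨x, c, hc, rfl⟩ a ha
    have h1 : rt up ≤ MulAction.stabilizer X (e x + c) := by
      rw [rt, closure_le]
      rintro _ ⟨t, rfl⟩
      rw [SetLike.mem_coe, MulAction.mem_stabilizer_iff, smul_add, h.up_e, h.up_c t c hc]
    exact MulAction.mem_stabilizer_iff.1 (h1 ha)

/-- `e(F) + d(F) ≤ [V, A]` if `|F| > 2` -/
theorem le_brk_rt (h : BkD e f d C up lo) (h2 : ∀ v : V, v + v = 0) {c : F} (hc0 : c ≠ 0) (hc1 : c ≠ 1) :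
    e.range ⊔ d.range ≤ brk V (rt up) := by
  have key : ∀ t s : F, t ≠ 0 → e s + d (t⁻¹ * s ^ 2) ∈ brk V (rt up) := by
    intro t s ht
    have h1 := sub_mem_brk (M := V) (up_mem (up := up) t) (f (t⁻¹ * s))
    rw [h.up_f, mul_inv_cancel_left₀ ht] at h1
    have e0 : t * (t⁻¹ * s) ^ 2 = t⁻¹ * s ^ 2 := by field_simp
    rw [e0] at h1
    have e1 : f (t⁻¹ * s) + e s + d (t⁻¹ * s ^ 2) - f (t⁻¹ * s) = e s + d (t⁻¹ * s ^ 2) := by abel
    rwa [e1] at h1
  have hd : ∀ x : F, d x ∈ brk V (rt up) := by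
    intro x
    have hne : c⁻¹ - 1 ≠ 0 := by
      intro h0
      have h1 : c⁻¹ = 1 := sub_eq_zero.1 h0
      exact hc1 (inv_eq_one.1 h1)
    -- `(c⁻¹ - 1) s² = x`: squares are everything; use additivity instead
    have h1 : ∀ s : F, d ((c⁻¹ - 1) * s ^ 2) ∈ brk V (rt up) := by
      intro s
      have h3 := sub_mem (key c s hc0) (key 1 s one_ne_zero)
      have e1 : e s + d (c⁻¹ * s ^ 2) - (e s + d (1⁻¹ * s ^ 2)) = d ((c⁻¹ - 1) * s ^ 2) := by
        rw [sub_mul, map_sub, inv_one]; abel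
      rwa [e1] at h3
    have h3 : ∀ s : F, ∀ t : F, t ≠ 0 → d ((c⁻¹ - 1) * s ^ 2 * t) ∈ brk V (rt up) := by
      intro s t ht
      have h4 := sub_mem (key (c * t⁻¹) s (mul_ne_zero hc0 (inv_ne_zero ht))) (key t⁻¹ s (inv_ne_zero ht))
      have e1 : e s + d ((c * t⁻¹)⁻¹ * s ^ 2) - (e s + d (t⁻¹⁻¹ * s ^ 2)) = d ((c⁻¹ - 1) * s ^ 2 * t) := by
        have e2 : (c⁻¹ - 1) * s ^ 2 * t = (c * t⁻¹)⁻¹ * s ^ 2 - t⁻¹⁻¹ * s ^ 2 := by
          rw [mul_inv, inv_inv]; ring
        rw [e2, map_sub]; abel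
      rwa [e1] at h4
    by_cases hx : x = 0
    · rw [hx, map_zero]; exact zero_mem _
    · have h4 := h3 1 ((c⁻¹ - 1)⁻¹ * x) (mul_ne_zero (inv_ne_zero hne) hx)
      rw [one_pow, mul_one, mul_inv_cancel_left₀ hne] at h4
      exact h4
  refine sup_le ?_ ?_
  · rintro _ ⟨x, rfl⟩
    have h1 := sub_mem (key 1 x one_ne_zero) (hd (1⁻¹ * x ^ 2))
    rwa [add_sub_cancel_right] at h1
  · rintro _ ⟨x, rfl⟩
    exact hd x

/-- `[V, A] ≤ e(F) + d(F)` -/
theorem brk_rt_le (h : BkD e f d C up lo) (h2 : ∀ v : V, v + v = 0) (hf : ∀ x : X, (∀ v : V, x • v = v) → x = 1) :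
    brk V (rt up) ≤ e.range ⊔ d.range := by
  apply brk_le
  intro a ha m
  obtain ⟨t, rfl⟩ := (h.mem_rt h2 hf).1 ha
  obtain ⟨x, y, c, hc, rfl⟩ := h.dec m
  rw [smul_add, smul_add, h.up_e, h.up_f, h.up_c t c hc]
  have e1 : e x + (f y + e (t * y) + d (t * y ^ 2)) + c - (e x + f y + c) = e (t * y) + d (t * y ^ 2) := by abel
  rw [e1]
  exact AddSubgroup.add_mem_sup ⟨_, rfl⟩ ⟨_, rfl⟩

theorem brk_rt (h : BkD e f d C up lo) (h2 : ∀ v : V, v + v = 0) (hf : ∀ x : X, (∀ v : V, x • v = v) → x = 1)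
    {c : F} (hc0 : c ≠ 0) (hc1 : c ≠ 1) : brk V (rt up) = e.range ⊔ d.range :=
  le_antisymm (brk_rt_le h h2 hf) (le_brk_rt h h2 hc0 hc1)

/-- `C_V(E) = C` -/
theorem fxd_clo (h : BkD e f d C up lo) : (fxd (clo up lo) : AddSubgroup V) = C := by
  apply le_antisymm
  · intro m hm
    rw [mem_fxd] at hm
    obtain ⟨x, y, c, hc, rfl⟩ := h.dec m
    have h1 := hm _ (up_mem_clo up lo 1)
    have h3 := hm _ (lo_mem_clo up lo 1)
    rw [smul_add, smul_add, h.up_e, h.up_f, h.up_c 1 c hc, one_mul, one_mul] at h1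
    rw [smul_add, smul_add, h.lo_e, h.lo_f, h.lo_c 1 c hc, one_mul, one_mul] at h3
    have e1 : e (x + y) + f y + (d (y ^ 2) + c) = e x + f y + c := by
      rw [map_add, ← h1]; abel
    have e2 : e x + f (x + y) + (d (x ^ 2) + c) = e x + f y + c := by
      rw [map_add, ← h3]; abel
    have e3 := (h.uniq (add_mem (h.dC _) hc) hc e1).1
    have e4 := (h.uniq (add_mem (h.dC _) hc) hc e2).2.1
    have hy : y = 0 := by simpa using e3
    have hx : x = 0 := by simpa using e4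
    rw [hx, hy, map_zero, map_zero, zero_add, zero_add]
    exact hc
  · intro c hc
    rw [mem_fxd]
    intro g hg
    have h1 : clo up lo ≤ MulAction.stabilizer X c := by
      rw [clo, closure_le]
      rintro _ (⟨t, rfl⟩ | ⟨t, rfl⟩)
      · exact MulAction.mem_stabilizer_iff.2 (h.up_c t c hc)
      · exact MulAction.mem_stabilizer_iff.2 (h.lo_c t c hc)
    exact MulAction.mem_stabilizer_iff.1 (h1 hg)

/-- `[V, E] ≤ M` -/
theorem brk_clo (h : BkD e f d C up lo) : brk V (clo up lo) ≤ e.range ⊔ f.range ⊔ d.range := by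
  have inr : ∀ x y z : F, e x + f y + d z ∈ e.range ⊔ f.range ⊔ d.range := fun x y z =>
    AddSubgroup.add_mem_sup (AddSubgroup.add_mem_sup ⟨_, rfl⟩ ⟨_, rfl⟩) ⟨_, rfl⟩
  have h1 : ∀ g ∈ clo up lo, ∀ m : V, g • m - m ∈ e.range ⊔ f.range ⊔ d.range := by
    intro g hg
    unfold clo at hg
    induction hg using Subgroup.closure_induction with
    | mem g hg =>
      intro m
      obtain ⟨x, y, c, hc, rfl⟩ := h.dec m
      rcases hg with ⟨t, rfl⟩ | ⟨t, rfl⟩
      · rw [smul_add, smul_add, h.up_e, h.up_f, h.up_c t c hc]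
        have e1 : e x + (f y + e (t * y) + d (t * y ^ 2)) + c - (e x + f y + c)
            = e (t * y) + f 0 + d (t * y ^ 2) := by rw [map_zero]; abel
        rw [e1]
        exact inr _ _ _
      · rw [smul_add, smul_add, h.lo_e, h.lo_f, h.lo_c t c hc]
        have e1 : e x + f (t * x) + d (t * x ^ 2) + f y + c - (e x + f y + c)
            = e 0 + f (t * x) + d (t * x ^ 2) := by rw [map_zero]; abel
        rw [e1]
        exact inr _ _ _
    | one => intro m; rw [one_smul, sub_self]; exact zero_mem _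
    | mul a b _ _ ha hb =>
      intro m
      have e1 : (a * b) • m - m = (a • (b • m) - b • m) + (b • m - m) := by rw [mul_smul]; abel
      rw [e1]; exact add_mem (ha _) (hb _)
    | inv a _ ha =>
      intro m
      have e1 : a⁻¹ • m - m = -(a • (a⁻¹ • m) - a⁻¹ • m) := by rw [smul_inv_smul]; abel
      rw [e1]; exact neg_mem (ha _)
  exact brk_le h1

/-- `[V, E] = M` if `|F| > 2` -/
theorem brk_clo_eq (h : BkD e f d C up lo) (h2 : ∀ v : V, v + v = 0) {c : F} (hc0 : c ≠ 0) (hc1 : c ≠ 1) :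
    brk V (clo up lo) = e.range ⊔ f.range ⊔ d.range := by
  have hup : rt up ≤ clo up lo := rt_le_clo up lo
  have hlo : rt lo ≤ clo up lo := by
    rw [rt, closure_le]
    rintro _ ⟨t, rfl⟩
    exact lo_mem_clo up lo t
  have h1 := (le_brk_rt h h2 hc0 hc1).trans (TThreeN.brkMono hup)
  have h3 := (le_brk_rt h.swap h2 hc0 hc1).trans (TThreeN.brkMono hlo)
  refine le_antisymm (brk_clo h) (sup_le (sup_le ?_ ?_) ?_)
  · exact le_sup_left.trans h1
  · exact le_sup_left.trans h3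
  · exact le_sup_right.trans h1

theorem el (h : BkD e f d C up lo) (h2 : ∀ v : V, v + v = 0) (hf : ∀ x : X, (∀ v : V, x • v = v) → x = 1) :
    El (rt up) where
  sq := by
    intro x hx
    obtain ⟨t, rfl⟩ := (h.mem_rt h2 hf).1 hx
    rw [h.up_add hf, h.two h2, h.up_zero hf]
  cm := by
    intro x hx y hy
    obtain ⟨s, rfl⟩ := (h.mem_rt h2 hf).1 hx
    obtain ⟨t, rfl⟩ := (h.mem_rt h2 hf).1 hy
    rw [h.up_add hf, h.up_add hf, add_comm]

theorem exact [Finite F] [Finite V] (h : BkD e f d C up lo) (h2 : ∀ v : V, v + v = 0)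
    (hf : ∀ x : X, (∀ v : V, x • v = v) → x = 1) :
    Nat.card V ≤ Nat.card (rt up) * Nat.card (fxd (rt up) : AddSubgroup V) := by
  rw [h.card_rt h2 hf]
  have h1 : Function.Surjective (fun p : F × (fxd (rt up) : AddSubgroup V) => f p.1 + (p.2 : V)) := by
    intro v
    obtain ⟨x, y, c, hc, rfl⟩ := h.dec v
    have h3 : e x + c ∈ (fxd (rt up) : AddSubgroup V) := (mem_fxd_rt h).2 ⟨x, c, hc, rfl⟩
    exact ⟨(y, ⟨e x + c, h3⟩), by show f y + (e x + c) = _; abel⟩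
  have h3 := Nat.card_le_card_of_surjective _ h1
  rwa [Nat.card_prod] at h3

theorem quad (h : BkD e f d C up lo) (h2 : ∀ v : V, v + v = 0) (hf : ∀ x : X, (∀ v : V, x • v = v) → x = 1) :
    brk V (rt up) ≤ (fxd (rt up) : AddSubgroup V) := by
  refine (brk_rt_le h h2 hf).trans (sup_le ?_ ?_)
  · rintro _ ⟨x, rfl⟩
    exact (mem_fxd_rt h).2 ⟨x, 0, zero_mem _, (add_zero _).symm⟩
  · rintro _ ⟨x, rfl⟩
    exact (mem_fxd_rt h).2 ⟨0, d x, h.dC x, by rw [map_zero, zero_add]⟩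

/-- the torus conjugates of the root elements -/
theorem hh_conj (h : BkD e f d C up lo) (h2 : ∀ v : V, v + v = 0) (hf : ∀ x : X, (∀ v : V, x • v = v) → x = 1)
    {c : F} (hc : c ≠ 0) (t : F) : hh up lo c * up t * (hh up lo c)⁻¹ = up (c * c * t) := by
  refine h.ext hf (fun z => ?_) (fun z => ?_) fun x hx => ?_
  · rw [mul_smul, mul_smul, h.hhi_e h2 hc, h.up_e, h.hh_e h2 hc, h.up_e, mul_inv_cancel_left₀ hc]
  · rw [mul_smul, mul_smul, h.hhi_f h2 hc, h.up_f, smul_add, smul_add, h.hh_f h2 hc, h.hh_e h2 hc, h.hh_c _ (h.dC _), h.up_f,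
      inv_mul_cancel_left₀ hc]
    congr 2
    · congr 1; ring
    · ring
  · rw [mul_smul, mul_smul, h.hhi_c c hx, h.up_c t x hx, h.hh_c c hx, h.up_c _ x hx]

/-- the Weyl element conjugates `up` to `lo` -/
theorem wt_conj (h : BkD e f d C up lo) (h2 : ∀ v : V, v + v = 0) (hf : ∀ x : X, (∀ v : V, x • v = v) → x = 1)
    (t : F) : wt up lo 1 * up t * (wt up lo 1)⁻¹ = lo t := by
  have h1 : wt up lo 1 * up t = lo t * wt up lo 1 := by
    refine h.ext hf (fun z => ?_) (fun z => ?_) fun x hx => ?_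
    · rw [mul_smul, mul_smul, h.up_e, h.wt_e h2 one_ne_zero, h.lo_f]
    · rw [mul_smul, mul_smul, h.up_f, smul_add, smul_add, h.wt_f h2 one_ne_zero, h.wt_e h2 one_ne_zero, h.wt_c 1 (h.dC _),
        h.lo_e]
      rw [inv_one, one_mul, one_mul]
    · rw [mul_smul, mul_smul, h.up_c t x hx, h.wt_c 1 hx, h.lo_c t x hx]
  rw [h1]; group

/-- `E` is generated by the `E`-conjugates of `A` -/
theorem clo_gen (h : BkD e f d C up lo) (h2 : ∀ v : V, v + v = 0) (hf : ∀ x : X, (∀ v : V, x • v = v) → x = 1) :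
    clo up lo ≤ closure {x | ∃ g ∈ clo up lo, ∃ a ∈ rt up, x = g * a * g⁻¹} := by
  have hw : wt up lo 1 ∈ clo up lo := by
    unfold wt
    exact mul_mem (mul_mem (up_mem_clo up lo _) (lo_mem_clo up lo _)) (up_mem_clo up lo _)
  conv_lhs => rw [clo]
  rw [closure_le]
  rintro _ (⟨t, rfl⟩ | ⟨t, rfl⟩)
  · exact subset_closure ⟨1, one_mem _, up t, up_mem t, by group⟩
  · exact subset_closure ⟨wt up lo 1, hw, up t, up_mem t, (wt_conj h h2 hf t).symm⟩

/-- the data of (T3n) -/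
theorem dtN [Finite F] [Finite V] [Finite X] (h : BkD e f d C up lo) (h2 : ∀ v : V, v + v = 0)
    (hf : ∀ x : X, (∀ v : V, x • v = v) → x = 1) {c : F} (hc0 : c ≠ 0) (hc1 : c ≠ 1) :
    DtN ⊤ (rt up) e.range (e.range ⊔ f.range) C (hh up lo c) where
  DX := le_top
  el := el h h2 hf
  ex := exact h h2 hf
  qd := quad h h2 hf
  fD := by
    intro m hm
    obtain ⟨x, c, hc, rfl⟩ := (mem_fxd_rt h).1 hm
    exact AddSubgroup.add_mem_sup ⟨x, rfl⟩ hc
  LD := le_sup_left.trans (le_brk_rt h h2 hc0 hc1)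
  CD := fun c hc => (mem_fxd_rt h).2 ⟨0, c, hc, by rw [map_zero, zero_add]⟩
  LN := le_sup_left
  τX := mem_top _
  τD := by
    refine Subgroup.eq_of_le_of_card_ge ?_ (card_cj _ _).ge
    intro x hx
    obtain ⟨t, ht⟩ := (h.mem_rt h2 hf).1 (mem_cj.1 hx)
    have e1 : x = hh up lo c * up t * (hh up lo c)⁻¹ := by rw [ht]; group
    rw [e1, hh_conj h h2 hf hc0]
    exact up_mem _
  τC := fun x hx => h.hh_c c hx
  τL := by
    rintro _ ⟨x, rfl⟩
    rw [h.hh_e h2 hc0]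
    exact ⟨_, rfl⟩
  τN := by
    intro n hn
    obtain ⟨_, ⟨x, rfl⟩, _, ⟨y, rfl⟩, rfl⟩ := AddSubgroup.mem_sup.1 hn
    rw [smul_add, h.hh_e h2 hc0, h.hh_f h2 hc0]
    exact AddSubgroup.add_mem_sup ⟨_, rfl⟩ ⟨_, rfl⟩
  fp := by
    intro n hn he
    obtain ⟨_, ⟨x, rfl⟩, _, ⟨y, rfl⟩, rfl⟩ := AddSubgroup.mem_sup.1 hn
    rw [smul_add, h.hh_e h2 hc0, h.hh_f h2 hc0] at he
    have e1 : e (c * x) + f (c⁻¹ * y) + 0 = e x + f y + 0 := by rw [add_zero, add_zero]; exact he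
    obtain ⟨h3, h4, -⟩ := h.uniq (zero_mem _) (zero_mem _) e1
    have hx : x = 0 := by
      have e5 : (c - 1) * x = 0 := by rw [sub_mul, h3, one_mul, sub_self]
      exact (mul_eq_zero.1 e5).resolve_left (sub_ne_zero.2 hc1)
    have hy : y = 0 := by
      have e5 : y = c * y := by
        calc y = c * (c⁻¹ * y) := (mul_inv_cancel_left₀ hc0 y).symm
          _ = c * y := by rw [h4]
      have e6 : (c - 1) * y = 0 := by rw [sub_mul, one_mul, ← e5, sub_self]
      exact (mul_eq_zero.1 e6).resolve_left (sub_ne_zero.2 hc1)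
    rw [hx, hy, map_zero, map_zero, add_zero]

theorem inf_NC (h : BkD e f d C up lo) : ∀ m ∈ e.range ⊔ f.range, m ∈ C → m = 0 := by
  intro m hm hc
  obtain ⟨_, ⟨x, rfl⟩, _, ⟨y, rfl⟩, rfl⟩ := AddSubgroup.mem_sup.1 hm
  obtain ⟨rfl, rfl⟩ := h.ind x y hc
  rw [map_zero, map_zero, add_zero]

/-- a root element with `[V, a] ≤ C` is trivial -/
theorem sep (h : BkD e f d C up lo) (h2 : ∀ v : V, v + v = 0) (hf : ∀ x : X, (∀ v : V, x • v = v) → x = 1) :
    ∀ a ∈ rt up, (∀ m : V, a • m - m ∈ C) → a = 1 := by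
  intro a ha hm
  obtain ⟨t, rfl⟩ := (h.mem_rt h2 hf).1 ha
  have h1 := hm (f 1)
  rw [h.up_f, mul_one] at h1
  have e1 : e t + f 0 = (f 1 + e t + d (t * 1 ^ 2) - f 1) - d (t * 1 ^ 2) := by rw [map_zero]; abel
  have h3 : e t + f 0 ∈ C := by rw [e1]; exact sub_mem h1 (h.dC _)
  rw [(h.ind t 0 h3).1, h.up_zero hf]

/-- **(T3n)**, the K-version. -/
theorem away [Finite F] [Finite V] [Finite X] (h : BkD e f d C up lo) (h2 : ∀ v : V, v + v = 0)
    (hf : ∀ x : X, (∀ v : V, x • v = v) → x = 1) (hno : NO X V) (h4 : 4 ≤ Nat.card F) {K : Subgroup X}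
    {B₀ : Set (Subgroup X)} (hel : ∀ B ∈ B₀, El B)
    (hex : ∀ B ∈ B₀, Nat.card V ≤ Nat.card B * Nat.card (fxd B : AddSubgroup V)) (hqd : ∀ B ∈ B₀, brk V B ≤ fxd B)
    (hBK : ∀ B ∈ B₀, B ≤ K) (hBN : ∀ B ∈ B₀, ∀ b ∈ B, ∀ n ∈ e.range ⊔ f.range ⊔ d.range, b • n = n)
    (hDK : ∀ a ∈ rt up, ∀ m ∈ brk V K, a • m = m)
    (gen : K ≤ closure {x | ∃ g ∈ K, ∃ B ∈ B₀, ∃ b ∈ B, x = g * b * g⁻¹}) :
    (∀ k ∈ K, ∀ n ∈ e.range ⊔ f.range ⊔ d.range, k • n = n) ∧ brk V K ≤ C ∧ ∀ k ∈ K, ∀ x ∈ clo up lo, k * x = x * k := by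
  obtain ⟨c, hc0, hc1⟩ := exists_ne01 (F := F) h4
  have S := Types.sit h2 hf hno
  obtain ⟨h1, h3, h5, -⟩ := TThreeN.away S (dtN h h2 hf hc0 hc1) (inf_NC h) (sep h h2 hf) (rt_le_clo up lo) (brk_clo h)
    (fxd_clo h).le (clo_gen h h2 hf) hel hex hqd hBK hBN hDK gen
  have h6 : ∀ k ∈ K, ∀ n ∈ e.range ⊔ f.range ⊔ d.range, k • n = n := by
    intro k hk n hn
    obtain ⟨a, ha, b, hb, rfl⟩ := AddSubgroup.mem_sup.1 hn
    rw [smul_add, h1 k hk a ha, h3 k hk b (le_brk_rt h h2 hc0 hc1 (AddSubgroup.mem_sup_right hb))]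
  exact ⟨h6, h5, TThreeN.comm S (brk_clo h) (fxd_clo h).ge h5 h6⟩

/-- **(T3n)**, the pair version: two natural blocks (with radicals). -/
theorem pair [Finite F] [Finite V] [Finite X] (h : BkD e f d C up lo) (h2 : ∀ v : V, v + v = 0)
    (hf : ∀ x : X, (∀ v : V, x • v = v) → x = 1) (hno : NO X V) (h4 : 4 ≤ Nat.card F) {F' : Type w'} [Field F'] [Finite F']
    {e' f' d' : F' →+ V} {C' : AddSubgroup V} {up' lo' : F' → X} (h' : BkD e' f' d' C' up' lo') (h4' : 4 ≤ Nat.card F')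
    (p2 : ∀ b ∈ rt up', ∀ n ∈ e.range ⊔ f.range ⊔ d.range, b • n = n)
    (p3 : ∀ a ∈ rt up, ∀ n ∈ e'.range ⊔ f'.range ⊔ d'.range, a • n = n) :
    (∀ k ∈ clo up' lo', ∀ x ∈ clo up lo, k * x = x * k) ∧ e'.range ⊔ f'.range ⊔ d'.range ≤ C ∧
      e.range ⊔ f.range ⊔ d.range ≤ C' := by
  obtain ⟨c', hc0', hc1'⟩ := exists_ne01 (F := F') h4'
  have h1 := away h h2 hf hno h4 (K := clo up' lo') (B₀ := {rt up'}) (by rintro _ rfl; exact el h' h2 hf)
    (by rintro _ rfl; exact exact h' h2 hf) (by rintro _ rfl; exact quad h' h2 hf)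
    (by rintro _ rfl; exact rt_le_clo up' lo') (by rintro _ rfl; exact p2)
    (fun a ha m hm => p3 a ha m (brk_clo h' hm))
    ((clo_gen h' h2 hf).trans (closure_mono (by
      rintro x ⟨g, hg, b, hb, rfl⟩
      exact ⟨g, hg, rt up', rfl, b, hb, rfl⟩)))
  refine ⟨h1.2.2, (brk_clo_eq h' h2 hc0' hc1').ge.trans h1.2.1, fun n hn => ?_⟩
  exact (fxd_clo h').le (mem_fxd.2 fun k hk => h1.1 k hk n hn)

end Cfsg.Agent.Omega.NOThreeL.RRed.Blk.TThreeD

end

section


/-!
# NO-3L, box R: `FamN` gives `FX` (#26560, #27688)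

* `mem_of` : a conjugate of `D ∈ FF` which is in `EE` is in `FF`;
* **`fx_of`** : a family of natural blocks with radicals (`FamN`), with `EE` closed under conjugation in `T ∈ Syl₂(X)`, is a
  family `FX`;
* `EO_eq` : `EO FF = EB FF`.
-/

set_option autoImplicit false
set_option linter.unusedSectionVars false

namespace Cfsg.Agent.Omega.NOThreeL.RRed.Blk.FamXOf

open Cfsg.Agent.Omega.NOThreeL.RRed.Blk.Types (mem_cj)
open Cfsg.Agent.Omega.NOThreeL.RRed.Blk.Asm (mem_map)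
open Cfsg.Agent.Omega.NOThreeL.RRed.Blk.AsmN
open Cfsg.Agent.Omega.NOThreeL.RRed.Blk.FamX
open scoped Pointwise

universe u v

variable {X : Type u} {V : Type v} [Group X] [AddCommGroup V] [DistribMulAction X V]

section

variable {S : Subgroup X} {EE FF : Set (Subgroup X)} {N C L Z : Subgroup X → AddSubgroup V}

/-- if `x N D = N D'` and `x D x⁻¹ ∈ EE`, then `x D x⁻¹ = D'` -/
theorem eq_of (F : FamN S EE FF N C L Z) (h2 : ∀ v : V, v + v = 0) (hf : ∀ x : X, (∀ v : V, x • v = v) → x = 1)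
    {D D' : Subgroup X} (hD : D ∈ FF) (hD' : D' ∈ FF) {x : X} (hx : MulAut.conj x • D ∈ EE)
    (h1 : ∀ m, m ∈ N D → x • m ∈ N D') : MulAut.conj x • D = D' := by
  by_contra hne
  obtain ⟨a, ha, n, hn, h7⟩ := nb_mv (F.gb D hD).nb h2 hf
  have h9 : x * a * x⁻¹ ∈ MulAut.conj x • D := by
    rw [mem_cj]
    have e1 : x⁻¹ * (x * a * x⁻¹) * x = a := by group
    rwa [e1]
  have h10 := (F.gb D' hD').oth _ hx hne _ h9 (x • n) (h1 n hn)
  rw [mul_smul, mul_smul, inv_smul_smul] at h10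
  exact h7 (by rw [smul_left_cancel x h10, sub_self]; exact zero_mem _)

theorem mem_of (F : FamN S EE FF N C L Z) (h2 : ∀ v : V, v + v = 0) (hf : ∀ x : X, (∀ v : V, x • v = v) → x = 1)
    {D : Subgroup X} (hD : D ∈ FF) {x : X} (hx : MulAut.conj x • D ∈ EE) : MulAut.conj x • D ∈ FF := by
  obtain ⟨D', hD', -, h1, -, -⟩ := F.perm x D hD
  rw [eq_of F h2 hf hD hD' hx fun m => (h1 m).1]
  exact hD'

/-- **`FamN` gives `FX`.** -/
theorem fx_of {T : Sylow 2 X} (F : FamN (T : Subgroup X) EE FF N C L Z)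
    (EEc : ∀ B ∈ EE, ∀ x : X, MulAut.conj x • B ≤ (T : Subgroup X) → MulAut.conj x • B ∈ EE)
    (h2 : ∀ v : V, v + v = 0) (hf : ∀ x : X, (∀ v : V, x • v = v) → x = 1) : FX T FF N C L Z where
  le := F.le
  nb := fun D hD => (F.gb D hD).nb
  ind := F.ind
  perm := fun x D hD => by
    obtain ⟨D', hD', -, h⟩ := F.perm x D hD
    exact ⟨D', hD', h⟩
  wc := fun D hD x hx => mem_of F h2 hf hD (EEc D (F.sub hD) x hx)
  lin := fun D hD x hx m => by
    obtain ⟨D', hD', -, h1, h3, h5⟩ := F.perm x D hD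
    have he : MulAut.conj x • D = D' := eq_of F h2 hf hD hD' (F.sub hx) fun m => (h1 m).1
    have hg : GBd EE (MulAut.conj x • D) ((N D).map (DistribSMul.toAddMonoidHom V x))
        ((C D).map (DistribSMul.toAddMonoidHom V x)) ((L D).map (DistribSMul.toAddMonoidHom V x))
        ((Z D).map (DistribSMul.toAddMonoidHom V x)) := by
      refine ⟨(F.gb D hD).nb.conj x, fun A hA hne a ha m hm => ?_⟩
      refine (F.gb D' hD').oth A hA (fun e => hne (e.trans he.symm)) a ha m ?_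
      rw [mem_map] at hm
      rwa [h1, smul_inv_smul] at hm
    rw [← (F.uniq _ hx _ _ _ _ hg).2.2.1, mem_map, inv_smul_smul]
  two := h2
  faith := hf
  four := F.four

end

/-- the two normal closures are the same -/
theorem EO_eq (FF : Set (Subgroup X)) : EO FF = FamN.EB FF := by
  apply le_antisymm
  · refine Subgroup.normalClosure_le_normal ?_
    rintro a ⟨D, hD, ha⟩
    exact FamN.le_EB hD ha
  · refine Subgroup.normalClosure_le_normal ?_
    have h1 : (⨆ D ∈ FF, D : Subgroup X) ≤ EO FF := iSup₂_le fun D hD => le_EO hD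
    exact h1

end Cfsg.Agent.Omega.NOThreeL.RRed.Blk.FamXOf

end

section


/-!
# NO-3L, box R, nonsplit blocks: the field `bad` on a family of blocks (helper502, #26560, #27278, #27357)

`F : FamN S EE FF N C L Z`, `x ∈ X` of odd order permutes `EE`, fixes a vector all of whose line components are nonzero, and
`[a, x]` centralises `[m, x]` for `a ∈ D ∈ FF`, `m ∈ ⨆ N`.

* `FamN.badX_D` : `x` normalises every `D ∈ FF`;
* **`FamN.badX`** : `x` is trivial on `⨆ N`.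
-/

set_option autoImplicit false
set_option linter.unusedSectionVars false

namespace Cfsg.Agent.Omega.NOThreeL.RRed.Blk.AsmN

open Cfsg.Agent.Omega.NOThreeL.RRed.NS (fxd brk mem_fxd)
open Cfsg.Agent.Omega.NOThreeL.RRed.Blk.TypesGam (rt up_mem)
open Cfsg.Agent.Omega.NOThreeL.RRed.Blk.Types
open Cfsg.Agent.Omega.NOThreeL.RRed.Blk.GamD
open Cfsg.Agent.Omega.NOThreeL.RRed.Blk.Asm (St)
open scoped Pointwise

universe u v

variable {X : Type u} {V : Type v} [Group X] [AddCommGroup V] [DistribMulAction X V]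

/-- `D` moves `N` modulo `C`, and `[V, D] ≤ N` -/
theorem NBd.mvX {D : Subgroup X} {N C L Z : AddSubgroup V} (h : NBd D N C L Z) (h2 : ∀ v : V, v + v = 0)
    (hf : ∀ x : X, (∀ v : V, x • v = v) → x = 1) :
    (∃ a ∈ D, ∃ n ∈ N, a • n - n ∉ C) ∧ ∀ a ∈ D, ∀ v : V, a • v - v ∈ N := by
  obtain ⟨F, _, _, e, f, d, up, lo, hb, rfl, rfl, rfl, rfl⟩ := h.ex
  refine ⟨⟨up 1, up_mem _, f 1, AddSubgroup.mem_sup_left (AddSubgroup.mem_sup_right ⟨1, rfl⟩), fun h1 => ?_⟩,
    fun a ha v => ?_⟩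
  · rw [hb.up_f, mul_one, one_pow, mul_one] at h1
    have h3 : e 1 + f 0 ∈ C := by
      have h5 := sub_mem h1 (hb.dC 1)
      have e1 : f 1 + e 1 + d 1 - f 1 - d 1 = e 1 + f 0 := by rw [map_zero]; abel
      rwa [e1] at h5
    exact one_ne_zero (hb.ind 1 0 h3).1
  · exact (brk_rt_le hb h2 hf).trans (sup_le (le_sup_left.trans le_sup_left) le_sup_right) (sub_mem_brk ha v)

namespace FamN

variable {S : Subgroup X} {EE FF : Set (Subgroup X)} {N C L Z : Subgroup X → AddSubgroup V}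
  (F : FamN S EE FF N C L Z) (h2 : ∀ v : V, v + v = 0) (hf : ∀ x : X, (∀ v : V, x • v = v) → x = 1)
include F h2 hf

/-- `x` normalises every root group -/
theorem badX_D {x : X} (hx : x ∈ St EE)
    (hcom : ∀ D ∈ FF, ∀ a ∈ D, ∀ m ∈ N D, (a * (x * a * x⁻¹)⁻¹) • (x • m - m) = x • m - m) :
    ∀ D ∈ FF, MulAut.conj x • D = D := by
  intro D hD
  by_contra hne
  obtain ⟨hD', hN, -, -, -⟩ := F.st x hx D hD
  obtain ⟨⟨a, ha, m, hm, hmv⟩, hbr⟩ := (F.gb D hD).nb.mvX h2 hf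
  refine hmv ?_
  have e1 := hcom D hD a ha m hm
  have c1 : (x * a * x⁻¹)⁻¹ • m = m := by
    refine F.cent_N hD hD' hne _ (inv_mem ?_) m hm
    exact Subgroup.mem_smul_pointwise_iff_exists _ _ _ |>.2 ⟨a, ha, rfl⟩
  have h3 : a⁻¹ • m ∈ N D := by
    have e2 : a⁻¹ • m = (a⁻¹ • m - m) + m := by abel
    rw [e2]
    exact add_mem (hbr _ (inv_mem ha) _) hm
  have c2 : a • x • a⁻¹ • m = x • a⁻¹ • m :=
    F.cent_N hD' hD (fun e => hne e.symm) _ ha _ ((hN _).1 h3)
  have e3 : (x * a * x⁻¹)⁻¹ • x • m = x • a⁻¹ • m := by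
    rw [← mul_smul, ← mul_smul]
    congr 1
    group
  rw [mul_smul, smul_sub, c1, e3, smul_sub, c2] at e1
  have e4 : a • m - m = x • (a⁻¹ • m - m) := by
    rw [smul_sub, sub_eq_sub_iff_add_eq_add]
    have e5 := sub_eq_sub_iff_add_eq_add.1 e1
    rw [add_comm, ← e5, add_comm]
  rw [e4]
  exact F.ind D hD _ hD' hne ((hN _).1 (sub_mem h3 hm))

/-- **`bad` on a family of blocks** -/
theorem badX {x : X} (hx : x ∈ St EE) {n : ℕ} (hn : Odd n) (hxn : x ^ n = 1) {v₀ : V}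
    (hv : ∀ D ∈ FF, ∃ l ∈ L D, l ≠ 0 ∧ v₀ - l ∈ C D) (hfix : x • v₀ = v₀)
    (hcom : ∀ D ∈ FF, ∀ a ∈ D, ∀ m ∈ N D, (a * (x * a * x⁻¹)⁻¹) • (x • m - m) = x • m - m) :
    ∀ m ∈ sN FF N, x • m = m := by
  have key : ∀ D ∈ FF, N D ≤ (fxd (Subgroup.zpowers x) : AddSubgroup V) := by
    intro D hD
    have hcD := F.badX_D h2 hf hx hcom D hD
    obtain ⟨-, hN, hC, hL, hZ⟩ := F.st x hx D hD
    rw [hcD] at hN hC hL hZ
    have hit : ∀ (k : ℕ) (v : V), ((DistribMulAction.toAddEquiv V x)^[k]) v = x ^ k • v := by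
      intro k
      induction k with
      | zero => intro v; rw [pow_zero, one_smul]; rfl
      | succ k ih =>
        intro v
        rw [Function.iterate_succ_apply', ih, pow_succ', mul_smul]
        rfl
    have h3 : ∀ m ∈ N D, DistribMulAction.toAddEquiv V x m = m := by
      refine (F.gb D hD).nb.bad h2 hf (DistribMulAction.toAddEquiv V x) (fun a => x * a * x⁻¹) (fun a v => ?_) hn
        (fun v => ?_) (fun a ha => ?_) (fun m => (hL m).1) (fun m => (hN m).1) (fun m => (hC m).1) (fun m => (hZ m).1)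
        (hv D hD) hfix (hcom D hD)
      · show (x * a * x⁻¹) • x • v = x • a • v
        rw [← mul_smul, ← mul_smul]
        congr 1
        group
      · rw [hit, hxn, one_smul]
      · have h5 : x * a * x⁻¹ ∈ MulAut.conj x • D := Subgroup.mem_smul_pointwise_iff_exists _ _ _ |>.2 ⟨a, ha, rfl⟩
        rwa [hcD] at h5
    intro m hm
    rw [mem_fxd]
    intro y hy
    have h5 : Subgroup.zpowers x ≤ MulAction.stabilizer X m :=
      (Subgroup.zpowers_le).2 (MulAction.mem_stabilizer_iff.2 (h3 m hm))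
    exact MulAction.mem_stabilizer_iff.1 (h5 hy)
  intro m hm
  have h5 : sN FF N ≤ (fxd (Subgroup.zpowers x) : AddSubgroup V) := iSup₂_le key
  exact (mem_fxd.1 (h5 hm)) x (Subgroup.mem_zpowers x)

end FamN

end Cfsg.Agent.Omega.NOThreeL.RRed.Blk.AsmN

end
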