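import Cfsg.Agent.Mrg.Omega.NOThreeL.RRed.Blk.AsmPair
import Cfsg.Agent.Mrg.Omega.NOThreeL.RRed.Blk.AsmCore


/-!
# NO-3L, box R: assembly of the natural blocks, the theorem for `L`, `U = zl S L`

* `Inp S L Q` : the inputs: `Es` for the minimal exact groups of `S`, `Ac` for every `P ∈ P*(S)`, `P ≤ L`, which has one
  moving `V_P`;
* `inact` : the other `P` normalise the set of minimal exact groups;
* `RRs S L Q` : the root groups of order at least 4 of the active `P`;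
* **`Inp.main`** : the conjugates of the members of any `RR ⊆ RRs` form a family of blocks.
-/

set_option autoImplicit false
set_option linter.unusedSectionVars false

namespace Cfsg.Agent.Omega.NOThreeL.RRed.Blk.AsmG

open Subgroup Cfsg Cfsg.Agent.ZN Cfsg.Agent.Omega.MinPar
open Cfsg.Agent.Omega.FFThm
open Cfsg.Agent.Omega.NOThreeL.RSplit (Nrm)
open Cfsg.Agent.Omega.NOThreeL.RRed.NS (fxd brk mem_fxd smul_eq_iff conj_eq_cj)
open Cfsg.Agent.Omega.NOThreeL.RRed.Blk.TypesNat (XH ph ph_smul XH_faith ph_eq ph_surj no_XH)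
open Cfsg.Agent.Omega.NOThreeL.RRed.Blk.TypesGam (NO)
open Cfsg.Agent.Omega.NOThreeL.RRed.Blk.Asm Cfsg.Agent.Omega.NOThreeL.RRed.Blk.AsmCore
open scoped Pointwise

universe u

variable {G : Type u} [Group G]

/-- the images of the members of `P*(S)` in `L` -/
def Ps (S L : Subgroup G) {U : Subgroup G} (Q : Nrm L U) : Set (Subgroup (XH Q)) :=
  {K | ∃ P, IsParS S P ∧ P ≤ L ∧ K = im Q P}

theorem sSup_Ps {S L U : Subgroup G} (Q : Nrm L U) (hgen : L ≤ sSup {P | IsParS S P ∧ P ≤ L}) :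
    sSup (Ps S L Q) = ⊤ := by
  rw [eq_top_iff]
  rintro x -
  obtain ⟨g, rfl⟩ := ph_surj Q x
  have h1 : im Q L ≤ sSup (Ps S L Q) := by
    apply im_le_of
    refine hgen.trans (sSup_le ?_)
    rintro P ⟨hP, hPL⟩ p hp
    refine ⟨⟨p, hPL hp⟩, ?_, rfl⟩
    rw [SetLike.mem_coe, mem_comap]
    exact (le_sSup (show im Q P ∈ Ps S L Q from ⟨P, hP, hPL, rfl⟩)) (ph_mem_im Q hp)
  exact h1 (ph_mem_im Q (a := g) g.2)

/-- **inactive `P`** -/
theorem inact [Finite G] (hc : IsCharacteristicTwoType G) {S : Sylow 2 G} {P L U : Subgroup G} (Q : Nrm L U)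
    (hP : IsParS (S : Subgroup G) P) (h : ¬ (EP (S : Subgroup G) P U).Nonempty) :
    ∀ g ∈ im Q P, ∀ A ∈ im Q '' EE (S : Subgroup G) U, MulAut.conj g • A ∈ im Q '' EE (S : Subgroup G) U := by
  rintro _ ⟨g, hg, rfl⟩ _ ⟨A, hA, rfl⟩
  refine ⟨MulAut.conj (g : G) • A, ?_, im_cj Q g⟩
  have h1 : A ≤ centralizer (zl (S : Subgroup G) P : Set G) := by
    by_contra hcon
    exact h ⟨A, hA, hcon⟩
  have h2 : A ≤ o2 P := by
    rw [← hP.inf_centralizer S hc]
    exact le_inf hA.1 h1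
  have h3 : MulAut.conj (g : G) • A ≤ o2 P := by
    intro x hx
    have h4 := h2 (NS.mem_conj.1 hx)
    have h5 : (g : G) ∈ normalizer (o2 P : Set G) := le_normalizer_o2 P hg
    have h6 := (mem_normalizer_iff.1 h5 _).1 h4
    have e : (g : G) * ((g : G)⁻¹ * x * g) * (g : G)⁻¹ = x := by group
    rwa [e] at h6
  refine ⟨h3.trans hP.isLoc.o2_le, ?_⟩
  rw [conj_eq_cj]
  exact CI.mx_conj hA.2 (Q.nrm g.2)

/-- The inputs. -/
structure Inp [Finite G] (S : Sylow 2 G) (L : Subgroup G) (Q : Nrm L (zl (S : Subgroup G) L)) : Prop where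
  hc : IsCharacteristicTwoType G
  gen : L ≤ sSup {P | IsParS (S : Subgroup G) P ∧ P ≤ L}
  el : IsElementaryAbelian 2 (zl (S : Subgroup G) L)
  no : NoOverM (zl (S : Subgroup G) L) L
  es : Es (im Q (S : Subgroup G)) (im Q '' EE (S : Subgroup G) (zl (S : Subgroup G) L)) Q.Mod
  ac : ∀ P, IsParS (S : Subgroup G) P → P ≤ L → (EP (S : Subgroup G) P (zl (S : Subgroup G) L)).Nonempty →
    Ac (im Q (S : Subgroup G)) (im Q '' EE (S : Subgroup G) (zl (S : Subgroup G) L)) (im Q P)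
      (im Q (KP (S : Subgroup G) P (zl (S : Subgroup G) L))) (im Q '' EP (S : Subgroup G) P (zl (S : Subgroup G) L)) Q.Mod

section inp

variable [Finite G] {S : Sylow 2 G} {L : Subgroup G} {Q : Nrm L (zl (S : Subgroup G) L)} (h : Inp S L Q)
include h

theorem Inp.two (v : Q.Mod) : v + v = 0 := Nrm.ext (by
  rw [Nrm.val_add, Nrm.val_zero]
  have := h.el.2 _ (Q.val_mem v)
  rwa [pow_two] at this)

theorem Inp.hf (x : XH Q) (hx : ∀ v : Q.Mod, x • v = v) : x = 1 := XH_faith Q x hx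

theorem Inp.hno : NO (XH Q) Q.Mod := no_XH Q h.no

/-- `Ps` -/
theorem Inp.hPs : ∀ P ∈ Ps (S : Subgroup G) L Q,
    (∀ g ∈ P, ∀ A ∈ im Q '' EE (S : Subgroup G) (zl (S : Subgroup G) L), MulAut.conj g • A ∈
      im Q '' EE (S : Subgroup G) (zl (S : Subgroup G) L)) ∨
    ∃ K EP, Ac (im Q (S : Subgroup G)) (im Q '' EE (S : Subgroup G) (zl (S : Subgroup G) L)) P K EP Q.Mod := by
  rintro _ ⟨P, hP, hPL, rfl⟩
  by_cases hne : (EP (S : Subgroup G) P (zl (S : Subgroup G) L)).Nonempty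
  · exact Or.inr ⟨_, _, h.ac P hP hPL hne⟩
  · exact Or.inl (inact h.hc Q hP hne)

omit h in
/-- the root groups of order at least 4 of the active `P` -/
def RRs (S : Sylow 2 G) (L : Subgroup G) (Q : Nrm L (zl (S : Subgroup G) L)) : Set (Subgroup (XH Q)) :=
  {D | 4 ≤ Nat.card D ∧ ∃ P, IsParS (S : Subgroup G) P ∧ P ≤ L ∧
    ∃ A ∈ EP (S : Subgroup G) P (zl (S : Subgroup G) L), D = im Q A}

/-- **The natural blocks.** -/
theorem Inp.main {RR : Set (Subgroup (XH Q))} (hR : RR ⊆ RRs S L Q) :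
    FFs (im Q '' EE (S : Subgroup G) (zl (S : Subgroup G) L)) RR ⊆ im Q '' EE (S : Subgroup G) (zl (S : Subgroup G) L) ∧
    (∀ D ∈ FFs (im Q '' EE (S : Subgroup G) (zl (S : Subgroup G) L)) RR, 4 ≤ Nat.card D) ∧
    (∀ D ∈ FFs (im Q '' EE (S : Subgroup G) (zl (S : Subgroup G) L)) RR,
      GB (im Q '' EE (S : Subgroup G) (zl (S : Subgroup G) L)) D
        (NN (im Q '' EE (S : Subgroup G) (zl (S : Subgroup G) L)) Q.Mod D)
        (CC (im Q '' EE (S : Subgroup G) (zl (S : Subgroup G) L)) Q.Mod D)) ∧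
    Fam (im Q (S : Subgroup G)) (FFs (im Q '' EE (S : Subgroup G) (zl (S : Subgroup G) L)) RR)
      (NN (im Q '' EE (S : Subgroup G) (zl (S : Subgroup G) L)) Q.Mod)
      (CC (im Q '' EE (S : Subgroup G) (zl (S : Subgroup G) L)) Q.Mod) := by
  have hRE : RR ⊆ im Q '' EE (S : Subgroup G) (zl (S : Subgroup G) L) := by
    intro D hD
    obtain ⟨-, P, -, -, A, hA, rfl⟩ := hR hD
    exact ⟨A, hA.1, rfl⟩
  obtain ⟨h1, h3, h5⟩ := Asm.main h.two h.hf h.hno h.es h.hPs (sSup_Ps Q h.gen) hRE (fun A hA => (hR hA).1) (by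
    intro D hD
    obtain ⟨h4, P, hP, hPL, A, hA, rfl⟩ := hR hD
    exact (h.ac P hP hPL ⟨A, hA⟩).gb ⟨A, hA, rfl⟩ h4)
  exact ⟨FFs_sub hRE, h1, h3, h5⟩

end inp

end Cfsg.Agent.Omega.NOThreeL.RRed.Blk.AsmG
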