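import Cfsg.Agent.Mrg.Omega.NOThreeL.RRed.Blk.FxVec
import Cfsg.Agent.Mrg.Omega.NOThreeL.RRed.Ex.Inst
import Cfsg.Agent.Mrg.Omega.NOThreeL.RRed.Ex.Sg
import Cfsg.Agent.Mrg.Omega.NOThreeL.RRed.Ex.Pf
import Cfsg.Agent.Mrg.Omega.NO3S.ThmB.Inst
import Cfsg.Agent.Mrg.Omega.NOThreeL.RRed.Blk.AsmCore
import Cfsg.Agent.Mrg.Omega.NOThreeL.RRed.Blk.TypesNat
import Cfsg.Agent.Mrg.Omega.NOThreeL.RRed.Blk.BadBkD
import Cfsg.Agent.Mrg.Omega.NOThreeL.RRed.Blk.AsmNDef

section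


/-!
# NO-3L, box R, nonsplit natural blocks: two atoms of one block have the same image (263 #27786)

`P ∈ P*(S)` natural, `P ≤ L ≤ H`, `Q : Nrm H (zl S L)`, `NoOverM (zl S L) H`.

* **`same_im`** : `A, A' ∈ EP S P (zl S L)` acting as the root group of the same block `j`: `im Q A' = im Q A`.
-/

set_option autoImplicit false
set_option linter.unusedSectionVars false

namespace Cfsg.Agent.Omega.NOThreeL.RRed.Blk.AcNSame

open Subgroup Cfsg Cfsg.Agent.ZN Cfsg.Agent.Omega.MinPar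
open Cfsg.Agent.Omega.FFThm
open Cfsg.Agent.Omega.FrameFF (cv)
open Cfsg.Agent.Omega.NO3S.ThmB Cfsg.Agent.Omega.NO3S.KeyRad
open Cfsg.Agent.Omega.NOThreeL.RSplit (Nrm)
open Cfsg.Agent.Omega.NOThreeL.RRed.NS
open Cfsg.Agent.Omega.NOThreeL.RRed.Ex
open Cfsg.Agent.Omega.NOThreeL.RRed.Blk.Types (Sit El)
open Cfsg.Agent.Omega.NOThreeL.RRed.Blk.TypesNat (XH ph ph_smul)
open Cfsg.Agent.Omega.NOThreeL.RRed.Blk.AsmCore
open scoped Pointwise

universe u

variable {G : Type u} [Group G] [Finite G] {S : Sylow 2 G} {L P H : Subgroup G}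

/-- `InstB.split` for `Q : Nrm H U`, `L ≤ H` -/
theorem splitH (hc : IsCharacteristicTwoType G) (hP : IsParS (S : Subgroup G) P) (hPL : P ≤ L) (LH : L ≤ H)
    (noH : NoOverM (zl (S : Subgroup G) L) H) (Q : Nrm H (zl (S : Subgroup G) L)) :
    ∀ A ≤ im Q (S : Subgroup G), El A → Xa Q.Mod A → ¬ Fx (Q.ad (zl (S : Subgroup G) P)) A →
      Xa Q.Mod (cw (Q.ad (zl (S : Subgroup G) P)) A) := by
  intro A' hA' hE hX hF
  obtain ⟨A, hA, rfl⟩ := InstB.exists_im Q hA'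
  have hAL : A ≤ L := (hA.trans hP.le).trans hPL
  have hAH : A ≤ H := hAL.trans LH
  have hWU : zl (S : Subgroup G) P ≤ zl (S : Subgroup G) L := NOThreeL.Star.zl_mono _ hPL
  have hcomm : zl (S : Subgroup G) L ≤ centralizer (zl (S : Subgroup G) L : Set G) := fun x hx =>
    mem_centralizer_iff.2 fun y hy => Q.ab y hy x hx
  have hEM := InstB.elemM_of Q hAH hE
  have hex := InstB.exa_of Q hAH noH hEM hX
  have hne : ¬ A ≤ centralizer (zl (S : Subgroup G) P : Set G) := fun h => hF ((InstB.fx_im Q hWU hAH).2 h)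
  obtain ⟨h1, -⟩ := exact_split hc hP hPL (fun B hB => noH B (hB.trans LH)) hcomm hA hEM hex hne
  rw [InstB.cw_im Q hWU]
  exact InstB.xa_of Q (inf_le_left.trans hAH) h1

/-- one half -/
theorem im_le (hc : IsCharacteristicTwoType G) (hL : IsLoc (S : Subgroup G) L) (hP : IsParS (S : Subgroup G) P)
    (hPL : P ≤ L) (LH : L ≤ H) (noH : NoOverM (zl (S : Subgroup G) L) H) (Q : Nrm H (zl (S : Subgroup G) L))
    {F : Type} [Field F] [Finite F] [CharP F 2] {k : ℕ}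
    (M : NatKM F (S : Subgroup G) P (zl (S : Subgroup G) P) (cv (S : Subgroup G) P) k) {A A' : Subgroup G}
    (hA : A ∈ EP (S : Subgroup G) P (zl (S : Subgroup G) L))
    (hA' : A' ∈ EP (S : Subgroup G) P (zl (S : Subgroup G) L)) {j : Fin k} (O : NO3S.ThmB.One M (zl (S : Subgroup G) L) A j)
    (O' : NO3S.ThmB.One M (zl (S : Subgroup G) L) A' j) : im Q A' ≤ im Q A := by
  have h := Inst.nb hc hP M
  have hE := FFThm.elem_zl hc S hL
  have hPH : P ≤ H := hPL.trans LH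
  have hVU : zl (S : Subgroup G) P ≤ zl (S : Subgroup G) L := NOThreeL.Star.zl_mono _ hPL
  have hAS := hA.1.1
  have hAS' := hA'.1.1
  have hAP : A ≤ P := hAS.trans hP.le
  have hAP' : A' ≤ P := hAS'.trans hP.le
  have tA := tt_of_mx hA.1.2 noH (hAP.trans hPH)
  have tA' := tt_of_mx hA'.1.2 noH (hAP'.trans hPH)
  have hfull : ∀ {B : Subgroup G}, B ≤ H → NO3S.ThmB.One M (zl (S : Subgroup G) L) B j → ∀ m : Q.Mod,
      ∃ w ∈ Q.ad (zl (S : Subgroup G) P), ∃ c ∈ (fxd (im Q B) : AddSubgroup Q.Mod), m = w + c := by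
    intro B hB OB m
    obtain ⟨v, hv, -, c, hcU, hca, e⟩ := OB.full (Q.val m) (Q.val_mem m)
    refine ⟨Q.of v (hVU hv), hv, Q.of c hcU, ?_, ?_⟩
    · rw [fxd_im Q hB, Nrm.val_of, mem_centralizer_iff]
      exact hca
    · exact Nrm.ext (by rw [Nrm.val_add]; exact e)
  have hq : ∀ {B C : Subgroup G}, B ≤ (S : Subgroup G) → C ≤ (S : Subgroup G) →
      NO3S.ThmB.One M (zl (S : Subgroup G) L) B j → Tt (zl (S : Subgroup G) L) C →
      brk Q.Mod (im Q B) ≤ (fxd (im Q C) : AddSubgroup Q.Mod) := by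
    intro B C hB hC OB tC
    refine Types.brk_le ?_
    rintro _ ⟨b, hb, rfl⟩ m
    rw [fxd_im Q ((hC.trans hP.le).trans hPH), mem_centralizer_iff]
    intro c hc'
    rw [ph_smul, Nrm.val_sub, Nrm.val_smul]
    exact comm_Y h OB hB hE hVU hC tC hc' (Q.val_mem m) hb
  rintro _ ⟨b', hb', rfl⟩
  obtain ⟨β, hβ⟩ := O'.act b' hb'
  obtain ⟨b, hb, hβ'⟩ := O.all β
  have hbP : b ∈ P := hAP hb
  have key := L1N.l1 (M := Q.Mod) (Dict.sit Q noH fun v hv => by
      have := hE.2 v hv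
      rwa [pow_two] at this) (S := im Q (S : Subgroup G)) (P := im Q P) (W := Q.ad (zl (S : Subgroup G) P))
    (im_mono Q hP.le) (by
      rintro _ ⟨p, hp, rfl⟩ w hw
      rw [ph_smul]
      refine Nrm.mem_ad.2 ?_
      rw [Nrm.val_smul]
      exact (mem_normalizer_iff.1 (MinSimple.VModule.le_normalizer_zl (S : Subgroup G) P hp) _).1 hw)
    (B := im Q A) (B' := im Q A') (im_mono Q hAS) (im_mono Q hAS')
    ((Dict.el_iff Q (hAP.trans hPH)).2 hA.1.2.toElemM) ((Dict.el_iff Q (hAP'.trans hPH)).2 hA'.1.2.toElemM)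
    (InstB.xa_of Q (hAP.trans hPH) hA.1.2.exact) (InstB.xa_of Q (hAP'.trans hPH) hA'.1.2.exact)
    (fun h1 => hA.2 ((InstB.fx_im Q hVU (hAP.trans hPH)).1 h1)) (splitH hc hP hPL LH noH Q)
    (hfull (hAP.trans hPH) O) (hfull (hAP'.trans hPH) O') (hq hAS hAS O tA) (hq hAS hAS' O tA') (hq hAS' hAS O' tA)
    (by
      rintro _ ⟨a, ha, rfl⟩ m hm
      have hm' : (a : G) * Q.val m ≠ Q.val m * a := fun h1 => hm (by
        rw [ph_smul, smul_eq_iff, mul_inv_eq_iff_eq_mul]; exact h1)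
      obtain ⟨p, hp, c, hc', d, hd, h1⟩ := nat_out h O hVU hAS ha (Q.val_mem m) hm'
      refine ⟨ph Q ⟨p, hPH hp⟩, ph_mem_im Q hp, ph Q ⟨c, hPH (hAP hc')⟩, ph_mem_im Q hc', fun h2 => h1 ?_⟩
      rw [fxd_im Q (hAP.trans hPH), mem_centralizer_iff] at h2
      have h3 := h2 d hd
      have e : ph Q (⟨p, hPH hp⟩ : H) * ph Q (⟨c, hPH (hAP hc')⟩ : H) * (ph Q (⟨p, hPH hp⟩ : H))⁻¹ =
          ph Q ((⟨p, hPH hp⟩ : H) * ⟨c, hPH (hAP hc')⟩ * (⟨p, hPH hp⟩ : H)⁻¹) := by rw [map_mul, map_mul, map_inv]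
      rw [e, ph_smul, ph_smul, Nrm.val_smul, Nrm.val_sub, Nrm.val_smul] at h3
      exact h3)
    (b := ph Q ⟨b, hPH hbP⟩) (b' := ph Q b') (ph_mem_im Q hb) (ph_mem_im Q hb') (by
      intro w hw
      rw [ph_smul, ph_smul, Nrm.ext_iff, Nrm.val_smul, Nrm.val_smul]
      exact h.same (hAP' hb') hbP hβ hβ' hw)
  rw [key]
  exact ph_mem_im Q hb

/-- **Two atoms of one block have the same image.** -/
theorem same_im (hc : IsCharacteristicTwoType G) (hL : IsLoc (S : Subgroup G) L) (hP : IsParS (S : Subgroup G) P)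
    (hPL : P ≤ L) (LH : L ≤ H) (noH : NoOverM (zl (S : Subgroup G) L) H) (Q : Nrm H (zl (S : Subgroup G) L))
    {F : Type} [Field F] [Finite F] [CharP F 2] {k : ℕ}
    (M : NatKM F (S : Subgroup G) P (zl (S : Subgroup G) P) (cv (S : Subgroup G) P) k) {A A' : Subgroup G}
    (hA : A ∈ EP (S : Subgroup G) P (zl (S : Subgroup G) L))
    (hA' : A' ∈ EP (S : Subgroup G) P (zl (S : Subgroup G) L)) {j : Fin k} (O : NO3S.ThmB.One M (zl (S : Subgroup G) L) A j)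
    (O' : NO3S.ThmB.One M (zl (S : Subgroup G) L) A' j) : im Q A' = im Q A :=
  le_antisymm (im_le hc hL hP hPL LH noH Q M hA hA' O O') (im_le hc hL hP hPL LH noH Q M hA' hA O' O)

end Cfsg.Agent.Omega.NOThreeL.RRed.Blk.AcNSame

end

section


/-!
# NO-3L, box R: active `P ∈ P*(S)`, nonsplit blocks allowed (helper855, #26560): the inputs of the assembly

`P ∈ P*(S)`, `P ≤ L`, `U = zl S L`, `EP S P U ≠ ∅` (`P` active), `K = KP S P U`.

* `sup_of_EP` : `U = V_P C_U(A)`, `A ∈ EP`; `comm_eq` : `[u, c] = [v, c]`, `v ∈ V_P`, `c` conjugate to an element of `A`;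
  `comm_VP` : `[U, K] ≤ V_P`;
* `gen`, `dich`, `genK` : the formal fields (all types of `P`);
* `one_block` : natural type, `4 ≤ |F|`: the blocks `NBd`, `N ≤ [V, K]`, `K` normalises `N` and centralises `Z`, the other
  members of `EP` centralise `N`.
-/

set_option autoImplicit false
set_option linter.unusedSectionVars false

namespace Cfsg.Agent.Omega.NOThreeL.RRed.Blk.AcNOf

open Subgroup Cfsg Cfsg.Agent.ZN Cfsg.Agent.Omega.MinPar
open Cfsg.Agent.Omega.FFThm Cfsg.Agent.Lib.SL2Mat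
open Cfsg.Agent.Omega.FrameFF (cv)
open Cfsg.Agent.Omega.NO3S.ThmB Cfsg.Agent.Omega.NO3S.KeyRad
open Cfsg.Agent.Omega.NOThreeL.RSplit (Nrm)
open Cfsg.Agent.Omega.NOThreeL.RRed.NS (fxd brk mem_fxd DD YY smul_eq_iff)
open Cfsg.Agent.Omega.NOThreeL.RRed.Blk.TypesGam (rt NO)
open Cfsg.Agent.Omega.NOThreeL.RRed.Blk.TypesClo (clo up_mem_clo lo_mem_clo)
open Cfsg.Agent.Omega.NOThreeL.RRed.Blk.TypesNat (XH ph ph_smul XH_faith ph_eq no_XH)
open Cfsg.Agent.Omega.NOThreeL.RRed.Blk.AsmCore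
open Cfsg.Agent.Omega.NOThreeL.RRed.Blk.AsmAct (one_of norm_blk KP_blk)
open scoped Pointwise

universe u

variable {G : Type u} [Group G]

section main

variable [Finite G] {S : Sylow 2 G} {L P : Subgroup G} (hc : IsCharacteristicTwoType G)
  (hL : IsLoc (S : Subgroup G) L) (hP : IsParS (S : Subgroup G) P) (hPL : P ≤ L)
  (no : NoOverM (zl (S : Subgroup G) L) L)
include hc hL hP hPL no

/-- `U = V_P C_U(A)` -/
theorem sup_of_EP {A : Subgroup G} (hA : A ∈ EP (S : Subgroup G) P (zl (S : Subgroup G) L)) :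
    zl (S : Subgroup G) L = zl (S : Subgroup G) P ⊔ (zl (S : Subgroup G) L ⊓ centralizer (A : Set G)) := by
  have hE := FFThm.elem_zl hc S hL
  have hcomm : zl (S : Subgroup G) L ≤ centralizer (zl (S : Subgroup G) L : Set G) := fun x hx =>
    mem_centralizer_iff.2 fun y hy => congrArg Subtype.val (hE.1.is_comm.comm ⟨y, hy⟩ ⟨x, hx⟩)
  obtain ⟨-, -, -, -, h1⟩ := exact_split hc hP hPL no hcomm hA.1.1 hA.1.2.toElemM hA.1.2.exact hA.2
  have h2 := (cent_of_EP hc hL hP hPL no hA).1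
  rw [← h1]
  refine le_antisymm (le_inf le_rfl fun x hx => ?_) inf_le_left
  rw [mem_centralizer_iff]
  intro a ha
  exact (mem_centralizer_iff.1 (h2 ha) x hx).symm

/-- `[u, c] = [v, c]` for some `v ∈ V_P` -/
theorem comm_eq {A : Subgroup G} (hA : A ∈ EP (S : Subgroup G) P (zl (S : Subgroup G) L)) {p a u : G} (hp : p ∈ P)
    (ha : a ∈ A) (hu : u ∈ zl (S : Subgroup G) L) :
    ∃ v ∈ zl (S : Subgroup G) P, (p * a * p⁻¹) * u * (p * a * p⁻¹)⁻¹ * u⁻¹ = (p * a * p⁻¹) * v * (p * a * p⁻¹)⁻¹ * v⁻¹ := by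
  have hE := FFThm.elem_zl hc S hL
  have hLU : L ≤ normalizer (zl (S : Subgroup G) L : Set G) := le_normalizer_zl _ _
  have hPV : P ≤ normalizer (zl (S : Subgroup G) P : Set G) := le_normalizer_zl _ _
  have hVU := NOThreeL.Star.zl_mono (S : Subgroup G) hPL
  have hu' : p⁻¹ * u * p ∈ zl (S : Subgroup G) L := by
    have := (mem_normalizer_iff.1 (hLU (hPL (inv_mem hp))) u).1 hu
    rwa [inv_inv] at this
  rw [sup_of_EP hc hL hP hPL no hA] at hu'
  have hel : ∀ {x y : G}, x ∈ zl (S : Subgroup G) L → y ∈ zl (S : Subgroup G) L → x * y = y * x := fun {x y} hx hy =>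
    congrArg Subtype.val (hE.1.is_comm.comm ⟨x, hx⟩ ⟨y, hy⟩)
  have hn : zl (S : Subgroup G) L ⊓ centralizer (A : Set G) ≤ normalizer (zl (S : Subgroup G) P : Set G) := by
    intro x hx
    rw [mem_normalizer_iff]
    intro y
    constructor
    · intro hy
      rw [hel hx.1 (hVU hy), mul_inv_cancel_right]; exact hy
    · intro hy
      have h1 : x * (x * y * x⁻¹) = (x * y * x⁻¹) * x := hel hx.1 (hVU hy)
      have e : y = x * y * x⁻¹ := by
        have h3 : x * (x * y * x⁻¹) = x * y := by rw [h1]; group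
        exact (mul_left_cancel h3).symm
      rw [e]; exact hy
  have hm : p⁻¹ * u * p ∈ ((zl (S : Subgroup G) P ⊔ (zl (S : Subgroup G) L ⊓ centralizer (A : Set G)) : Subgroup G) :
      Set G) := hu'
  rw [coe_mul_of_right_le_normalizer_left _ _ hn] at hm
  obtain ⟨v, hv, z, hz, e⟩ := hm
  have hv' : v ∈ zl (S : Subgroup G) P := hv
  have hz' : z ∈ zl (S : Subgroup G) L ⊓ centralizer (A : Set G) := hz
  refine ⟨p * v * p⁻¹, (mem_normalizer_iff.1 (hPV hp) v).1 hv', ?_⟩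
  have hza : a * z = z * a := mem_centralizer_iff.1 hz'.2 a ha
  have e1 : u = p * (v * z) * p⁻¹ := by
    have e : v * z = p⁻¹ * u * p := e
    rw [e]; group
  rw [e1]
  calc p * a * p⁻¹ * (p * (v * z) * p⁻¹) * (p * a * p⁻¹)⁻¹ * (p * (v * z) * p⁻¹)⁻¹
      = p * (a * v * (z * a⁻¹) * z⁻¹ * v⁻¹) * p⁻¹ := by group
    _ = p * (a * v * (a⁻¹ * z) * z⁻¹ * v⁻¹) * p⁻¹ := by
        have h3 : z * a⁻¹ = a⁻¹ * z := by
          rw [eq_inv_mul_iff_mul_eq, ← mul_assoc, hza, mul_inv_cancel_right]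
        rw [h3]
    _ = p * a * p⁻¹ * (p * v * p⁻¹) * (p * a * p⁻¹)⁻¹ * (p * v * p⁻¹)⁻¹ := by group

/-- `[U, K] ≤ V_P` -/
theorem comm_VP {x w : G} (hx : x ∈ KP (S : Subgroup G) P (zl (S : Subgroup G) L)) (hw : w ∈ zl (S : Subgroup G) L) :
    x * w * x⁻¹ * w⁻¹ ∈ zl (S : Subgroup G) P := by
  have hLU : L ≤ normalizer (zl (S : Subgroup G) L : Set G) := le_normalizer_zl _ _
  have hPV : P ≤ normalizer (zl (S : Subgroup G) P : Set G) := le_normalizer_zl _ _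
  have hUx : ∀ x ∈ P, ∀ w ∈ zl (S : Subgroup G) L, x * w * x⁻¹ ∈ zl (S : Subgroup G) L := fun x hx w hw =>
    (mem_normalizer_iff.1 (hLU (hPL hx)) w).1 hw
  unfold KP at hx
  induction hx using closure_induction generalizing w with
  | mem x hx =>
    obtain ⟨p, hp, A, hA, a, ha, rfl⟩ := hx
    obtain ⟨v, hv, e⟩ := comm_eq hc hL hP hPL no hA hp ha hw
    rw [e]
    have haP : p * a * p⁻¹ ∈ P := mul_mem (mul_mem hp (hP.le (hA.1.1 ha))) (inv_mem hp)
    exact mul_mem ((mem_normalizer_iff.1 (hPV haP) v).1 hv) (inv_mem hv)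
  | one => simp
  | mul x y hx hy h1 h2 =>
    have hyP : y ∈ P := KP_le hP.le hy
    have e : x * y * w * (x * y)⁻¹ * w⁻¹ = (x * (y * w * y⁻¹) * x⁻¹ * (y * w * y⁻¹)⁻¹) * (y * w * y⁻¹ * w⁻¹) := by group
    rw [e]
    exact mul_mem (h1 (hUx y hyP w hw)) (h2 hw)
  | inv x hx h1 =>
    have hxP : x ∈ P := KP_le hP.le hx
    have hw' : x⁻¹ * w * x ∈ zl (S : Subgroup G) L := by
      have := hUx _ (inv_mem hxP) w hw
      rwa [inv_inv] at this
    have e : x⁻¹ * w * x⁻¹⁻¹ * w⁻¹ = (x * (x⁻¹ * w * x) * x⁻¹ * (x⁻¹ * w * x)⁻¹)⁻¹ := by group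
    rw [e]
    exact inv_mem (h1 hw')

variable {H : Subgroup G} (LH : L ≤ H) (Q : Nrm H (zl (S : Subgroup G) L))

theorem brk_K_le : brk Q.Mod (im Q (KP (S : Subgroup G) P (zl (S : Subgroup G) L))) ≤ Q.ad (zl (S : Subgroup G) P) :=
  brk_im Q fun _ hx _ hw => comm_VP hc hL hP hPL no hx hw

/-- **the field `dich`** -/
theorem dich : ∀ A ∈ im Q '' EE (S : Subgroup G) (zl (S : Subgroup G) L),
    A ∈ im Q '' EP (S : Subgroup G) P (zl (S : Subgroup G) L) ∨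
      ∀ a ∈ A, ∀ m ∈ brk Q.Mod (im Q (KP (S : Subgroup G) P (zl (S : Subgroup G) L))), a • m = m := by
  rintro _ ⟨A, hA, rfl⟩
  by_cases h : A ≤ centralizer (zl (S : Subgroup G) P : Set G)
  · right
    rw [im_smul]
    intro a ha _ m hm
    have h1 : Q.val m ∈ zl (S : Subgroup G) P := brk_K_le hc hL hP hPL no Q hm
    have h2 := mem_centralizer_iff.1 (h ha) _ h1
    rw [← h2, mul_inv_cancel_right]
  · exact Or.inl ⟨A, ⟨hA, h⟩, rfl⟩

omit hL no in
include LH in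
/-- **the field `gen`** -/
theorem gen (ne : (EP (S : Subgroup G) P (zl (S : Subgroup G) L)).Nonempty) :
    im Q P ≤ im Q (KP (S : Subgroup G) P (zl (S : Subgroup G) L)) ⊔ im Q (S : Subgroup G) := by
  have PK := le_KP_sup hc hP ne
  have SP := hP.le
  have KL : KP (S : Subgroup G) P (zl (S : Subgroup G) L) ≤ H := ((KP_le SP).trans hPL).trans LH
  rintro _ ⟨p, hp, rfl⟩
  have h1 : (p : G) ∈ KP (S : Subgroup G) P (zl (S : Subgroup G) L) ⊔ (S : Subgroup G) := PK hp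
  have h3 : (p : G) ∈ ((KP (S : Subgroup G) P (zl (S : Subgroup G) L) ⊔ (S : Subgroup G) : Subgroup G) : Set G) := h1
  rw [coe_mul_of_right_le_normalizer_left _ _ (SP.trans KP_norm)] at h3
  obtain ⟨k, hk, s, hs, e⟩ := h3
  have h2 : p = (⟨k, KL hk⟩ : H) * ⟨s, LH ((SP.trans hPL) hs)⟩ := Subtype.ext e.symm
  rw [h2, map_mul]
  exact mul_mem (mem_sup_left (ph_mem_im Q hk)) (mem_sup_right (ph_mem_im Q hs))

omit hL no in
/-- `K` is generated by the `K`-conjugates of the members of `EP` -/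
theorem KP_gen (ne : (EP (S : Subgroup G) P (zl (S : Subgroup G) L)).Nonempty) :
    KP (S : Subgroup G) P (zl (S : Subgroup G) L) ≤ closure {x | ∃ g ∈ KP (S : Subgroup G) P (zl (S : Subgroup G) L),
      ∃ A ∈ EP (S : Subgroup G) P (zl (S : Subgroup G) L), ∃ a ∈ A, x = g * a * g⁻¹} := by
  have PK := le_KP_sup hc hP ne
  have SP := hP.le
  have hLU : L ≤ normalizer (zl (S : Subgroup G) L : Set G) := le_normalizer_zl _ _
  refine (closure_le _).2 ?_
  rintro _ ⟨p, hp, A, hA, a, ha, rfl⟩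
  have h3 : p ∈ ((KP (S : Subgroup G) P (zl (S : Subgroup G) L) ⊔ (S : Subgroup G) : Subgroup G) : Set G) := PK hp
  rw [coe_mul_of_right_le_normalizer_left _ _ (SP.trans KP_norm)] at h3
  obtain ⟨k, hk, s, hs, e⟩ := h3
  have e' : k * s = p := e
  subst e'
  have e : k * s * a * (k * s)⁻¹ = k * (s * a * s⁻¹) * k⁻¹ := by group
  rw [e]
  exact subset_closure ⟨k, hk, _, EP_cj SP hs (hLU ((SP.trans hPL) hs)) hA, _, NS.conj_mem' ha, rfl⟩

omit hL no in
include LH in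
/-- **the field `genK`** -/
theorem genK (ne : (EP (S : Subgroup G) P (zl (S : Subgroup G) L)).Nonempty) :
    im Q (KP (S : Subgroup G) P (zl (S : Subgroup G) L)) ≤
      closure {x | ∃ g ∈ im Q (KP (S : Subgroup G) P (zl (S : Subgroup G) L)),
        ∃ A ∈ im Q '' EP (S : Subgroup G) P (zl (S : Subgroup G) L), ∃ a ∈ A, x = g * a * g⁻¹} := by
  have KL : KP (S : Subgroup G) P (zl (S : Subgroup G) L) ≤ H := ((KP_le hP.le).trans hPL).trans LH
  apply im_le_of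
  refine (KP_gen hc hP hPL ne).trans ?_
  rw [closure_le]
  rintro _ ⟨g, hg, A, hA, a, ha, rfl⟩
  have haL : a ∈ H := LH ((hP.le.trans hPL) (hA.1.1 ha))
  refine ⟨⟨g, KL hg⟩ * ⟨a, haL⟩ * ⟨g, KL hg⟩⁻¹, ?_, rfl⟩
  rw [SetLike.mem_coe, mem_comap, map_mul, map_mul, map_inv]
  exact subset_closure ⟨_, ph_mem_im Q hg, _, ⟨A, hA, rfl⟩, _, ph_mem_im Q ha, rfl⟩

omit hc hL hP hPL no [Finite G] in
theorem EPE : im Q '' EP (S : Subgroup G) P (zl (S : Subgroup G) L) ⊆ im Q '' EE (S : Subgroup G) (zl (S : Subgroup G) L) := by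
  rintro _ ⟨A, hA, rfl⟩
  exact ⟨A, hA.1, rfl⟩

omit hc hL hP hPL no [Finite G] in
theorem EPK : ∀ A ∈ im Q '' EP (S : Subgroup G) P (zl (S : Subgroup G) L),
    A ≤ im Q (KP (S : Subgroup G) P (zl (S : Subgroup G) L)) := by
  rintro _ ⟨A, hA, rfl⟩
  exact im_mono Q (le_KP hA)

end main

end Cfsg.Agent.Omega.NOThreeL.RRed.Blk.AcNOf

end
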