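import Cfsg.Agent.Mrg.Omega.NOThreeL.RRed.Blk.AsmSL
import Cfsg.Agent.Mrg.Omega.NOThreeL.RRed.Blk.AsmPair


/-!
# NO-3L, box R: `T = clo up lo` is unique up to a swap (`|F| = 4`)

* `exists_red` : two blocks with the same root group, `4 ≤ |F|`: the second one is `Bk e (f + e α) C up lo₁`, `α` additive;
* `swap` : `α x = δ x²`, `x⁴ = x`: `y = w w₁ w` normalises the root group and swaps `clo up lo` and `clo up lo₁`;
* **`exists_swap`** : two blocks with the same root group: `clo up lo = clo up' lo'` or some `y ∈ ⟨clo up lo, clo up' lo'⟩` swaps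
  them and normalises the root group;
* `clo_two` : `|F| = 2`: `clo up lo` is determined by `N` and `C`;
* **`NBT.uniq`** : if a subgroup `R` of odd index of `C_X(C)` normalises `T` and `T'`, then `T = T'`.
-/

set_option autoImplicit false
set_option linter.unusedSectionVars false

namespace Cfsg.Agent.Omega.NOThreeL.RRed.Blk.AsmT

open Matrix
open Cfsg.Agent.Omega.NOThreeL.RRed.NS (fxd mem_fxd)
open Cfsg.Agent.Omega.NOThreeL.RRed.Blk.TypesGam
open Cfsg.Agent.Omega.NOThreeL.RRed.Blk.TypesEq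
open Cfsg.Agent.Omega.NOThreeL.RRed.Blk.TypesClo
open Cfsg.Agent.Omega.NOThreeL.RRed.Blk.Asm
open Cfsg.Agent.Omega.NOThreeL.RRed.Blk.AsmSL
open scoped Pointwise

universe u v w w'

variable {X : Type u} {V : Type v} [Group X] [AddCommGroup V] [DistribMulAction X V]
variable {F : Type w} [Field F] {e f : F →+ V} {C : AddSubgroup V} {up lo : F → X}
variable {F' : Type w'} [Field F'] {e' f' : F' →+ V} {C' : AddSubgroup V} {up' lo' : F' → X}

/-- `lo` is determined by `e, f, C` -/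
theorem lo_uniq (h : Bk e f C up lo) (hf : ∀ x : X, (∀ v : V, x • v = v) → x = 1) {x : X} {t : F}
    (he : ∀ z, x • e z = e z + f (t * z)) (hff : ∀ z, x • f z = f z) (hc : ∀ c ∈ C, x • c = c) : x = lo t :=
  h.ext hf (fun z => by rw [he, h.lo_e]) (fun z => by rw [hff, h.lo_f]) fun c hcc => by rw [hc c hcc, h.lo_c t c hcc]

theorem up_uniq (h : Bk e f C up lo) (hf : ∀ x : X, (∀ v : V, x • v = v) → x = 1) {x : X} {t : F}
    (he : ∀ z, x • e z = e z) (hff : ∀ z, x • f z = f z + e (t * z)) (hc : ∀ c ∈ C, x • c = c) : x = up t :=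
  h.ext hf (fun z => by rw [he, h.up_e]) (fun z => by rw [hff, h.up_f]) fun c hcc => by rw [hc c hcc, h.up_c t c hcc]

/-- `Bk` with another complement of `e(F)` -/
theorem bk_shift (h : Bk e f C up lo) (h2 : ∀ v : V, v + v = 0) {f₁ : F →+ V} {lo₁ : F → X} {α : F → F}
    (hα : ∀ x, f₁ x = f x + e (α x)) (l1 : ∀ t x, lo₁ t • e x = e x + f₁ (t * x)) (l2 : ∀ t x, lo₁ t • f₁ x = f₁ x)
    (l3 : ∀ t, ∀ c ∈ C, lo₁ t • c = c) : Bk e f₁ C up lo₁ where
  dec v := by
    obtain ⟨x, y, c, hc, rfl⟩ := h.dec v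
    refine ⟨x + α y, y, c, hc, ?_⟩
    have e1 : e (x + α y) + f₁ y + c = e x + f y + c + (e (α y) + e (α y)) := by rw [hα, map_add]; abel
    rw [e1, h2, add_zero]
  ind x y hxy := by
    have e1 : e x + f₁ y = e (x + α y) + f y := by rw [hα, map_add]; abel
    rw [e1] at hxy
    obtain ⟨e2, e3⟩ := h.ind _ _ hxy
    have e4 : e (α y) = 0 := by
      have := hα y
      rw [e3, map_zero, map_zero, zero_add] at this
      rw [e3]; exact this.symm
    have e5 : α y = 0 := (h.ind (α y) 0 (by rw [e4, map_zero, add_zero]; exact C.zero_mem)).1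
    rw [e5, add_zero] at e2
    exact ⟨e2, e3⟩
  up_e := h.up_e
  up_f t x := by rw [hα, smul_add, h.up_f, h.up_e]; abel
  up_c := h.up_c
  lo_e := l1
  lo_f := l2
  lo_c := l3

/-- the standard form of a second block with the same root group -/
theorem exists_red [Finite F] [Finite V] [Finite X] (h : Bk e f C up lo) (h' : Bk e' f' C' up' lo')
    (h2 : ∀ v : V, v + v = 0) (hf : ∀ x : X, (∀ v : V, x • v = v) → x = 1) (hno : NO X V) (h4 : 4 ≤ Nat.card F)
    (hrt : rt up = rt up') :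
    ∃ (α : F →+ F) (f₁ : F →+ V) (lo₁ : F → X), (∀ x, f₁ x = f x + e (α x)) ∧ Bk e f₁ C up lo₁ ∧
      clo up lo₁ = clo up' lo' := by
  obtain ⟨hC, -, hN⟩ := h.eq h' h2 hf hno h4 hrt
  obtain ⟨θ, a, b, ha, hb, hbij, hup, he, hff⟩ := exists_cmp h h' h2 hf hrt
  let φ : F' ≃+* F := RingEquiv.ofBijective θ hbij
  have hφ : ∀ x, θ (φ.symm x) = x := fun x => φ.apply_symm_apply x
  let f₁ : F →+ V := f'.comp ((φ.symm : F →+* F').toAddMonoidHom.comp (AddMonoidHom.mulLeft b⁻¹))
  have hf₁ : ∀ y, f₁ y = f' (φ.symm (b⁻¹ * y)) := fun y => rfl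
  have k1 : ∀ y, ∃ x, f₁ y = f y + e x := by
    intro y
    obtain ⟨x, c, hc, e1⟩ := hff (φ.symm (b⁻¹ * y))
    refine ⟨x, ?_⟩
    rw [hφ] at e1
    have e0 : b⁻¹ * y * b = y := by rw [mul_comm, mul_inv_cancel_left₀ hb]
    rw [e0] at e1
    have e2 : f₁ y ∈ e.range ⊔ f.range := by
      rw [hN]; exact AddSubgroup.mem_sup_right ⟨_, rfl⟩
    obtain ⟨_, ⟨x1, rfl⟩, _, ⟨y1, rfl⟩, e3⟩ := AddSubgroup.mem_sup.1 e2
    have e4 : e x + f y + c = e x1 + f y1 + 0 := by rw [← e1, ← hf₁, ← e3, add_zero]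
    have e5 := (h.uniq hc C.zero_mem e4).2.2
    rw [hf₁, e1, e5, add_zero, add_comm]
  choose α hα using k1
  have αadd : ∀ x y, α (x + y) = α x + α y := by
    intro x y
    have e1 : e (α (x + y)) + f (x + y) + 0 = e (α x + α y) + f (x + y) + 0 := by
      have e2 : f (x + y) + e (α (x + y)) = f (x + y) + e (α x + α y) := by
        rw [← hα, map_add f₁, hα x, hα y, map_add e, map_add f]; abel
      rw [add_left_cancel e2]
    exact (h.uniq C.zero_mem C.zero_mem e1).1
  refine ⟨AddMonoidHom.mk' α αadd, f₁, fun t => lo' (φ.symm (a * t)), hα, ?_, ?_⟩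
  · refine bk_shift h h2 hα (fun t x => ?_) (fun t x => h'.lo_f _ _) fun t c hc => h'.lo_c _ c (hC ▸ hc)
    have e1 : e x = e' (φ.symm (a⁻¹ * x * b⁻¹)) := by
      rw [he, hφ]
      congr 1
      field_simp
    rw [e1, h'.lo_e, hf₁, ← map_mul]
    congr 3
    field_simp
  · rw [clo, clo]
    congr 1
    refine congrArg₂ _ ?_ ?_
    · ext x
      constructor
      · rintro ⟨t, rfl⟩
        exact ⟨φ.symm (a⁻¹ * t), by rw [← hup, hφ, mul_inv_cancel_left₀ ha]⟩
      · rintro ⟨t, rfl⟩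
        exact ⟨_, hup t⟩
    · ext x
      constructor
      · rintro ⟨t, rfl⟩
        exact ⟨_, rfl⟩
      · rintro ⟨t, rfl⟩
        refine ⟨a⁻¹ * θ t, ?_⟩
        change lo' (φ.symm (a * (a⁻¹ * θ t))) = lo' t
        rw [mul_inv_cancel_left₀ ha]
        congr 1
        exact φ.symm_apply_apply t

/-- `|F| = 4`: additive maps -/
theorem add_four (two : ∀ x : F, x + x = 0) (h4 : Nat.card F = 4) (α : F →+ F) :
    ∃ g d : F, ∀ x, α x = g * x + d * x ^ 2 := by
  have : Finite F := Nat.finite_of_card_ne_zero (by omega)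
  have hc : ∃ c : F, c ≠ 0 ∧ c ≠ 1 := exists_ne h4.ge
  obtain ⟨c, hc0, hc1⟩ := hc
  have k0 : c + 1 ≠ 0 := fun h => hc1 (add_right_cancel (h.trans (two 1).symm))
  have k1 : c + 1 ≠ 1 := fun h => hc0 (add_eq_right.1 h)
  have k2 : c + 1 ≠ c := fun h => one_ne_zero (add_eq_left.1 h)
  have hall : ∀ x : F, x = 0 ∨ x = 1 ∨ x = c ∨ x = c + 1 := by
    classical
    intro x
    by_contra hx
    push Not at hx
    have := Fintype.ofFinite F
    have h5 : ({x, 0, 1, c, c + 1} : Finset F).card = 5 := by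
      rw [Finset.card_insert_of_notMem, Finset.card_insert_of_notMem, Finset.card_insert_of_notMem,
        Finset.card_insert_of_notMem, Finset.card_singleton]
      · rw [Finset.mem_singleton]
        exact fun h => k2 h.symm
      · simp only [Finset.mem_insert, Finset.mem_singleton, not_or]
        exact ⟨fun h => hc1 h.symm, fun h => k1 h.symm⟩
      · simp only [Finset.mem_insert, Finset.mem_singleton, not_or]
        exact ⟨zero_ne_one, fun h => hc0 h.symm, fun h => k0 h.symm⟩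
      · simp only [Finset.mem_insert, Finset.mem_singleton, not_or]
        exact ⟨hx.1, hx.2.1, hx.2.2.1, hx.2.2.2⟩
    have h6 := Finset.card_le_univ ({x, 0, 1, c, c + 1} : Finset F)
    rw [h5, ← Nat.card_eq_fintype_card, h4] at h6
    omega
  have hcc : c ^ 2 = c + 1 := by
    rcases hall (c ^ 2) with h | h | h | h
    · exact absurd (pow_eq_zero_iff (by norm_num) |>.1 h) hc0
    · exfalso
      have e1 : (c + 1) * (c + 1) = c ^ 2 + 1 + (c + c) := by ring
      rw [h, two, two, add_zero] at e1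
      exact k0 (mul_self_eq_zero.1 e1)
    · exfalso
      apply hc1
      have e1 : c * c = c * 1 := by rw [mul_one, ← pow_two, h]
      exact mul_left_cancel₀ hc0 e1
    · exact h
  refine ⟨α 1 + (α c + c * α 1), α c + c * α 1, fun x => ?_⟩
  have e1 : α 1 = (α 1 + (α c + c * α 1)) * 1 + (α c + c * α 1) * 1 ^ 2 := by
    have : (α 1 + (α c + c * α 1)) * 1 + (α c + c * α 1) * 1 ^ 2 =
      α 1 + ((α c + α c) + (c * α 1 + c * α 1)) := by ring
    rw [this, two, two, add_zero, add_zero]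
  have e2 : α c = (α 1 + (α c + c * α 1)) * c + (α c + c * α 1) * c ^ 2 := by
    rw [hcc]
    have : (α 1 + (α c + c * α 1)) * c + (α c + c * α 1) * (c + 1) =
      α c + (c * α 1 + c * α 1) + (c * α c + c * α c) + (c ^ 2 * α 1 + c ^ 2 * α 1) := by ring
    rw [this, two, two, two, add_zero, add_zero, add_zero]
  rcases hall x with rfl | rfl | rfl | rfl
  · rw [map_zero]; ring
  · exact e1
  · exact e2
  · rw [map_add]
    have : (α 1 + (α c + c * α 1)) * (c + 1) + (α c + c * α 1) * (c + 1) ^ 2 =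
      ((α 1 + (α c + c * α 1)) * c + (α c + c * α 1) * c ^ 2) +
        ((α 1 + (α c + c * α 1)) * 1 + (α c + c * α 1) * 1 ^ 2) +
        ((α c + c * α 1) * c + (α c + c * α 1) * c) := by ring
    rw [this, ← e1, ← e2, two, add_zero]

/-- **the swap** -/
theorem swap (h : Bk e f C up lo) (h2 : ∀ v : V, v + v = 0) (hf : ∀ x : X, (∀ v : V, x • v = v) → x = 1)
    {f₁ : F →+ V} {lo₁ : F → X} (h₁ : Bk e f₁ C up lo₁) {d : F} (hd : d ≠ 0) (hα : ∀ x, f₁ x = f x + e (d * x ^ 2))
    (hF : ∀ x : F, x ^ 4 = x) :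
    ∃ y ∈ clo up lo ⊔ clo up lo₁, MulAut.conj y • clo up lo = clo up lo₁ ∧
      MulAut.conj y • clo up lo₁ = clo up lo := by
  have hd3 : d ^ 3 = 1 := by
    have := hF d
    have e1 : d ^ 3 * d = 1 * d := by rw [one_mul, ← pow_succ]; exact this
    exact mul_right_cancel₀ hd e1
  -- `δ (δ x²)² = x`
  have hdd : ∀ x : F, d * (d * x ^ 2) ^ 2 = x := fun x => by
    have e1 : d * (d * x ^ 2) ^ 2 = d ^ 3 * x ^ 4 := by ring
    rw [e1, hd3, hF, one_mul]
  set w := wt up lo 1 with hw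
  set w₁ := wt up lo₁ 1 with hw₁
  have we : ∀ x, w • e x = f x := fun x => by rw [hw, h.wt_e h2 one_ne_zero, inv_one, one_mul]
  have wf : ∀ x, w • f x = e x := fun x => by rw [hw, h.wt_f h2 one_ne_zero, one_mul]
  have w1e : ∀ x, w₁ • e x = f₁ x := fun x => by rw [hw₁, h₁.wt_e h2 one_ne_zero, inv_one, one_mul]
  have w1f : ∀ x, w₁ • f₁ x = e x := fun x => by rw [hw₁, h₁.wt_f h2 one_ne_zero, one_mul]
  have hff : ∀ x, f x = f₁ x + e (d * x ^ 2) := fun x => by rw [hα, add_assoc, h2, add_zero]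
  set y := w * w₁ * w with hy
  have ye : ∀ x, y • e x = e (d * x ^ 2) := by
    intro x
    rw [hy, mul_smul, mul_smul, we, hff, smul_add, w1f, w1e, hα, hdd, smul_add, smul_add, we, wf]
    have e1 : f x + (e (d * x ^ 2) + f x) = e (d * x ^ 2) + (f x + f x) := by abel
    rw [e1, h2, add_zero]
  have yf : ∀ x, y • f x = f₁ (d * x ^ 2) := by
    intro x
    rw [hy, mul_smul, mul_smul, wf, w1e, hα, smul_add, wf, we, hα, hdd, add_comm]
  have yc : ∀ c ∈ C, y • c = c := by
    intro c hc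
    rw [hy, mul_smul, mul_smul, hw, hw₁, h.wt_c _ hc, h₁.wt_c _ hc, h.wt_c _ hc]
  have yf1 : ∀ x, y • f₁ x = f (d * x ^ 2) := by
    intro x
    rw [hα, smul_add, yf, ye, hdd, hα, hdd, add_assoc, h2, add_zero]
  have yy : y * y = 1 := by
    have := h.ext hf (x := y * y) (y := 1) (fun z => by rw [mul_smul, ye, ye, hdd, one_smul])
      (fun z => by rw [mul_smul, yf, yf1, hdd, one_smul]) fun c hc => by rw [mul_smul, yc c hc, yc c hc, one_smul]
    exact this
  have yi : y⁻¹ = y := inv_eq_of_mul_eq_one_right yy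
  have yup : ∀ t, y * up t * y = up (t ^ 2) := by
    intro t
    refine up_uniq h₁ hf (fun z => ?_) (fun z => ?_) fun c hc => ?_
    · rw [mul_smul, mul_smul, ye, h.up_e, ye, hdd]
    · rw [mul_smul, mul_smul, yf1, h.up_f, smul_add, yf, ye, hdd]
      congr 2
      have e1 : d * (t * (d * z ^ 2)) ^ 2 = t ^ 2 * (d * (d * z ^ 2) ^ 2) := by ring
      rw [e1, hdd]
    · rw [mul_smul, mul_smul, yc c hc, h.up_c t c hc, yc c hc]
  have ylo : ∀ t, y * lo t * y = lo₁ (t ^ 2) := by
    intro t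
    refine lo_uniq h₁ hf (fun z => ?_) (fun z => ?_) fun c hc => ?_
    · rw [mul_smul, mul_smul, ye, h.lo_e, smul_add, ye, yf, hdd]
      congr 2
      have e1 : d * (t * (d * z ^ 2)) ^ 2 = t ^ 2 * (d * (d * z ^ 2) ^ 2) := by ring
      rw [e1, hdd]
    · rw [mul_smul, mul_smul, yf1, h.lo_f, yf, hdd]
    · rw [mul_smul, mul_smul, yc c hc, h.lo_c t c hc, yc c hc]
  have yy' : ∀ x : X, y * (y * x * y) * y = x := by
    intro x
    calc y * (y * x * y) * y = (y * y) * x * (y * y) := by group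
      _ = x := by rw [yy]; group
  have hsq : ∀ t : F, (t ^ 2) ^ 2 = t := fun t => by rw [← pow_mul]; exact hF t
  have l1 : MulAut.conj y • clo up lo ≤ clo up lo₁ := by
    rw [clo, Subgroup.smul_closure, Subgroup.closure_le]
    rintro _ ⟨x, hx | hx, rfl⟩
    · obtain ⟨t, rfl⟩ := hx
      change y * up t * y⁻¹ ∈ clo up lo₁
      rw [yi, yup]; exact up_mem_clo _ _ _
    · obtain ⟨t, rfl⟩ := hx
      change y * lo t * y⁻¹ ∈ clo up lo₁
      rw [yi, ylo]; exact lo_mem_clo _ _ _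
  have l2 : MulAut.conj y • clo up lo₁ ≤ clo up lo := by
    rw [clo, Subgroup.smul_closure, Subgroup.closure_le]
    rintro _ ⟨x, hx | hx, rfl⟩
    · obtain ⟨t, rfl⟩ := hx
      change y * up t * y⁻¹ ∈ clo up lo
      rw [yi, yup]; exact up_mem_clo _ _ _
    · obtain ⟨t, rfl⟩ := hx
      change y * lo₁ t * y⁻¹ ∈ clo up lo
      rw [yi, ← hsq t, ← ylo, yy']; exact lo_mem_clo _ _ _
  have l3 : ∀ A B : Subgroup X, MulAut.conj y • A ≤ B → MulAut.conj y • B ≤ A → MulAut.conj y • A = B := by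
    intro A B hA hB
    refine le_antisymm hA ?_
    have e1 : MulAut.conj y • MulAut.conj y • B = B := by
      rw [← mul_smul, ← map_mul, yy, map_one, one_smul]
    calc B = MulAut.conj y • MulAut.conj y • B := e1.symm
      _ ≤ MulAut.conj y • A := Subgroup.pointwise_smul_le_pointwise_smul_iff.2 hB
  refine ⟨y, ?_, l3 _ _ l1 l2, l3 _ _ l2 l1⟩
  have m1 : ∀ {lo : F → X} (t : F), wt up lo t ∈ clo up lo := fun {lo} t =>
    mul_mem (mul_mem (up_mem_clo _ _ _) (lo_mem_clo _ _ _)) (up_mem_clo _ _ _)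
  exact mul_mem (mul_mem (Subgroup.mem_sup_left (m1 1)) (Subgroup.mem_sup_right (m1 1))) (Subgroup.mem_sup_left (m1 1))

/-- **two blocks with the same root group of order 4** -/
theorem exists_swap [Finite F] [Finite V] [Finite X] (h : Bk e f C up lo) (h' : Bk e' f' C' up' lo')
    (h2 : ∀ v : V, v + v = 0) (hf : ∀ x : X, (∀ v : V, x • v = v) → x = 1) (hno : NO X V) (h4 : Nat.card F = 4)
    (hrt : rt up = rt up') : clo up lo = clo up' lo' ∨
      ∃ y ∈ clo up lo ⊔ clo up' lo', MulAut.conj y • clo up lo = clo up' lo' ∧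
        MulAut.conj y • clo up' lo' = clo up lo := by
  obtain ⟨α, f₁, lo₁, hα, h₁, hcl⟩ := exists_red h h' h2 hf hno h4.ge hrt
  have two := h.two h2
  obtain ⟨g, d, hgd⟩ := add_four two h4 α
  rw [← hcl]
  have hF : ∀ x : F, x ^ 4 = x := by
    have := Fintype.ofFinite F
    intro x
    have := FiniteField.pow_card x
    rwa [← Nat.card_eq_fintype_card, h4] at this
  -- the linear part
  let f₀ : F →+ V := f + e.comp (AddMonoidHom.mulLeft g)
  have hf0 : ∀ x, f₀ x = f x + e (g * x) := fun x => rfl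
  have hf0' : ∀ x, f₀ x = up g • f x := fun x => by rw [hf0, h.up_f]
  let lo₀ : F → X := fun t => up g * lo t * (up g)⁻¹
  have uie : ∀ x, (up g)⁻¹ • e x = e x := fun x => by rw [inv_smul_eq_iff, h.up_e]
  have h0 : Bk e f₀ C up lo₀ := by
    refine bk_shift h h2 hf0 (fun t x => ?_) (fun t x => ?_) fun t c hc => ?_
    · change (up g * lo t * (up g)⁻¹) • e x = _
      rw [mul_smul, mul_smul, uie, h.lo_e, smul_add, h.up_e, hf0']
    · change (up g * lo t * (up g)⁻¹) • f₀ x = _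
      rw [mul_smul, mul_smul, hf0', inv_smul_smul, h.lo_f]
    · change (up g * lo t * (up g)⁻¹) • c = _
      have : (up g)⁻¹ • c = c := by rw [inv_smul_eq_iff, h.up_c g c hc]
      rw [mul_smul, mul_smul, this, h.lo_c t c hc, h.up_c g c hc]
  have hcl0 : clo up lo₀ = clo up lo := by
    apply le_antisymm
    · refine (Subgroup.closure_le _).2 ?_
      rintro x (⟨t, rfl⟩ | ⟨t, rfl⟩)
      · exact up_mem_clo _ _ _
      · exact mul_mem (mul_mem (up_mem_clo _ _ _) (lo_mem_clo _ _ _)) (inv_mem (up_mem_clo _ _ _))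
    · refine (Subgroup.closure_le _).2 ?_
      rintro x (⟨t, rfl⟩ | ⟨t, rfl⟩)
      · exact up_mem_clo _ _ _
      · have e1 : lo t = (up g)⁻¹ * lo₀ t * up g := by
          change lo t = (up g)⁻¹ * (up g * lo t * (up g)⁻¹) * up g
          group
        change lo t ∈ clo up lo₀
        rw [e1]
        exact mul_mem (mul_mem (inv_mem (up_mem_clo _ _ _)) (lo_mem_clo _ _ _)) (up_mem_clo _ _ _)
  have hα0 : ∀ x, f₁ x = f₀ x + e (d * x ^ 2) := fun x => by rw [hα, hgd, hf0, map_add]; abel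
  rw [← hcl0]
  by_cases hd : d = 0
  · left
    have e1 : f₁ = f₀ := by
      ext x
      rw [hα0, hd, zero_mul, map_zero, add_zero]
    subst e1
    congr 1
    funext t
    exact (lo_uniq h0 hf (h₁.lo_e t) (h₁.lo_f t) (h₁.lo_c t)).symm
  · right
    exact swap h0 h2 hf h₁ hd hα0 hF

theorem det_two {a b c d : F} (hall : ∀ z : F, z = 0 ∨ z = 1) (two : (1 : F) + 1 = 0) (n1 : ¬ (a = 0 ∧ b = 0))
    (n2 : ¬ (c = 0 ∧ d = 0)) (n3 : ¬ (a = c ∧ b = d)) : a * d - c * b = 1 := by
  have h1 : (-1 : F) = 1 := by rw [neg_eq_iff_add_eq_zero, two]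
  rcases hall a with rfl | rfl <;> rcases hall b with rfl | rfl <;> rcases hall c with rfl | rfl <;>
    rcases hall d with rfl | rfl <;>
    first
      | exact absurd (And.intro rfl rfl) n1
      | exact absurd (And.intro rfl rfl) n2
      | exact absurd (And.intro rfl rfl) n3
      | (simp only [mul_one, mul_zero, sub_zero, zero_sub]; done)
      | (simp only [mul_one, mul_zero, sub_zero, zero_sub]; exact h1)

/-- `|F| = 2` : `clo up lo` is the group of all elements which centralise `C` and normalise `N` -/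
theorem clo_two (h : Bk e f C up lo) (hf : ∀ x : X, (∀ v : V, x • v = v) → x = 1) (h2 : ∀ v : V, v + v = 0)
    (hF : Nat.card F = 2) {x : X} (hC : ∀ c ∈ C, x • c = c)
    (hN : ∀ n ∈ e.range ⊔ f.range, x • n ∈ e.range ⊔ f.range) : x ∈ clo up lo := by
  classical
  have hall : ∀ z : F, z = 0 ∨ z = 1 := by
    intro z
    by_contra hz
    push Not at hz
    have : Finite F := Nat.finite_of_card_ne_zero (by omega)
    have := Fintype.ofFinite F
    have h5 : ({z, 0, 1} : Finset F).card = 3 := by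
      rw [Finset.card_insert_of_notMem, Finset.card_insert_of_notMem, Finset.card_singleton]
      · rw [Finset.mem_singleton]
        exact zero_ne_one
      · simp only [Finset.mem_insert, Finset.mem_singleton, not_or]
        exact hz
    have h6 := Finset.card_le_univ ({z, 0, 1} : Finset F)
    rw [h5, ← Nat.card_eq_fintype_card, hF] at h6
    omega
  have two := h.two h2
  have hex : ∀ n ∈ e.range ⊔ f.range, ∃ a b, n = e a + f b := by
    intro n hn
    obtain ⟨_, ⟨a, rfl⟩, _, ⟨b, rfl⟩, e1⟩ := AddSubgroup.mem_sup.1 hn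
    exact ⟨a, b, e1.symm⟩
  obtain ⟨a, b, hab⟩ := hex _ (hN (e 1) (AddSubgroup.mem_sup_left ⟨1, rfl⟩))
  obtain ⟨c, d, hcd⟩ := hex _ (hN (f 1) (AddSubgroup.mem_sup_right ⟨1, rfl⟩))
  have inj : ∀ p q : F, x • (e p + f q) = 0 → p = 0 ∧ q = 0 := by
    intro p q h0
    have e1 : e p + f q = 0 := by
      rw [← inv_smul_smul x (e p + f q), h0, smul_zero]
    exact h.ind p q (e1 ▸ C.zero_mem)
  have n1 : ¬ (a = 0 ∧ b = 0) := fun h0 => one_ne_zero (inj 1 0 (by
    rw [map_zero, add_zero, hab, h0.1, h0.2, map_zero, map_zero, add_zero])).1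
  have n2 : ¬ (c = 0 ∧ d = 0) := fun h0 => one_ne_zero (inj 0 1 (by
    rw [map_zero, zero_add, hcd, h0.1, h0.2, map_zero, map_zero, add_zero])).2
  have n3 : ¬ (a = c ∧ b = d) := fun h0 => one_ne_zero (inj 1 1 (by
    rw [smul_add, hab, hcd, h0.1, h0.2, h2])).1
  have hdet : (!![a, c; b, d] : Matrix (Fin 2) (Fin 2) F).det = 1 := by
    rw [Matrix.det_fin_two_of]
    exact det_two hall (two 1) n1 n2 n3
  refine mem_clo h hf (B := ⟨!![a, c; b, d], hdet⟩) ⟨fun w => ?_, hC⟩
  have e0 : (!![a, c; b, d] : Matrix (Fin 2) (Fin 2) F).mulVec w = ![a * w 0 + c * w 1, b * w 0 + d * w 1] := by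
    funext i
    fin_cases i <;> simp [Matrix.mulVec, dotProduct, Fin.sum_univ_two]
  change _ = e ((!![a, c; b, d] : Matrix (Fin 2) (Fin 2) F).mulVec w 0) +
    f ((!![a, c; b, d] : Matrix (Fin 2) (Fin 2) F).mulVec w 1)
  rw [e0]
  rcases hall (w 0) with h0 | h0 <;> rcases hall (w 1) with h1 | h1 <;>
    simp only [h0, h1, Matrix.cons_val_zero, Matrix.cons_val_one, map_zero, add_zero, zero_add, mul_zero, mul_one,
      smul_zero, smul_add, hab, hcd, map_add]
  abel

end Cfsg.Agent.Omega.NOThreeL.RRed.Blk.AsmT
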