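import Cfsg.Agent.Mrg.Omega.NOThreeL.RRed.Blk.AsmTor
import Cfsg.Agent.Mrg.Omega.NOThreeL.RRed.Blk.AsmCore
import Cfsg.Agent.Mrg.Omega.NOThreeL.RRed.Blk.AsmPair


/-!
# NO-3L, box R: the input `Tor` for the active `P` of natural type

* `td_EP` : `P ∈ P*(S)` of natural type over `F`, `|F| ≥ 4`, `A ∈ EP S P U`: `TD (im Q S) (im Q A) N C` for every
  natural block `(N, C)` with root group `im Q A`;
* `tor_FFs` : `TD` for the members of `RR` ⟹ `Tor S (FFs EE RR) N C`.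
-/

set_option autoImplicit false
set_option linter.unusedSectionVars false

namespace Cfsg.Agent.Omega.NOThreeL.RRed.Blk.AsmTor

open Subgroup Cfsg Cfsg.Agent.ZN Cfsg.Agent.Omega.MinPar
open Cfsg.Agent.Omega.FFThm
open Cfsg.Agent.Omega.FrameFF (cv)
open Cfsg.Agent.Omega.NO3S.ThmB Cfsg.Agent.Omega.NO3S.KeyRad
open Cfsg.Agent.Omega.NOThreeL.RSplit (Nrm)
open Cfsg.Agent.Omega.NOThreeL.RRed.NS (DD)
open Cfsg.Agent.Omega.NOThreeL.RRed.Blk.Asm (NB St FFs le_FFs)
open Cfsg.Agent.Omega.NOThreeL.RRed.Blk.AsmT (TD Tor)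
open Cfsg.Agent.Omega.NOThreeL.RRed.Blk.AsmCore (EE EP)
open scoped Pointwise

universe u v

/-- `TD` for the members of `RR` suffices. -/
theorem tor_FFs {X : Type u} {V : Type v} [Group X] [AddCommGroup V] [DistribMulAction X V] {S : Subgroup X}
    {EE RR : Set (Subgroup X)} {N C : Subgroup X → AddSubgroup V} (h : ∀ A ∈ RR, TD S A (N A) (C A)) :
    Tor S (FFs EE RR) N C := by
  rintro D ⟨g, hg, A, hA, rfl⟩ -
  exact ⟨A, le_FFs hA, g, rfl, h A hA⟩

variable {G : Type u} [Group G] [Finite G] {S : Sylow 2 G} {L P : Subgroup G}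

/-- **`TD` for the active `P` of natural type.** -/
theorem td_EP (hc : IsCharacteristicTwoType G) (hL : IsLoc (S : Subgroup G) L) (hP : IsParS (S : Subgroup G) P)
    (hPL : P ≤ L) (no : NoOverM (zl (S : Subgroup G) L) L) {F : Type} [Field F] [Finite F] [CharP F 2] {k : ℕ}
    (M : NatKM F (S : Subgroup G) P (zl (S : Subgroup G) P) (cv (S : Subgroup G) P) k) (hF : 4 ≤ Nat.card F)
    (hsp : (⨆ j, blk M j) ⊓ cv (S : Subgroup G) P = ⊥) (Q : Nrm L (zl (S : Subgroup G) L)) {A : Subgroup G}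
    (hA : A ∈ EP (S : Subgroup G) P (zl (S : Subgroup G) L)) {N C : AddSubgroup Q.Mod}
    (hNC : NB (AsmCore.im Q A) N C) : TD (AsmCore.im Q (S : Subgroup G)) (AsmCore.im Q A) N C := by
  obtain ⟨j, O⟩ := AsmAct.one_of hc hL hP hPL no M hA
  have hD : DD M j = ⊥ := by
    have h1 : DD M j ≤ (⨆ j, blk M j) ⊓ cv (S : Subgroup G) P :=
      le_inf (inf_le_left.trans (le_iSup (blk M) j)) inf_le_right
    rw [hsp] at h1
    exact le_bot_iff.1 h1
  exact td_of (Inst.nb hc hP M) (by omega) Q (FFThm.elem_zl hc S hL) no hPL (NOThreeL.Star.zl_mono (S : Subgroup G) hPL) O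
    (hA.1.1.trans hP.le) hD hP.le hNC

end Cfsg.Agent.Omega.NOThreeL.RRed.Blk.AsmTor
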