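import Cfsg.Agent.Mrg.Omega.NOThreeL.RRed.Blk.AsmOf
import Cfsg.Agent.Mrg.Omega.NOThreeL.RRed.NS.Three
import Cfsg.Agent.Mrg.Omega.NOThreeL.RRed.Blk.AsmPair
import Cfsg.Agent.Mrg.Omega.NOThreeL.RRed.Blk.AsmSL


/-!
# NO-3L, box R: the group `⟨A, A^p⟩` of a natural block is normalised by `N_P(A)` (input `tor` of helper877 #26278)

* `full` : `clo up lo` contains all of `SL₂(F)`; `conj_clo` : an element which normalises `C` and conjugates the generators
  to elements which act as `SL₂(F)` on the block normalises `clo up lo`;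
* `exists_bk2` : `TypesNat.exists_bk` with the coordinates;
* **`tor_of`** : `M : NatKM F S P V D k`, `One M U A j`, `DD M j = 1` ⟹ `clo up lo` is normalised by `N_P(A)` (modulo
  `C(U)`);
* **`td_of`** : `Asm.NB (im Q A) N C` ⟹ `AsmT.TD (im Q S') (im Q A) N C` (`S' ≤ P`); `td_blk` : for the block of `M`.
-/

set_option autoImplicit false
set_option linter.unusedSectionVars false

namespace Cfsg.Agent.Omega.NOThreeL.RRed.Blk.AsmTor

open Subgroup Cfsg Cfsg.Agent.ZN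
open Cfsg.Agent.Omega.FFThm Cfsg.Agent.Lib.SL2Mat
open Cfsg.Agent.Omega.NatPair (ap)
open Cfsg.Agent.Omega.NO3S.ThmB Cfsg.Agent.Omega.NO3S.KeyRad
open Cfsg.Agent.Omega.NOThreeL.RSplit (Nrm)
open Cfsg.Agent.Omega.NOThreeL.RRed.NS hiding rt
open Cfsg.Agent.Omega.NOThreeL.RRed.Blk.TypesGam (Bk rt NO)
open Cfsg.Agent.Omega.NOThreeL.RRed.Blk.TypesClo (clo up_mem_clo lo_mem_clo)
open Cfsg.Agent.Omega.NOThreeL.RRed.Blk.TypesNat
open scoped Pointwise

universe u v w w'

section abs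

variable {X : Type u} {V : Type v} [Group X] [AddCommGroup V] [DistribMulAction X V] {F : Type w} [Field F]
  {e f : F →+ V} {C : AddSubgroup V} {up lo : F → X}

/-- `x` acts as the matrix `(a b; c d)` on the block and trivially on `C` -/
structure Mt (e f : F →+ V) (C : AddSubgroup V) (x : X) (a b c d : F) : Prop where
  act : ∀ s t, x • (e s + f t) = e (a * s + b * t) + f (c * s + d * t)
  fix : ∀ m ∈ C, x • m = m

theorem Mt.mul {x x' : X} {a b c d a' b' c' d' : F} (h : Mt e f C x a b c d) (h' : Mt e f C x' a' b' c' d') :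
    Mt e f C (x * x') (a * a' + b * c') (a * b' + b * d') (c * a' + d * c') (c * b' + d * d') where
  act s t := by
    rw [mul_smul, h'.act, h.act]
    congr 2 <;> ring
  fix m hm := by rw [mul_smul, h'.fix m hm, h.fix m hm]

theorem Mt.congr {x : X} {a b c d a' b' c' d' : F} (h : Mt e f C x a b c d) (h1 : a = a') (h2 : b = b') (h3 : c = c')
    (h4 : d = d') : Mt e f C x a' b' c' d' := by subst h1 h2 h3 h4; exact h

theorem mt_up (h : Bk e f C up lo) (t : F) : Mt e f C (up t) 1 t 0 1 where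
  act s r := by
    rw [smul_add, h.up_e, h.up_f, zero_mul, zero_add, one_mul, one_mul, map_add]
    abel
  fix := h.up_c t

theorem mt_lo (h : Bk e f C up lo) (t : F) : Mt e f C (lo t) 1 0 t 1 where
  act s r := by
    rw [smul_add, h.lo_e, h.lo_f, zero_mul, add_zero, one_mul, one_mul, map_add]
    abel
  fix := h.lo_c t

/-- `clo up lo` induces `SL₂(F)`. -/
theorem full (h : Bk e f C up lo) {a b c d : F} (hd : a * d - b * c = 1) : ∃ x ∈ clo up lo, Mt e f C x a b c d := by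
  have key : ∀ {a b c d : F}, c ≠ 0 → a * d - b * c = 1 → ∃ x ∈ clo up lo, Mt e f C x a b c d := by
    intro a b c d hc hd
    refine ⟨up ((a - 1) / c) * lo c * up ((d - 1) / c), mul_mem (mul_mem (up_mem_clo up lo _) (lo_mem_clo up lo _))
      (up_mem_clo up lo _), ?_⟩
    have h1 := ((mt_up h ((a - 1) / c)).mul (mt_lo h c)).mul (mt_up h ((d - 1) / c))
    refine h1.congr ?_ ?_ ?_ ?_
    · field_simp; ring
    · field_simp
      linear_combination hd
    · ring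
    · field_simp; ring
  by_cases hc : c = 0
  · have ha : a ≠ 0 := by
      rintro rfl
      rw [hc] at hd
      simp at hd
    obtain ⟨x, hx, h1⟩ := key (a := a) (b := b) (c := a + c) (d := b + d) (by rw [hc, add_zero]; exact ha)
      (by linear_combination hd)
    refine ⟨lo (-1) * x, mul_mem (lo_mem_clo up lo _) hx, ?_⟩
    refine ((mt_lo h (-1)).mul h1).congr ?_ ?_ ?_ ?_ <;> ring
  · exact key hc hd

/-- **Conjugation.** -/
theorem conj_clo [Finite X] (h : Bk e f C up lo) (hf : ∀ x : X, (∀ v : V, x • v = v) → x = 1) {s : X}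
    (hC : ∀ m ∈ C, s⁻¹ • m ∈ C)
    (hs : ∀ x : X, (x ∈ Set.range up ∨ x ∈ Set.range lo) → ∃ a b c d : F, a * d - b * c = 1 ∧
      ∀ u v, (s * x * s⁻¹) • (e u + f v) = e (a * u + b * v) + f (c * u + d * v)) :
    MulAut.conj s • clo up lo = clo up lo := by
  have hle : MulAut.conj s • clo up lo ≤ clo up lo := by
    rw [clo, Subgroup.smul_closure, closure_le]
    rintro _ ⟨x, hx, rfl⟩
    have hx' : x ∈ Set.range up ∨ x ∈ Set.range lo := hx
    obtain ⟨a, b, c, d, hd, hact⟩ := hs x hx'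
    obtain ⟨y, hy, hyM⟩ := full h hd
    have hxC : ∀ m ∈ C, x • m = m := by
      rcases hx' with ⟨t, rfl⟩ | ⟨t, rfl⟩
      · exact h.up_c t
      · exact h.lo_c t
    have h1 : s * x * s⁻¹ = y := by
      have h2 : (s * x * s⁻¹)⁻¹ * y = 1 := by
        refine hf _ fun v => ?_
        rw [mul_smul, inv_smul_eq_iff]
        obtain ⟨p, q, m, hm, rfl⟩ := h.dec v
        rw [smul_add y (e p + f q) m, smul_add (s * x * s⁻¹) (e p + f q) m, hyM.act, hact, hyM.fix m hm]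
        congr 1
        rw [mul_smul, mul_smul, hxC _ (hC m hm), smul_inv_smul]
      exact (inv_mul_eq_one.1 h2)
    change s * x * s⁻¹ ∈ clo up lo
    rw [h1]
    exact hy
  have h2 : Nat.card ↥(MulAut.conj s • clo up lo) = Nat.card (clo up lo) :=
    (Nat.card_congr (Subgroup.equivSMul (MulAut.conj s) (clo up lo)).toEquiv).symm
  exact eq_of_le_of_card_ge hle h2.ge

end abs

variable {G : Type u} [Group G] {F : Type} [Field F] {S P V D U H : Subgroup G} {k : ℕ}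

/-- **The natural block as a `Bk`, with coordinates** (`TypesNat.exists_bk`). -/
theorem exists_bk2 [Finite G] [Finite F] [CharP F 2] {M : NatKM F S P V D k} (h : Nb M) (hF : 2 < Nat.card F)
    (Q : Nrm H U) (hPH : P ≤ H) (hVU : V ≤ U) {A : Subgroup G} {j : Fin k} (O : One M U A j) (hAP : A ≤ P)
    (hD : DD M j = ⊥) :
    ∃ (e f : F →+ Q.Mod) (up lo : F → H) (p : G), p ∈ P ∧
      Bk e f (Q.ad (centralizer ((A ⊔ MulAut.conj p • A : Subgroup G) : Set G))) up lo ∧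
      (∀ t, (up t : G) ∈ A) ∧ (∀ t, (lo t : G) ∈ MulAut.conj p • A) ∧
      (∀ a (ha : a ∈ A), ∃ t, ∀ m : Q.Mod, (⟨a, hPH (hAP ha)⟩ : H) • m = up t • m) ∧
      e.range = Q.ad (YY h j) ∧ e.range ⊔ f.range = Q.ad (blk M j) ∧
      ∀ x y, Q.val (e x + f y) ∈ blk M j ∧ M.e (Q.val (e x + f y)) j = ![x, y] := by
  obtain ⟨l, g, C⟩ := exists_cd h hF j
  have hg : ∀ x, g x = 1 := fun x => by
    have h1 := C.gDD h x
    rw [hD, Subgroup.mem_bot] at h1
    exact h1
  obtain ⟨p, hp, hpA⟩ := exists_p M j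
  have hfm : ∀ t, p * l t * p⁻¹ ∈ blk M j := fun t => conj_blk h hp hpA (C.lm t)
  have hlU : ∀ t, l t ∈ U := fun t => hVU (C.lV h t)
  have hbU : ∀ {w}, w ∈ blk M j → w ∈ U := fun hw => hVU (blk_le h j hw)
  have hfe : ∀ t, M.e (p * l t * p⁻¹) j = ![0, t] := fun t => by
    rw [e_conj_blk h hpA (C.lm t), C.le]
    refine vec_eq ?_ ?_
    · rw [Cfsg.Agent.Omega.NatPair.ap_zero']
      simp [wl]
    · rw [Cfsg.Agent.Omega.NatPair.ap_one']
      simp [wl, CharTwo.neg_eq]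
  let e : F →+ Q.Mod := AddMonoidHom.mk' (fun s => Q.of (l s) (hlU s)) fun s t => Nrm.ext (C.la s t)
  let f : F →+ Q.Mod := AddMonoidHom.mk' (fun s => Q.of (p * l s * p⁻¹) (hbU (hfm s))) fun s t => Nrm.ext (by
    rw [Nrm.val_of, Nrm.val_add, Nrm.val_of, Nrm.val_of, C.la]
    group)
  have hev : ∀ s, Q.val (e s) = l s := fun _ => rfl
  have hfv : ∀ s, Q.val (f s) = p * l s * p⁻¹ := fun _ => rfl
  have hef : ∀ x y, Q.val (e x + f y) ∈ blk M j ∧ M.e (Q.val (e x + f y)) j = ![x, y] := fun x y => by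
    rw [Nrm.val_add, hev, hfv]
    refine ⟨mul_mem (C.lm x) (hfm y), ?_⟩
    rw [e_mul h (C.lm x) (hfm y), C.le, hfe]
    refine vec_eq ?_ ?_ <;> simp
  -- root elements
  choose a ha haA using O.all
  have hal := all_conj h O hAP hp hpA
  choose b hb hbA using hal
  have hbP : ∀ t, b t ∈ P := fun t => conj_le_P hAP hp (hb t)
  set E : Subgroup G := A ⊔ MulAut.conj p • A with hE
  have hEP : E ≤ P := sup_le hAP (conj_le_P hAP hp)
  -- the fixed points of `E`
  have hfix : ∀ m : Q.Mod, m ∈ Q.ad (centralizer (E : Set G)) ↔ ∀ x ∈ E, x * Q.val m * x⁻¹ = Q.val m := by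
    intro m
    rw [Nrm.mem_ad, mem_centralizer_iff]
    exact forall₂_congr fun x _ => mul_inv_eq_iff_eq_mul.symm
  have h0 : Q.ad (blk M j) ⊓ Q.ad (centralizer (E : Set G)) = ⊥ := by
    rw [eq_bot_iff]
    rintro m ⟨h1, h2⟩
    have h3 := (hfix m).1 h2
    have h4 : Q.val m ∈ DD M j := mem_DD_of_fixed h O hAP hp hpA h1 (fun x hx => h3 x (mem_sup_left hx))
      fun x hx => h3 x (mem_sup_right hx)
    rw [hD, Subgroup.mem_bot] at h4
    exact AddSubgroup.mem_bot.2 (Nrm.eq_zero_iff.2 h4)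
  have hmA : (A.subgroupOf H).map H.subtype = A :=
    (subgroupOf_map_subtype _ _).trans (inf_eq_left.2 (hAP.trans hPH))
  have hcE : Q.ad (centralizer (E : Set G)) =
      (fxd (A.subgroupOf H) : AddSubgroup Q.Mod) ⊓ fxd (MulAut.conj (⟨p, hPH hp⟩ : H) • A.subgroupOf H) := by
    rw [fxd_eq, fxd_eq, map_conj, hmA, ad_inf, hE]
    congr 1
    ext x
    rw [mem_inf, mem_centralizer_iff, mem_centralizer_iff, mem_centralizer_iff]
    constructor
    · exact fun h1 => ⟨fun y hy => h1 y (mem_sup_left hy), fun y hy => h1 y (mem_sup_right hy)⟩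
    · rintro ⟨h1, h2⟩ y hy
      have h3 : A ⊔ MulAut.conj p • A ≤ centralizer ({x} : Set G) :=
        sup_le (fun z hz => mem_centralizer_singleton_iff.2 (h1 z hz))
          fun z hz => mem_centralizer_singleton_iff.2 (h2 z hz)
      exact mem_centralizer_singleton_iff.1 (h3 hy)
  have hi : (Q.ad (centralizer (E : Set G))).index ≤ Nat.card F ^ 2 := by
    rw [hcE, pow_two]
    refine AddSubgroup.index_inf_le.trans (Nat.mul_le_mul ?_ ?_)
    · rw [index_fxd, hmA]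
      exact relIndex_le h O hAP
    · rw [index_fxd_conj, index_fxd, hmA]
      exact relIndex_le h O hAP
  have hcard : Nat.card (Q.ad (blk M j)) = Nat.card F ^ 2 := by
    rw [Nrm.card_ad ((blk_le h j).trans hVU), card_blk h, hD, Subgroup.card_bot, mul_one]
  have htop := sup_top Q h0 hi hcard.ge
  have hmem : ∀ m : Q.Mod, m ∈ Q.ad (blk M j) → ∃ x y, m = e x + f y := by
    intro m hm
    refine ⟨M.e (Q.val m) j 0, M.e (Q.val m) j 1, Nrm.ext ?_⟩
    refine blk_ext h hD hm (hef _ _).1 ?_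
    rw [(hef _ _).2]
    refine vec_eq ?_ ?_ <;> simp
  have hcomb : ∀ (x : H) (B : Matrix.SpecialLinearGroup (Fin 2) F) (hB : ActsSL M.e V D (x : G) (sg j B)) (hx : (x : G) ∈ P)
      (s t s' t' : F), ap B ![s, t] = ![s', t'] → x • (e s + f t) = e s' + f t' := by
    intro x B hB hx s t s' t' hap
    refine Nrm.ext ?_
    rw [Nrm.val_smul]
    refine blk_ext h hD (conj_blk h hx hB (hef s t).1) (hef s' t').1 ?_
    rw [e_conj_blk h hB (hef s t).1, (hef s t).2, (hef s' t').2, hap]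
  refine ⟨e, f, fun t => ⟨a t, hPH (hAP (ha t))⟩, fun t => ⟨b t, hPH (hbP t)⟩, p, hp, ?_, ha, hb, ?_, ?_, ?_, hef⟩
  · refine
      { dec := fun v => ?_
        ind := fun x y hxy => ?_
        up_e := fun t x => ?_
        up_f := fun t x => ?_
        up_c := fun t c hc => ?_
        lo_e := fun t x => ?_
        lo_f := fun t x => ?_
        lo_c := fun t c hc => ?_ }
    · have h1 : v ∈ Q.ad (blk M j) ⊔ Q.ad (centralizer (E : Set G)) := by rw [htop]; exact AddSubgroup.mem_top _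
      obtain ⟨w, hw, c, hc, rfl⟩ := AddSubgroup.mem_sup.1 h1
      obtain ⟨x, y, rfl⟩ := hmem w hw
      exact ⟨x, y, c, hc, rfl⟩
    · have h1 : e x + f y ∈ Q.ad (blk M j) ⊓ Q.ad (centralizer (E : Set G)) := ⟨(hef x y).1, hxy⟩
      rw [h0, AddSubgroup.mem_bot] at h1
      have h2 := (hef x y).2
      rw [h1, Nrm.val_zero, Nb.e_one (M := M)] at h2
      exact ⟨(congrFun h2 0).symm, (congrFun h2 1).symm⟩
    · have h1 := hcomb ⟨a t, hPH (hAP (ha t))⟩ (up t) (haA t) (hAP (ha t)) x 0 x 0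
        (by refine vec_eq ?_ ?_ <;> simp [ap_up_0, ap_up_1])
      rwa [map_zero, add_zero] at h1
    · have h1 := hcomb ⟨a t, hPH (hAP (ha t))⟩ (up t) (haA t) (hAP (ha t)) 0 x (t * x) x
        (by refine vec_eq ?_ ?_ <;> simp [ap_up_0, ap_up_1])
      rw [map_zero, zero_add] at h1
      rw [h1, add_comm]
    · exact (smul_eq_iff Q _ c).2 ((hfix c).1 hc _ (mem_sup_left (ha t)))
    · have h1 := hcomb ⟨b t, hPH (hbP t)⟩ (lo t) (hbA t) (hbP t) x 0 x (t * x)
        (by refine vec_eq ?_ ?_ <;> simp [ap_lo_0, ap_lo_1])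
      rwa [map_zero, add_zero] at h1
    · have h1 := hcomb ⟨b t, hPH (hbP t)⟩ (lo t) (hbA t) (hbP t) 0 x 0 x
        (by refine vec_eq ?_ ?_ <;> simp [ap_lo_0, ap_lo_1])
      rwa [map_zero, zero_add] at h1
    · exact (smul_eq_iff Q _ c).2 ((hfix c).1 hc _ (mem_sup_right (hb t)))
  · -- `A` acts as the `up t`
    intro x hx
    obtain ⟨β, hβ⟩ := O.act x hx
    refine ⟨β, fun m => ?_⟩
    have h1 : m ∈ Q.ad (blk M j) ⊔ Q.ad (centralizer (E : Set G)) := by rw [htop]; exact AddSubgroup.mem_top _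
    obtain ⟨w, hw, c, hc, rfl⟩ := AddSubgroup.mem_sup.1 h1
    rw [smul_add, smul_add]
    congr 1
    · refine Nrm.ext ?_
      rw [Nrm.val_smul, Nrm.val_smul]
      exact h.same (hAP hx) (hAP (ha β)) hβ (haA β) (blk_le h j hw)
    · rw [(smul_eq_iff Q _ c).2 ((hfix c).1 hc _ (mem_sup_left hx)),
        (smul_eq_iff Q _ c).2 ((hfix c).1 hc _ (mem_sup_left (ha β)))]
  · ext m
    constructor
    · rintro ⟨s, rfl⟩
      exact C.lY h s
    · intro hm
      obtain ⟨s, x, hsx⟩ := C.exists_eq h hm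
      refine ⟨s, Nrm.ext ?_⟩
      rw [hsx, hg, mul_one]
      rfl
  · apply le_antisymm
    · refine sup_le ?_ ?_
      · rintro _ ⟨s, rfl⟩
        exact C.lm s
      · rintro _ ⟨s, rfl⟩
        exact hfm s
    · intro m hm
      obtain ⟨x, y, rfl⟩ := hmem m hm
      exact add_mem (AddSubgroup.mem_sup_left ⟨x, rfl⟩) (AddSubgroup.mem_sup_right ⟨y, rfl⟩)

/-- **`N_P(A)` normalises the group `⟨A, A^p⟩` of the block** (modulo `C(U)`). -/
theorem tor_of [Finite G] [Finite F] [CharP F 2] {M : NatKM F S P V D k} (h : Nb M) (hF : 2 < Nat.card F)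
    (Q : Nrm H U) (hU2 : IsElementaryAbelian 2 U) (hno : NoOverM U H) (hPH : P ≤ H) (hVU : V ≤ U) {A : Subgroup G}
    {j : Fin k} (O : One M U A j) (hAP : A ≤ P) (hD : DD M j = ⊥) :
    ∃ (e f : F →+ Q.Mod) (up lo : F → XH Q) (p : G), p ∈ P ∧
      Bk e f (Q.ad (centralizer ((A ⊔ MulAut.conj p • A : Subgroup G) : Set G))) up lo ∧ rt up = im Q A ∧
      e.range = Q.ad (YY h j) ∧ e.range ⊔ f.range = Q.ad (blk M j) ∧
      ∀ s ∈ im Q P, MulAut.conj s • im Q A = im Q A → MulAut.conj s • clo up lo = clo up lo := by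
  obtain ⟨e, f, up, lo, p, hp, hb, hup, hlo, hA, hR, hN, hef⟩ := exists_bk2 h hF Q hPH hVU O hAP hD
  have hbX := map hb (ph Q) (ph_smul Q)
  have hrt : rt (fun t => ph Q (up t)) = im Q A := by
    apply le_antisymm
    · rw [rt, closure_le]
      rintro _ ⟨t, rfl⟩
      exact mem_im.2 ⟨up t, hup t, rfl⟩
    · intro x hx
      obtain ⟨a, ha, rfl⟩ := mem_im.1 hx
      obtain ⟨t, ht⟩ := hA a ha
      rw [(ph_eq Q).2 ht]
      exact subset_closure ⟨t, rfl⟩
  have h4 : 4 ≤ Nat.card F := by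
    by_contra hcon
    have h6 : Nat.card F = 3 := by omega
    have h7 : (3 : ℕ) • (1 : F) = 0 := by rw [← h6]; exact card_nsmul_eq_zero'
    have h8 : (2 : ℕ) • (1 : F) = 0 := by rw [two_nsmul]; exact CharTwo.add_self_eq_zero 1
    have h9 : (3 : ℕ) • (1 : F) = (2 : ℕ) • (1 : F) + 1 := succ_nsmul _ _
    rw [h7, h8, zero_add] at h9
    exact zero_ne_one h9
  have h2 := two_of Q hU2
  refine ⟨e, f, fun t => ph Q (up t), fun t => ph Q (lo t), p, hp, hbX, hrt, hR, hN, ?_⟩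
  intro s hs hsA
  obtain ⟨g, hg, rfl⟩ := mem_im.1 hs
  rw [← hrt] at hsA
  obtain ⟨hC, hNs⟩ := hbX.inv h2 (fun x hx => XH_faith Q x hx) (no_XH Q hno) h4 hsA
  have hC' : ∀ m ∈ Q.ad (centralizer ((A ⊔ MulAut.conj p • A : Subgroup G) : Set G)),
      (ph Q g)⁻¹ • m ∈ Q.ad (centralizer ((A ⊔ MulAut.conj p • A : Subgroup G) : Set G)) := by
    intro m hm
    rw [← hC] at hm
    obtain ⟨m', hm', rfl⟩ := hm
    change (ph Q g)⁻¹ • (ph Q g • m') ∈ _
    rw [inv_smul_smul]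
    exact hm'
  have hNm : ∀ m ∈ e.range ⊔ f.range, ph Q g • m ∈ e.range ⊔ f.range ∧ (ph Q g)⁻¹ • m ∈ e.range ⊔ f.range := by
    intro m hm
    constructor
    · rw [← hNs]
      exact ⟨m, hm, rfl⟩
    · rw [← hNs] at hm
      obtain ⟨m', hm', rfl⟩ := hm
      change (ph Q g)⁻¹ • (ph Q g • m') ∈ _
      rw [inv_smul_smul]
      exact hm'
  refine conj_clo hbX (fun x hx => XH_faith Q x hx) hC' ?_
  -- the generators come from elements `x ∈ P` which act as `SL₂(F)^k`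
  have key : ∀ x : H, (x : G) ∈ P → (∀ m ∈ e.range ⊔ f.range, x • m ∈ e.range ⊔ f.range) →
      (∃ B : Fin k → Matrix.SpecialLinearGroup (Fin 2) F,
        ∀ v ∈ V, ∀ i, M.e ((x : G) * v * (x : G)⁻¹) i = ap (B i) (M.e v i)) →
      ∃ a b c d : F, a * d - b * c = 1 ∧
        ∀ u v, (ph Q g * ph Q x * (ph Q g)⁻¹) • (e u + f v) = e (a * u + b * v) + f (c * u + d * v) := by
    rintro x hx hxN ⟨B, hB⟩
    obtain ⟨B', hB'⟩ := M.norm g hg x hx B hB
    refine ⟨(B' j).1 0 0, (B' j).1 0 1, (B' j).1 1 0, (B' j).1 1 1, ?_, fun u v => ?_⟩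
    · have h5 := (B' j).2
      rw [Matrix.det_fin_two] at h5
      exact h5
    · have h5 : (ph Q g * ph Q x * (ph Q g)⁻¹) • (e u + f v) = (g * x * g⁻¹ : H) • (e u + f v) := by
        rw [← map_inv, ← map_mul, ← map_mul, ph_smul]
      have hm : e u + f v ∈ e.range ⊔ f.range :=
        add_mem (AddSubgroup.mem_sup_left ⟨u, rfl⟩) (AddSubgroup.mem_sup_right ⟨v, rfl⟩)
      have h6 : (ph Q g * ph Q x * (ph Q g)⁻¹) • (e u + f v) ∈ e.range ⊔ f.range := by
        rw [mul_smul, mul_smul]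
        exact (hNm _ (hxN _ (hNm _ hm).2)).1
      rw [hN] at h6
      refine Nrm.ext ?_
      refine blk_ext h hD h6 (hef _ _).1 ?_
      rw [h5, Nrm.val_smul, (hef _ _).2]
      have h7 := hB' (Q.val (e u + f v)) (blk_le h j (hef u v).1) j
      rw [(hef u v).2] at h7
      refine h7.trans ?_
      refine vec_eq ?_ ?_
      · rw [Cfsg.Agent.Omega.NatPair.ap_zero']
        simp
        rfl
      · rw [Cfsg.Agent.Omega.NatPair.ap_one']
        simp
        rfl
  have hAB : ∀ a ∈ A, ∃ B : Fin k → Matrix.SpecialLinearGroup (Fin 2) F,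
      ∀ v ∈ V, ∀ i, M.e (a * v * a⁻¹) i = ap (B i) (M.e v i) := by
    intro a ha
    obtain ⟨β, hβ⟩ := O.act a ha
    exact ⟨_, hβ.1⟩
  rintro x (⟨t, rfl⟩ | ⟨t, rfl⟩)
  · refine key (up t) (hAP (hup t)) ?_ (hAB _ (hup t))
    intro m hm
    obtain ⟨_, ⟨u, rfl⟩, _, ⟨v, rfl⟩, rfl⟩ := AddSubgroup.mem_sup.1 hm
    rw [(mt_up hb t).act]
    exact add_mem (AddSubgroup.mem_sup_left ⟨_, rfl⟩) (AddSubgroup.mem_sup_right ⟨_, rfl⟩)
  · refine key (lo t) (conj_le_P hAP hp (hlo t)) ?_ ?_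
    · intro m hm
      obtain ⟨_, ⟨u, rfl⟩, _, ⟨v, rfl⟩, rfl⟩ := AddSubgroup.mem_sup.1 hm
      rw [(mt_lo hb t).act]
      exact add_mem (AddSubgroup.mem_sup_left ⟨_, rfl⟩) (AddSubgroup.mem_sup_right ⟨_, rfl⟩)
    · obtain ⟨a, ha, hpa⟩ := hlo t
      obtain ⟨B, hB⟩ := hAB a ha
      obtain ⟨B', hB'⟩ := M.norm p hp a (hAP ha) B hB
      refine ⟨B', ?_⟩
      have h5 : (lo t : G) = p * a * p⁻¹ := hpa.symm
      rw [h5]
      exact hB'

/-- **Input `Tor` of `AsmNBs`, one group**: for every `(N, C)` with `Asm.NB (im Q A) N C`. -/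
theorem td_of [Finite G] [Finite F] [CharP F 2] {M : NatKM F S P V D k} (h : Nb M) (hF : 2 < Nat.card F)
    (Q : Nrm H U) (hU2 : IsElementaryAbelian 2 U) (hno : NoOverM U H) (hPH : P ≤ H) (hVU : V ≤ U) {A : Subgroup G}
    {j : Fin k} (O : One M U A j) (hAP : A ≤ P) (hD : DD M j = ⊥) {S' : Subgroup G} (hS : S' ≤ P)
    {N C : AddSubgroup Q.Mod} (hNC : Asm.NB (im Q A) N C) : AsmT.TD (im Q S') (im Q A) N C := by
  obtain ⟨e, f, up, lo, p, hp, hb, hrt, hR, hN, ht⟩ := tor_of h hF Q hU2 hno hPH hVU O hAP hD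
  have h4 : 4 ≤ Nat.card (im Q A) := by
    obtain ⟨q, hq, h1, h2, h3⟩ := nb_of h hF Q hU2 hPH hVU O hAP hD
    exact h3
  obtain ⟨rfl, rfl⟩ := Asm.NB.uniq (two_of Q hU2) (fun x hx => XH_faith Q x hx) (no_XH Q hno) hNC
    ⟨F, inferInstance, inferInstance, e, f, up, lo, hb, hrt, rfl⟩ h4
  exact ⟨clo up lo, ⟨F, inferInstance, inferInstance, e, f, up, lo, hb, hrt, rfl, rfl⟩,
    fun s hs hsA => ht s (im_mono hS hs) hsA⟩

/-- the same for the block of `M` -/
theorem td_blk [Finite G] [Finite F] [CharP F 2] {M : NatKM F S P V D k} (h : Nb M) (hF : 2 < Nat.card F)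
    (Q : Nrm H U) (hU2 : IsElementaryAbelian 2 U) (hno : NoOverM U H) (hPH : P ≤ H) (hVU : V ≤ U) {A : Subgroup G}
    {j : Fin k} (O : One M U A j) (hAP : A ≤ P) (hD : DD M j = ⊥) {S' : Subgroup G} (hS : S' ≤ P) :
    ∃ p ∈ P, AsmT.TD (im Q S') (im Q A) (Q.ad (blk M j))
      (Q.ad (centralizer ((A ⊔ MulAut.conj p • A : Subgroup G) : Set G))) := by
  obtain ⟨p, hp, -, h2, -⟩ := nb_of h hF Q hU2 hPH hVU O hAP hD
  exact ⟨p, hp, td_of h hF Q hU2 hno hPH hVU O hAP hD hS h2⟩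

end Cfsg.Agent.Omega.NOThreeL.RRed.Blk.AsmTor
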