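import Cfsg.Agent.Mrg.Omega.NOThreeL.RRed.TvFin
import Cfsg.Agent.Mrg.Omega.NOThreeL.RRed.BlkG1
import Cfsg.Agent.Mrg.Omega.KL.TwoS.Inp
import Cfsg.Agent.Mrg.Omega.NOThreeL.RRed.Blk.AsmOf
import Cfsg.Agent.Mrg.Omega.NOThreeL.RRed.Blk.Orbit

section


/-!
# NO-3L, box R: letters and `O₂(C_G(e))`, `e` of full support (helper283, piece (5) of `LeftBlk`)

`F : Full S M V N E R₀ Om phi`; `e` has the `b`-component `φ_b(Ω_b - p)`; `Q` is a 2-group, `Q ≤ M ⊓ C(e)`,
`M ⊓ C(e) ≤ N(Q)`.

* `E_fix` : an element of `E b` which fixes the component of `e` centralises `e`;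
* `norm_N` : `Q` normalises `N b`, if `|Ω_b| ≥ 4`;
* `cent_b` : an offender `A ≤ Q` on `N b` centralises `N b`;
* **`cent_of_exact`** : `A ≤ Q` with `|V/C_V(A)| ≤ |A/C_A(V)|`, no over-offender on `V`: `A` centralises `N b`.
-/

set_option autoImplicit false
set_option linter.unusedSectionVars false

namespace Cfsg.Agent.Omega.NOThreeL.RRed.Blk.AsmTwoC

open Subgroup Cfsg
open Cfsg.Agent.Omega.FFThm (ElemM OffM NoOverM)
open Cfsg.Agent.Omega.NOThreeL.RRed.TvFin (Full)
open Cfsg.Agent.Omega.NOThreeL.RRed.Blk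
open Cfsg.Agent.Omega.KL.TwoS (Rel Lett)
open scoped Pointwise

universe u

variable {G : Type u} [Group G]

theorem smul_of_norm {g : G} {H : Subgroup G} (h : g ∈ normalizer (H : Set G)) : MulAut.conj g • H = H := by
  ext y
  rw [mem_pointwise_smul_iff_inv_smul_mem, ← map_inv, MulAut.smul_def, MulAut.conj_apply]
  exact ((mem_normalizer_iff.1 (inv_mem h)) y).symm

theorem card_relIndex [Finite G] {H K : Subgroup G} (h : H ≤ K) : Nat.card H * H.relIndex K = Nat.card K := by
  have h1 := relIndex_mul_relIndex (⊥ : Subgroup G) H K bot_le h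
  rwa [relIndex_bot_left, relIndex_bot_left] at h1

section lett

variable {Ω : Type*} [Fintype Ω] [DecidableEq Ω] {N R : Subgroup G} {φ : Finset Ω → G}

theorem rel_one (L : Lett N R φ) {g : G} (hg : g ∈ centralizer (N : Set G)) : Rel φ g 1 := by
  intro s hs
  have e : (1 : Equiv.Perm Ω).toEmbedding = Function.Embedding.refl Ω := by
    ext x
    simp
  rw [e, Finset.map_refl]
  exact cent hg ((L.mem _).2 ⟨s, hs, rfl⟩)

end lett

variable {S M V : Subgroup G} {I : Type u} {N E : I → Subgroup G} {R₀ : Subgroup G} {Om : I → Type u}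
    [∀ i, Fintype (Om i)] [∀ i, DecidableEq (Om i)] {phi : ∀ i, Finset (Om i) → G}

theorem E_Co (D : Dec S M V N E R₀) (b : I) : E b ≤ centralizer (Co N R₀ b : Set G) := by
  rw [Subgroup.le_centralizer_iff]
  refine sup_le (iSup_le fun c => ?_) ?_
  · rw [Subgroup.le_centralizer_iff]
    exact D.EC b c (Ne.symm c.2)
  · rw [Subgroup.le_centralizer_iff]
    exact D.ER b

variable (F : Full S M V N E R₀ Om phi) {e : G} {b : I} {p : Om b}
  (he : IsC N R₀ b e (phi b (Finset.univ.erase p)))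

include F he in
/-- an element of `E b` which fixes the component of `e` centralises `e` -/
theorem E_fix {x : G} (hx : x ∈ E b)
    (h : x * phi b (Finset.univ.erase p) * x⁻¹ = phi b (Finset.univ.erase p)) : x ∈ M ⊓ centralizer ({e} : Set G) := by
  refine mem_inf.2 ⟨F.EL b hx, ?_⟩
  rw [mem_centralizer_singleton_iff]
  set n := phi b (Finset.univ.erase p) with hn
  have h1 : x * (n⁻¹ * e) * x⁻¹ = n⁻¹ * e := cent (E_Co F.toDec b hx) he.2
  have h2 : x * e * x⁻¹ = e := by
    calc x * e * x⁻¹ = (x * n * x⁻¹) * (x * (n⁻¹ * e) * x⁻¹) := by group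
      _ = e := by rw [h, h1]; group
  rwa [mul_inv_eq_iff_eq_mul] at h2

variable {Q : Subgroup G} (hQ2 : IsPGroup 2 Q) (hQM : Q ≤ M) (hQe : Q ≤ centralizer ({e} : Set G))
  (hn : M ⊓ centralizer ({e} : Set G) ≤ normalizer (Q : Set G))

include F he hQ2 hQM hn in
/-- `Q` normalises `N b` -/
theorem norm_N (h4 : 4 ≤ Fintype.card (Om b)) {q : G} (hq : q ∈ Q) : MulAut.conj q • N b = N b := by
  obtain ⟨c, h1, h2, -⟩ := F.toDec.perm' (hQM hq) b
  by_cases hbc : b = c
  · rw [h1, hbc]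
  exfalso
  have L := F.lett b
  -- three letters `≠ p`
  have hcard : 3 ≤ (Finset.univ.erase p).card := by
    rw [Finset.card_erase_of_mem (Finset.mem_univ p), Finset.card_univ]
    omega
  obtain ⟨t, ht, ht3⟩ := Finset.exists_subset_card_eq hcard
  obtain ⟨x1, x2, x3, h12, h13, h23, rfl⟩ := Finset.card_eq_three.1 ht3
  have hp : ∀ x ∈ ({x1, x2, x3} : Finset (Om b)), p ≠ x := fun x hx h => (Finset.mem_erase.1 (ht hx)).1 h.symm
  set σ : Equiv.Perm (Om b) := Equiv.swap x1 x2 * Equiv.swap x1 x3 with hσ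
  obtain ⟨x, hxE, hx⟩ := L.all σ
  have hσp : σ p = p := by
    rw [hσ, Equiv.Perm.mul_apply, Equiv.swap_apply_of_ne_of_ne (hp x1 (by simp)) (hp x3 (by simp)),
      Equiv.swap_apply_of_ne_of_ne (hp x1 (by simp)) (hp x2 (by simp))]
  have hxe := E_fix F he hxE ((L.fix_iff hx p).2 hσp)
  have hxn := hn hxe
  have hm : q * (x * q⁻¹ * x⁻¹) ∈ Q := mul_mem hq ((mem_normalizer_iff.1 hxn q⁻¹).1 (inv_mem hq))
  have hqx : q * x * q⁻¹ ∈ centralizer (N b : Set G) := F.EC c b (Ne.symm hbc) ((conj_smul h2).1 hxE)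
  have hrel : Rel (phi b) (q * (x * q⁻¹ * x⁻¹)) (1 * σ⁻¹) := by
    have e1 : q * (x * q⁻¹ * x⁻¹) = (q * x * q⁻¹) * x⁻¹ := by group
    rw [e1]
    exact (rel_one L hqx).mul hx.inv
  rw [one_mul] at hrel
  obtain ⟨n, hn2⟩ := hQ2 ⟨_, hm⟩
  have h4' : (q * (x * q⁻¹ * x⁻¹)) ^ 2 ^ n = 1 := by
    have := congrArg Subtype.val hn2
    simpa using this
  have h5 := hrel.pow (2 ^ n)
  rw [h4'] at h5
  have h6 := L.unique (by omega) h5 Rel.one
  have h7 : σ.IsThreeCycle := Equiv.Perm.isThreeCycle_swap_mul_swap_same h12 h13 h23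
  have h8 := orderOf_dvd_of_pow_eq_one h6
  rw [orderOf_inv, h7.orderOf] at h8
  have h9 := Nat.Prime.dvd_of_dvd_pow Nat.prime_three h8
  omega

include F he hQ2 hQM hQe hn in
/-- an offender `A ≤ Q` on `N b` centralises `N b` -/
theorem cent_b [Finite G] (h4 : 4 ≤ Fintype.card (Om b)) {A : Subgroup G} (hA : A ≤ Q)
    (hle : (centralizer (A : Set G)).relIndex (N b) ≤ (centralizer (N b : Set G)).relIndex A) :
    A ≤ centralizer (N b : Set G) := by
  have L := F.lett b
  have hQN : ∀ q ∈ Q, MulAut.conj q • N b = N b := fun q hq => norm_N F he hQ2 hQM hn h4 hq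
  have hQE : ∀ q ∈ Q, MulAut.conj q • E b = E b := fun q hq => by
    obtain ⟨c, h1, h2⟩ := F.perm q (hQM hq) b
    have hc : b = c := F.toDec.Ninj (by rw [← h1, hQN q hq])
    rw [h2, ← hc]
  have hQc : ∀ q ∈ Q, q * phi b (Finset.univ.erase p) * q⁻¹ = phi b (Finset.univ.erase p) := fun q hq => by
    have h1 := F.toDec.comp_conj (hQM hq) (hQN q hq) he
    have h2 : q * e * q⁻¹ = e := by
      rw [mem_centralizer_singleton_iff.1 (hQe hq), mul_inv_cancel_right]
    rw [h2] at h1
    exact F.toDec.uniq h1 he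
  have hnE : Q ≤ normalizer (E b : Set G) := fun q hq => by
    rw [mem_normalizer_iff]
    exact fun x => conj_smul (hQE q hq)
  have hL : Lett (N b) (E b ⊔ Q) (phi b) :=
    { odd := L.odd
      mul := L.mul
      inj := L.inj
      mem := L.mem
      act := fun g hg => by
        have hg' : g ∈ Q ⊔ E b := by rwa [sup_comm]
        obtain ⟨q, hq, x, hx, rfl⟩ := mem_sup_of hnE hg'
        refine F.rel_of_fix (mul_mem (hQM hq) (F.EL b hx)) ?_
        rw [map_mul, mul_smul]
        have h1 : MulAut.conj x • N b = N b := smul_of_norm (F.EN b hx)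
        rw [h1, hQN q hq]
      all := fun σ => by
        obtain ⟨x, hx, h1⟩ := L.all σ
        exact ⟨x, mem_sup_left hx, h1⟩ }
  refine hL.cent (p := p) h4 hQ2 le_sup_right (fun q hq => ?_) (fun g hg hgv => ?_) hA hle
  · rw [mem_centralizer_singleton_iff]
    have := hQc q hq
    rwa [mul_inv_eq_iff_eq_mul] at this
  · have hg' : g ∈ Q ⊔ E b := by rwa [sup_comm]
    obtain ⟨q, hq, x, hx, rfl⟩ := mem_sup_of hnE hg'
    have h1 : x ∈ M ⊓ centralizer ({e} : Set G) := by
      refine E_fix F he hx ?_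
      have h2 : q * x * phi b (Finset.univ.erase p) * (q * x)⁻¹ = phi b (Finset.univ.erase p) := by
        rw [mem_centralizer_singleton_iff.1 hgv, mul_inv_cancel_right]
      have h3 := hQc q hq
      have h4 : q * (x * phi b (Finset.univ.erase p) * x⁻¹) * q⁻¹ = q * phi b (Finset.univ.erase p) * q⁻¹ := by
        rw [h3]
        calc q * (x * phi b (Finset.univ.erase p) * x⁻¹) * q⁻¹ =
            q * x * phi b (Finset.univ.erase p) * (q * x)⁻¹ := by group
          _ = _ := h2
      exact mul_left_cancel (mul_right_cancel h4)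
    exact mul_mem (le_normalizer hq) (hn h1)

include F he hQ2 hQM hQe hn in
/-- **an exact `A ≤ Q` centralises `N b`** -/
theorem cent_of_exact [Finite G] (h4 : 4 ≤ Fintype.card (Om b)) (hno : NoOverM V M) {A : Subgroup G} (hA : A ≤ Q)
    (hE : ElemM V A) (hex : Nat.card V * Nat.card ↥(A ⊓ centralizer (V : Set G)) ≤
      Nat.card A * Nat.card ↥(V ⊓ centralizer (A : Set G))) : A ≤ centralizer (N b : Set G) := by
  refine cent_b F he hQ2 hQM hQe hn h4 hA ?_
  by_contra hlt
  push Not at hlt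
  set B : Subgroup G := A ⊓ centralizer (N b : Set G) with hB
  have hNV : N b ≤ V := F.toDec.NU b
  have hVN : centralizer (V : Set G) ≤ centralizer (N b : Set G) := centralizer_le hNV
  have hBE : ElemM V B := ⟨fun a ha => hE.sq a ha.1, fun a ha c hc => hE.comm a ha.1 c hc.1⟩
  have h1 := hno B (inf_le_left.trans (hA.trans hQM)) hBE
  have e1 : B ⊓ centralizer (V : Set G) = A ⊓ centralizer (V : Set G) := by
    rw [hB, inf_assoc, inf_eq_right.2 hVN]
  rw [e1] at h1
  have h2 : Nat.card B * (centralizer (N b : Set G)).relIndex A = Nat.card A := by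
    have h3 : B.relIndex A = (centralizer (N b : Set G)).relIndex A := by rw [hB, inf_relIndex_left]
    rw [← h3]
    exact card_relIndex inf_le_left
  have h3 : N b ≤ V ⊓ centralizer (B : Set G) := by
    refine le_inf hNV ?_
    rw [Subgroup.le_centralizer_iff]
    exact inf_le_right
  have h4 : V ⊓ centralizer (A : Set G) ≤ V ⊓ centralizer (B : Set G) :=
    inf_le_inf le_rfl (centralizer_le inf_le_left)
  have h5 : Nat.card ↥(V ⊓ centralizer (A : Set G)) * (V ⊓ centralizer (A : Set G)).relIndex (V ⊓ centralizer (B : Set G)) =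
      Nat.card ↥(V ⊓ centralizer (B : Set G)) := card_relIndex h4
  have h6 : (centralizer (A : Set G)).relIndex (N b) ≤
      (V ⊓ centralizer (A : Set G)).relIndex (V ⊓ centralizer (B : Set G)) := by
    have h7 : (V ⊓ centralizer (A : Set G)).relIndex (N b) = (centralizer (A : Set G)).relIndex (N b) := by
      rw [← inf_relIndex_right (V ⊓ centralizer (A : Set G)), ← inf_relIndex_right (centralizer (A : Set G))]
      congr 1
      rw [inf_assoc, inf_eq_right]
      exact inf_le_right.trans hNV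
    rw [← h7]
    refine relIndex_le_of_le_right h3 ?_
    exact fun h0 => by
      rw [h0, mul_zero] at h5
      exact Nat.card_pos.ne' h5.symm
  have h8 : 0 < Nat.card B := Nat.card_pos
  have h9 : 0 < Nat.card ↥(V ⊓ centralizer (A : Set G)) := Nat.card_pos
  rw [← h2] at hex
  rw [← h5] at h1
  set vA := Nat.card ↥(V ⊓ centralizer (A : Set G))
  set cB := Nat.card B
  set a := (centralizer (N b : Set G)).relIndex A
  set c := (centralizer (A : Set G)).relIndex (N b)
  set d := (V ⊓ centralizer (A : Set G)).relIndex (V ⊓ centralizer (B : Set G))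
  have h10 : cB * (vA * d) ≤ cB * a * vA := h1.trans hex
  have h11 : cB * vA * d ≤ cB * vA * a := by nlinarith
  have h12 : d ≤ a := Nat.le_of_mul_le_mul_left h11 (Nat.mul_pos h8 h9)
  omega

end Cfsg.Agent.Omega.NOThreeL.RRed.Blk.AsmTwoC

end

section


/-!
# NO-3L, box R: the `𝔽₂`-blocks with three letters as a family of natural blocks (helper283, piece (5) of `LeftBlk`)

`F : Full S M V N E R₀ Om phi`, `|Ω_b| = 3`: `S ⊓ E b` induces a group of order 2 on `V`, the root group of the natural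
`SL₂(2)`-block `N b`.

* `exists_tr` : some `s ∈ S ⊓ E b` is a transposition;
* `two_or` : every `t ∈ S ⊓ E b` acts as `1` or as this transposition;
* **`nb`** : `Asm.NB (im Q (S ⊓ E b)) (Q.ad (N b)) (Q.ad (Co N R₀ b))`;
* **`fam`** : all these blocks are a `Fam`.
-/

set_option autoImplicit false
set_option linter.unusedSectionVars false

namespace Cfsg.Agent.Omega.NOThreeL.RRed.Blk.AsmTwo

open Subgroup Cfsg
open Cfsg.Agent.Omega.NOThreeL.RRed.TvFin (Full)
open Cfsg.Agent.Omega.NOThreeL.RRed.Blk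
open Cfsg.Agent.Omega.NOThreeL.RRed.Blk.AsmTwoC (smul_of_norm rel_one E_Co)
open Cfsg.Agent.Omega.KL.TwoS (Rel Lett)
open Cfsg.Agent.Omega.NOThreeL.RSplit (Nrm)
open Cfsg.Agent.Omega.NOThreeL.RRed.Blk.TypesGam (Bk rt)
open Cfsg.Agent.Omega.NOThreeL.RRed.Blk.TypesNat (XH ph im mem_im im_conj im_mono ph_smul ph_eq ph_surj)
open Cfsg.Agent.Omega.NOThreeL.RRed.NS (smul_eq_iff)
open Cfsg.Agent.ZN.ChoiceSit (Syl exists_syl syl_conj)
open Cfsg.Agent.Omega.NOThreeL.RRed.Blk.Asm (NB Fam)
open Cfsg.Agent.Omega.Transv (zmod_cases)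
open scoped Pointwise

universe u

section hom2

variable {A : Type*} [AddCommGroup A]

/-- the homomorphism `𝔽₂ → A`, `1 ↦ m` -/
def hom2 (m : A) (hm : m + m = 0) : ZMod 2 →+ A where
  toFun t := if t = 0 then 0 else m
  map_zero' := if_pos rfl
  map_add' := by
    intro a b
    rcases zmod_cases a with rfl | rfl <;> rcases zmod_cases b with rfl | rfl
    · simp
    · simp
    · simp
    · have h1 : (1 : ZMod 2) + 1 = 0 := by decide
      rw [h1, if_pos rfl, if_neg one_ne_zero, hm]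

theorem hom2_zero (m : A) (hm : m + m = 0) : hom2 m hm 0 = 0 := map_zero _

theorem hom2_one (m : A) (hm : m + m = 0) : hom2 m hm 1 = m := by
  change (if (1 : ZMod 2) = 0 then (0 : A) else m) = m
  exact if_neg one_ne_zero

end hom2

section perm

variable {Ω : Type*} [Fintype Ω] [DecidableEq Ω]

theorem sq_one {σ : Equiv.Perm Ω} (hc : Fintype.card Ω = 3) {n : ℕ} (h : σ ^ 2 ^ n = 1) : σ * σ = 1 := by
  have h1 := orderOf_dvd_of_pow_eq_one h
  have h2 : orderOf σ ∣ 6 := by
    have h3 := orderOf_dvd_card (x := σ)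
    rw [Fintype.card_perm, hc] at h3
    exact h3
  obtain ⟨j, -, hj⟩ := (Nat.dvd_prime_pow Nat.prime_two).1 h1
  rw [hj] at h2
  have h4 : j ≤ 1 := by
    by_contra hcon
    have h5 : 2 ^ 2 ∣ 2 ^ j := pow_dvd_pow 2 (by omega)
    have h6 := h5.trans h2
    omega
  rw [← pow_two]
  have h5 : orderOf σ ∣ 2 := by
    rw [hj]
    calc 2 ^ j ∣ 2 ^ 1 := pow_dvd_pow 2 h4
      _ = 2 := pow_one 2
  exact orderOf_dvd_iff_pow_eq_one.1 h5

theorem exists_third (hc : Fintype.card Ω = 3) {x y : Ω} (hxy : x ≠ y) :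
    ∃ z, z ≠ x ∧ z ≠ y ∧ ∀ w, w = x ∨ w = y ∨ w = z := by
  have h1 : ({x, y} : Finset Ω).card = 2 := Finset.card_pair hxy
  obtain ⟨z, -, hz⟩ := Finset.exists_mem_notMem_of_card_lt_card (s := ({x, y} : Finset Ω)) (t := Finset.univ)
    (by rw [h1, Finset.card_univ, hc]; norm_num)
  have hzx : z ≠ x := fun h => hz (by rw [h]; simp)
  have hzy : z ≠ y := fun h => hz (by rw [h]; simp)
  refine ⟨z, hzx, hzy, fun w => ?_⟩
  have h2 : ({x, y, z} : Finset Ω) = Finset.univ := by
    apply Finset.eq_univ_of_card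
    rw [hc]
    exact Finset.card_eq_three.2 ⟨x, y, z, hxy, hzx.symm, hzy.symm, rfl⟩
  have h3 : w ∈ ({x, y, z} : Finset Ω) := by rw [h2]; exact Finset.mem_univ w
  simpa using h3

theorem perm_cases (hc : Fintype.card Ω = 3) {x y : Ω} (hxy : x ≠ y) {σ : Equiv.Perm Ω} {n m : ℕ}
    (h1 : σ ^ 2 ^ n = 1) (h2 : (σ * Equiv.swap x y) ^ 2 ^ m = 1) : σ = 1 ∨ σ = Equiv.swap x y := by
  obtain ⟨z, hzx, hzy, hall⟩ := exists_third hc hxy
  have h3 := sq_one hc h1
  have h4 := sq_one hc h2
  set τ := Equiv.swap x y with hτ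
  have h5 : τ * τ = 1 := Equiv.swap_mul_self x y
  have hσi : σ⁻¹ = σ := inv_eq_of_mul_eq_one_left h3
  have hτi : τ⁻¹ = τ := inv_eq_of_mul_eq_one_left h5
  have h6 : σ * τ = τ * σ := by
    have h7 : (σ * τ)⁻¹ = σ * τ := inv_eq_of_mul_eq_one_left h4
    rw [mul_inv_rev, hσi, hτi] at h7
    exact h7.symm
  have hap : ∀ w, σ (τ w) = τ (σ w) := fun w => by
    have := congrArg (fun f : Equiv.Perm Ω => f w) h6
    simpa using this
  have hsz : σ z = z := by
    have h8 := hap z
    rw [hτ, Equiv.swap_apply_of_ne_of_ne hzx hzy, ← hτ] at h8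
    rcases hall (σ z) with h | h | h
    · rw [h, hτ, Equiv.swap_apply_left] at h8
      exact absurd h8 hxy
    · rw [h, hτ, Equiv.swap_apply_right] at h8
      exact absurd h8.symm hxy
    · exact h
  rcases hall (σ x) with h | h | h
  · left
    have hy : σ y = y := by
      rcases hall (σ y) with h' | h' | h'
      · exact absurd (σ.injective (h.trans h'.symm)) hxy
      · exact h'
      · exact absurd (σ.injective (hsz.trans h'.symm)) hzy
    ext w
    rcases hall w with rfl | rfl | rfl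
    · rw [h]; rfl
    · rw [hy]; rfl
    · rw [hsz]; rfl
  · right
    have hy : σ y = x := by
      rw [← h]
      exact congrArg (fun f : Equiv.Perm Ω => f x) h3
    ext w
    rcases hall w with rfl | rfl | rfl
    · rw [h, hτ, Equiv.swap_apply_left]
    · rw [hy, hτ, Equiv.swap_apply_right]
    · rw [hsz, hτ, Equiv.swap_apply_of_ne_of_ne hzx hzy]
  · exact absurd (σ.injective (h.trans hsz.symm)) hzx.symm

/-- two transpositions generate -/
theorem gen3 {x y z : Ω} (hyx : y ≠ x) (hzx : z ≠ x) (hzy : z ≠ y) (hall : ∀ w, w = x ∨ w = y ∨ w = z)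
    (K : Subgroup (Equiv.Perm Ω)) (h1 : Equiv.swap x y ∈ K) (h2 : Equiv.swap x z ∈ K) : K = ⊤ := by
  have h3 : Equiv.swap y z ∈ K := by
    have h4 := Equiv.swap_apply_apply (Equiv.swap x y) x z
    rw [Equiv.swap_apply_left, Equiv.swap_apply_of_ne_of_ne hzx hzy] at h4
    rw [h4]
    exact mul_mem (mul_mem h1 h2) (inv_mem h1)
  rw [eq_top_iff, ← Equiv.Perm.closure_isSwap, closure_le]
  rintro _ ⟨a, c, hac, rfl⟩
  rcases hall a with rfl | rfl | rfl <;> rcases hall c with rfl | rfl | rfl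
  · exact absurd rfl hac
  · exact h1
  · exact h2
  · rw [Equiv.swap_comm]; exact h1
  · exact absurd rfl hac
  · exact h3
  · rw [Equiv.swap_comm]; exact h2
  · rw [Equiv.swap_comm]; exact h3
  · exact absurd rfl hac

end perm

variable {G : Type u} [Group G] [Finite G] {S : Sylow 2 G} {M V : Subgroup G} {I : Type u} {N E : I → Subgroup G}
    {R₀ : Subgroup G} {Om : I → Type u} [∀ i, Fintype (Om i)] [∀ i, DecidableEq (Om i)] {phi : ∀ i, Finset (Om i) → G}
    (F : Full (S : Subgroup G) M V N E R₀ Om phi)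
include F

/-- some `s ∈ S ⊓ E b` is a transposition -/
theorem exists_tr (b : I) : ∃ s ∈ (S : Subgroup G) ⊓ E b, ∃ x y : Om b, x ≠ y ∧ Rel (phi b) s (Equiv.swap x y) := by
  have L := F.lett b
  have h3 := F.three b
  obtain ⟨x, y, hxy⟩ := Fintype.one_lt_card_iff.1 (show 1 < Fintype.card (Om b) by omega)
  obtain ⟨g, hg, hr⟩ := L.all (Equiv.swap x y)
  obtain ⟨k, m, hm, hk⟩ := Nat.exists_eq_two_pow_mul_odd (orderOf_pos g).ne'
  have hsq : Equiv.swap x y ^ m = Equiv.swap x y := by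
    obtain ⟨j, rfl⟩ := hm
    rw [pow_add, pow_mul, pow_two, Equiv.swap_mul_self, one_pow, one_mul, pow_one]
  have hr2 := hr.pow m
  rw [hsq] at hr2
  have h1 : (g ^ m) ^ 2 ^ k = 1 := by
    rw [← pow_mul, mul_comm, ← hk, pow_orderOf_eq_one]
  have hp : IsPGroup 2 (zpowers (g ^ m)) := by
    rintro ⟨w, i, rfl⟩
    refine ⟨k, Subtype.ext ?_⟩
    change ((g ^ m) ^ i) ^ 2 ^ k = 1
    rw [← zpow_natCast, zpow_comm, zpow_natCast, h1, one_zpow]
  have hle : zpowers (g ^ m) ≤ E b := by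
    rw [zpowers_le]
    exact pow_mem hg m
  obtain ⟨T, hT, hT2⟩ := exists_syl hp hle
  obtain ⟨e, he, hcj⟩ := syl_conj hT (F.toDec.syl_E b)
  obtain ⟨σ, hσ⟩ := L.act e he
  refine ⟨e * g ^ m * e⁻¹, ?_, σ x, σ y, fun h => hxy (σ.injective h), ?_⟩
  · rw [← hcj]
    exact ⟨g ^ m, hT2 (mem_zpowers _), rfl⟩
  · rw [Equiv.swap_apply_apply]
    exact (hσ.mul hr2).mul hσ.inv

/-- every `t ∈ S ⊓ E b` acts as `1` or as the transposition -/
theorem two_or {b : I} (hc : Fintype.card (Om b) = 3) {s : G} (hs : s ∈ (S : Subgroup G) ⊓ E b) {x y : Om b}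
    (hxy : x ≠ y) (hr : Rel (phi b) s (Equiv.swap x y)) {t : G} (ht : t ∈ (S : Subgroup G) ⊓ E b) :
    Rel (phi b) t 1 ∨ Rel (phi b) t (Equiv.swap x y) := by
  have L := F.lett b
  obtain ⟨σ, hσ⟩ := L.act t ht.2
  obtain ⟨n, hn⟩ := S.2 ⟨t, ht.1⟩
  obtain ⟨m, hm⟩ := S.2 ⟨t * s, mul_mem ht.1 hs.1⟩
  have hn' : t ^ 2 ^ n = 1 := by simpa using congrArg Subtype.val hn
  have hm' : (t * s) ^ 2 ^ m = 1 := by simpa using congrArg Subtype.val hm
  have h1 := hσ.pow (2 ^ n)
  have h2 := (hσ.mul hr).pow (2 ^ m)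
  rw [hn'] at h1
  rw [hm'] at h2
  rcases perm_cases hc hxy (L.unique (by omega) h1 Rel.one) (L.unique (by omega) h2 Rel.one) with h | h
  · left; rwa [h] at hσ
  · right; rwa [h] at hσ

variable (Q : Nrm M V)

/-- elements of `E b` with the same permutation induce the same on `V` -/
theorem ph_eq_of_rel {b : I} {x y : M} (hx : (x : G) ∈ E b) (hy : (y : G) ∈ E b) {σ : Equiv.Perm (Om b)}
    (h1 : Rel (phi b) x σ) (h2 : Rel (phi b) y σ) : ph Q x = ph Q y := by
  have L := F.lett b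
  rw [ph_eq]
  intro m
  obtain ⟨n, hn⟩ := F.toDec.ex_comp b (Q.val_mem m)
  refine Nrm.ext ?_
  rw [Nrm.val_smul, Nrm.val_smul]
  obtain ⟨s, hs, e1⟩ := (L.mem n).1 hn.1
  have e2 : Q.val m = n * (n⁻¹ * Q.val m) := by group
  have key : ∀ z : G, z ∈ E b → Rel (phi b) z σ →
      z * Q.val m * z⁻¹ = phi b (s.map σ.toEmbedding) * (n⁻¹ * Q.val m) := by
    intro z hz hr
    have h3 : z * (n⁻¹ * Q.val m) * z⁻¹ = n⁻¹ * Q.val m := cent (E_Co F.toDec b hz) hn.2
    calc z * Q.val m * z⁻¹ = (z * n * z⁻¹) * (z * (n⁻¹ * Q.val m) * z⁻¹) := by group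
      _ = _ := by rw [h3, ← e1, hr s hs]
  rw [key x hx h1, key y hy h2]

/-- the elements of `N b` -/
theorem mem_N {b : I} {x y z : Om b} (hxy : x ≠ y) (hzx : z ≠ x) (hzy : z ≠ y)
    (hall : ∀ w, w = x ∨ w = y ∨ w = z) {n : G} (hn : n ∈ N b) :
    n = 1 ∨ n = phi b {x, y} ∨ n = phi b {x, z} ∨ n = phi b {x, y} * phi b {x, z} := by
  have L := F.lett b
  obtain ⟨s, hs, rfl⟩ := (L.mem n).1 hn
  have hyz : phi b {y, z} = phi b {x, y} * phi b {x, z} := by
    rw [← L.mul]
    congr 1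
    ext w
    rcases hall w with rfl | rfl | rfl <;> simp [Finset.mem_symmDiff, hxy, hzx, hzy, hxy.symm, hzx.symm, hzy.symm]
  have hsub : s ⊆ {x, y, z} := fun w _ => by
    rcases hall w with rfl | rfl | rfl <;> simp
  have hcard : s.card ≤ 3 := (Finset.card_le_card hsub).trans Finset.card_le_three
  have hs2 : s.card = 0 ∨ s.card = 2 := by
    obtain ⟨j, hj⟩ := hs
    omega
  rcases hs2 with h | h
  · left
    rw [Finset.card_eq_zero.1 h, L.phi_empty]
  · obtain ⟨a, c, hac, rfl⟩ := Finset.card_eq_two.1 h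
    right
    rcases hall a with rfl | rfl | rfl <;> rcases hall c with rfl | rfl | rfl
    · exact absurd rfl hac
    · left; rfl
    · right; left; rfl
    · left; rw [Finset.pair_comm]
    · exact absurd rfl hac
    · right; right; exact hyz
    · right; left; rw [Finset.pair_comm]
    · right; right; rw [Finset.pair_comm]; exact hyz
    · exact absurd rfl hac

/-- **The natural block.** -/
theorem bk {b : I} (hc : Fintype.card (Om b) = 3) :
    ∃ (e f : ZMod 2 →+ Q.Mod) (up lo : ZMod 2 → XH Q), Bk e f (Q.ad (Co N R₀ b)) up lo ∧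
      rt up = im Q ((S : Subgroup G) ⊓ E b) ∧ e.range ⊔ f.range = Q.ad (N b) ∧
      closure (Set.range up ∪ Set.range lo) = im Q (E b) := by
  have L := F.lett b
  obtain ⟨s, hs, x, y, hxy, hr⟩ := exists_tr F b
  obtain ⟨z, hzx, hzy, hall⟩ := exists_third hc hxy
  obtain ⟨g, hg, hr'⟩ := L.all (Equiv.swap x z)
  have hsM : s ∈ M := F.EL b hs.2
  have hgM : g ∈ M := F.EL b hg
  have hN1 : phi b {x, y} ∈ N b := (L.mem _).2 ⟨_, by rw [Finset.card_pair hxy]; exact even_two, rfl⟩
  have hN2 : phi b {x, z} ∈ N b := (L.mem _).2 ⟨_, by rw [Finset.card_pair hzx.symm]; exact even_two, rfl⟩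
  have hNV := F.toDec.NU b
  set m1 : Q.Mod := Q.of (phi b {x, y}) (hNV hN1) with hm1
  set m2 : Q.Mod := Q.of (phi b {x, z}) (hNV hN2) with hm2
  have hd1 : m1 + m1 = 0 := Nrm.ext (L.phi_sq _)
  have hd2 : m2 + m2 = 0 := Nrm.ext (L.phi_sq _)
  have hyz : phi b {y, z} = phi b {x, y} * phi b {x, z} := by
    rw [← L.mul]
    congr 1
    ext w
    rcases hall w with rfl | rfl | rfl <;> simp [Finset.mem_symmDiff, hxy, hzx, hzy, hxy.symm, hzx.symm, hzy.symm]
  -- actions
  have a1 : ph Q ⟨s, hsM⟩ • m1 = m1 := by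
    rw [ph_smul]
    refine Nrm.ext ?_
    change s * phi b {x, y} * s⁻¹ = phi b {x, y}
    rw [L.pair hr hxy, Equiv.swap_apply_left, Equiv.swap_apply_right, Finset.pair_comm]
  have a2 : ph Q ⟨s, hsM⟩ • m2 = m2 + m1 := by
    rw [ph_smul]
    refine Nrm.ext ?_
    change s * phi b {x, z} * s⁻¹ = phi b {x, z} * phi b {x, y}
    rw [L.pair hr hzx.symm, Equiv.swap_apply_left, Equiv.swap_apply_of_ne_of_ne hzx hzy, hyz]
    exact F.toDec.ucomm (hNV hN1) (hNV hN2)
  have b1 : ph Q ⟨g, hgM⟩ • m1 = m1 + m2 := by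
    rw [ph_smul]
    refine Nrm.ext ?_
    change g * phi b {x, y} * g⁻¹ = phi b {x, y} * phi b {x, z}
    rw [L.pair hr' hxy, Equiv.swap_apply_left, Equiv.swap_apply_of_ne_of_ne hxy.symm hzy.symm, Finset.pair_comm, hyz]
  have b2 : ph Q ⟨g, hgM⟩ • m2 = m2 := by
    rw [ph_smul]
    refine Nrm.ext ?_
    change g * phi b {x, z} * g⁻¹ = phi b {x, z}
    rw [L.pair hr' hzx.symm, Equiv.swap_apply_left, Equiv.swap_apply_right, Finset.pair_comm]
  have hC : ∀ (k : M), (k : G) ∈ E b → ∀ c ∈ Q.ad (Co N R₀ b), ph Q k • c = c := by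
    intro k hk c hc
    rw [ph_smul]
    exact Nrm.ext (cent (E_Co F.toDec b hk) hc)
  refine ⟨hom2 m1 hd1, hom2 m2 hd2, fun t => if t = 0 then 1 else ph Q ⟨s, hsM⟩,
    fun t => if t = 0 then 1 else ph Q ⟨g, hgM⟩, ?_, ?_, ?_, ?_⟩
  · have hdec : ∀ n, n ∈ N b → ∃ t t' : ZMod 2, Q.val (hom2 m1 hd1 t + hom2 m2 hd2 t') = n := by
      intro n hn
      rcases mem_N F hxy hzx hzy hall hn with h | h | h | h
      · exact ⟨0, 0, by rw [hom2_zero, hom2_zero, add_zero, h]; rfl⟩
      · exact ⟨1, 0, by rw [hom2_one, hom2_zero, add_zero, h]; rfl⟩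
      · exact ⟨0, 1, by rw [hom2_zero, hom2_one, zero_add, h]; rfl⟩
      · exact ⟨1, 1, by rw [hom2_one, hom2_one, h]; rfl⟩
    exact
    { dec := by
        intro v
        obtain ⟨n, hn⟩ := F.toDec.ex_comp b (Q.val_mem v)
        obtain ⟨t, t', h1⟩ := hdec n hn.1
        refine ⟨t, t', Q.of (n⁻¹ * Q.val v) (F.toDec.CoU b hn.2), hn.2, Nrm.ext ?_⟩
        rw [Nrm.val_add, h1, Nrm.val_of]
        group
      ind := by
        intro t t' h
        have hN : Q.val (hom2 m1 hd1 t + hom2 m2 hd2 t') ∈ N b := by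
          rw [Nrm.val_add]
          refine mul_mem ?_ ?_
          · rcases zmod_cases t with rfl | rfl
            · rw [hom2_zero]; exact one_mem _
            · rw [hom2_one]; exact hN1
          · rcases zmod_cases t' with rfl | rfl
            · rw [hom2_zero]; exact one_mem _
            · rw [hom2_one]; exact hN2
        have h1 : Q.val (hom2 m1 hd1 t + hom2 m2 hd2 t') ∈ N b ⊓ Co N R₀ b := ⟨hN, h⟩
        rw [show N b ⊓ Co N R₀ b = ⊥ from F.toDec.ind b, mem_bot] at h1
        rcases zmod_cases t with rfl | rfl <;> rcases zmod_cases t' with rfl | rfl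
        · exact ⟨rfl, rfl⟩
        · exfalso
          rw [hom2_zero, hom2_one, zero_add] at h1
          have h2 := L.inj {x, z} (by rw [Finset.card_pair hzx.symm]; exact even_two) h1
          exact Finset.insert_ne_empty _ _ h2
        · exfalso
          rw [hom2_zero, hom2_one, add_zero] at h1
          have h2 := L.inj {x, y} (by rw [Finset.card_pair hxy]; exact even_two) h1
          exact Finset.insert_ne_empty _ _ h2
        · exfalso
          rw [hom2_one, hom2_one] at h1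
          have h3 : phi b {y, z} = 1 := by rw [hyz]; exact h1
          have h2 := L.inj {y, z} (by rw [Finset.card_pair hzy.symm]; exact even_two) h3
          exact Finset.insert_ne_empty _ _ h2
      up_e := by
        intro t w
        rcases zmod_cases t with rfl | rfl
        · rw [if_pos rfl, one_smul]
        · rw [if_neg one_ne_zero]
          rcases zmod_cases w with rfl | rfl
          · rw [hom2_zero, smul_zero]
          · rw [hom2_one, a1]
      up_f := by
        intro t w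
        rcases zmod_cases t with rfl | rfl
        · rw [if_pos rfl, one_smul, zero_mul, hom2_zero m1, add_zero]
        · rw [if_neg one_ne_zero, one_mul]
          rcases zmod_cases w with rfl | rfl
          · rw [hom2_zero, hom2_zero, smul_zero, add_zero]
          · rw [hom2_one, hom2_one, a2]
      up_c := by
        intro t c hc'
        rcases zmod_cases t with rfl | rfl
        · rw [if_pos rfl, one_smul]
        · rw [if_neg one_ne_zero]
          exact hC _ hs.2 c hc'
      lo_e := by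
        intro t w
        rcases zmod_cases t with rfl | rfl
        · rw [if_pos rfl, one_smul, zero_mul, hom2_zero m2, add_zero]
        · rw [if_neg one_ne_zero, one_mul]
          rcases zmod_cases w with rfl | rfl
          · rw [hom2_zero, hom2_zero, smul_zero, add_zero]
          · rw [hom2_one, hom2_one, b1]
      lo_f := by
        intro t w
        rcases zmod_cases t with rfl | rfl
        · rw [if_pos rfl, one_smul]
        · rw [if_neg one_ne_zero]
          rcases zmod_cases w with rfl | rfl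
          · rw [hom2_zero, smul_zero]
          · rw [hom2_one, b2]
      lo_c := by
        intro t c hc'
        rcases zmod_cases t with rfl | rfl
        · rw [if_pos rfl, one_smul]
        · rw [if_neg one_ne_zero]
          exact hC _ hg c hc' }
  · apply le_antisymm
    · rw [rt, closure_le]
      rintro _ ⟨t, rfl⟩
      dsimp only
      split_ifs
      · exact one_mem _
      · exact mem_im.2 ⟨⟨s, hsM⟩, hs, rfl⟩
    · intro w hw
      obtain ⟨t, ht, rfl⟩ := mem_im.1 hw
      rcases two_or F hc hs hxy hr ht with h | h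
      · have h1 : ph Q t = 1 := by
          rw [← map_one (ph Q)]
          exact ph_eq_of_rel F Q ht.2 (one_mem _) h Rel.one
        rw [h1]
        exact one_mem _
      · have h1 : ph Q t = ph Q ⟨s, hsM⟩ := ph_eq_of_rel F Q ht.2 hs.2 h hr
        rw [h1]
        exact subset_closure ⟨1, if_neg one_ne_zero⟩
  · apply le_antisymm
    · refine sup_le ?_ ?_
      · rintro _ ⟨t, rfl⟩
        rcases zmod_cases t with rfl | rfl
        · rw [hom2_zero]; exact zero_mem _
        · rw [hom2_one]; exact hN1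
      · rintro _ ⟨t, rfl⟩
        rcases zmod_cases t with rfl | rfl
        · rw [hom2_zero]; exact zero_mem _
        · rw [hom2_one]; exact hN2
    · intro m hm
      have k1 : m1 ∈ (hom2 m1 hd1).range ⊔ (hom2 m2 hd2).range := AddSubgroup.mem_sup_left ⟨1, hom2_one _ _⟩
      have k2 : m2 ∈ (hom2 m1 hd1).range ⊔ (hom2 m2 hd2).range := AddSubgroup.mem_sup_right ⟨1, hom2_one _ _⟩
      rcases mem_N F hxy hzx hzy hall (Nrm.mem_ad.1 hm) with h | h | h | h
      · have : m = 0 := Nrm.ext h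
        rw [this]; exact zero_mem _
      · have : m = m1 := Nrm.ext h
        rw [this]; exact k1
      · have : m = m2 := Nrm.ext h
        rw [this]; exact k2
      · have : m = m1 + m2 := Nrm.ext h
        rw [this]; exact add_mem k1 k2
  · apply le_antisymm
    · rw [closure_le]
      rintro _ (⟨t, rfl⟩ | ⟨t, rfl⟩)
      · dsimp only
        split_ifs
        · exact one_mem _
        · exact mem_im.2 ⟨⟨s, hsM⟩, hs.2, rfl⟩
      · dsimp only
        split_ifs
        · exact one_mem _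
        · exact mem_im.2 ⟨⟨g, hgM⟩, hg, rfl⟩
    · set C := closure (Set.range (fun t : ZMod 2 => if t = 0 then (1 : XH Q) else ph Q ⟨s, hsM⟩) ∪
        Set.range (fun t : ZMod 2 => if t = 0 then (1 : XH Q) else ph Q ⟨g, hgM⟩)) with hCd
      have c1 : ph Q ⟨s, hsM⟩ ∈ C := subset_closure (Or.inl ⟨1, if_neg one_ne_zero⟩)
      have c2 : ph Q ⟨g, hgM⟩ ∈ C := subset_closure (Or.inr ⟨1, if_neg one_ne_zero⟩)
      let K : Subgroup (Equiv.Perm (Om b)) :=
        { carrier := {σ | ∃ w : M, (w : G) ∈ E b ∧ ph Q w ∈ C ∧ Rel (phi b) w σ}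
          mul_mem' := by
            rintro σ τ ⟨w, h1, h2, h3⟩ ⟨w', h1', h2', h3'⟩
            exact ⟨w * w', mul_mem h1 h1', by rw [map_mul]; exact mul_mem h2 h2', h3.mul h3'⟩
          one_mem' := ⟨1, one_mem _, by rw [map_one]; exact one_mem _, Rel.one⟩
          inv_mem' := by
            rintro σ ⟨w, h1, h2, h3⟩
            exact ⟨w⁻¹, inv_mem h1, by rw [map_inv]; exact inv_mem h2, h3.inv⟩ }
      have hK : K = ⊤ := gen3 hxy.symm hzx hzy hall K ⟨⟨s, hsM⟩, hs.2, c1, hr⟩ ⟨⟨g, hgM⟩, hg, c2, hr'⟩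
      intro w hw
      obtain ⟨t, ht, rfl⟩ := mem_im.1 hw
      obtain ⟨σ, hσ⟩ := L.act t ht
      obtain ⟨w, h1, h2, h3⟩ : σ ∈ K := by rw [hK]; exact mem_top σ
      rw [ph_eq_of_rel F Q ht h1 hσ h3]
      exact h2

theorem nb {b : I} (hc : Fintype.card (Om b) = 3) :
    NB (im Q ((S : Subgroup G) ⊓ E b)) (Q.ad (N b)) (Q.ad (Co N R₀ b)) := by
  obtain ⟨e, f, up, lo, h1, h2, h3, -⟩ := bk F Q hc
  exact ⟨ZMod 2, inferInstance, inferInstance, e, f, up, lo, h1, h2, h3⟩

theorem card_im {b : I} (hc : Fintype.card (Om b) = 3) (hV2 : ∀ v : Q.Mod, v + v = 0) :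
    Nat.card (im Q ((S : Subgroup G) ⊓ E b)) = 2 := by
  obtain ⟨e, f, up, lo, h1, h2, h3, -⟩ := bk F Q hc
  rw [← h2, h1.card_rt hV2 (fun x hx => TypesNat.XH_faith Q x hx), Nat.card_zmod]

/-- different blocks have different root groups -/
theorem im_inj {b c : I} (h : im Q ((S : Subgroup G) ⊓ E b) = im Q ((S : Subgroup G) ⊓ E c)) : b = c := by
  by_contra hbc
  have L := F.lett b
  have h3 := F.three b
  obtain ⟨s, hs, x, y, hxy, hr⟩ := exists_tr F b
  have hsM : s ∈ M := F.EL b hs.2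
  have h1 : ph Q ⟨s, hsM⟩ ∈ im Q ((S : Subgroup G) ⊓ E c) := by
    rw [← h]; exact mem_im.2 ⟨⟨s, hsM⟩, hs, rfl⟩
  obtain ⟨t, ht, h2⟩ := mem_im.1 h1
  have h4 : Rel (phi b) s 1 := by
    intro w hw
    have h5 : phi b w ∈ N b := (L.mem _).2 ⟨w, hw, rfl⟩
    have h6 := congrArg Q.val ((ph_eq Q).1 h2 (Q.of (phi b w) (F.toDec.NU b h5)))
    rw [Nrm.val_smul, Nrm.val_smul, Nrm.val_of] at h6
    have h7 : (t : G) * phi b w * (t : G)⁻¹ = phi b w := cent (F.EC c b (Ne.symm hbc) ht.2) h5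
    rw [h7] at h6
    have e : (1 : Equiv.Perm (Om b)).toEmbedding = Function.Embedding.refl (Om b) := by
      ext x
      simp
    rw [e, Finset.map_refl]
    exact h6.symm
  have h5 := L.unique h3 hr h4
  exact hxy (Equiv.swap_eq_one_iff.1 h5)

/-- the root groups -/
def FF (S : Sylow 2 G) (E : I → Subgroup G) (Q : Nrm M V) : Set (Subgroup (XH Q)) :=
  Set.range fun b => im Q ((S : Subgroup G) ⊓ E b)

open Classical in
/-- the block of a root group -/
noncomputable def NF (S : Sylow 2 G) (E : I → Subgroup G) (Q : Nrm M V) (B : I → Subgroup G) (D : Subgroup (XH Q)) :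
    AddSubgroup Q.Mod := if h : ∃ b, im Q ((S : Subgroup G) ⊓ E b) = D then Q.ad (B h.choose) else ⊥

theorem NF_im (B : I → Subgroup G) (b : I) : NF S E Q B (im Q ((S : Subgroup G) ⊓ E b)) = Q.ad (B b) := by
  have h : ∃ c, im Q ((S : Subgroup G) ⊓ E c) = im Q ((S : Subgroup G) ⊓ E b) := ⟨b, rfl⟩
  rw [NF, dif_pos h, im_inj F Q h.choose_spec]

/-- **The `𝔽₂`-blocks with three letters are a family of natural blocks.** -/
theorem fam (hc : ∀ b, Fintype.card (Om b) = 3) (hV2 : ∀ v : Q.Mod, v + v = 0) :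
    Fam (im Q (S : Subgroup G)) (FF S E Q) (NF S E Q N) (NF S E Q (Co N R₀)) where
  le := by
    rintro _ ⟨b, rfl⟩
    exact im_mono inf_le_left
  nb := by
    rintro _ ⟨b, rfl⟩
    dsimp only
    rw [NF_im F Q, NF_im F Q]
    exact nb F Q (hc b)
  ind := by
    rintro _ ⟨b, rfl⟩ _ ⟨c, rfl⟩ hne
    dsimp only
    rw [NF_im F Q, NF_im F Q]
    refine Nrm.ad_mono (F.toDec.N_le_Co ?_)
    rintro rfl
    exact hne rfl
  perm := by
    rintro g _ ⟨b, rfl⟩
    obtain ⟨x, rfl⟩ := ph_surj Q g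
    obtain ⟨c, h1, h2⟩ := F.perm x x.2 b
    refine ⟨_, ⟨c, rfl⟩, ?_, fun m => ?_⟩
    · dsimp only
      rw [card_im F Q (hc b) hV2, card_im F Q (hc c) hV2]
    · dsimp only
      rw [NF_im F Q, NF_im F Q, Nrm.mem_ad, Nrm.mem_ad, ph_smul, Nrm.val_smul]
      exact conj_smul h1
  sinv := by
    rintro w hw _ ⟨b, rfl⟩
    obtain ⟨s, hs, rfl⟩ := mem_im.1 hw
    obtain ⟨c, h1, h2⟩ := F.perm s s.2 b
    refine ⟨c, ?_⟩
    dsimp only
    rw [← im_conj, Subgroup.smul_inf, h2, smul_of_norm (le_normalizer hs)]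

end Cfsg.Agent.Omega.NOThreeL.RRed.Blk.AsmTwo

end
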