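import Cfsg.Agent.Mrg.Omega.NOThreeL.RRed.Blk.AsmInp
import Cfsg.Agent.Mrg.Omega.NOThreeL.RRed.Blk.AsmMv


/-!
# NO-3L, box R: the structure `Src` of `WideTree` for a family of natural blocks

`B : RB S`, `mv : MvAct S`, `Q : Nrm (MZ S) (Wd S)`, `FF` : a family of root groups (images of minimal exact groups of `S`),
`N D`, `C D` the blocks and complements; `bN`, `bl`, `q` : blocks, lines and orders in `G` (index type `κ`),
`Cov` : `bN b = un Q (N D)`, `bl b = un Q [V, D]`, `q b = |D|`.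

* `line_eq` : `[V, D] = N D ∩ C_V(D)`;
* `act_cov`, `mov_cov` : the two fields, for an active `P` with a member in `FF`, and a block of `FF` (other kinds of blocks
  allowed);  **`src_cov`** : `Src`, if all minimal exact groups are in `FF`;
* `tvS_of_card`, `four_le` : no transvections: all minimal exact groups induce groups of order at least 4;
* **`one_all`** : `V*` irreducible, no transvections: one `D₀`; all minimal exact groups are conjugate to it modulo `C(V*)`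
  and their blocks generate `V*`.
-/

set_option autoImplicit false
set_option linter.unusedSectionVars false

namespace Cfsg.Agent.Omega.NOThreeL.RRed.Blk.SrcBox

open Subgroup Cfsg Cfsg.Agent.ZN Cfsg.Agent.Omega.MinPar
open Cfsg.Agent.Omega.FFThm (NatKM SymKM OffM ElemM NoOverM StmtM ConclM)
open Cfsg.Agent.Omega.FrameFF (cv)
open Cfsg.Agent.Omega.NO3S.ThmB Cfsg.Agent.Omega.NO3S.KeyRad
open Cfsg.Agent.Omega.NOThreeL.RSplit (Nrm)
open Cfsg.Agent.Omega.NOThreeL.RRed.NS hiding rt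
open Cfsg.Agent.Omega.NOThreeL.RRed.WideTree (Act MvAct Src)
open Cfsg.Agent.Omega.NOThreeL.RRed.FourTree (TvS)
open Cfsg.Agent.Omega.NOThreeL.RTree (RB)
open Cfsg.Agent.Omega.NOThreeL.Merge (MZ le_MZ isLoc_MZ)
open Cfsg.Agent.Omega.NOThreeL.RRed.Blk.TypesNat (XH ph ph_smul XH_faith ph_eq ph_surj no_XH two_of)
open Cfsg.Agent.Omega.NOThreeL.RRed.Blk.Asm (Es GB NB Fam FFs NN CC St range_le_brk brk_rt_le e_le_fxd)
open Cfsg.Agent.Omega.NOThreeL.RRed.Blk.AsmCore (EP KP im ph_mem_im)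
open Cfsg.Agent.Omega.NOThreeL.RRed.Blk.AsmG (Inp RRs)
open scoped Pointwise

universe u v w

section abs

variable {X : Type u} {V : Type v} [Group X] [AddCommGroup V] [DistribMulAction X V]

/-- the line of a block -/
theorem line_eq (h2 : ∀ v : V, v + v = 0) (hf : ∀ x : X, (∀ v : V, x • v = v) → x = 1) {D : Subgroup X}
    {N C : AddSubgroup V} (h : NB D N C) : brk V D = N ⊓ (fxd D : AddSubgroup V) := by
  obtain ⟨F, i1, i2, e, f, up, lo, hB, rfl, rfl⟩ := h.ex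
  have h1 := brk_rt_le hB h2 hf
  refine le_antisymm (le_inf (h1.trans le_sup_left) (h1.trans (e_le_fxd hB))) ?_
  rintro m ⟨hm, hm'⟩
  obtain ⟨_, ⟨x, rfl⟩, _, ⟨y, rfl⟩, rfl⟩ := AddSubgroup.mem_sup.1 hm
  have h5 := hm' (up 1) (TypesGam.up_mem 1)
  rw [smul_add, hB.up_e, hB.up_f, one_mul] at h5
  have h6 : e y + f 0 ∈ C := by
    have h7 : e y = 0 := by
      have h8 : e x + f y + e y = e x + f y + 0 := by rw [add_zero, add_assoc]; exact h5
      exact add_left_cancel h8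
    rw [h7, map_zero, add_zero]
    exact zero_mem C
  obtain ⟨rfl, -⟩ := hB.ind y 0 h6
  rw [map_zero, add_zero]
  exact range_le_brk hB ⟨x, rfl⟩

/-- a group of order 2 inducing an exact group acts as a transvection -/
theorem tv_of_two {A : Subgroup X} (hE : Nat.card V ≤ Nat.card A * Nat.card (fxd A : AddSubgroup V)) [Finite V]
    (h2 : Nat.card A ≤ 2) {t : X} (ht : t ∈ A) : ∃ c : V, ∀ v : V, t • v = v ∨ t • v = v + c := by
  set F := (fxd A : AddSubgroup V) with hF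
  have h3 := F.card_mul_index
  have h4 : F.index ≤ 2 := by
    have h5 : 0 < Nat.card F := Nat.card_pos
    have h6 : Nat.card F * F.index ≤ Nat.card F * 2 := by
      rw [h3, mul_comm]
      exact hE.trans (Nat.mul_le_mul_right _ h2)
    exact Nat.le_of_mul_le_mul_left h6 h5
  have h5 : F.index ≠ 0 := by
    intro h0
    rw [h0, mul_zero] at h3
    exact (Nat.card_pos (α := V)).ne h3
  by_cases h6 : F.index = 1
  · rw [AddSubgroup.index_eq_one] at h6
    refine ⟨0, fun v => Or.inl ?_⟩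
    have h7 : v ∈ F := h6 ▸ AddSubgroup.mem_top v
    exact h7 t ht
  · have h7 : F.index = 2 := by omega
    obtain ⟨v₀, hv₀⟩ : ∃ v₀ : V, v₀ ∉ F := by
      by_contra hcon
      push Not at hcon
      exact h6 (AddSubgroup.index_eq_one.2 ((eq_top_iff).2 fun v _ => hcon v))
    refine ⟨t • v₀ - v₀, fun v => ?_⟩
    by_cases hv : v ∈ F
    · exact Or.inl (hv t ht)
    · right
      have h8 : v - v₀ ∈ F := by
        rw [sub_eq_add_neg, AddSubgroup.add_mem_iff_of_index_two h7, neg_mem_iff]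
        exact iff_of_false hv hv₀
      have h9 := h8 t ht
      rw [smul_sub] at h9
      have h10 : t • v = (v - v₀) + t • v₀ := by rw [← h9]; abel
      rw [h10]; abel

end abs

variable {G : Type u} [Group G] [Finite G] {S : Sylow 2 G} {P : Subgroup G}

section cov

variable {H U : Subgroup G} {Q : Nrm H U}

/-- `b` is the block of `D` -/
structure Cov (Q : Nrm H U) (D : Subgroup (XH Q)) (N : AddSubgroup Q.Mod) (bN bl : Subgroup G) (q : ℕ) : Prop where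
  n : bN = un Q N
  l : bl = un Q (brk Q.Mod D)
  q : q = Nat.card D

/-- the line as a fixed-point group -/
theorem cov_of (h2 : ∀ v : Q.Mod, v + v = 0) {D : Subgroup (XH Q)} {N C : AddSubgroup Q.Mod} (h : NB D N C)
    {bN bl : Subgroup G} {q : ℕ} (h1 : bN = un Q N) (h3 : bl = un Q (N ⊓ (fxd D : AddSubgroup Q.Mod)))
    (h4 : q = Nat.card D) : Cov Q D N bN bl q :=
  ⟨h1, by rw [h3, line_eq h2 (fun x hx => XH_faith Q x hx) h], h4⟩

end cov

section fam

variable (B : RB S) (mv : MvAct (S : Subgroup G)) (Q : Nrm (MZ (S : Subgroup G)) (Wd (S : Subgroup G)))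
  {FF : Set (Subgroup (XH Q))} {N C : Subgroup (XH Q) → AddSubgroup Q.Mod} {κ : Type w} {bN bl : κ → Subgroup G}
  {q : κ → ℕ}
include B mv

/-- **the field `act`**, for an active `P` with a member in `FF` -/
theorem act_cov (hn : ∀ D ∈ FF, NB D (N D) (C D)) (h4 : ∀ D ∈ FF, 4 ≤ Nat.card D)
    (hS : ∀ s ∈ im Q (S : Subgroup G), ∀ D ∈ FF, MulAut.conj s • D ∈ FF)
    (cov : ∀ D ∈ FF, ∃ b, Cov Q D (N D) (bN b) (bl b) (q b)) (hP : IsParS (S : Subgroup G) P)
    {A : Subgroup G} (hA : A ∈ EP (S : Subgroup G) P (Wd (S : Subgroup G))) (hAF : im Q A ∈ FF) :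
    ∃ (F : Type) (_ : Field F) (_ : Finite F) (_ : CharP F 2) (k : ℕ) (_ : 0 < k)
      (M : NatKM F (S : Subgroup G) P (zl (S : Subgroup G) P) (cv (S : Subgroup G) P) k) (h : Nb M),
      (∀ i, DD M i = ⊥) ∧ ∀ j, ∃ b, bN b = blk M j ∧ bl b = YY h j ∧ q b = Nat.card F := by
  obtain ⟨F, i1, i2, i3, k, hk, M, h, h1, h2, -⟩ := AsmMv.src_one B mv Q hn h4 hS hP hA hAF
  refine ⟨F, i1, i2, i3, k, hk, M, h, h1, fun j => ?_⟩
  obtain ⟨D, hD, e1, e2, e3⟩ := h2 j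
  obtain ⟨b, hb⟩ := cov D hD
  exact ⟨b, hb.n.trans e1, hb.l.trans e2, hb.q.trans e3⟩

/-- **the field `mov`**, for a block of `FF` -/
theorem mov_cov (I : Inp S (MZ (S : Subgroup G)) Q)
    (hn : ∀ D ∈ FF, GB (im Q '' AsmCore.EE (S : Subgroup G) (Wd (S : Subgroup G))) D (N D) (C D))
    (h4 : ∀ D ∈ FF, 4 ≤ Nat.card D) (hS : ∀ s ∈ im Q (S : Subgroup G), ∀ D ∈ FF, MulAut.conj s • D ∈ FF)
    (hsub : FF ⊆ im Q '' AsmCore.EE (S : Subgroup G) (Wd (S : Subgroup G)))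
    (cov : ∀ D ∈ FF, ∃ b, Cov Q D (N D) (bN b) (bl b) (q b)) {D : Subgroup (XH Q)} (hD : D ∈ FF) {b : κ}
    (hb : Cov Q D (N D) (bN b) (bl b) (q b)) :
    ∃ P, Act (S : Subgroup G) P ∧ ∃ (F : Type) (_ : Field F) (_ : Finite F) (_ : CharP F 2) (k : ℕ) (_ : 0 < k)
      (M : NatKM F (S : Subgroup G) P (zl (S : Subgroup G) P) (cv (S : Subgroup G) P) k) (h : Nb M),
      (∀ i, DD M i = ⊥) ∧ (∃ j, bN b = blk M j ∧ bl b = YY h j ∧ q b = Nat.card F) ∧
      ∀ j, ∃ c, bN c = blk M j ∧ bl c = YY h j ∧ q c = Nat.card F := by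
  obtain ⟨P, a, F, i1, i2, i3, k, hk, M, h, h1, h2, j, e1, e2, e3⟩ := AsmMv.mov_of B mv Q (N := N) (C := C) I.es
    (fun P a => I.ac P a.1 (le_MZ a.1) (AsmMv.EP_ne B a)) hn h4 hS hsub hD
  refine ⟨P, a, F, i1, i2, i3, k, hk, M, h, h1, ⟨j, hb.n.trans e1, hb.l.trans e2, hb.q.trans e3⟩, fun j => ?_⟩
  obtain ⟨D, hD, e1, e2, e3⟩ := h2 j
  obtain ⟨b, hb⟩ := cov D hD
  exact ⟨b, hb.n.trans e1, hb.l.trans e2, hb.q.trans e3⟩

end fam

section box

variable (B : RB S) (mv : MvAct (S : Subgroup G)) (Q : Nrm (MZ (S : Subgroup G)) (Wd (S : Subgroup G)))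
  {FF : Set (Subgroup (XH Q))} {N C : Subgroup (XH Q) → AddSubgroup Q.Mod} {κ : Type u} {bN bl : κ → Subgroup G}
  {q : κ → ℕ}
include B mv

/-- **The structure `Src`**, all blocks in `FF`. -/
theorem src_cov (I : Inp S (MZ (S : Subgroup G)) Q)
    (hn : ∀ D ∈ FF, GB (im Q '' AsmCore.EE (S : Subgroup G) (Wd (S : Subgroup G))) D (N D) (C D))
    (h4 : ∀ D ∈ FF, 4 ≤ Nat.card D) (hS : ∀ s ∈ im Q (S : Subgroup G), ∀ D ∈ FF, MulAut.conj s • D ∈ FF)
    (hFF : FF = im Q '' AsmCore.EE (S : Subgroup G) (Wd (S : Subgroup G)))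
    (cov : ∀ D ∈ FF, ∃ b, Cov Q D (N D) (bN b) (bl b) (q b))
    (of : ∀ b, ∃ D ∈ FF, Cov Q D (N D) (bN b) (bl b) (q b)) : Src (S : Subgroup G) bN bl q where
  act P a := by
    obtain ⟨A, hA⟩ := AsmMv.EP_ne B a
    exact act_cov B mv Q (fun D hD => (hn D hD).nb) h4 hS cov a.1 hA (hFF ▸ ⟨A, hA.1, rfl⟩)
  mov b := by
    obtain ⟨D, hD, hb⟩ := of b
    exact mov_cov B mv Q I hn h4 hS hFF.le cov hD hb

end box

/-! ### No transvections -/

section tv

variable (Q : Nrm (MZ (S : Subgroup G)) (Wd (S : Subgroup G)))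

theorem tvS_of_card (hSH : (S : Subgroup G) ≤ MZ (S : Subgroup G)) (I : Inp S (MZ (S : Subgroup G)) Q) {A : Subgroup G}
    (hA : A ∈ AsmCore.EE (S : Subgroup G) (Wd (S : Subgroup G))) (h2 : Nat.card (im Q A) ≤ 2) : TvS (S : Subgroup G) := by
  obtain ⟨t, ht, hn⟩ : ∃ t ∈ A, t ∉ centralizer (Wd (S : Subgroup G) : Set G) := by
    by_contra hcon
    push Not at hcon
    exact hA.2.ne hcon
  have E : Es (im Q (S : Subgroup G)) (im Q '' AsmCore.EE (S : Subgroup G) (Wd (S : Subgroup G))) Q.Mod := I.es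
  obtain ⟨c, hc⟩ := tv_of_two (E.exact _ ⟨A, hA, rfl⟩) h2 (t := ph Q ⟨t, hSH (hA.1 ht)⟩) (ph_mem_im Q ht)
  have key : ∀ w ∈ Wd (S : Subgroup G), t * w * t⁻¹ = w ∨ t * w * t⁻¹ = w * Q.val c := by
    intro w hw
    rcases hc (Q.of w hw) with h1 | h1
    · left
      rw [ph_smul] at h1
      exact (smul_eq_iff Q _ _).1 h1
    · right
      have h3 := congrArg Q.val h1
      rw [ph_smul, Nrm.val_smul, Nrm.val_add] at h3
      exact h3
  refine ⟨t, hA.1 ht, Q.val c, Q.val_mem c, fun h1 => hn ?_, key, hn⟩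
  rw [mem_centralizer_iff]
  intro w hw
  rcases key w hw with h3 | h3
  · exact (mul_inv_eq_iff_eq_mul.1 h3).symm
  · rw [h1, mul_one] at h3
    exact (mul_inv_eq_iff_eq_mul.1 h3).symm

/-- no transvections: all minimal exact groups induce groups of order at least 4 -/
theorem four_le (hSH : (S : Subgroup G) ≤ MZ (S : Subgroup G)) (I : Inp S (MZ (S : Subgroup G)) Q)
    (ht : ¬ TvS (S : Subgroup G)) {D : Subgroup (XH Q)}
    (hD : D ∈ im Q '' AsmCore.EE (S : Subgroup G) (Wd (S : Subgroup G))) : 4 ≤ Nat.card D := by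
  obtain ⟨A, hA, rfl⟩ := hD
  have h1 : ¬ Nat.card (im Q A) ≤ 2 := fun h2 => ht (tvS_of_card Q hSH I hA h2)
  have h3 : Nat.card (im Q A) ∣ Nat.card A := Dvd.intro _ (AsmCore.card_im Q (hA.1.trans hSH))
  obtain ⟨n, hn⟩ := IsPGroup.iff_card.1 (S.isPGroup'.to_le hA.1)
  rw [hn] at h3
  obtain ⟨m, -, hm⟩ := (Nat.dvd_prime_pow Nat.prime_two).1 h3
  rw [hm] at h1 ⊢
  rcases m with _ | _ | m
  · exact absurd (by norm_num) h1
  · exact absurd (by norm_num) h1
  · calc 4 = 2 ^ 2 := by norm_num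
      _ ≤ 2 ^ (m + 1 + 1) := Nat.pow_le_pow_right (by norm_num) (by omega)

omit [Finite G] in
theorem hf (Q : Nrm (MZ (S : Subgroup G)) (Wd (S : Subgroup G))) (x : XH Q) (hx : ∀ v : Q.Mod, x • v = v) : x = 1 :=
  XH_faith Q x hx

/-- `AsmG.Inp.main` for `U = V*` -/
theorem main_box (I : Inp S (MZ (S : Subgroup G)) Q) {RR : Set (Subgroup (XH Q))}
    (hR : RR ⊆ RRs S (MZ (S : Subgroup G)) Q) :
    (∀ v : Q.Mod, v + v = 0) ∧
    FFs (im Q '' AsmCore.EE (S : Subgroup G) (Wd (S : Subgroup G))) RR ⊆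
      im Q '' AsmCore.EE (S : Subgroup G) (Wd (S : Subgroup G)) ∧
    (∀ D ∈ FFs (im Q '' AsmCore.EE (S : Subgroup G) (Wd (S : Subgroup G))) RR, 4 ≤ Nat.card D) ∧
    (∀ D ∈ FFs (im Q '' AsmCore.EE (S : Subgroup G) (Wd (S : Subgroup G))) RR,
      GB (im Q '' AsmCore.EE (S : Subgroup G) (Wd (S : Subgroup G))) D
        (NN (im Q '' AsmCore.EE (S : Subgroup G) (Wd (S : Subgroup G))) Q.Mod D)
        (CC (im Q '' AsmCore.EE (S : Subgroup G) (Wd (S : Subgroup G))) Q.Mod D)) ∧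
    Fam (im Q (S : Subgroup G)) (FFs (im Q '' AsmCore.EE (S : Subgroup G) (Wd (S : Subgroup G))) RR)
      (NN (im Q '' AsmCore.EE (S : Subgroup G) (Wd (S : Subgroup G))) Q.Mod)
      (CC (im Q '' AsmCore.EE (S : Subgroup G) (Wd (S : Subgroup G))) Q.Mod) :=
  ⟨I.two, I.main hR⟩

/-- `V*` irreducible for `M₀` : one root group generates everything -/
theorem sup_one (I : Inp S (MZ (S : Subgroup G)) Q)
    (irr : ∀ W : Subgroup G, W ≤ Wd (S : Subgroup G) → MZ (S : Subgroup G) ≤ normalizer (W : Set G) → W ≠ ⊥ →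
      Wd (S : Subgroup G) ≤ W) {D : Subgroup (XH Q)} (hD : D ∈ RRs S (MZ (S : Subgroup G)) Q) :
    (⨆ D' ∈ FFs (im Q '' AsmCore.EE (S : Subgroup G) (Wd (S : Subgroup G))) {D},
      NN (im Q '' AsmCore.EE (S : Subgroup G) (Wd (S : Subgroup G))) Q.Mod D') = ⊤ := by
  obtain ⟨h2, h1, h4, h5, hF⟩ := main_box Q I (RR := {D}) (Set.singleton_subset_iff.2 hD)
  refine Fam.sup_eq h2 hF ⟨D, Asm.le_FFs rfl⟩ (fun g m _ => AddSubgroup.mem_top _) (fun U _ hinv hne => ?_)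
    (fun _ _ => le_top)
  have h6 := irr (un Q U) (AsmUn.un_le Q U) ((AsmUn.inv_iff Q U).1 hinv) fun h0 => hne ((AsmUn.un_eq_bot Q).1 h0)
  rw [← AsmUn.un_le_iff (Q := Q), AsmUn.un_top]
  exact h6

/-- **`V*` irreducible, no transvections.** -/
theorem one_all (B : RB S) (mv : MvAct (S : Subgroup G)) (hz : ∃ z ∈ zc (S : Subgroup G), z ≠ 1)
    (hSH : (S : Subgroup G) ≤ MZ (S : Subgroup G)) (I : Inp S (MZ (S : Subgroup G)) Q)
    (irr : ∀ W : Subgroup G, W ≤ Wd (S : Subgroup G) → MZ (S : Subgroup G) ≤ normalizer (W : Set G) → W ≠ ⊥ →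
      Wd (S : Subgroup G) ≤ W) (ht : ¬ TvS (S : Subgroup G)) :
    ∃ D ∈ RRs S (MZ (S : Subgroup G)) Q,
      FFs (im Q '' AsmCore.EE (S : Subgroup G) (Wd (S : Subgroup G))) {D} =
        im Q '' AsmCore.EE (S : Subgroup G) (Wd (S : Subgroup G)) ∧
      (⨆ D' ∈ im Q '' AsmCore.EE (S : Subgroup G) (Wd (S : Subgroup G)),
        NN (im Q '' AsmCore.EE (S : Subgroup G) (Wd (S : Subgroup G))) Q.Mod D') = ⊤ ∧
      4 ≤ Nat.card D ∧
      ∀ D' ∈ im Q '' AsmCore.EE (S : Subgroup G) (Wd (S : Subgroup G)), Nat.card D' = Nat.card D := by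
  obtain ⟨z, hz, hz1⟩ := hz
  obtain ⟨P, a, -⟩ := mv z hz hz1
  obtain ⟨A, hA⟩ := AsmMv.EP_ne B a
  have hD : im Q A ∈ RRs S (MZ (S : Subgroup G)) Q :=
    ⟨four_le Q hSH I ht ⟨A, hA.1, rfl⟩, P, a.1, le_MZ a.1, A, hA, rfl⟩
  have h1 := sup_one Q I irr hD
  obtain ⟨-, h3, h4, h5, hF⟩ := main_box Q I (RR := {im Q A}) (Set.singleton_subset_iff.2 hD)
  have e : FFs (im Q '' AsmCore.EE (S : Subgroup G) (Wd (S : Subgroup G))) {im Q A} =
      im Q '' AsmCore.EE (S : Subgroup G) (Wd (S : Subgroup G)) :=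
    Asm.eq_EE (hf Q) h3 h5 h1 fun D' hD' h0 => by
      have h6 := four_le Q hSH I ht hD'
      rw [h0, Subgroup.card_bot] at h6
      omega
  refine ⟨_, hD, e, ?_, four_le Q hSH I ht ⟨A, hA.1, rfl⟩, fun D' hD' => ?_⟩
  · rw [e] at h1
    exact h1
  · rw [← e] at hD'
    obtain ⟨g, -, _, rfl, rfl⟩ := hD'
    exact Asm.conj_ne_bot

/-- **`Src` for the family of all minimal exact groups.** -/
theorem src_all (B : RB S) (mv : MvAct (S : Subgroup G)) (I : Inp S (MZ (S : Subgroup G)) Q) {RR : Set (Subgroup (XH Q))}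
    (hR : RR ⊆ RRs S (MZ (S : Subgroup G)) Q)
    (e : FFs (im Q '' AsmCore.EE (S : Subgroup G) (Wd (S : Subgroup G))) RR =
      im Q '' AsmCore.EE (S : Subgroup G) (Wd (S : Subgroup G))) {κ : Type u} (d : κ → Subgroup (XH Q))
    (hd : ∀ b, d b ∈ im Q '' AsmCore.EE (S : Subgroup G) (Wd (S : Subgroup G)))
    (sd : ∀ D ∈ im Q '' AsmCore.EE (S : Subgroup G) (Wd (S : Subgroup G)), ∃ b, d b = D) :
    Src (S : Subgroup G)
      (fun b => un Q (NN (im Q '' AsmCore.EE (S : Subgroup G) (Wd (S : Subgroup G))) Q.Mod (d b)))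
      (fun b => un Q (brk Q.Mod (d b))) (fun b => Nat.card (d b)) := by
  obtain ⟨-, h3, h4, h5, hF⟩ := main_box Q I hR
  rw [e] at h4 h5 hF
  refine src_cov B mv Q I h5 h4 hF.sinv rfl (fun D hD => ?_) fun b => ⟨d b, hd b, rfl, rfl, rfl⟩
  obtain ⟨b, rfl⟩ := sd D hD
  exact ⟨b, rfl, rfl, rfl⟩

end tv

end Cfsg.Agent.Omega.NOThreeL.RRed.Blk.SrcBox
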