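import Cfsg.Agent.Mrg.Omega.NOThreeL.RZ.TwoC.DecE
import Cfsg.Agent.Mrg.Omega.NOThreeL.RRed.ClassInst


/-!
# Blocks: an element which permutes the atoms permutes the blocks (#26668 `perm`)

`Dec S L U N E R₀`, `𝒜` a set of subgroups ("atoms"):

* `Atoms N R₀ 𝒜` : every `A ∈ 𝒜` moves exactly one `N b`, centralises `R₀`, normalises all `N b`; every `N b` is moved
  and irreducible under the atoms moving it;
* **`perm_atoms`** : `d, d⁻¹` permute `𝒜`, `d ∈ N(U)` ⇒ `∀ b, ∃ c, conj d • N b = N c`; `norm_B`, `norm_R` : `d`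
  normalises `⨆ b, N b` and `R₀`;
* `At S M V` : the `M`-conjugates of the minimal exact `A ≤ S`; **`at_conj`** : `N(M) ⊓ N(V)` permutes `At S M V`;
  `atoms_at` : `Atoms` for `At S M V` from the members `A ≤ S`.
-/

set_option autoImplicit false
set_option linter.unusedSectionVars false

namespace Cfsg.Agent.Omega.NOThreeL.RRed.Blk

open Subgroup Cfsg
open Cfsg.Agent.ZN.ChoiceBase (cj)
open Cfsg.Agent.ZN.ChoiceSit (Syl exists_syl syl_conj)
open Cfsg.Agent.ZN.CaseTwo (syl_of_sylow)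
open scoped Pointwise

universe u v

variable {G : Type u} [Group G] {ι : Type v}

/-- **Atoms.** -/
structure Atoms (N : ι → Subgroup G) (R₀ : Subgroup G) (AA : Set (Subgroup G)) : Prop where
  one : ∀ A ∈ AA, ∃ b, (∀ c, c ≠ b → A ≤ centralizer (N c : Set G)) ∧ ¬ A ≤ centralizer (N b : Set G)
  cR : ∀ A ∈ AA, A ≤ centralizer (R₀ : Set G)
  nor : ∀ A ∈ AA, ∀ b, A ≤ normalizer (N b : Set G)
  ex : ∀ b, ∃ A ∈ AA, ¬ A ≤ centralizer (N b : Set G)
  irr : ∀ b, ∀ W : Subgroup G, W ≤ N b → (∀ A ∈ AA, ¬ A ≤ centralizer (N b : Set G) → A ≤ normalizer (W : Set G)) →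
    W ≠ ⊥ → N b ≤ W

/-- conjugates of normalisers -/
theorem conj_le_norm {d : G} {A B : Subgroup G} (h : MulAut.conj d • A ≤ normalizer (B : Set G)) :
    A ≤ normalizer ((MulAut.conj d⁻¹ • B : Subgroup G) : Set G) := by
  intro a ha
  have h1 : d * a * d⁻¹ ∈ normalizer (B : Set G) := h ((conj_smul rfl).1 ha)
  have hm : ∀ x, x ∈ MulAut.conj d⁻¹ • B ↔ d * x * d⁻¹ ∈ B := by
    intro x
    rw [mem_pointwise_smul_iff_inv_smul_mem, ← map_inv, MulAut.smul_def, MulAut.conj_apply, inv_inv]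
  rw [mem_normalizer_iff]
  intro x
  rw [hm, hm, mem_normalizer_iff.1 h1]
  have e : d * a * d⁻¹ * (d * x * d⁻¹) * (d * a * d⁻¹)⁻¹ = d * (a * x * a⁻¹) * d⁻¹ := by group
  rw [e]

section main

variable {S L U : Subgroup G} {N E : ι → Subgroup G} {R₀ : Subgroup G} {AA : Set (Subgroup G)}
  (h : Dec S L U N E R₀) (hA : Atoms N R₀ AA)
include h hA

/-- the commutators of an atom moving `N b` lie in `N b` -/
theorem comm_mem {A : Subgroup G} (hm : A ∈ AA) {b : ι} (hc : ∀ c, c ≠ b → A ≤ centralizer (N c : Set G)) {a u : G}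
    (ha : a ∈ A) (hu : u ∈ U) : a * u * a⁻¹ * u⁻¹ ∈ N b := by
  have h1 : A ≤ centralizer (Co N R₀ b : Set G) := by
    rw [le_centralizer_iff]
    refine sup_le (iSup_le fun c => ?_) ?_
    · rw [le_centralizer_iff]; exact hc c c.2
    · rw [le_centralizer_iff]; exact hA.cR A hm
  rw [← h.sup_Co b] at hu
  obtain ⟨n, hn, y, hy, rfl⟩ := mem_sup_of (h.nor (h.NU b) (h.CoU b)) hu
  have h2 : a * y * a⁻¹ = y := cent (h1 ha) hy
  have e : a * (n * y) * a⁻¹ * (n * y)⁻¹ = (a * n * a⁻¹) * (a * y * a⁻¹) * y⁻¹ * n⁻¹ := by group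
  rw [e, h2, mul_inv_cancel_right]
  exact mul_mem (conj_of (hA.nor A hm b ha) hn) (inv_mem hn)

theorem perm_le {d : G} (hd : ∀ A ∈ AA, MulAut.conj d • A ∈ AA) (hU : d ∈ normalizer (U : Set G)) (b : ι) :
    ∃ c, MulAut.conj d • N b ≤ N c := by
  obtain ⟨A, hm, hAb⟩ := hA.ex b
  obtain ⟨b', hb', -⟩ := hA.one A hm
  have hbb : b' = b := by
    by_contra hne
    exact hAb (hb' b (Ne.symm hne))
  subst hbb
  obtain ⟨c, hc, -⟩ := hA.one _ (hd A hm)
  refine ⟨c, ?_⟩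
  have hmem : ∀ x, x ∈ MulAut.conj d⁻¹ • N c ↔ d * x * d⁻¹ ∈ N c := by
    intro x
    rw [mem_pointwise_smul_iff_inv_smul_mem, ← map_inv, MulAut.smul_def, MulAut.conj_apply, inv_inv]
  -- a nontrivial commutator
  have hex : ∃ a ∈ A, ∃ n ∈ N b', a * n * a⁻¹ * n⁻¹ ≠ 1 := by
    by_contra hcon
    push Not at hcon
    apply hAb
    intro a ha
    rw [mem_centralizer_iff]
    intro n hn
    have h1 := hcon a ha n hn
    have h2 : a * n = n * a := by
      calc a * n = (a * n * a⁻¹ * n⁻¹) * (n * a) := by group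
        _ = n * a := by rw [h1, one_mul]
    exact h2.symm
  obtain ⟨a, ha, n, hn, hne⟩ := hex
  have hW : N b' ≤ N b' ⊓ MulAut.conj d⁻¹ • N c := by
    refine hA.irr b' _ inf_le_left (fun A' hm' _ => ?_) ?_
    · have h1 : A' ≤ normalizer ((MulAut.conj d⁻¹ • N c : Subgroup G) : Set G) :=
        conj_le_norm (hA.nor _ (hd A' hm') c)
      intro x hx
      have h2 := mem_normalizer_iff.1 (hA.nor A' hm' b' hx)
      have h3 := mem_normalizer_iff.1 (h1 hx)
      rw [mem_normalizer_iff]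
      intro y
      rw [mem_inf, mem_inf, h2, h3]
    · intro hbot
      apply hne
      rw [← mem_bot, ← hbot]
      refine mem_inf.2 ⟨comm_mem h hA hm hb' ha (h.NU b' hn), (hmem _).2 ?_⟩
      have e : d * (a * n * a⁻¹ * n⁻¹) * d⁻¹ =
          (d * a * d⁻¹) * (d * n * d⁻¹) * (d * a * d⁻¹)⁻¹ * (d * n * d⁻¹)⁻¹ := by group
      rw [e]
      exact comm_mem h hA (hd A hm) hc ((conj_smul rfl).1 ha) (conj_of hU (h.NU b' hn))
  rintro _ ⟨x, hx, rfl⟩
  exact (hmem x).1 (hW hx).2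

/-- **an element which permutes the atoms permutes the blocks** -/
theorem perm_atoms {d : G} (hd : ∀ A ∈ AA, MulAut.conj d • A ∈ AA) (hd' : ∀ A ∈ AA, MulAut.conj d⁻¹ • A ∈ AA)
    (hU : d ∈ normalizer (U : Set G)) (b : ι) : ∃ c, MulAut.conj d • N b = N c := by
  obtain ⟨c, hc⟩ := perm_le h hA hd hU b
  obtain ⟨b', hb'⟩ := perm_le h hA hd' (inv_mem hU) c
  refine ⟨c, le_antisymm hc ?_⟩
  have h1 : N b ≤ N b' := by
    intro x hx
    have h2 : d * x * d⁻¹ ∈ N c := hc ((conj_smul rfl).1 hx)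
    have h3 := hb' ((conj_smul rfl).1 h2)
    have e : d⁻¹ * (d * x * d⁻¹) * d⁻¹⁻¹ = x := by group
    rwa [e] at h3
  have h2 : b = b' := by
    by_contra hne
    apply h.ne b
    rw [eq_bot_iff, ← (show N b ⊓ Co N R₀ b = ⊥ from h.ind b)]
    exact le_inf le_rfl (h1.trans (h.N_le_Co (Ne.symm hne)))
  subst h2
  intro x hx
  have h3 := hb' ((conj_smul rfl).1 hx)
  have h4 := (conj_smul (g := d) rfl).1 h3
  have e : d * (d⁻¹ * x * d⁻¹⁻¹) * d⁻¹ = x := by group
  rwa [e] at h4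

theorem norm_of_conj {X : Subgroup G} {d : G} (h1 : ∀ x ∈ X, d * x * d⁻¹ ∈ X) (h2 : ∀ x ∈ X, d⁻¹ * x * d ∈ X) :
    d ∈ normalizer (X : Set G) := by
  rw [mem_normalizer_iff]
  refine fun x => ⟨h1 x, fun hx => ?_⟩
  have h3 := h2 _ hx
  have e : d⁻¹ * (d * x * d⁻¹) * d = x := by group
  rwa [e] at h3

theorem norm_atoms_B {d : G} (hd : ∀ A ∈ AA, MulAut.conj d • A ∈ AA) (hd' : ∀ A ∈ AA, MulAut.conj d⁻¹ • A ∈ AA)
    (hU : d ∈ normalizer (U : Set G)) : d ∈ normalizer ((⨆ b, N b : Subgroup G) : Set G) := by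
  have key : ∀ d : G, (∀ A ∈ AA, MulAut.conj d • A ∈ AA) → d ∈ normalizer (U : Set G) →
      ∀ x ∈ ⨆ b, N b, d * x * d⁻¹ ∈ ⨆ b, N b := by
    intro d hd hU x hx
    have h1 : MulAut.conj d • (⨆ b, N b) ≤ ⨆ b, N b := by
      rw [show MulAut.conj d • (⨆ b, N b) = ⨆ b, MulAut.conj d • N b from Subgroup.map_iSup _ _]
      refine iSup_le fun b => ?_
      obtain ⟨c, hc⟩ := perm_le h hA hd hU b
      exact hc.trans (le_iSup N c)
    exact h1 ((conj_smul rfl).1 hx)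
  refine norm_of_conj h hA (key d hd hU) fun x hx => ?_
  have h1 := key d⁻¹ hd' (inv_mem hU) x hx
  rwa [inv_inv] at h1

/-- `R₀` = the elements of `U` centralised by all atoms -/
theorem mem_R_iff [Finite ι] {x : G} (hx : x ∈ U) : x ∈ R₀ ↔ ∀ A ∈ AA, ∀ a ∈ A, a * x * a⁻¹ = x := by
  constructor
  · exact fun hx A hm a ha => cent (hA.cR A hm ha) hx
  · intro hfix
    refine h.mem_R hx fun b => ?_
    obtain ⟨n, hn⟩ := h.ex_comp b hx
    suffices h1 : n = 1 by rwa [h1] at hn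
    by_contra hn1
    -- the fixed points of the atoms in `N b`
    let W : Subgroup G :=
      { carrier := {y | y ∈ N b ∧ ∀ A ∈ AA, ∀ a ∈ A, a * y * a⁻¹ = y}
        one_mem' := ⟨one_mem _, fun A _ a _ => by group⟩
        mul_mem' := by
          rintro y y' ⟨h1, h2⟩ ⟨h3, h4⟩
          refine ⟨mul_mem h1 h3, fun A hm a ha => ?_⟩
          have e : a * (y * y') * a⁻¹ = (a * y * a⁻¹) * (a * y' * a⁻¹) := by group
          rw [e, h2 A hm a ha, h4 A hm a ha]
        inv_mem' := by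
          rintro y ⟨h1, h2⟩
          refine ⟨inv_mem h1, fun A hm a ha => ?_⟩
          have e : a * y⁻¹ * a⁻¹ = (a * y * a⁻¹)⁻¹ := by group
          rw [e, h2 A hm a ha] }
    have hnW : n ∈ W := by
      refine ⟨hn.1, fun A hm a ha => ?_⟩
      obtain ⟨b', hb', -⟩ := hA.one A hm
      by_cases hbb : b = b'
      · subst hbb
        have h1 : A ≤ centralizer (Co N R₀ b : Set G) := by
          rw [le_centralizer_iff]
          refine sup_le (iSup_le fun c => ?_) ?_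
          · rw [le_centralizer_iff]; exact hb' c c.2
          · rw [le_centralizer_iff]; exact hA.cR A hm
        have h2 : a * (n⁻¹ * x) * a⁻¹ = n⁻¹ * x := cent (h1 ha) hn.2
        have h3 := hfix A hm a ha
        have e : a * n⁻¹ * a⁻¹ = n⁻¹ := by
          calc a * n⁻¹ * a⁻¹ = (a * (n⁻¹ * x) * a⁻¹) * (a * x * a⁻¹)⁻¹ := by group
            _ = n⁻¹ := by rw [h2, h3, mul_inv_cancel_right]
        calc a * n * a⁻¹ = (a * n⁻¹ * a⁻¹)⁻¹ := by group
          _ = n := by rw [e, inv_inv]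
      · exact cent (hb' b hbb ha) hn.1
    have hle : N b ≤ W := by
      refine hA.irr b W (fun y hy => hy.1) (fun A hm _ a ha => ?_) fun hbot => hn1 ?_
      · rw [mem_normalizer_iff]
        intro y
        constructor
        · rintro ⟨h1, h2⟩
          rw [h2 A hm a ha]
          exact ⟨h1, h2⟩
        · rintro ⟨h1, h2⟩
          have h3 := h2 A hm a⁻¹ (inv_mem ha)
          have h4 : a * y * a⁻¹ = y := by
            have h5 := h2 A hm a⁻¹ (inv_mem ha)
            have e : a⁻¹ * (a * y * a⁻¹) * a⁻¹⁻¹ = y := by group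
            rw [e] at h5
            exact h5.symm
          rw [h4] at h1 h2
          exact ⟨h1, h2⟩
      · rw [hbot, mem_bot] at hnW
        exact hnW
    obtain ⟨A, hm, hAb⟩ := hA.ex b
    apply hAb
    intro a ha
    rw [mem_centralizer_iff]
    intro y hy
    have h1 := (hle hy).2 A hm a ha
    calc y * a = (a * y * a⁻¹) * a := by rw [h1]
      _ = a * y := by group

theorem norm_atoms_R [Finite ι] {d : G} (hd : ∀ A ∈ AA, MulAut.conj d • A ∈ AA)
    (hd' : ∀ A ∈ AA, MulAut.conj d⁻¹ • A ∈ AA) (hU : d ∈ normalizer (U : Set G)) : d ∈ normalizer (R₀ : Set G) := by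
  have key : ∀ d : G, (∀ A ∈ AA, MulAut.conj d⁻¹ • A ∈ AA) → d ∈ normalizer (U : Set G) →
      ∀ x ∈ R₀, d * x * d⁻¹ ∈ R₀ := by
    intro d hd' hU x hx
    refine (mem_R_iff h hA (conj_of hU (h.RU hx))).2 fun A hm a ha => ?_
    have h1 := (mem_R_iff h hA (h.RU hx)).1 hx _ (hd' A hm) _ ((conj_smul rfl).1 ha)
    have e : a * (d * x * d⁻¹) * a⁻¹ = d * ((d⁻¹ * a * d⁻¹⁻¹) * x * (d⁻¹ * a * d⁻¹⁻¹)⁻¹) * d⁻¹ := by group
    rw [e, h1]
  refine norm_of_conj h hA (key d hd' hU) fun x hx => ?_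
  have h1 := key d⁻¹ (by rw [inv_inv]; exact hd) (inv_mem hU) x hx
  rwa [inv_inv] at h1

end main

/-! ### The `M`-conjugates of the minimal exact `A ≤ S` -/

section at'

variable {S M V : Subgroup G}

/-- the atoms of `M` on `V` -/
def At (S M V : Subgroup G) : Set (Subgroup G) := {B | ∃ g ∈ M, ∃ A ≤ S, Mx V A ∧ B = MulAut.conj g • A}

theorem at_mem {A : Subgroup G} (hA : A ≤ S) (hm : Mx V A) : A ∈ At S M V := ⟨1, one_mem _, A, hA, hm, by simp⟩

theorem at_conj_M {g : G} (hg : g ∈ M) {B : Subgroup G} (hB : B ∈ At S M V) : MulAut.conj g • B ∈ At S M V := by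
  obtain ⟨m, hm, A, hA, hx, rfl⟩ := hB
  exact ⟨g * m, mul_mem hg hm, A, hA, hx, by rw [map_mul, mul_smul]⟩

/-- **`N(M) ⊓ N(V)` permutes the atoms** -/
theorem at_conj [Finite G] {S : Sylow 2 G} (hS : (S : Subgroup G) ≤ M) (hMV : M ≤ normalizer (V : Set G)) {d : G}
    (hdM : d ∈ normalizer (M : Set G)) (hdV : d ∈ normalizer (V : Set G)) {B : Subgroup G}
    (hB : B ∈ At (S : Subgroup G) M V) : MulAut.conj d • B ∈ At (S : Subgroup G) M V := by
  obtain ⟨m, hm, A, hA, hx, rfl⟩ := hB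
  have hAM : MulAut.conj d • A ≤ M := by
    rintro _ ⟨a, ha, rfl⟩
    exact conj_of hdM (hS (hA ha))
  have h2 : IsPGroup 2 (MulAut.conj d • A : Subgroup G) := hx.pg.map _
  obtain ⟨e, he, hes⟩ : ∃ e ∈ M, MulAut.conj e • (MulAut.conj d • A) ≤ (S : Subgroup G) := by
    obtain ⟨T, hT, hAT⟩ := exists_syl h2 hAM
    obtain ⟨e, he, hes⟩ := syl_conj hT (syl_of_sylow S hS)
    exact ⟨e, he, (NoFF.Basic.conj_le_iff.2 hAT).trans hes.le⟩
  have hMe : (e * d) ∈ normalizer (V : Set G) := mul_mem (hMV he) hdV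
  refine ⟨(d * m * d⁻¹) * e⁻¹, mul_mem (conj_of hdM hm) (inv_mem he), MulAut.conj e • (MulAut.conj d • A), hes, ?_, ?_⟩
  · rw [← mul_smul, ← map_mul]
    exact CI.mx_conj hx hMe
  · rw [← mul_smul, ← map_mul, ← mul_smul, ← map_mul, ← mul_smul, ← map_mul]
    congr 2
    group

/-- **`Atoms` for the `M`-conjugates of the minimal exact `A ≤ S`** -/
theorem atoms_at {L U : Subgroup G} {N E : ι → Subgroup G} {R₀ : Subgroup G} (h : Dec S L U N E R₀)
    (one : ∀ A ≤ S, Mx U A → ∃ b, A ≤ E b ∧ ¬ A ≤ centralizer (N b : Set G))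
    (ex : ∀ b, ∃ A ≤ S, Mx U A ∧ A ≤ E b)
    (irr : ∀ b, ∀ W : Subgroup G, W ≤ N b → (∀ A ≤ S, Mx U A → A ≤ E b → ∀ e ∈ E b, ∀ a ∈ A,
      e * a * e⁻¹ ∈ normalizer (W : Set G)) → W ≠ ⊥ → N b ≤ W) : Atoms N R₀ (At S L U) where
  one := by
    rintro _ ⟨g, hg, A, hA, hx, rfl⟩
    obtain ⟨b, hb, hne⟩ := one A hA hx
    obtain ⟨c, hc1, hc2⟩ := h.perm g hg b
    have h1 : MulAut.conj g • A ≤ E c := by
      rw [← hc2]; exact NoFF.Basic.conj_le_iff.2 hb
    refine ⟨c, fun d hd => h1.trans (h.EC c d (Ne.symm hd)), fun h2 => hne ?_⟩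
    intro a ha
    rw [mem_centralizer_iff]
    intro n hn
    have h3 := mem_centralizer_iff.1 (h2 ((conj_smul rfl).1 ha)) _ ((conj_smul hc1).1 hn)
    have h4 : g * (n * a) * g⁻¹ = g * (a * n) * g⁻¹ := by
      calc g * (n * a) * g⁻¹ = (g * n * g⁻¹) * (g * a * g⁻¹) := by group
        _ = (g * a * g⁻¹) * (g * n * g⁻¹) := h3
        _ = g * (a * n) * g⁻¹ := by group
    exact mul_left_cancel (mul_right_cancel h4)
  cR := by
    rintro _ ⟨g, hg, A, hA, hx, rfl⟩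
    obtain ⟨b, hb, -⟩ := one A hA hx
    obtain ⟨c, -, hc2⟩ := h.perm g hg b
    have h1 : MulAut.conj g • A ≤ E c := by
      rw [← hc2]; exact NoFF.Basic.conj_le_iff.2 hb
    exact h1.trans (h.ER c)
  nor := by
    rintro _ ⟨g, hg, A, hA, hx, rfl⟩ d
    obtain ⟨b, hb, -⟩ := one A hA hx
    obtain ⟨c, -, hc2⟩ := h.perm g hg b
    have h1 : MulAut.conj g • A ≤ E c := by
      rw [← hc2]; exact NoFF.Basic.conj_le_iff.2 hb
    by_cases hcd : c = d
    · rw [← hcd]; exact h1.trans (h.EN c)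
    · exact (h1.trans (h.EC c d hcd)).trans (centralizer_le_normalizer _)
  ex b := by
    obtain ⟨A, hA, hx, hb⟩ := ex b
    refine ⟨A, at_mem hA hx, fun h1 => ?_⟩
    obtain ⟨c, hc, hne⟩ := one A hA hx
    by_cases hbc : b = c
    · rw [← hbc] at hne; exact hne h1
    · exact hne (hb.trans (h.EC b c hbc))
  irr b W hW hn hne := by
    refine irr b W hW (fun A hA hx hAb e he a ha => ?_) hne
    refine hn _ (at_conj_M (h.EL b he) (at_mem hA hx)) ?_ ((conj_smul (g := e) rfl).1 ha)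
    intro h1
    obtain ⟨c, hc, hne'⟩ := one A hA hx
    by_cases hbc : b = c
    · subst hbc
      apply hne'
      intro a' ha'
      rw [mem_centralizer_iff]
      intro n hn'
      have h3 := mem_centralizer_iff.1 (h1 ((conj_smul (g := e) rfl).1 ha')) _ (conj_of (h.EN b he) hn')
      have h4 : e * (n * a') * e⁻¹ = e * (a' * n) * e⁻¹ := by
        calc e * (n * a') * e⁻¹ = (e * n * e⁻¹) * (e * a' * e⁻¹) := by group
          _ = (e * a' * e⁻¹) * (e * n * e⁻¹) := h3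
          _ = e * (a' * n) * e⁻¹ := by group
      exact mul_left_cancel (mul_right_cancel h4)
    · exact hne' (hAb.trans (h.EC b c hbc))

end at'

end Cfsg.Agent.Omega.NOThreeL.RRed.Blk
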