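import Cfsg.Agent.Mrg.Omega.NOThreeL.RRed.Blk.AsmMix
import Cfsg.Agent.Mrg.Omega.NOThreeL.RRed.Blk.AsmTwoC
import Cfsg.Agent.Mrg.Omega.NOThreeL.RRed.Blk.AsmInp
import Cfsg.Agent.Mrg.Omega.NOThreeL.RRed.TvTr
import Cfsg.Agent.Mrg.Omega.NOThreeL.RRed.Blk.SrcBox
import Cfsg.Agent.Mrg.Omega.NOThreeL.RRed.Blk.AsmRR
import Cfsg.Agent.Mrg.Omega.NOThreeL.RRed.Blk.AsmFour
import Cfsg.Agent.Mrg.Omega.NOThreeL.RRed.TvNorm
import Cfsg.Agent.Mrg.Omega.NOThreeL.RRed.LeftThree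
import Cfsg.Agent.Mrg.Omega.NOThreeL.RRed.Blk.AsmOneBlk
import Cfsg.Agent.Mrg.Omega.NOThreeL.RRed.WLeftFldEnd
import Cfsg.Agent.Mrg.Omega.NOThreeL.RZ.LowR
import Cfsg.Agent.Mrg.Omega.NOThreeL.RRed.Blk.AsmTor
import Cfsg.Agent.Mrg.Omega.NOThreeL.RRed.Blk.AsmMv
import Cfsg.Agent.Mrg.Omega.NOThreeL.RRed.Blk.AsmG
import Cfsg.Agent.Mrg.Omega.NOThreeL.RRed.Blk.AsmCore
import Cfsg.Agent.Mrg.Omega.NOThreeL.RRed.Blk.AsmCard
import Cfsg.Agent.Mrg.Omega.NOThreeL.RRed.Blk.AsmEsB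

section


/-!
# NO-3L, box R: the classes of the minimal exact offenders (helper283)

* `irr_of` : `CM` gives `ClsBlk.Irr`; `cls_of` : the classes as submodules of `Q.Mod`, `Cls (XH Q) (Q.ad (W i))`;
* `cl_im` : the class of the image; `cl_EE` : every member of `im Q '' EE S V*` has a class;
* **`exists_atom`** : for every `i` some active `P` has a minimal exact offender of class `i` which moves `V_P`;
* `transv` : `s ∈ S ⊓ E b` acting as a transposition is a transvection on `V`.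
-/

set_option autoImplicit false
set_option linter.unusedSectionVars false

namespace Cfsg.Agent.Omega.NOThreeL.RRed.Blk.AsmCls

open Subgroup Cfsg Cfsg.Agent.ZN Cfsg.Agent.Omega.MinPar
open Cfsg.Agent.Omega.FFThm
open Cfsg.Agent.Omega.NOThreeL.RRed.TvFin (Full TvV)
open Cfsg.Agent.Omega.KL.TwoS (Rel Lett)
open Cfsg.Agent.Omega.NOThreeL.RSplit (Nrm)
open Cfsg.Agent.Omega.NOThreeL.RRed.NS (fxd brk mem_fxd smul_eq_iff un)
open Cfsg.Agent.Omega.NOThreeL.RRed.Blk.TypesNat (XH ph ph_smul ph_eq ph_surj XH_faith)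
open Cfsg.Agent.Omega.NOThreeL.RRed.Blk.Asm
open Cfsg.Agent.Omega.NOThreeL.RRed.Blk.AsmCore (im EP)

open Cfsg.Agent.Omega.NOThreeL.RRed.WideTree (Act MvAct CM)
open Cfsg.Agent.Omega.NOThreeL.RTree (RB)
open Cfsg.Agent.Omega.NOThreeL.Merge (MZ le_MZ isLoc_MZ)
open Cfsg.Agent.MinSimple.VModule (oddGen)
open scoped Pointwise

universe u v

variable {G : Type u} [Group G]

section gen

variable {M V : Subgroup G} {ι : Type v} {W : ι → Subgroup G} (I : ClsBlk.Irr M V W) (Q : Nrm M V)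
include I

/-- the classes as submodules -/
theorem cls_of : Cls (XH Q) (fun i => Q.ad (W i)) where
  inv i := by
    rw [AsmUn.inv_iff, AsmUn.un_ad Q (I.le i)]
    exact I.inv i
  irr i U hU hinv hne := by
    rw [← AsmUn.le_un (I.le i)]
    refine I.irr i _ ?_ ((AsmUn.inv_iff Q U).1 hinv) fun h0 => hne ((AsmUn.un_eq_bot Q).1 h0)
    rw [AsmUn.un_le_sub]
    exact hU
  sup := by
    rw [← AsmUn.un_inj, AsmUn.un_iSup, AsmUn.un_top]
    simp only [AsmUn.un_ad Q (I.le _)]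
    exact I.sup
  dis i j hij := by
    rw [← AsmUn.un_inj, AsmUn.un_inf, AsmUn.un_ad Q (I.le i), AsmUn.un_ad Q (I.le j), AsmUn.un_bot]
    exact I.inf_bot (Ne.symm hij)

omit I in
/-- the class of the image -/
theorem cl_im {A : Subgroup G} {i : ι} (h : ∀ j, j ≠ i → A ≤ centralizer (W j : Set G)) :
    Cl (fun i => Q.ad (W i)) (im Q A) i := by
  rintro j hj _ ⟨a, ha, rfl⟩ m hm
  rw [ph_smul, smul_eq_iff]
  exact cent (h j hj (mem_subgroupOf.1 ha)) hm

omit I in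
/-- conversely -/
theorem of_cl_im {A : Subgroup G} (hA : A ≤ M) (hW : ∀ i, W i ≤ V) {i : ι} (h : Cl (fun i => Q.ad (W i)) (im Q A) i)
    {j : ι} (hj : j ≠ i) : A ≤ centralizer (W j : Set G) := by
  intro a ha
  rw [mem_centralizer_iff]
  intro w hw
  have h1 := h j hj (ph Q ⟨a, hA ha⟩) ⟨⟨a, hA ha⟩, ha, rfl⟩ (Q.of w (hW j hw)) hw
  rw [ph_smul, smul_eq_iff, Nrm.val_of] at h1
  exact (mul_inv_eq_iff_eq_mul.1 h1).symm

end gen

section box

variable [Finite G] {S : Sylow 2 G} {ι : Type u} {W : ι → Subgroup G}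

theorem irr_of (h : CM (S : Subgroup G) W) : ClsBlk.Irr (MZ (S : Subgroup G)) (Wd (S : Subgroup G)) W :=
  ⟨h.ne, h.sup, h.ind, h.inv, h.irr⟩

/-- every minimal exact offender has a class -/
theorem cl_EE (h : CM (S : Subgroup G) W) (Q : Nrm (MZ (S : Subgroup G)) (Wd (S : Subgroup G))) :
    ∀ D ∈ im Q '' AsmCore.EE (S : Subgroup G) (Wd (S : Subgroup G)), ∃ i, Cl (fun i => Q.ad (W i)) D i := by
  rintro _ ⟨A, hA, rfl⟩
  obtain ⟨i, hi⟩ := h.off A hA.1 hA.2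
  exact ⟨i, cl_im Q hi⟩

/-- **every class has an atom which moves `V_P`, `P` active** -/
theorem exists_atom (B : RB S) (mv : MvAct (S : Subgroup G)) (h : CM (S : Subgroup G) W) (i : ι)
    (hz : ∃ z ∈ W i ⊓ zc (S : Subgroup G), z ≠ 1) :
    ∃ P, Act (S : Subgroup G) P ∧ ∃ A ∈ EP (S : Subgroup G) P (Wd (S : Subgroup G)),
      ∀ j, j ≠ i → A ≤ centralizer (W j : Set G) := by
  obtain ⟨z, hzW, hz1⟩ := hz
  obtain ⟨P, a, hPz⟩ := mv z hzW.2 hz1
  have hP := a.1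
  obtain ⟨j, hj1, hj⟩ := h.one P a
  have hSz : (S : Subgroup G) ≤ centralizer ({z} : Set G) := fun s hs => by
    rw [mem_centralizer_singleton_iff]
    exact ((MinSimple.VModule.mem_zc.1 hzW.2).2.1 s hs)
  have hdec : P ≤ oddGen P ⊔ (S : Subgroup G) :=
    (NoFF.LinesPlug.oddGen_sup hP.le (MinSimple.Basic.not_dvd_relIndex S hP.le)).ge
  have hij : j = i := by
    by_contra hne
    apply hPz
    refine hdec.trans (sup_le ?_ hSz)
    rw [MinSimple.VModule.oddGen_def, closure_le]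
    rintro g ⟨hg, ho⟩
    have h1 := hj i (Ne.symm hne) g hg ho
    rw [SetLike.mem_coe, mem_centralizer_singleton_iff]
    exact (mem_centralizer_iff.1 h1 z hzW.1).symm
  subst hij
  obtain ⟨-, A, hA, hM, hn⟩ := a
  have hEP : A ∈ EP (S : Subgroup G) P (Wd (S : Subgroup G)) := by
    refine ⟨⟨hA, hM⟩, fun h1 => hn ?_⟩
    rw [← hP.inf_centralizer S B.ctx.char2]
    exact le_inf hA h1
  refine ⟨P, ⟨hP, A, hA, hM, hn⟩, A, hEP, ?_⟩
  obtain ⟨k, hk⟩ := h.off A hA hM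
  by_cases hkj : k = j
  · rw [hkj] at hk
    exact hk
  exfalso
  have h1 : NoFF.Basic.V A P ≤ centralizer (W j : Set G) := by
    refine NoFF.Basic.V_le fun p hp x hx => ?_
    obtain ⟨y, hy, rfl⟩ := hx
    have h2 : y ∈ centralizer (W j : Set G) := hk j (Ne.symm hkj) hy
    have h3 : p ∈ normalizer (W j : Set G) := h.inv j (le_MZ hP hp)
    change p * y * p⁻¹ ∈ centralizer (W j : Set G)
    rw [mem_centralizer_iff]
    intro w hw
    have h4 : p⁻¹ * w * p ∈ W j := by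
      have := (mem_normalizer_iff.1 (inv_mem h3) w).1 hw
      rwa [inv_inv] at this
    have h5 := mem_centralizer_iff.1 h2 _ h4
    calc w * (p * y * p⁻¹) = p * ((p⁻¹ * w * p) * y) * p⁻¹ := by group
      _ = p * y * p⁻¹ * w := by rw [h5]; group
  apply hPz
  refine hdec.trans (sup_le ?_ hSz)
  refine (odd_le_ncl hP hA hn).trans (h1.trans (centralizer_le ?_))
  exact Set.singleton_subset_iff.2 hzW.1

end box

section tv

variable {S : Subgroup G} {M V : Subgroup G} {I : Type u} {N E : I → Subgroup G}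
    {R₀ : Subgroup G} {Om : I → Type u} [∀ i, Fintype (Om i)] [∀ i, DecidableEq (Om i)] {phi : ∀ i, Finset (Om i) → G}

/-- an element of `E b` which acts as a transposition is a transvection -/
theorem transv (F : Full S M V N E R₀ Om phi) {b : I} {s : G} (hs : s ∈ E b) {x y : Om b} (hxy : x ≠ y)
    (hr : Rel (phi b) s (Equiv.swap x y)) : TvV V (phi b {x, y}) s := by
  obtain ⟨t, ht, hr', hT⟩ := F.swap b x y hxy
  have L := F.lett b
  intro w hw
  have key : s * w * s⁻¹ = t * w * t⁻¹ := by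
    obtain ⟨n, hn⟩ := F.toDec.ex_comp b hw
    obtain ⟨u, hu, e1⟩ := (L.mem n).1 hn.1
    have k : ∀ z : G, z ∈ E b → Rel (phi b) z (Equiv.swap x y) →
        z * w * z⁻¹ = phi b (u.map (Equiv.swap x y).toEmbedding) * (n⁻¹ * w) := by
      intro z hz hr
      have h3 : z * (n⁻¹ * w) * z⁻¹ = n⁻¹ * w := cent (AsmTwoC.E_Co F.toDec b hz) hn.2
      calc z * w * z⁻¹ = (z * n * z⁻¹) * (z * (n⁻¹ * w) * z⁻¹) := by group
        _ = _ := by rw [h3, ← e1, hr u hu]
    rw [k s hs hr, k t ht hr']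
  rw [key]
  exact hT w hw

end tv

end Cfsg.Agent.Omega.NOThreeL.RRed.Blk.AsmCls

end

section


/-!
# NO-3L, box R: every class is natural or a class of letters (helper283)

* `Sml` : the two facts on transvections: a minimal exact offender with `|im| < 4` lies in one block; a transvection of `S`
  generates a minimal exact offender of order 2;
* **`cover`** : a class has a member of `RRs` or a block of letters;
* **`excl`** : not both.
-/

set_option autoImplicit false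
set_option linter.unusedSectionVars false

namespace Cfsg.Agent.Omega.NOThreeL.RRed.Blk.AsmCov

open Subgroup Cfsg Cfsg.Agent.ZN Cfsg.Agent.Omega.MinPar
open Cfsg.Agent.Omega.FFThm
open Cfsg.Agent.Omega.NOThreeL.RRed.TvFin (Full TvV)
open Cfsg.Agent.Omega.KL.TwoS (Rel Lett)
open Cfsg.Agent.Omega.NOThreeL.RSplit (Nrm)
open Cfsg.Agent.Omega.NOThreeL.RRed.NS (fxd brk mem_fxd smul_eq_iff un)
open Cfsg.Agent.Omega.NOThreeL.RRed.Blk.TypesNat (XH ph ph_smul ph_eq ph_surj XH_faith)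
open Cfsg.Agent.Omega.NOThreeL.RRed.Blk.Asm
open Cfsg.Agent.Omega.NOThreeL.RRed.Blk.AsmCore (im EP ph_mem_im)
open Cfsg.Agent.Omega.NOThreeL.RRed.Blk.AsmG (Inp RRs)
open Cfsg.Agent.Omega.NOThreeL.RRed.Blk.AsmCls
open Cfsg.Agent.Omega.NOThreeL.RRed.WideTree (Act MvAct CM)
open Cfsg.Agent.Omega.NOThreeL.RTree (RB)
open Cfsg.Agent.Omega.NOThreeL.Merge (MZ le_MZ isLoc_MZ)
open scoped Pointwise

universe u v

variable {G : Type u} [Group G] [Finite G] {S : Sylow 2 G} {ι : Type u} {W : ι → Subgroup G}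
  {I : Type u} {N E : I → Subgroup G} {R₀ : Subgroup G} {Om : I → Type u} [∀ i, Fintype (Om i)] [∀ i, DecidableEq (Om i)]
  {phi : ∀ i, Finset (Om i) → G}

/-- the facts on transvections -/
structure Sml (S : Subgroup G) {M V : Subgroup G} (Q : Nrm M V) (N E : I → Subgroup G) : Prop where
  blk : ∀ A ∈ AsmCore.EE S V, Nat.card (im Q A) < 4 → ∃ b, ∃ a ∈ A, a ∈ E b ∧ a ∉ centralizer (V : Set G) ∧
    ∀ x ∈ A, ∀ v ∈ V, x * v * x⁻¹ * v⁻¹ ∈ N b
  atom : ∀ s ∈ S, ∀ c ∈ V, TvV V c s → s ∉ centralizer (V : Set G) →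
    zpowers s ∈ AsmCore.EE S V ∧ Nat.card (im Q (zpowers s)) = 2

/-- `W i ⊓ Z ≠ 1` -/
theorem exists_z (B : RB S) (h : CM (S : Subgroup G) W) (i : ι) : ∃ z ∈ W i ⊓ zc (S : Subgroup G), z ≠ 1 := by
  have hL := isLoc_MZ B.ctx B.full B.data.noff
  have hle : W i ≤ Wd (S : Subgroup G) := (irr_of h).le i
  have hWS : W i ≤ (S : Subgroup G) := fun x hx => WS B (hle hx)
  obtain ⟨w, hw, hw1, hfix⟩ := exists_fix_of S.isPGroup' hWS (hL.le.trans (h.inv i)) (h.ne i)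
  exact ⟨w, ⟨hw, zc_of_fix B (hle hw) hfix⟩, hw1⟩

/-- **a class has a member of `RRs` or a block of letters** -/
theorem cover (B : RB S) (mv : MvAct (S : Subgroup G)) (h : CM (S : Subgroup G) W)
    (Q : Nrm (MZ (S : Subgroup G)) (Wd (S : Subgroup G)))
    (F : Full (S : Subgroup G) (MZ (S : Subgroup G)) (Wd (S : Subgroup G)) N E R₀ Om phi)
    (sm : Sml (S : Subgroup G) Q N E) (i : ι) :
    (∃ D : Subgroup (XH Q), D ∈ RRs S (MZ (S : Subgroup G)) Q ∧ Cl (fun i => Q.ad (W i)) D i) ∨ ∃ b, N b ≤ W i := by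
  obtain ⟨P, a, A, hA, hcl⟩ := exists_atom B mv h i (exists_z B h i)
  by_cases h4 : 4 ≤ Nat.card (im Q A)
  · exact Or.inl ⟨im Q A, ⟨h4, P, a.1, le_MZ a.1, A, hA, rfl⟩, cl_im Q hcl⟩
  · right
    obtain ⟨b, x, hxA, hxE, hxV, hb⟩ := sm.blk A hA.1 (by omega)
    obtain ⟨k, hk⟩ := ClsBlk.exists_le (irr_of h) F b
    refine ⟨b, ?_⟩
    by_cases hki : k = i
    · rwa [← hki]
    exfalso
    apply hxV
    have hI := irr_of h
    have key : ∀ j, ∀ w ∈ W j, x * w * x⁻¹ = w := by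
      intro j w hw
      by_cases hj : j = i
      · subst hj
        have h1 : x * w * x⁻¹ * w⁻¹ ∈ W k ⊓ W j := by
          refine mem_inf.2 ⟨hk (hb x hxA w (hI.le j hw)), (W j).mul_mem ?_ ((W j).inv_mem hw)⟩
          exact (mem_normalizer_iff.1 (h.inv j (F.EL b hxE)) w).1 hw
        rw [hI.inf_bot (Ne.symm hki), mem_bot] at h1
        exact mul_inv_eq_one.1 h1
      · exact cent (hcl j hj hxA) hw
    have h2 : Wd (S : Subgroup G) ≤ centralizer ({x} : Set G) := by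
      rw [← h.sup]
      refine iSup_le fun j w hw => ?_
      rw [mem_centralizer_singleton_iff]
      exact (mul_inv_eq_iff_eq_mul.1 (key j w hw)).symm
    rw [mem_centralizer_iff]
    intro v hv
    exact mem_centralizer_singleton_iff.1 (h2 hv)

/-- the class of a block is the class of its transpositions -/
theorem atom_of (h : CM (S : Subgroup G) W) (Q : Nrm (MZ (S : Subgroup G)) (Wd (S : Subgroup G)))
    (F : Full (S : Subgroup G) (MZ (S : Subgroup G)) (Wd (S : Subgroup G)) N E R₀ Om phi)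
    (sm : Sml (S : Subgroup G) Q N E) {b : I} {i : ι} (hb : N b ≤ W i) :
    ∃ s ∈ (S : Subgroup G) ⊓ E b, zpowers s ∈ AsmCore.EE (S : Subgroup G) (Wd (S : Subgroup G)) ∧
      Nat.card (im Q (zpowers s)) = 2 ∧ Cl (fun i => Q.ad (W i)) (im Q (zpowers s)) i := by
  obtain ⟨s, hs, x, y, hxy, hr⟩ := AsmTwo.exists_tr F b
  have L := F.lett b
  have hT := transv F hs.2 hxy hr
  have hc : phi b {x, y} ∈ N b := (L.mem _).2 ⟨_, by rw [Finset.card_pair hxy]; exact even_two, rfl⟩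
  have hne : s ∉ centralizer (Wd (S : Subgroup G) : Set G) := by
    intro hsc
    have h1 : Rel (phi b) s 1 := AsmTwoC.rel_one L ((centralizer_le (F.NU b)) hsc)
    exact hxy (Equiv.swap_eq_one_iff.1 (L.unique (F.three b) hr h1))
  obtain ⟨h1, h2⟩ := sm.atom s hs.1 _ (F.NU b hc) hT hne
  refine ⟨s, hs, h1, h2, cl_im Q fun j hj => ?_⟩
  rw [zpowers_le]
  rw [mem_centralizer_iff]
  intro w hw
  have hI := irr_of h
  have h3 : s * w * s⁻¹ * w⁻¹ ∈ W i ⊓ W j := by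
    refine mem_inf.2 ⟨hb ?_, (W j).mul_mem ((mem_normalizer_iff.1 (h.inv j (F.EL b hs.2)) w).1 hw) ((W j).inv_mem hw)⟩
    rcases hT w (hI.le j hw) with e | e
    · rw [e, mul_inv_cancel]; exact one_mem _
    · rw [e]
      have h4 := F.toDec.ucomm (hI.le j hw) (F.NU b hc)
      rw [h4, mul_inv_cancel_right]
      exact hc
  rw [hI.inf_bot hj, mem_bot] at h3
  exact (mul_inv_eq_iff_eq_mul.1 (mul_inv_eq_one.1 h3)).symm

/-- **a class with a natural block has no block of letters** -/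
theorem excl (h : CM (S : Subgroup G) W) (Q : Nrm (MZ (S : Subgroup G)) (Wd (S : Subgroup G)))
    (F : Full (S : Subgroup G) (MZ (S : Subgroup G)) (Wd (S : Subgroup G)) N E R₀ Om phi)
    (sm : Sml (S : Subgroup G) Q N E) (h2 : ∀ v : Q.Mod, v + v = 0) {FF₁ : Set (Subgroup (XH Q))}
    {N₁ K₁ : Subgroup (XH Q) → AddSubgroup Q.Mod} (h₁ : Fam (im Q (S : Subgroup G)) FF₁ N₁ K₁)
    (hGB : ∀ D ∈ FF₁, GB (im Q '' AsmCore.EE (S : Subgroup G) (Wd (S : Subgroup G))) D (N₁ D) (K₁ D))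
    (hsub : FF₁ ⊆ im Q '' AsmCore.EE (S : Subgroup G) (Wd (S : Subgroup G)))
    (h4 : ∀ D ∈ FF₁, 4 ≤ Nat.card D) {D : Subgroup (XH Q)} (hD : D ∈ FF₁) {i : ι}
    (hi : Cl (fun i => Q.ad (W i)) D i) {b : I} (hb : N b ≤ W i) : False := by
  obtain ⟨s, -, h5, h6, h7⟩ := atom_of h Q F sm hb
  have hC := cls_of (irr_of h) Q
  refine hC.disj h2 (fun x hx => XH_faith Q x hx) h₁ hGB h4 (fun D hD => cl_EE h Q D (hsub hD)) (D' := im Q (zpowers s))
    ⟨_, h5, rfl⟩ (by omega) ?_ hD hi h7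
  intro h0
  rw [h0, card_bot] at h6
  omega

end Cfsg.Agent.Omega.NOThreeL.RRed.Blk.AsmCov

end

section


/-!
# NO-3L, box R: the inputs `hn` and `hln` of `nbs_of_fam` for natural blocks and blocks of three letters

* `two_le_rt` : a 2-group which contains the root group contains no other element of `clo up lo`;
* `small_uniq` : `|D| = 2`;  `Fam.conj_small`;
* **`hln_mix`** : `hln` for `RRs ∪ FF₂`;
* **`hn_mix`** : `hn` for `RRs ∪ FF₂`.
-/

set_option autoImplicit false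
set_option linter.unusedSectionVars false

namespace Cfsg.Agent.Omega.NOThreeL.RRed.Blk.MixLn

open Subgroup Cfsg Cfsg.Agent.ZN Cfsg.Agent.Omega.MinPar
open Cfsg.Agent.Lib
open Cfsg.Agent.Omega.FFThm (NatKM NoOverM)
open Cfsg.Agent.Omega.NOThreeL.RSplit (Nrm)
open Cfsg.Agent.Omega.NOThreeL.RRed.NS (fxd brk mem_fxd un conj_eq_cj)
open Cfsg.Agent.Omega.NOThreeL.RRed.Blk.TypesNat (XH ph ph_smul XH_faith ph_eq ph_surj no_XH)
open Cfsg.Agent.Omega.NOThreeL.RRed.Blk.TypesGam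
open Cfsg.Agent.Omega.NOThreeL.RRed.Blk.TypesClo
open Cfsg.Agent.Omega.NOThreeL.RRed.Blk.Asm
open Cfsg.Agent.Omega.NOThreeL.RRed.Blk.AsmG (Inp RRs)
open Cfsg.Agent.Omega.NOThreeL.RRed.Blk.AsmSL (SLA sla_of_clo sla_up sla_uniq mem_rt_of mem_clo_iff)
open Cfsg.Agent.Omega.NOThreeL.RRed.Blk.AsmCore (im EP KP im_cj mem_im ph_mem_im)
open Cfsg.Agent.Omega.NOThreeL.RRed.Blk.AsmOneBlk (EB nat_fam conj_rrs hn_rrs rrs_sub card_im_conj normS_le_Wd)
open Cfsg.Agent.Omega.NOThreeL.RRed.WideTree (Act MvAct CM Wide)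
open Cfsg.Agent.Omega.NOThreeL.RTree (RB)
open Cfsg.Agent.Omega.NOThreeL.Merge (MZ le_MZ isLoc_MZ)
open Cfsg.Agent.Omega.NOThreeL.RRed.TvFin (Full)
open scoped Pointwise

universe u v w

section mat

variable {F : Type w} [Field F]

/-- an element of trace 1 has order 3 -/
theorem cube_one (h2 : ∀ x : F, x + x = 0) (M : Matrix.SpecialLinearGroup (Fin 2) F)
    (ht : M.1 0 0 + M.1 1 1 = 1) : M * M * M = 1 := by
  have hd : M.1 0 0 * M.1 1 1 - M.1 0 1 * M.1 1 0 = 1 := SL2Mat.det_eq M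
  set a := M.1 0 0
  set b := M.1 0 1
  set c := M.1 1 0
  set d := M.1 1 1
  have hn : ∀ x : F, -x = x := fun x => neg_eq_of_add_eq_zero_left (h2 x)
  have hd' : d = 1 + a := by
    have := eq_sub_of_add_eq' ht
    rw [this, sub_eq_add_neg, hn]
  have hbc : b * c = 1 + a + a * a := by
    have h3 : b * c = a * d - 1 := by rw [← hd]; ring
    rw [h3, hd', sub_eq_add_neg, hn]
    ring
  have e : ∀ i j, (M * M * M).1 i j = (M.1 * M.1 * M.1) i j := fun i j => rfl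
  refine Matrix.SpecialLinearGroup.ext _ _ fun i j => ?_
  rw [e]
  have hM : M.1 = !![a, b; c, d] := by
    ext i j
    fin_cases i <;> fin_cases j <;> rfl
  rw [hM, hd']
  have two : (2 : F) = 0 := by rw [← one_add_one_eq_two, h2]
  fin_cases i <;> fin_cases j
  · simp [Matrix.mul_apply, Fin.sum_univ_two]
    linear_combination (2 * a + 1 + a) * hbc + (2 * a + 2 * a ^ 2 + 2 * a ^ 3) * two
  · simp [Matrix.mul_apply, Fin.sum_univ_two]
    linear_combination b * hbc + (2 * a * b + 2 * a ^ 2 * b + b) * two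
  · simp [Matrix.mul_apply, Fin.sum_univ_two]
    linear_combination c * hbc + (2 * a * c + 2 * a ^ 2 * c + c) * two
  · simp [Matrix.mul_apply, Fin.sum_univ_two]
    linear_combination (3 * a + 2) * hbc + (4 * a + 4 * a ^ 2 + 2 * a ^ 3 + 1) * two

end mat

section bk

variable {X : Type u} {V : Type v} [Group X] [AddCommGroup V] [DistribMulAction X V] [Finite V]
  {F : Type w} [Field F] {e f : F →+ V} {C : AddSubgroup V} {up lo : F → X}

/-- **A 2-group which contains the root group contains no other element of `clo up lo`.** -/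
theorem two_le_rt (h : Bk e f C up lo) (hf : ∀ x : X, (∀ v : V, x • v = v) → x = 1) (h2 : ∀ v : V, v + v = 0)
    {S : Subgroup X} (hS : IsPGroup 2 S) (hD : rt up ≤ S) {x : X} (hx : x ∈ S) (hxc : x ∈ clo up lo) : x ∈ rt up := by
  obtain ⟨B, hB⟩ := sla_of_clo h hxc
  have two := h.two h2
  have p2 : ∀ y ∈ S, ∃ n, y ^ 2 ^ n = 1 := fun y hy => by
    obtain ⟨n, hn⟩ := hS ⟨y, hy⟩
    exact ⟨n, congrArg Subtype.val hn⟩
  by_cases hc : B.1 1 0 = 0
  · refine mem_rt_of h hf h2 hxc (p2 x hx) ⟨B.1 0 0, ?_⟩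
    have h1 := hB.act ![1, 0]
    simp [Matrix.mulVec, dotProduct, Fin.sum_univ_two, hc] at h1
    exact h1
  · exfalso
    set t : F := (1 + B.1 0 0 + B.1 1 1) / B.1 1 0 with ht
    have hup := sla_up h t
    have hy := hB.mul hup
    have htr : (B * SL2Mat.up t).1 0 0 + (B * SL2Mat.up t).1 1 1 = 1 := by
      have e1 : (B * SL2Mat.up t).1 0 0 + (B * SL2Mat.up t).1 1 1 = B.1 0 0 + (B.1 1 0 * t + B.1 1 1) := by
        have e2 : (B * SL2Mat.up t).1 = B.1 * (SL2Mat.up t).1 := rfl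
        rw [e2]
        simp [Matrix.mul_apply, Fin.sum_univ_two, SL2Mat.up, SL2Mat.mk]
      rw [e1, ht, mul_div_cancel₀ _ hc]
      have e3 : B.1 0 0 + (1 + B.1 0 0 + B.1 1 1 + B.1 1 1) = 1 + (B.1 0 0 + B.1 0 0) + (B.1 1 1 + B.1 1 1) := by ring
      rw [e3, two, two, add_zero, add_zero]
    have h3 := cube_one two _ htr
    have h4 : (x * up t) * (x * up t) * (x * up t) = 1 := by
      have h5 := (hy.mul hy).mul hy
      rw [h3] at h5
      exact sla_uniq h hf h5 SLA.one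
    obtain ⟨n, hn⟩ := p2 _ (mul_mem hx (hD (up_mem t)))
    have h5 : x * up t = 1 := by
      have h6 : orderOf (x * up t) ∣ 3 := orderOf_dvd_of_pow_eq_one (by rw [pow_three', h4])
      have h7 : orderOf (x * up t) ∣ 2 ^ n := orderOf_dvd_of_pow_eq_one hn
      have h8 : Nat.Coprime 3 (2 ^ n) := Nat.Coprime.pow_right n (by decide)
      exact orderOf_eq_one_iff.1 (Nat.eq_one_of_dvd_coprimes h8 h6 h7)
    apply hc
    have h6 := hy.act ![1, 0]
    rw [h5, one_smul] at h6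
    have e2 : (B * SL2Mat.up t).1 = B.1 * (SL2Mat.up t).1 := rfl
    rw [e2] at h6
    simp [Matrix.mul_apply, Matrix.mulVec, dotProduct, Fin.sum_univ_two, SL2Mat.up, SL2Mat.mk] at h6
    have h7 : e 1 + f 0 = e (B.1 0 0) + f (B.1 1 0) := by rw [map_zero, add_zero]; exact h6
    exact (AsmSL.vec_uniq h h7).2.symm

/-- **`|D| = 2`** -/
theorem small_uniq {D : Subgroup X} {N C : AddSubgroup V} (h : NB D N C)
    (hf : ∀ x : X, (∀ v : V, x • v = v) → x = 1) (h2 : ∀ v : V, v + v = 0) (h3 : Nat.card D = 2) {S : Subgroup X}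
    (hS : IsPGroup 2 S) (hD : D ≤ S) {x : X} (hx : x ∈ S) (hC : ∀ c ∈ C, x • c = c) (hN : ∀ n ∈ N, x • n ∈ N) :
    x ∈ D := by
  obtain ⟨F, _, _, e, f, up, lo, hB, rfl, rfl⟩ := h.ex
  have hF : Nat.card F = 2 := by rw [← hB.card_rt h2 hf]; exact h3
  exact two_le_rt hB hf h2 hS hD hx (AsmT.clo_two hB hf h2 hF hC hN)

/-- the complement is the product of the other blocks -/
theorem C_le {S : Subgroup X} {FF : Set (Subgroup X)} {N C : Subgroup X → AddSubgroup V} (H : Fam S FF N C)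
    (hsup : ⨆ D ∈ FF, N D = ⊤) {D : Subgroup X} (hD : D ∈ FF) :
    C D ≤ ⨆ D' : {D' // D' ∈ FF ∧ D' ≠ D}, N D' := by
  intro m hm
  have h1 : (⊤ : AddSubgroup V) ≤ N D ⊔ ⨆ D' : {D' // D' ∈ FF ∧ D' ≠ D}, N D' := by
    rw [← hsup]
    refine iSup₂_le fun D' hD' => ?_
    by_cases e1 : D' = D
    · rw [e1]; exact le_sup_left
    · exact (le_iSup (fun D' : {D' // D' ∈ FF ∧ D' ≠ D} => N D') ⟨D', hD', e1⟩).trans le_sup_right
  obtain ⟨n, hn, r, hr, rfl⟩ := AddSubgroup.mem_sup.1 (h1 (AddSubgroup.mem_top m))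
  have h3 : r ∈ C D := by
    have h4 : (⨆ D' : {D' // D' ∈ FF ∧ D' ≠ D}, N D') ≤ C D := iSup_le fun D' => H.ind D hD D' D'.2.1 D'.2.2
    exact h4 hr
  have h4 : n ∈ C D := by
    have h5 := sub_mem hm h3
    rwa [add_sub_cancel_right] at h5
  rw [(H.nb D hD).inf_bot hn h4, zero_add]
  exact hr

/-- **The conjugates of the small root groups** -/
theorem conj_small {S : Subgroup X} {FF : Set (Subgroup X)} {N C : Subgroup X → AddSubgroup V} (H : Fam S FF N C)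
    (hf : ∀ x : X, (∀ v : V, x • v = v) → x = 1) (h2 : ∀ v : V, v + v = 0) (hS : IsPGroup 2 S)
    (hsup : ⨆ D ∈ FF, N D = ⊤) {D : Subgroup X} (hD : D ∈ FF) (h3 : Nat.card D = 2) {g : X}
    (hg : MulAut.conj g • D ≤ S) : MulAut.conj g • D ∈ FF := by
  obtain ⟨D', hD', hc, h1⟩ := H.perm g D hD
  have hfin : Finite D := Nat.finite_of_card_ne_zero (by omega)
  have hfin' : Finite D' := Nat.finite_of_card_ne_zero (by omega)
  have hle : MulAut.conj g • D ≤ D' := by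
    intro x hx
    refine small_uniq (H.nb D' hD') hf h2 (hc.trans h3) hS (H.le D' hD') (hg hx) (fun c hc' => ?_) fun n hn => ?_
    · have h5 := C_le H hsup hD' hc'
      have h6 : (⨆ D1 : {D1 // D1 ∈ FF ∧ D1 ≠ D'}, N D1) ≤ (fxd (MulAut.conj g • D) : AddSubgroup V) := by
        refine iSup_le fun D1 m hm => ?_
        rw [mem_fxd]
        intro y hy
        obtain ⟨D3, hD3, -, h4⟩ := H.perm g⁻¹ D1 D1.2.1
        have h7 : D3 ≠ D := by
          rintro rfl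
          apply D1.2.2
          refine H.inj D1.2.1 hD' ?_
          ext n
          rw [h4 n, h1 (g⁻¹ • n), smul_inv_smul]
        have h8 := H.le_EX hD (NS.mem_conj.1 hy) D3 hD3 h7 _ ((h4 m).1 hm)
        rw [mul_smul, mul_smul, smul_inv_smul] at h8
        exact smul_left_cancel _ h8
      exact mem_fxd.1 (h6 h5) x hx
    · have h5 := NS.mem_conj.1 hx
      have h6 : g⁻¹ • n ∈ N D := (h1 _).2 (by rwa [smul_inv_smul])
      have h7 : (g⁻¹ * x * g) • (g⁻¹ • n) ∈ N D := by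
        have h8 := (H.EX_le hD (H.le_EX hD h5)) D hD (g⁻¹ • n)
        exact h8.1 h6
      have h8 := (h1 _).1 h7
      rw [smul_smul, smul_smul] at h8
      have e1 : g * (g⁻¹ * x * g) * g⁻¹ = x := by group
      rwa [e1] at h8
  have he : MulAut.conj g • D = D' := by
    refine Subgroup.eq_of_le_of_card_ge hle ?_
    rw [hc, conj_ne_bot]
  rw [he]
  exact hD'

end bk

section box

variable {G : Type u} [Group G] [Finite G] {S : Sylow 2 G}

/-- **`hln`** -/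
theorem hln_mix (B : RB S) (mv : MvAct (S : Subgroup G))
    (no : NoOverM (zl (S : Subgroup G) (MZ (S : Subgroup G))) (MZ (S : Subgroup G)))
    (Q : Nrm (MZ (S : Subgroup G)) (zl (S : Subgroup G) (MZ (S : Subgroup G))))
    {FF₂ : Set (Subgroup (XH Q))} {N C : Subgroup (XH Q) → AddSubgroup Q.Mod}
    (H : Fam (im Q (S : Subgroup G)) (RRs S (MZ (S : Subgroup G)) Q ∪ FF₂) N C)
    (hsup : ⨆ D ∈ RRs S (MZ (S : Subgroup G)) Q ∪ FF₂, N D = ⊤) (hc : ∀ D ∈ FF₂, Nat.card D = 2) (g : XH Q)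
    {D : Subgroup (XH Q)} (hD : D ∈ RRs S (MZ (S : Subgroup G)) Q ∪ FF₂) :
    ∃ D' ∈ RRs S (MZ (S : Subgroup G)) Q ∪ FF₂, ∃ x ∈ EX (RRs S (MZ (S : Subgroup G)) Q ∪ FF₂) N D',
      (∀ m, m ∈ N D ↔ g • m ∈ N D') ∧ MulAut.conj g • D = MulAut.conj x • D' := by
  have hSL : (S : Subgroup G) ≤ MZ (S : Subgroup G) := (isLoc_MZ B.ctx B.full B.data.noff).le
  obtain ⟨hI, -⟩ := nat_fam B mv no Q
  have hS2 : IsPGroup 2 (im Q (S : Subgroup G)) := (TypesNat.imS Q S hSL).isPGroup'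
  refine Fam.ln (TypesNat.imS Q S hSL) (EE := RRs S (MZ (S : Subgroup G)) Q ∪ FF₂) H
    (fun D hD => ⟨H.nb D hD, fun A hA hne a ha m hm => ?_⟩) le_rfl (fun A hA g hg => ?_) g hD
  · exact mem_fxd.1 ((H.nb A hA).C_le (H.ind A hA D hD hne.symm hm)) a ha
  · rcases hA with hA | hA
    · exact Or.inl (conj_rrs B mv no Q hA hg)
    · exact conj_small H hI.hf hI.two hS2 hsup (Or.inr hA) (hc A hA) hg

end box

section tv

variable {G : Type u} [Group G] [Finite G] {S : Sylow 2 G} {I : Type u} [Finite I] {N E : I → Subgroup G}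
  {R₀ : Subgroup G} {Om : I → Type u} [∀ i, Fintype (Om i)] [∀ i, DecidableEq (Om i)] {phi : ∀ i, Finset (Om i) → G}
  (F : Full (S : Subgroup G) (MZ (S : Subgroup G)) (zl (S : Subgroup G) (MZ (S : Subgroup G))) N E R₀ Om phi)
include F

/-- the complements of the blocks of letters -/
theorem co_conj {d : G} (hM : d ∈ normalizer (MZ (S : Subgroup G) : Set G))
    (hV : d ∈ normalizer (zl (S : Subgroup G) (MZ (S : Subgroup G)) : Set G)) {b c : I}
    (h : MulAut.conj d • N b = N c) {x : G} (hx : x ∈ Co N R₀ c) : d⁻¹ * x * d ∈ Co N R₀ b := by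
  have hM' := inv_mem hM
  have hV' := inv_mem hV
  have h1 : Co N R₀ c ≤ (Co N R₀ b).comap (MulAut.conj d⁻¹).toMonoidHom := by
    refine sup_le (iSup_le fun c' y hy => ?_) fun y hy => ?_
    · rw [mem_comap]
      change d⁻¹ * y * d⁻¹⁻¹ ∈ _
      obtain ⟨b', hb'⟩ := TvTr.perm_norm F hM' hV' c'
      have h5 : d⁻¹ * y * d⁻¹⁻¹ ∈ N b' := by
        rw [← hb']
        exact ⟨y, hy, rfl⟩
      refine (F.toDec.N_le_Co ?_) h5
      rintro rfl
      apply c'.2
      apply F.toDec.Ninj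
      rw [← h, ← hb', ← mul_smul, ← map_mul, mul_inv_cancel, map_one, one_smul]
    · rw [mem_comap]
      change d⁻¹ * y * d⁻¹⁻¹ ∈ _
      have h5 := (mem_normalizer_iff.1 (TvTr.norm_R F hM' hV') y).1 hy
      exact (le_sup_right : R₀ ≤ Co N R₀ b) h5
  have h3 := h1 hx
  rw [mem_comap] at h3
  have h5 : d⁻¹ * x * d⁻¹⁻¹ ∈ Co N R₀ b := h3
  rwa [inv_inv] at h5

/-- **`hn` for the blocks of three letters** -/
theorem hn_two (hSL : (S : Subgroup G) ≤ MZ (S : Subgroup G))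
    (Q : Nrm (MZ (S : Subgroup G)) (zl (S : Subgroup G) (MZ (S : Subgroup G)))) (h2 : ∀ v : Q.Mod, v + v = 0)
    (hc : ∀ b, Fintype.card (Om b) = 3) {g : G} (hg : g ∈ normalizer ((S : Subgroup G) : Set G)) (b : I) :
    ∃ c, MulAut.conj g • N b = N c ∧
      im Q (MulAut.conj g • ((S : Subgroup G) ⊓ E b)) = im Q ((S : Subgroup G) ⊓ E c) := by
  have hM := CI.norm_MZ hg
  have hV := normS_le_Wd hg
  obtain ⟨c, hcb⟩ := TvTr.perm_norm F hM hV b
  refine ⟨c, hcb, ?_⟩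
  have hS2 : IsPGroup 2 (im Q (S : Subgroup G)) := (TypesNat.imS Q S hSL).isPGroup'
  have hA : MulAut.conj g • ((S : Subgroup G) ⊓ E b) ≤ (S : Subgroup G) := by
    intro x hx
    have h1 := NS.mem_conj.1 hx
    have h3 := (mem_normalizer_iff.1 hg _).1 h1.1
    have e : g * (g⁻¹ * x * g) * g⁻¹ = x := by group
    rwa [e] at h3
  have hle : im Q (MulAut.conj g • ((S : Subgroup G) ⊓ E b)) ≤ im Q ((S : Subgroup G) ⊓ E c) := by
    rintro _ ⟨x, hx, rfl⟩
    have hx' : g⁻¹ * (x : G) * g ∈ (S : Subgroup G) ⊓ E b := NS.mem_conj.1 hx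
    refine small_uniq (AsmTwo.nb F Q (hc c)) (fun x hx => XH_faith Q x hx) h2 (AsmTwo.card_im F Q (hc c) h2) hS2
      (AsmCore.im_mono Q inf_le_left) (ph_mem_im Q (hA hx)) (fun m hm => ?_) fun n hn => ?_
    · rw [ph_smul, NS.smul_eq_iff]
      have h3 := co_conj F hM hV hcb hm
      have h5 := mem_centralizer_iff.1 (LeftThree.cent_Co F.toDec b hx'.2) _ h3
      have e1 : (x : G) * Q.val m * (x : G)⁻¹ = g * ((g⁻¹ * x * g) * (g⁻¹ * Q.val m * g)) * (g⁻¹ * x * g)⁻¹ * g⁻¹ := by group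
      rw [e1, ← h5]
      group
    · rw [ph_smul, Nrm.mem_ad, Nrm.val_smul]
      have h3 : g⁻¹ * Q.val n * g ∈ N b := by
        have h5 : Q.val n ∈ MulAut.conj g • N b := by rw [hcb]; exact hn
        exact NS.mem_conj.1 h5
      have h5 := (mem_normalizer_iff.1 (F.EN b hx'.2) _).1 h3
      rw [← hcb, NS.mem_conj]
      have e1 : g⁻¹ * ((x : G) * Q.val n * (x : G)⁻¹) * g = (g⁻¹ * x * g) * (g⁻¹ * Q.val n * g) * (g⁻¹ * x * g)⁻¹ := by
        group
      rw [e1]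
      exact h5
  refine Subgroup.eq_of_le_of_card_ge hle ?_
  have e1 : Nat.card (im Q (MulAut.conj g • ((S : Subgroup G) ⊓ E b))) = Nat.card (im Q ((S : Subgroup G) ⊓ E b)) :=
    card_im_conj hSL hg inf_le_left
  rw [e1]
  exact ((AsmTwo.card_im F Q (hc c) h2).trans (AsmTwo.card_im F Q (hc b) h2).symm).le

/-- **`hn`** -/
theorem hn_mix (hSL : (S : Subgroup G) ≤ MZ (S : Subgroup G))
    (Q : Nrm (MZ (S : Subgroup G)) (zl (S : Subgroup G) (MZ (S : Subgroup G)))) (h2 : ∀ v : Q.Mod, v + v = 0)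
    (hc : ∀ b, Fintype.card (Om b) = 3) {g : G} (hg : g ∈ normalizer ((S : Subgroup G) : Set G))
    {D : Subgroup (XH Q)} (hD : D ∈ RRs S (MZ (S : Subgroup G)) Q ∪ AsmTwo.FF S E Q) :
    ∃ A ≤ (S : Subgroup G), im Q A = D ∧ im Q (MulAut.conj g • A) ∈ RRs S (MZ (S : Subgroup G)) Q ∪ AsmTwo.FF S E Q := by
  rcases hD with hD | ⟨b, rfl⟩
  · obtain ⟨A, h1, h3, h5⟩ := hn_rrs hSL hg hD
    exact ⟨A, h1, h3, Or.inl h5⟩
  · obtain ⟨c, -, h3⟩ := hn_two F hSL Q h2 hc hg b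
    exact ⟨_, inf_le_left, rfl, Or.inr ⟨c, h3.symm⟩⟩

end tv

end Cfsg.Agent.Omega.NOThreeL.RRed.Blk.MixLn

end

section


/-!
# NO-3L, box R: the `𝔽₂`-blocks with three letters, normality (fields `permN`, `lnY` of `NBs`)

`F : Full S M V N E R₀ Om phi`, `|Ω_b| = 3`.

* `im_zpow` : `im Q ⟨s⟩ = im Q (S ⊓ E b)`, if `s ∈ S ⊓ E b` is a transposition;
* `of_tv` : a transvection `t ∈ S` generates one of the root groups;
* `hn_gen`, **`hn_two`** : `N_G(S)` permutes the root groups;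
* `im_inf` : `im Q S ⊓ im Q (E c) = im Q (S ⊓ E c)`;
* **`conj_two`** : `D ∈ FF`, `D^g ≤ im Q S` ⟹ `D^g ∈ FF`.
-/

set_option autoImplicit false
set_option linter.unusedSectionVars false

namespace Cfsg.Agent.Omega.NOThreeL.RRed.Blk.AsmTwo

open Subgroup Cfsg
open Cfsg.Agent.Omega.NOThreeL.RRed (Wd)
open Cfsg.Agent.Omega.NOThreeL.Merge (MZ)
open Cfsg.Agent.Omega.NOThreeL.RRed.TvFin (Full TvV)
open Cfsg.Agent.Omega.NOThreeL.RRed.Blk
open Cfsg.Agent.Omega.NOThreeL.RRed.Blk.AsmTwoC (smul_of_norm rel_one E_Co)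
open Cfsg.Agent.Omega.KL.TwoS (Rel Lett)
open Cfsg.Agent.Omega.NOThreeL.RSplit (Nrm)
open Cfsg.Agent.Omega.NOThreeL.RRed.Blk.TypesNat (XH ph im mem_im im_conj im_mono ph_smul ph_eq ph_surj)
open Cfsg.Agent.Omega.NOThreeL.RRed.NS (smul_eq_iff)
open scoped Pointwise

universe u

variable {G : Type u} [Group G] [Finite G] {S : Sylow 2 G} {M V : Subgroup G} {I : Type u} {N E : I → Subgroup G}
    {R₀ : Subgroup G} {Om : I → Type u} [∀ i, Fintype (Om i)] [∀ i, DecidableEq (Om i)] {phi : ∀ i, Finset (Om i) → G}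
    (F : Full (S : Subgroup G) M V N E R₀ Om phi) (Q : Nrm M V)
include F

/-- `im Q ⟨s⟩ = im Q (S ⊓ E b)` -/
theorem im_zpow {b : I} (hc : Fintype.card (Om b) = 3) {s : G} (hs : s ∈ (S : Subgroup G) ⊓ E b) {x y : Om b}
    (hxy : x ≠ y) (hr : Rel (phi b) s (Equiv.swap x y)) :
    im Q (zpowers s) = im Q ((S : Subgroup G) ⊓ E b) := by
  refine le_antisymm (im_mono ?_) ?_
  · rw [zpowers_le]; exact hs
  · intro w hw
    obtain ⟨t, ht, rfl⟩ := mem_im.1 hw
    have hsM : s ∈ M := F.EL b hs.2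
    rcases two_or F hc hs hxy hr ht with h | h
    · have h1 : ph Q t = 1 := by
        rw [← map_one (ph Q)]
        exact ph_eq_of_rel F Q ht.2 (one_mem _) h Rel.one
      rw [h1]
      exact one_mem _
    · have h1 : ph Q t = ph Q ⟨s, hsM⟩ := ph_eq_of_rel F Q ht.2 hs.2 h hr
      rw [h1]
      exact mem_im.2 ⟨⟨s, hsM⟩, mem_zpowers s, rfl⟩

/-- a transvection of `S` generates a root group -/
theorem of_tv (hc : ∀ b, Fintype.card (Om b) = 3) {t c : G} (ht : t ∈ (S : Subgroup G)) (hcV : c ∈ V)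
    (hT : TvV V c t) (hne : t ∉ centralizer (V : Set G)) :
    ∃ b, t ∈ E b ∧ im Q (zpowers t) = im Q ((S : Subgroup G) ⊓ E b) := by
  obtain ⟨b, hb, x, y, hxy, -, hr⟩ := F.tvs t (F.SL ht) c hcV hT hne
  exact ⟨b, hb, im_zpow F Q (hc b) ⟨ht, hb⟩ hxy hr⟩

/-- `g ∈ N(S) ∩ N(V)` permutes the root groups -/
theorem hn_gen (hc : ∀ b, Fintype.card (Om b) = 3) {g : G} (hg : g ∈ normalizer ((S : Subgroup G) : Set G))
    (hV : g ∈ normalizer (V : Set G)) {D : Subgroup (XH Q)} (hD : D ∈ FF S E Q) :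
    ∃ A ≤ (S : Subgroup G), im Q A = D ∧ im Q (MulAut.conj g • A) ∈ FF S E Q := by
  obtain ⟨b, rfl⟩ := hD
  obtain ⟨s, hs, x, y, hxy, hr⟩ := exists_tr F b
  have L := F.lett b
  have hT : TvV V (phi b {x, y}) s := AsmCls.transv F hs.2 hxy hr
  have hcV : phi b {x, y} ∈ V := F.toDec.NU b ((L.mem _).2 ⟨_, by rw [Finset.card_pair hxy]; exact even_two, rfl⟩)
  have hsne : s ∉ centralizer (V : Set G) := by
    intro h
    have h1 : Rel (phi b) s 1 := rel_one L (centralizer_le (F.toDec.NU b) h)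
    exact hxy (Equiv.swap_eq_one_iff.1 (L.unique (F.three b) hr h1))
  refine ⟨zpowers s, ?_, im_zpow F Q (hc b) hs hxy hr, ?_⟩
  · rw [zpowers_le]; exact hs.1
  have hgs : g * s * g⁻¹ ∈ (S : Subgroup G) := (mem_normalizer_iff.1 hg s).1 hs.1
  have hgc : g * phi b {x, y} * g⁻¹ ∈ V := (mem_normalizer_iff.1 hV _).1 hcV
  have hgT : TvV V (g * phi b {x, y} * g⁻¹) (g * s * g⁻¹) := by
    intro w hw
    have h1 : g⁻¹ * w * g ∈ V := by
      rw [mem_normalizer_iff.1 hV]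
      have e : g * (g⁻¹ * w * g) * g⁻¹ = w := by group
      rwa [e]
    have e : g * s * g⁻¹ * w * (g * s * g⁻¹)⁻¹ = g * (s * (g⁻¹ * w * g) * s⁻¹) * g⁻¹ := by group
    rcases hT _ h1 with h2 | h2
    · left
      rw [e, h2]; group
    · right
      rw [e, h2]; group
  have hgne : g * s * g⁻¹ ∉ centralizer (V : Set G) := by
    intro h
    apply hsne
    rw [mem_centralizer_iff] at h ⊢
    intro w hw
    have h1 := h _ ((mem_normalizer_iff.1 hV w).1 hw)
    have e1 : g * (w * s) * g⁻¹ = g * (s * w) * g⁻¹ := by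
      calc g * (w * s) * g⁻¹ = (g * w * g⁻¹) * (g * s * g⁻¹) := by group
        _ = (g * s * g⁻¹) * (g * w * g⁻¹) := h1
        _ = g * (s * w) * g⁻¹ := by group
    exact mul_left_cancel (mul_right_cancel e1)
  obtain ⟨c, hc1, hc2⟩ := of_tv F Q hc hgs hgc hgT hgne
  refine ⟨c, ?_⟩
  have e : MulAut.conj g • zpowers s = zpowers (g * s * g⁻¹) := by
    rw [show MulAut.conj g • zpowers s = (zpowers s).map (MulAut.conj g).toMonoidHom from rfl, MonoidHom.map_zpowers]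
    rfl
  rw [e]
  exact hc2.symm

omit F in
/-- `im Q S ⊓ im Q (E c) = im Q (S ⊓ E c)` -/
theorem im_inf (F : Full (S : Subgroup G) M V N E R₀ Om phi) (Q : Nrm M V) (c : I) :
    im Q (S : Subgroup G) ⊓ im Q (E c) ≤ im Q ((S : Subgroup G) ⊓ E c) := by
  rintro w ⟨h1, h2⟩
  obtain ⟨s, hs, rfl⟩ := mem_im.1 h1
  obtain ⟨e, he, h3⟩ := mem_im.1 h2
  refine mem_im.2 ⟨s, ⟨hs, ?_⟩, rfl⟩
  have h4 : ((e⁻¹ * s : M) : G) ∈ M ⊓ centralizer (V : Set G) := by
    refine ⟨(e⁻¹ * s : M).2, ?_⟩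
    have h5 : (e⁻¹ * s : M) ∈ (ph Q).ker := by rw [MonoidHom.mem_ker, map_mul, map_inv, h3, inv_mul_cancel]
    rwa [TypesNat.mem_ker Q] at h5
  have h5 := mul_mem he (F.CE c h4)
  rwa [coe_mul, coe_inv, mul_inv_cancel_left] at h5

/-- **`EEc`** -/
theorem conj_two (hc : ∀ b, Fintype.card (Om b) = 3) (hV2 : ∀ v : Q.Mod, v + v = 0) (g : XH Q)
    {D : Subgroup (XH Q)} (hD : D ∈ FF S E Q) (hle : MulAut.conj g • D ≤ im Q (S : Subgroup G)) :
    MulAut.conj g • D ∈ FF S E Q := by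
  obtain ⟨b, rfl⟩ := hD
  obtain ⟨x, rfl⟩ := ph_surj Q g
  obtain ⟨c, h1, h2⟩ := F.perm x x.2 b
  refine ⟨c, ?_⟩
  dsimp only at hle ⊢
  have h3 : MulAut.conj (ph Q x) • im Q ((S : Subgroup G) ⊓ E b) ≤ im Q ((S : Subgroup G) ⊓ E c) := by
    refine le_trans (le_inf hle ?_) (im_inf F Q c)
    rw [← im_conj]
    refine im_mono ?_
    rw [← h2]
    exact Subgroup.pointwise_smul_le_pointwise_smul_iff.2 inf_le_right
  refine (Subgroup.eq_of_le_of_card_ge h3 ?_).symm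
  rw [card_im F Q (hc c) hV2, Types.card_cj, card_im F Q (hc b) hV2]

end Cfsg.Agent.Omega.NOThreeL.RRed.Blk.AsmTwo

namespace Cfsg.Agent.Omega.NOThreeL.RRed.Blk.AsmTwo

open Subgroup Cfsg
open Cfsg.Agent.Omega.NOThreeL.RRed (Wd)
open Cfsg.Agent.Omega.NOThreeL.Merge (MZ)
open Cfsg.Agent.Omega.NOThreeL.RRed.TvFin (Full)
open Cfsg.Agent.Omega.NOThreeL.RSplit (Nrm)
open Cfsg.Agent.Omega.NOThreeL.RRed.Blk.TypesNat (XH im)
open scoped Pointwise

universe u

variable {G : Type u} [Group G] [Finite G] {S : Sylow 2 G} {I : Type u} {N E : I → Subgroup G}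
    {R₀ : Subgroup G} {Om : I → Type u} [∀ i, Fintype (Om i)] [∀ i, DecidableEq (Om i)] {phi : ∀ i, Finset (Om i) → G}
    (F : Full (S : Subgroup G) (MZ (S : Subgroup G)) (Wd (S : Subgroup G)) N E R₀ Om phi)
    (Q : Nrm (MZ (S : Subgroup G)) (Wd (S : Subgroup G)))
include F

/-- **The input of `nbs_of_fam`** : `N_G(S)` -/
theorem hn_two (hc : ∀ b, Fintype.card (Om b) = 3) :
    ∀ g ∈ normalizer ((S : Subgroup G) : Set G), ∀ D ∈ FF S E Q, ∃ A ≤ (S : Subgroup G), im Q A = D ∧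
      im Q (MulAut.conj g • A) ∈ FF S E Q :=
  fun _ hg _ hD => hn_gen F Q hc hg (AsmOneBlk.normS_le_Wd hg) hD

end Cfsg.Agent.Omega.NOThreeL.RRed.Blk.AsmTwo

end

section


/-!
# NO-3L, box R, the left case: three letters in each block (helper283)

* `low` : `W i ≤ O₂(C(x) ∩ C(y))`;
* **`three_of`** : the left case: all blocks of letters have three letters.
-/

set_option autoImplicit false
set_option linter.unusedSectionVars false

namespace Cfsg.Agent.Omega.NOThreeL.RRed.Blk.AsmLeftA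

open Subgroup Cfsg Cfsg.Agent.ZN Cfsg.Agent.Omega.MinPar
open Cfsg.Agent.Omega.FFThm
open Cfsg.Agent.Omega.NOThreeL.RRed.TvFin (Full TvV)
open Cfsg.Agent.Omega.NOThreeL.RRed.WideTree (Act MvAct CM FS Left)
open Cfsg.Agent.Omega.NOThreeL.RTree (RB)
open Cfsg.Agent.Omega.NOThreeL.Merge (MZ le_MZ isLoc_MZ)
open Cfsg.Agent.Omega.NOThreeL.RZ.TwoC.DecE (Orbs)
open Cfsg.Agent.Omega.NOThreeL.RRed.FullSup (HBad exists_fs_left)
open Cfsg.Agent.Omega.NOThreeL.RRed.ClsBlk (other_le)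
open scoped Pointwise

universe u v

variable {G : Type u} [Group G] [Finite G] {S : Sylow 2 G} {ι : Type u} {W : ι → Subgroup G}

/-- **`W i ≤ O₂(C(x) ∩ C(y))`** -/
theorem low (B : RB S) (h : CM (S : Subgroup G) W) {i : ι} {x y : G} (hx : x ∈ W i)
    (hy : y ∈ zc (S : Subgroup G)) (hy1 : y ≠ 1)
    (fact : MZ (S : Subgroup G) ≤ (MZ (S : Subgroup G) ⊓ centralizer (W i : Set G)) ⊔
      (MZ (S : Subgroup G) ⊓ centralizer ({y} : Set G))) :
    W i ≤ o2 (centralizer ({x} : Set G) ⊓ centralizer ({y} : Set G)) := by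
  have hI := AsmCls.irr_of h
  have hK : IsLoc (S : Subgroup G) (centralizer ({y} : Set G)) := RZ.LowR.isLoc_cent hy hy1
  have hKn := MinSimple.VModule.le_normalizer_zl (S : Subgroup G) (centralizer ({y} : Set G))
  have hn : MZ (S : Subgroup G) ⊓ centralizer ({y} : Set G) ≤
      normalizer ((MZ (S : Subgroup G) ⊓ centralizer (W i : Set G) : Subgroup G) : Set G) := by
    intro g hg
    rw [mem_normalizer_iff]
    have key : ∀ g ∈ MZ (S : Subgroup G), ∀ a ∈ MZ (S : Subgroup G) ⊓ centralizer (W i : Set G),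
        g * a * g⁻¹ ∈ MZ (S : Subgroup G) ⊓ centralizer (W i : Set G) := by
      intro g hg a ha
      refine mem_inf.2 ⟨mul_mem (mul_mem hg ha.1) (inv_mem hg), ?_⟩
      rw [mem_centralizer_iff]
      intro w hw
      have h4 : g⁻¹ * w * g ∈ W i := by
        have := (mem_normalizer_iff.1 (inv_mem (h.inv i hg)) w).1 hw
        rwa [inv_inv] at this
      have h5 := mem_centralizer_iff.1 ha.2 _ h4
      calc w * (g * a * g⁻¹) = g * ((g⁻¹ * w * g) * a) * g⁻¹ := by group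
        _ = g * a * g⁻¹ * w := by rw [h5]; group
    refine fun a => ⟨key g hg.1 a, fun ha => ?_⟩
    have h1 := key g⁻¹ (inv_mem hg.1) _ ha
    have e : g⁻¹ * (g * a * g⁻¹) * g⁻¹⁻¹ = a := by group
    rwa [e] at h1
  have hU : W i ⊓ zc (S : Subgroup G) ≠ ⊥ := by
    obtain ⟨z, hz, hz1⟩ := AsmCov.exists_z B h i
    intro h0
    rw [h0, mem_bot] at hz
    exact hz1 hz
  -- `W i ≤ V_K`
  have h1 : W i ≤ zl (S : Subgroup G) (centralizer ({y} : Set G)) := by
    intro w hw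
    have hV : NoFF.Basic.V (W i ⊓ zc (S : Subgroup G)) (MZ (S : Subgroup G)) ≤
        zl (S : Subgroup G) (centralizer ({y} : Set G)) := by
      refine NoFF.Basic.V_le fun g hg => ?_
      rintro _ ⟨v, hv, rfl⟩
      change g * v * g⁻¹ ∈ _
      have h2 := fact hg
      rw [sup_comm] at h2
      obtain ⟨b, hb, a, ha, rfl⟩ := mem_sup_of hn h2
      have h3 : a * v * a⁻¹ = v := cent ha.2 hv.1
      have h4 : b * a * v * (b * a)⁻¹ = b * v * b⁻¹ := by
        calc b * a * v * (b * a)⁻¹ = b * (a * v * a⁻¹) * b⁻¹ := by group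
          _ = _ := by rw [h3]
      rw [h4]
      exact conj_of (hKn hb.2) (MinSimple.VModule.zc_le_zl _ _ hv.2)
    exact hV (h.zero i _ le_rfl hU w hw)
  have h2 : W i ≤ o2 (centralizer ({y} : Set G)) :=
    h1.trans ((hK.zl_le S B.ctx.char2).trans (MinSimple.VModule.zc_le _))
  have hab : Wd (S : Subgroup G) ≤ centralizer (Wd (S : Subgroup G) : Set G) := by
    intro a ha
    rw [mem_centralizer_iff]
    exact fun b hb => (AsmInp.nrm_box B).ab b hb a ha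
  have h3 : W i ≤ centralizer ({x} : Set G) := fun w hw => by
    rw [mem_centralizer_singleton_iff]
    exact (mem_centralizer_iff.1 (hab (hI.le i hw)) x (hI.le i hx)).symm
  have h4 : o2 (centralizer ({y} : Set G)) ⊓ centralizer ({x} : Set G) ≤
      o2 (centralizer ({x} : Set G) ⊓ centralizer ({y} : Set G)) := by
    refine MinSimple.VModule.le_o2 ?_ ((MinSimple.VModule.o2_isPGroup _).to_le inf_le_left) ?_
    · exact le_inf inf_le_right (inf_le_left.trans (MinSimple.VModule.o2_le _))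
    · intro g hg
      rw [mem_normalizer_iff]
      intro a
      rw [mem_inf, mem_inf]
      exact and_congr ((mem_normalizer_iff.1 (MinSimple.VModule.le_normalizer_o2 _ hg.2)) a)
        ((mem_normalizer_iff.1 (le_normalizer hg.1)) a)
  exact (le_inf h2 h3).trans h4

variable {I : Type u} {N E : I → Subgroup G} {R₀ : Subgroup G} {Om : I → Type u} [∀ i, Fintype (Om i)]
  [∀ i, DecidableEq (Om i)] {phi : ∀ i, Finset (Om i) → G} {κ₁ : Type u} {N₁ : κ₁ → Subgroup G}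
  {EM : κ₁ ⊕ I → Subgroup G} {O₁ : κ₁ → Set G} {cls₁ : κ₁ → ι} {cls : I → ι}

/-- **the left case: three letters in each block** -/
theorem three_of [Finite κ₁] [Finite I] (B : RB S) (h : CM (S : Subgroup G) W) (hL : Left (S : Subgroup G) W)
    (hij : ∃ i j : ι, i ≠ j)
    (F : Full (S : Subgroup G) (MZ (S : Subgroup G)) (Wd (S : Subgroup G)) N E R₀ Om phi)
    (hcl₁ : ∀ a, N₁ a ≤ W (cls₁ a)) (hcl : ∀ b, N b ≤ W (cls b)) (hne : ∀ a b, cls₁ a ≠ cls b)
    (D : Dec (S : Subgroup G) (MZ (S : Subgroup G)) (Wd (S : Subgroup G)) (Sum.elim N₁ N) EM ⊥)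
    (O : Orbs (MZ (S : Subgroup G)) (Sum.elim N₁ N) EM (Sum.elim O₁ (TvTr.Orb phi)))
    (hW : ∀ i, W i = ⨆ b : {b // Sum.elim cls₁ cls b = i}, Sum.elim N₁ N b)
    (hb : HBad (S : Subgroup G) (Sum.elim N₁ N) (Sum.elim O₁ (TvTr.Orb phi))) (b : I) :
    Fintype.card (Om b) = 3 := by
  have hI := AsmCls.irr_of h
  have hi : ∃ j, j ≠ cls b := by
    obtain ⟨i, j, hij⟩ := hij
    by_cases hi : i = cls b
    · exact ⟨j, fun e => hij (by rw [hi, e])⟩
    · exact ⟨i, hi⟩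
  obtain ⟨z, hz, e, he, hzF, heF, hA⟩ := exists_fs_left B h hL D O hW hb (cls b) hi
  have hSc : ∀ w ∈ zc (S : Subgroup G), (S : Subgroup G) ≤ centralizer ({w} : Set G) := fun w hw s hs => by
    rw [mem_centralizer_singleton_iff]
    exact (MinSimple.VModule.mem_zc.1 hw).2.1 s hs
  have hCoW : ∀ c : I, cls c = cls b → ∀ j, j ≠ cls b → W j ≤ Co N R₀ c := fun c hc j hj =>
    other_le hI F (hcl c) (by rw [hc]; exact hj)
  have key : ∀ c : I, cls c = cls b → Co (Sum.elim N₁ N) ⊥ (Sum.inr c) ≤ Co N R₀ c := by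
    intro c hc
    refine sup_le (iSup_le ?_) bot_le
    rintro ⟨d | d, hd⟩
    · exact (hcl₁ d).trans (hCoW c hc _ (hne d b))
    · exact F.toDec.N_le_Co fun e => hd (by rw [e])
  have hWJ : W (cls b) = ⨆ c : ({c | cls c = cls b} : Set I), N c := by
    refine le_antisymm ?_ (iSup_le fun c => ?_)
    · rw [hW]
      refine iSup_le ?_
      rintro ⟨d | d, hd⟩
      · exact absurd hd (hne d b)
      · exact le_iSup (fun c : ({c | cls c = cls b} : Set I) => N c) ⟨d, hd⟩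
    · have := hcl c.1
      rwa [show cls c.1 = cls b from c.2] at this
  refine LeftThree.three_of_left F (hSc z hzF.mem.2) (hSc e heF.mem.2) (W := W (cls b)) (J := {c | cls c = cls b}) hWJ
    (h.inv _) (h.irr _) (fun c hc => ?_) (fun c hc => ?_)
    (low B h hzF.mem.1 heF.mem.2 heF.ne heF.fact) (fun v hv => ?_) hA b rfl
  · obtain ⟨n, hn, hnc⟩ := hz.2 (Sum.inr c) hc
    exact ⟨n, hn, hnc.1, key c hc hnc.2⟩
  · have h1 := heF.mem.1
    refine (iSup_le fun j => ?_ : (⨆ j : {j // j ≠ cls b}, W j) ≤ Co N R₀ c) h1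
    exact hCoW c hc j.1 j.2
  · have := NS.elem_Wd B
    exact this.2 v hv

end Cfsg.Agent.Omega.NOThreeL.RRed.Blk.AsmLeftA

end

section


/-!
# NO-3L, box R: `TD` for EVERY member of the family `FF` of `Asm.main`

* **`td_all`** : hypotheses of `AsmMv.mov_of`; every `D ∈ FF`: `TD (im Q S) D (N D) (C D)`;
* `tor_all` : so `Tor (im Q S) FF N C` with `m = 1`.
-/

set_option autoImplicit false
set_option linter.unusedSectionVars false

namespace Cfsg.Agent.Omega.NOThreeL.RRed.Blk.AsmTor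

open Subgroup Cfsg Cfsg.Agent.ZN Cfsg.Agent.Omega.MinPar
open Cfsg.Agent.Omega.NOThreeL.RSplit (Nrm)
open Cfsg.Agent.Omega.NOThreeL.RRed.NS hiding rt
open Cfsg.Agent.Omega.NOThreeL.RRed.WideTree (Act MvAct)
open Cfsg.Agent.Omega.NOThreeL.RTree (RB)
open Cfsg.Agent.Omega.NOThreeL.Merge (MZ le_MZ isLoc_MZ)
open Cfsg.Agent.Omega.NOThreeL.RRed.Blk.TypesNat (XH)
open Cfsg.Agent.Omega.NOThreeL.RRed.Blk.Asm (Es)
open Cfsg.Agent.Omega.NOThreeL.RRed.Blk.AsmCore (EP KP im)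
open Cfsg.Agent.Omega.NOThreeL.RRed.Blk.AsmT (TD Tor)
open scoped Pointwise

universe u

variable {G : Type u} [Group G] [Finite G] {S : Sylow 2 G}
variable (B : RB S) (mv : MvAct (S : Subgroup G)) (Q : Nrm (MZ (S : Subgroup G)) (Wd (S : Subgroup G)))
  {FF : Set (Subgroup (XH Q))} {N C : Subgroup (XH Q) → AddSubgroup Q.Mod}
include B mv

/-- **`TD` for every member of `FF`.** -/
theorem td_all (E : Es (im Q (S : Subgroup G)) (im Q '' AsmCore.EE (S : Subgroup G) (Wd (S : Subgroup G))) Q.Mod)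
    (hAc : ∀ P, Act (S : Subgroup G) P → Asm.Ac (im Q (S : Subgroup G)) (im Q '' AsmCore.EE (S : Subgroup G) (Wd (S : Subgroup G)))
      (im Q P) (im Q (KP (S : Subgroup G) P (Wd (S : Subgroup G)))) (im Q '' EP (S : Subgroup G) P (Wd (S : Subgroup G)))
      Q.Mod)
    (hn : ∀ D ∈ FF, Asm.GB (im Q '' AsmCore.EE (S : Subgroup G) (Wd (S : Subgroup G))) D (N D) (C D))
    (h4 : ∀ D ∈ FF, 4 ≤ Nat.card D) (hS : ∀ s ∈ im Q (S : Subgroup G), ∀ D ∈ FF, MulAut.conj s • D ∈ FF)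
    (hsub : FF ⊆ im Q '' AsmCore.EE (S : Subgroup G) (Wd (S : Subgroup G))) {D : Subgroup (XH Q)} (hD : D ∈ FF) :
    TD (im Q (S : Subgroup G)) D (N D) (C D) := by
  obtain ⟨P, a, A, hA, rfl⟩ := AsmMv.exists_EP B mv Q E hAc hn h4 hS hsub hD
  obtain ⟨F, i1, i2, i3, k, hk, M, h, hF, hD', h1, -⟩ := AsmMv.nat4_of B mv a.1 Q hA (h4 _ hD)
  obtain ⟨j, O⟩ := h1 A hA
  exact td_of h (by omega) Q (elem_Wd B) (AsmMv.no_of B a) (le_MZ a.1) (Star.zl_mono _ (le_MZ a.1)) O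
    (hA.1.1.trans a.1.le) (hD' j) a.1.le (hn _ hD).nb

/-- **`Tor` for the family of `Asm.main`**, with `m = 1`. -/
theorem tor_all (E : Es (im Q (S : Subgroup G)) (im Q '' AsmCore.EE (S : Subgroup G) (Wd (S : Subgroup G))) Q.Mod)
    (hAc : ∀ P, Act (S : Subgroup G) P → Asm.Ac (im Q (S : Subgroup G)) (im Q '' AsmCore.EE (S : Subgroup G) (Wd (S : Subgroup G)))
      (im Q P) (im Q (KP (S : Subgroup G) P (Wd (S : Subgroup G)))) (im Q '' EP (S : Subgroup G) P (Wd (S : Subgroup G)))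
      Q.Mod)
    (hn : ∀ D ∈ FF, Asm.GB (im Q '' AsmCore.EE (S : Subgroup G) (Wd (S : Subgroup G))) D (N D) (C D))
    (h4 : ∀ D ∈ FF, 4 ≤ Nat.card D) (hS : ∀ s ∈ im Q (S : Subgroup G), ∀ D ∈ FF, MulAut.conj s • D ∈ FF)
    (hsub : FF ⊆ im Q '' AsmCore.EE (S : Subgroup G) (Wd (S : Subgroup G))) : Tor (im Q (S : Subgroup G)) FF N C :=
  fun D hD _ => ⟨D, hD, 1, by rw [map_one, one_smul], td_all B mv Q E hAc hn h4 hS hsub hD⟩

end Cfsg.Agent.Omega.NOThreeL.RRed.Blk.AsmTor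

end

section


/-!
# NO-3L, box R: assembly of the natural blocks, all inputs

`L = M₀ = MZ S`, `U = V* = Wd S`, from `RB S` and `MvAct S`.

* `exists_act` : some `P` is active; `no` : `NoOverM V* M₀`;
* `ac_of` : `Asm.Ac` for every `P ∈ P*(S)` with one moving `V_P`;
* **`inp_of`** : `AsmG.Inp S (MZ S) Q`;
* **`main`** : the natural blocks; `src`, `mov`.
-/

set_option autoImplicit false
set_option linter.unusedSectionVars false

namespace Cfsg.Agent.Omega.NOThreeL.RRed.Blk.AsmMain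

open Subgroup Cfsg Cfsg.Agent.ZN Cfsg.Agent.Omega.MinPar
open Cfsg.Agent.Omega.FFThm (NatKM SymKM OffM ElemM NoOverM)
open Cfsg.Agent.Omega.FrameFF (cv)
open Cfsg.Agent.Omega.NO3S.ThmB Cfsg.Agent.Omega.NO3S.KeyRad
open Cfsg.Agent.Omega.NOThreeL.RSplit (Nrm)
open Cfsg.Agent.Omega.NOThreeL.RRed.NS (fxd brk DD YY un gen_MZ' elem_Wd act_inf_eq_bot)
open Cfsg.Agent.Omega.NOThreeL.RRed.WideTree (Act MvAct)
open Cfsg.Agent.Omega.NOThreeL.RTree (RB)
open Cfsg.Agent.Omega.NOThreeL.Merge (MZ le_MZ isLoc_MZ)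
open Cfsg.Agent.Omega.NOThreeL.RRed.Blk.TypesNat (XH)
open Cfsg.Agent.Omega.NOThreeL.RRed.Blk.Asm (Ac Es Fam FFs NN CC GB)
open Cfsg.Agent.Omega.NOThreeL.RRed.Blk.AsmCore (EP KP im)
open Cfsg.Agent.Omega.NOThreeL.RRed.Blk.AsmG (Inp RRs)
open scoped Pointwise

universe u

variable {G : Type u} [Group G] [Finite G] {S : Sylow 2 G} {P : Subgroup G}

/-- some `P` is active -/
theorem exists_act (B : RB S) (mv : MvAct (S : Subgroup G)) : ∃ P, Act (S : Subgroup G) P := by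
  have h1 : zc (S : Subgroup G) ≠ ⊥ := MinSimple.Basic.zc_ne_bot S.isPGroup' (B.ctx.sylow_ne_bot S)
  obtain ⟨z, hz1⟩ := Subgroup.ne_bot_iff_exists_ne_one.1 h1
  obtain ⟨P, a, -⟩ := mv z z.2 fun h => hz1 (Subtype.ext h)
  exact ⟨P, a⟩

/-- (NO) -/
theorem no (B : RB S) (mv : MvAct (S : Subgroup G)) : NoOverM (Wd (S : Subgroup G)) (MZ (S : Subgroup G)) := by
  obtain ⟨P, a⟩ := exists_act B mv
  exact AsmMv.no_of B a

/-- **`Ac`.** -/
theorem ac_of (B : RB S) (mv : MvAct (S : Subgroup G)) (Q : Nrm (MZ (S : Subgroup G)) (Wd (S : Subgroup G)))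
    (hP : IsParS (S : Subgroup G) P) (ne : (EP (S : Subgroup G) P (Wd (S : Subgroup G))).Nonempty) :
    Ac (im Q (S : Subgroup G)) (im Q '' AsmCore.EE (S : Subgroup G) (Wd (S : Subgroup G))) (im Q P)
      (im Q (KP (S : Subgroup G) P (Wd (S : Subgroup G)))) (im Q '' EP (S : Subgroup G) P (Wd (S : Subgroup G)))
      Q.Mod := by
  obtain ⟨A, hA⟩ := ne
  have a := AsmMv.act_of_EP B hP hA
  have hc := B.ctx.char2
  have hL := isLoc_MZ B.ctx B.full B.data.noff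
  have hPL : P ≤ MZ (S : Subgroup G) := le_MZ hP
  have no := AsmMv.no_of B a
  have hcomm := AsmSp.comm_zl hc hL
  have g := AsmSp.gone_mx hc hP hPL no hcomm hA.1.1 hA.1.2 hA.2
  rcases g.concl with ⟨F, i1, i2, i3, k, hk, ⟨M⟩⟩ | ⟨k, m, hk, hm, ⟨M⟩⟩
  · rcases SplitAll.card_field F with h2 | h4
    · have h3 : Nat.card F = 2 := Nat.card_eq_two_iff.2 ⟨0, 1, zero_ne_one, Set.eq_univ_of_forall fun x => by
        rcases h2 x with h5 | h5 <;> simp [h5]⟩
      exact AsmSmall.ac_small hc hL hP hPL no (Or.inl ⟨F, i1, i3, k, h3, hk, ⟨M⟩⟩) Q ⟨A, hA⟩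
    · exact AsmAct.ac_nat hc hL hP hPL no M h4 (act_inf_eq_bot B mv a M (by omega)) Q ⟨A, hA⟩
  · exact AsmSmall.ac_small hc hL hP hPL no (Or.inr ⟨k, m, hk, hm, ⟨M⟩⟩) Q ⟨A, hA⟩

/-- **All inputs.** -/
theorem inp_of (B : RB S) (mv : MvAct (S : Subgroup G)) (Q : Nrm (MZ (S : Subgroup G)) (Wd (S : Subgroup G))) :
    Inp S (MZ (S : Subgroup G)) Q where
  hc := B.ctx.char2
  gen := gen_MZ' S
  el := elem_Wd B
  no := no B mv
  es := AsmEsB.es_of Q (isLoc_MZ B.ctx B.full B.data.noff).le (no B mv) (elem_Wd B)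
  ac P hP _ ne := ac_of B mv Q hP ne

end Cfsg.Agent.Omega.NOThreeL.RRed.Blk.AsmMain

end
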