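import Cfsg.Agent.Mrg.Omega.NOThreeL.RRed.Blk.AsmCore
import Cfsg.Agent.Mrg.Omega.NOThreeL.RRed.WideTree


/-!
# NO-3L, box R: assembly of the natural blocks, the inactive `R ∈ P*(S)`

`R ∈ P*(S)` is inactive: all minimal exact offenders `A ≤ S` of `U` lie in `O₂(R)`.

* `EE_cj_of_inact` : `R` permutes `EE S U`;  `im_EE_of_inact` : the image of `R` normalises `im Q '' EE S U`;
* `inact_of` : `¬ Act S R` (WideTree); **`inact_or`** : every `R ∈ P*(S)` is active or normalises the image of `EE`;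
* `im_bot`, `im_sSup`, **`sSup_im_PS`** : the images of the members of `P*(S)` generate `XH Q`, `Q : Nrm (MZ S) U`.
-/

set_option autoImplicit false
set_option linter.unusedSectionVars false

namespace Cfsg.Agent.Omega.NOThreeL.RRed.Blk.AsmInact

open Subgroup Cfsg Cfsg.Agent.ZN Cfsg.Agent.Omega.MinPar Cfsg.Agent.Omega.Frame Cfsg.Agent.Omega.FrameNOFF
open Cfsg.Agent.Omega.NOThreeL.Merge (MZ)
open Cfsg.Agent.Omega.NOThreeL.RSplit (Nrm)
open Cfsg.Agent.Omega.NOThreeL.RRed.NS (conj_eq_cj)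
open Cfsg.Agent.Omega.NOThreeL.RRed.Blk.TypesNat (XH ph ph_surj)
open Cfsg.Agent.Omega.NOThreeL.RRed.Blk.AsmCore
open Cfsg.Agent.Omega.NOThreeL.RRed.WideTree (Act)
open scoped Pointwise

universe u

variable {G : Type u} [Group G] [Finite G] {S : Sylow 2 G} {R U H : Subgroup G}

/-- An inactive `R` permutes `EE S U`. -/
theorem EE_cj_of_inact (hR : IsParS (S : Subgroup G) R) (hU : R ≤ normalizer (U : Set G))
    (hin : ∀ A ≤ (S : Subgroup G), Mx U A → A ≤ o2 R) {g : G} (hg : g ∈ R) {A : Subgroup G}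
    (hA : A ∈ AsmCore.EE (S : Subgroup G) U) : MulAut.conj g • A ∈ AsmCore.EE (S : Subgroup G) U := by
  rw [conj_eq_cj]
  refine ⟨?_, CI.mx_conj hA.2 (hU hg)⟩
  have h1 : A ≤ o2 R := hin A hA.1 hA.2
  have h2 : o2 R ≤ (S : Subgroup G) := hR.isLoc.o2_le S
  refine le_trans ?_ h2
  intro x hx
  rw [ChoiceBase.mem_cj] at hx
  have h3 := h1 hx
  have h4 := (mem_normalizer_iff.1 (le_normalizer_o2 R hg) (g⁻¹ * x * g)).1 h3
  have e : g * (g⁻¹ * x * g) * g⁻¹ = x := by group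
  rwa [e] at h4

/-- The image of an inactive `R` normalises the image of `EE S U`. -/
theorem im_EE_of_inact (Q : Nrm H U) (hR : IsParS (S : Subgroup G) R) (hU : R ≤ normalizer (U : Set G))
    (hin : ∀ A ≤ (S : Subgroup G), Mx U A → A ≤ o2 R) :
    ∀ x ∈ im Q R, ∀ A ∈ im Q '' AsmCore.EE (S : Subgroup G) U, MulAut.conj x • A ∈ im Q '' AsmCore.EE (S : Subgroup G) U := by
  rintro _ ⟨a, ha, rfl⟩ _ ⟨A, hA, rfl⟩
  exact ⟨_, EE_cj_of_inact hR hU hin ha hA, im_cj Q a⟩

/-- `R` is not active. -/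
theorem inact_of (hR : IsParS (S : Subgroup G) R) (h : ¬ Act (S : Subgroup G) R) :
    ∀ A ≤ (S : Subgroup G), Mx (Wd (S : Subgroup G)) A → A ≤ o2 R := by
  intro A hA hm
  by_contra hc
  exact h ⟨hR, A, hA, hm, hc⟩

theorem le_MZ (hR : IsParS (S : Subgroup G) R) : R ≤ MZ (S : Subgroup G) := le_sSup hR

theorem MZ_norm : MZ (S : Subgroup G) ≤ normalizer (Wd (S : Subgroup G) : Set G) := le_normalizer_zl _ _

/-- **Every `R ∈ P*(S)` is active or its image normalises the image of `EE`.** -/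
theorem inact_or (Q : Nrm (MZ (S : Subgroup G)) (Wd (S : Subgroup G))) (hR : IsParS (S : Subgroup G) R) :
    Act (S : Subgroup G) R ∨ ∀ x ∈ im Q R, ∀ A ∈ im Q '' AsmCore.EE (S : Subgroup G) (Wd (S : Subgroup G)),
      MulAut.conj x • A ∈ im Q '' AsmCore.EE (S : Subgroup G) (Wd (S : Subgroup G)) := by
  by_cases h : Act (S : Subgroup G) R
  · exact Or.inl h
  · exact Or.inr (im_EE_of_inact Q hR ((le_MZ hR).trans MZ_norm) (inact_of hR h))

/-! ### Generation -/

theorem im_top (Q : Nrm H U) : im Q H = ⊤ := by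
  rw [eq_top_iff]
  intro x _
  obtain ⟨a, rfl⟩ := ph_surj Q x
  exact ph_mem_im Q a.2

/-- The images of groups which generate `H` generate `XH Q`. -/
theorem im_sSup (Q : Nrm H U) {PP : Set (Subgroup G)} (hP : sSup PP = H) : sSup (im Q '' PP) = ⊤ := by
  rw [← im_top Q, eq_comm]
  apply le_antisymm
  · have hle : ∀ P ∈ PP, P ≤ H := fun P h => hP ▸ le_sSup h
    -- every element of `H = sSup PP` has its image in the right hand side
    have key : ∀ x, x ∈ sSup PP → ∀ hx : x ∈ H, ph Q ⟨x, hx⟩ ∈ sSup (im Q '' PP) := by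
      intro x hx
      rw [sSup_eq_iSup', iSup_eq_closure] at hx
      refine closure_induction (p := fun x _ => ∀ hx : x ∈ H, ph Q ⟨x, hx⟩ ∈ sSup (im Q '' PP)) ?_ ?_ ?_ ?_ hx
      · intro y hy hyH
        obtain ⟨⟨P, hPP⟩, hyP⟩ := Set.mem_iUnion.1 hy
        have hle' : im Q P ≤ sSup (im Q '' PP) := le_sSup ⟨P, hPP, rfl⟩
        exact hle' (ph_mem_im Q (a := ⟨y, hyH⟩) hyP)
      · intro h1
        have e : (⟨1, h1⟩ : H) = 1 := rfl
        rw [e, map_one]
        exact one_mem _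
      · intro y z hy hz ihy ihz hyz
        have hcl : closure (⋃ P : PP, ((P : Subgroup G) : Set G)) ≤ H :=
          (closure_le _).2 (Set.iUnion_subset fun P => hle P.1 P.2)
        have e : (⟨y * z, hyz⟩ : H) = ⟨y, hcl hy⟩ * ⟨z, hcl hz⟩ := rfl
        rw [e, map_mul]
        exact mul_mem (ihy _) (ihz _)
      · intro y hy ihy hyi
        have hcl : closure (⋃ P : PP, ((P : Subgroup G) : Set G)) ≤ H :=
          (closure_le _).2 (Set.iUnion_subset fun P => hle P.1 P.2)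
        have e : (⟨y⁻¹, hyi⟩ : H) = (⟨y, hcl hy⟩ : H)⁻¹ := rfl
        rw [e, map_inv]
        exact inv_mem (ihy _)
    rintro _ ⟨a, ha, rfl⟩
    exact key a (hP.symm ▸ a.2) a.2
  · refine sSup_le ?_
    rintro _ ⟨P, hPP, rfl⟩
    exact im_mono Q (hP ▸ le_sSup hPP)

/-- **The images of the members of `P*(S)` generate `XH Q`.** -/
theorem sSup_im_PS (Q : Nrm (MZ (S : Subgroup G)) U) :
    sSup (im Q '' {P : Subgroup G | IsParS (S : Subgroup G) P}) = ⊤ := im_sSup Q rfl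

end Cfsg.Agent.Omega.NOThreeL.RRed.Blk.AsmInact
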