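import Cfsg.Agent.Mrg.Omega.NOThreeL.RRed.Blk.AsmTD
import Cfsg.Agent.Mrg.Omega.NOThreeL.RRed.WideTree
import Cfsg.Agent.Mrg.Omega.NOThreeL.RRed.ClassInst
import Cfsg.Agent.Mrg.Omega.NOThreeL.RRed.Blk.AsmRR
import Cfsg.Agent.Mrg.Omega.NOThreeL.RRed.WLeftBase

section


/-!
# NO-3L, box R: the natural blocks `WideTree.NBs` (v5) from a family `Asm.Fam` (helper877)

`Q : Nrm (MZ S) (Wd S)`, `X = XH Q`, `F : Fam (im Q S) FF N C`, `⨆ N D = ⊤`.

* `natBlk_of` : one block;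
* **`nbs_of_fam`** : `NBs S (fun b : FF => un Q (N b)) E D (fun b => un Q (brk Q.Mod b)) (fun b => Nat.card b)`.
-/

set_option autoImplicit false
set_option linter.unusedSectionVars false

namespace Cfsg.Agent.Omega.NOThreeL.RRed.Blk.AsmNBs

open Subgroup Cfsg Cfsg.Agent.ZN
open Cfsg.Agent.Omega.NOThreeL.RTree
open Cfsg.Agent.Omega.NOThreeL.Merge (MZ)
open Cfsg.Agent.Omega.NOThreeL.RSplit (Nrm)
open Cfsg.Agent.Omega.NOThreeL.RRed.NS (fxd brk mem_fxd un val_mem_un smul_eq_iff)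
open Cfsg.Agent.Omega.NOThreeL.RRed.WideTree
open Cfsg.Agent.Omega.NOThreeL.RRed.Blk.TypesGam (Bk rt NO up_mem wt)
open Cfsg.Agent.Omega.NOThreeL.RRed.Blk.TypesClo (clo up_mem_clo lo_mem_clo)
open Cfsg.Agent.Omega.NOThreeL.RRed.Blk.TypesNat (XH ph ph_smul ph_surj XH_faith im mem_im im_mono im_conj brk_im)
open Cfsg.Agent.Omega.NOThreeL.RRed.Blk.Asm (Fam NB EX EO GB)
open Cfsg.Agent.Omega.NOThreeL.RRed.Blk.AsmT
open Cfsg.Agent.Omega.NOThreeL.RRed.Blk.AsmSL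
open scoped Pointwise

universe u v

/-! ### module level -/

section mod

variable {X : Type u} {V : Type v} [Group X] [AddCommGroup V] [DistribMulAction X V]

theorem brk_conj (g : X) (D : Subgroup X) (m : V) : m ∈ brk V D ↔ g • m ∈ brk V (MulAut.conj g • D) := by
  have key : ∀ (g : X) (D : Subgroup X) (m : V), m ∈ brk V (MulAut.conj g • D) → g⁻¹ • m ∈ brk V D :=
    fun g D m h => Types.brk_cj h
  constructor
  · intro h
    have h1 := key g⁻¹ (MulAut.conj g • D) m (by rwa [← mul_smul, ← map_mul, inv_mul_cancel, map_one, one_smul])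
    rwa [inv_inv] at h1
  · intro h
    have h1 := key g D _ h
    rwa [inv_smul_smul] at h1

theorem brk_rt_eq {F : Type} [Field F] {e f : F →+ V} {C : AddSubgroup V} {up lo : F → X} (h : Bk e f C up lo)
    (h2 : ∀ v : V, v + v = 0) (hf : ∀ x : X, (∀ v : V, x • v = v) → x = 1) : brk V (rt up) = e.range :=
  le_antisymm (Asm.brk_rt_le h h2 hf) (Asm.range_le_brk h)

/-- `up 1`, `lo 1` do not commute -/
theorem up_lo_ne {F : Type} [Field F] {e f : F →+ V} {C : AddSubgroup V} {up lo : F → X} (h : Bk e f C up lo) :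
    up 1 * lo 1 ≠ lo 1 * up 1 := by
  intro h0
  have h1 : (up 1 * lo 1) • e 1 = (lo 1 * up 1) • e 1 := by rw [h0]
  rw [mul_smul, mul_smul, h.up_e, h.lo_e, smul_add, h.up_e, h.up_f, mul_one, mul_one] at h1
  have h3 : e 1 = 0 := by
    have : f 1 + e 1 = f 1 := add_left_cancel h1
    exact add_eq_left.1 this
  exact one_ne_zero (h.ind 1 0 (by rw [h3, map_zero, add_zero]; exact C.zero_mem)).1

variable {S : Subgroup X} {FF : Set (Subgroup X)} {N C : Subgroup X → AddSubgroup V}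

/-- different block groups commute -/
theorem EX_comm (H : Fam S FF N C) (hsup : ⨆ D ∈ FF, N D = ⊤) (hf : ∀ x : X, (∀ v : V, x • v = v) → x = 1)
    {D D' : Subgroup X} (hD : D ∈ FF) (hD' : D' ∈ FF) (hne : D ≠ D') {a b : X} (ha : a ∈ EX FF N D)
    (hb : b ∈ EX FF N D') : a * b = b * a := by
  have h1 : (b * a)⁻¹ * (a * b) = 1 := by
    refine hf _ fun v => ?_
    have h3 : (⨆ D ∈ FF, N D) ≤ (fxd (Subgroup.zpowers ((b * a)⁻¹ * (a * b))) : AddSubgroup V) := by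
      refine iSup₂_le fun D2 hD2 n hn => mem_fxd.2 fun y hy => ?_
      have h4 : (a * b) • n = (b * a) • n := by
        rw [mul_smul, mul_smul]
        by_cases e1 : D2 = D
        · have e2 : D2 ≠ D' := fun e => hne (e1.symm.trans e)
          rw [hb D2 hD2 e2 n hn, hb D2 hD2 e2 (a • n) (((H.EX_le hD ha) D2 hD2 n).1 hn)]
        · rw [ha D2 hD2 e1 n hn, ha D2 hD2 e1 (b • n) (((H.EX_le hD' hb) D2 hD2 n).1 hn)]
      have h2 : Subgroup.zpowers ((b * a)⁻¹ * (a * b)) ≤ MulAction.stabilizer X n := by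
        refine (Subgroup.zpowers_le).2 (MulAction.mem_stabilizer_iff.2 ?_)
        rw [mul_smul, h4, inv_smul_smul]
      exact MulAction.mem_stabilizer_iff.1 (h2 hy)
    rw [hsup] at h3
    exact mem_fxd.1 (h3 (AddSubgroup.mem_top v)) _ (Subgroup.mem_zpowers _)
  exact (inv_mul_eq_one.1 h1).symm

/-- **transport of a block by an automorphism of `(X, V)`** -/
theorem tr_le (H : Fam S FF N C) (hsup : ⨆ D ∈ FF, N D = ⊤) (h2 : ∀ v : V, v + v = 0)
    (hf : ∀ x : X, (∀ v : V, x • v = v) → x = 1) (γ : V ≃+ V)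
    (hγ : ∀ x : X, ∃ y : X, ∀ v, y • γ v = γ (x • v)) {D D₁ : Subgroup X} (hD : D ∈ FF) (hD₁ : D₁ ∈ FF)
    (h1 : ∀ x ∈ D, ∃ y ∈ D₁, ∀ v, y • γ v = γ (x • v)) : ∀ m ∈ N D, γ m ∈ N D₁ := by
  obtain ⟨F, i1, i2, e, f, up, lo, hB, rfl, hN⟩ := (H.nb D hD).ex
  obtain ⟨F₁, j1, j2, e₁, f₁, up₁, lo₁, hB₁, hrt₁, hN₁⟩ := (H.nb D₁ hD₁).ex
  -- `e`
  have he : ∀ z, γ (e z) ∈ N D₁ := by
    intro z
    obtain ⟨y, hy, hyv⟩ := h1 (up 1) (up_mem 1)
    have h3 : e z = up 1 • f z - f z := by rw [hB.up_f, one_mul]; abel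
    rw [h3, map_sub, ← hyv]
    have h4 : y • γ (f z) - γ (f z) ∈ brk V D₁ := Types.sub_mem_brk hy _
    rw [← hrt₁, brk_rt_eq hB₁ h2 hf] at h4
    rw [← hN₁]
    exact AddSubgroup.mem_sup_left h4
  -- the Weyl element
  obtain ⟨y, hy⟩ := hγ (wt up lo 1)
  obtain ⟨a, ha, hav⟩ := h1 (up 1) (up_mem 1)
  obtain ⟨D', hD', -, hp⟩ := H.perm y D₁ hD₁
  have hDD : D' = D₁ := by
    by_contra hne
    have hbE : y * a * y⁻¹ ∈ EX FF N D' := by
      intro D2 hD2 hne2 m hm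
      obtain ⟨D3, hD3, -, h4⟩ := H.perm y⁻¹ D2 hD2
      have h5 : D3 ≠ D₁ := by
        rintro rfl
        apply hne2
        refine H.inj hD2 hD' ?_
        ext n
        rw [h4 n, hp (y⁻¹ • n), smul_inv_smul]
      have h6 := H.le_EX hD₁ ha D3 hD3 h5 _ ((h4 m).1 hm)
      rw [mul_smul, mul_smul, h6, smul_inv_smul]
    have h3 := EX_comm H hsup hf hD₁ hD' (Ne.symm hne) (H.le_EX hD₁ ha) hbE
    -- `y a y⁻¹` corresponds to `lo 1`
    have hlo : wt up lo 1 * up 1 * (wt up lo 1)⁻¹ = lo 1 := by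
      have e0 : ∀ z, (wt up lo 1)⁻¹ • f z = e z := fun z => by
        rw [inv_smul_eq_iff, hB.wt_e h2 one_ne_zero, inv_one, one_mul]
      have e1 : ∀ z, (wt up lo 1)⁻¹ • e z = f z := fun z => by
        rw [inv_smul_eq_iff, hB.wt_f h2 one_ne_zero, one_mul]
      refine lo_uniq hB hf (fun z => ?_) (fun z => ?_) fun c hc => ?_
      · rw [mul_smul, mul_smul, e1, hB.up_f, smul_add, hB.wt_f h2 one_ne_zero, hB.wt_e h2 one_ne_zero]
        simp only [one_mul, inv_one]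
      · rw [mul_smul, mul_smul, e0, hB.up_e, hB.wt_e h2 one_ne_zero, inv_one, one_mul]
      · have e2 : (wt up lo 1)⁻¹ • c = c := by rw [inv_smul_eq_iff, hB.wt_c _ hc]
        rw [mul_smul, mul_smul, e2, hB.up_c _ c hc, hB.wt_c _ hc]
    have hyi : ∀ v, y⁻¹ • γ v = γ ((wt up lo 1)⁻¹ • v) := fun v => by
      rw [inv_smul_eq_iff, hy, smul_inv_smul]
    have hb : ∀ v, (y * a * y⁻¹) • γ v = γ (lo 1 • v) := fun v => by
      rw [mul_smul, mul_smul, hyi, hav, hy, ← mul_smul, ← mul_smul, hlo]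
    apply up_lo_ne hB
    have h4 : (lo 1 * up 1)⁻¹ * (up 1 * lo 1) = 1 := by
      refine hf _ fun v => ?_
      rw [mul_smul, inv_smul_eq_iff]
      apply γ.injective
      rw [mul_smul, mul_smul, ← hav, ← hb, ← hb, ← hav, ← mul_smul, ← mul_smul, h3]
    exact (inv_mul_eq_one.1 h4).symm
  have hff : ∀ z, γ (f z) ∈ N D₁ := by
    intro z
    have h3 : f z = wt up lo 1 • e z := by rw [hB.wt_e h2 one_ne_zero, inv_one, one_mul]
    rw [h3, ← hy]
    have h4 := (hp (γ (e z))).1 (he z)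
    rwa [hDD] at h4
  intro m hm
  rw [← hN] at hm
  obtain ⟨_, ⟨a, rfl⟩, _, ⟨b, rfl⟩, rfl⟩ := AddSubgroup.mem_sup.1 hm
  rw [map_add]
  exact add_mem (he a) (hff b)

end mod

/-! ### from `Q.Mod` to `G` -/

section un

variable {G : Type u} [Group G] {H U : Subgroup G} (Q : Nrm H U)

theorem un_le {B : AddSubgroup Q.Mod} : un Q B ≤ U := by
  rintro _ ⟨m, -, rfl⟩
  exact Q.val_mem m

theorem un_mono {A B : AddSubgroup Q.Mod} (h : A ≤ B) : un Q A ≤ un Q B := by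
  rintro _ ⟨m, hm, rfl⟩
  exact ⟨m, h hm, rfl⟩

theorem un_inf {A B : AddSubgroup Q.Mod} (h : ∀ m ∈ A, m ∈ B → m = 0) : un Q A ⊓ un Q B = ⊥ := by
  rw [eq_bot_iff]
  rintro x ⟨⟨m, hm, rfl⟩, h2⟩
  have h3 := h m hm ((val_mem_un Q).1 h2)
  rw [h3, Nrm.val_zero]
  exact one_mem _

theorem un_top : un Q (⊤ : AddSubgroup Q.Mod) = U :=
  le_antisymm (un_le Q) fun x hx => ⟨Q.of x hx, AddSubgroup.mem_top _, rfl⟩

theorem un_iSup {ι : Sort*} (B : ι → AddSubgroup Q.Mod) : un Q (⨆ i, B i) = ⨆ i, un Q (B i) := by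
  apply le_antisymm
  · rintro _ ⟨m, hm, rfl⟩
    have h1 : (⨆ i, B i) ≤ Q.ad (⨆ i, un Q (B i)) := by
      refine iSup_le fun i m hm => ?_
      exact (le_iSup (fun i => un Q (B i)) i) ⟨m, hm, rfl⟩
    exact h1 hm
  · exact iSup_le fun i => un_mono Q (le_iSup B i)

theorem un_conj {A B : AddSubgroup Q.Mod} {h : H} (hAB : ∀ m, m ∈ A ↔ h • m ∈ B) :
    MulAut.conj (h : G) • un Q A = un Q B := by
  apply le_antisymm
  · rintro _ ⟨_, ⟨m, hm, rfl⟩, rfl⟩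
    refine ⟨h • m, (hAB m).1 hm, ?_⟩
    rw [Nrm.val_smul]
    rfl
  · rintro _ ⟨m, hm, rfl⟩
    have h1 : h⁻¹ • m ∈ A := by rw [hAB, smul_inv_smul]; exact hm
    refine ⟨Q.val (h⁻¹ • m), ⟨_, h1, rfl⟩, ?_⟩
    change (h : G) * Q.val (h⁻¹ • m) * (h : G)⁻¹ = Q.val m
    rw [← Nrm.val_smul, smul_inv_smul]

theorem mem_cent_un {A : AddSubgroup Q.Mod} {h : H} : (h : G) ∈ centralizer (un Q A : Set G) ↔ ∀ m ∈ A, h • m = m := by
  rw [mem_centralizer_iff]
  constructor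
  · intro h1 m hm
    rw [smul_eq_iff, mul_inv_eq_iff_eq_mul]
    exact (h1 _ ⟨m, hm, rfl⟩).symm
  · rintro h1 _ ⟨m, hm, rfl⟩
    have h2 := h1 m hm
    rw [smul_eq_iff, mul_inv_eq_iff_eq_mul] at h2
    exact h2.symm

end un

/-! ### one block -/

section blk

variable {G : Type u} [Group G] {H U : Subgroup G} (Q : Nrm H U)

/-- the group over `T` -/
def ov (T : Subgroup (XH Q)) : Subgroup G := (T.comap (ph Q)).map H.subtype

theorem mem_ov {T : Subgroup (XH Q)} {g : G} : g ∈ ov Q T ↔ ∃ h : H, (h : G) = g ∧ ph Q h ∈ T := by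
  constructor
  · rintro ⟨h, hh, rfl⟩
    exact ⟨h, rfl, hh⟩
  · rintro ⟨h, rfl, hh⟩
    exact ⟨h, hh, rfl⟩

theorem ov_conj (h : H) (T : Subgroup (XH Q)) : MulAut.conj (h : G) • ov Q T = ov Q (MulAut.conj (ph Q h) • T) := by
  apply le_antisymm
  · rintro _ ⟨_, ⟨x, hx, rfl⟩, rfl⟩
    refine (mem_ov Q).2 ⟨h * x * h⁻¹, rfl, ?_⟩
    rw [map_mul, map_mul, map_inv]
    exact ⟨ph Q x, hx, rfl⟩
  · intro g hg
    obtain ⟨x, rfl, hx⟩ := (mem_ov Q).1 hg
    rw [Types.mem_cj] at hx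
    refine ⟨(h : G)⁻¹ * x * h, (mem_ov Q).2 ⟨h⁻¹ * x * h, rfl, ?_⟩, ?_⟩
    · rw [map_mul, map_mul, map_inv]
      exact hx
    · change (h : G) * ((h : G)⁻¹ * x * h) * (h : G)⁻¹ = x
      group

/-- **one block** -/
theorem natBlk_of [Finite G] {S : Subgroup G} (hS2 : IsPGroup 2 S) (h2 : ∀ v : Q.Mod, v + v = 0)
    {D T : Subgroup (XH Q)} {N C : AddSubgroup Q.Mod} (h : NBT D T N C) (hDS : D ≤ im Q S)
    (hnD : ∀ x ∈ im Q S, x ∈ T → MulAut.conj x • D = D) :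
    ∃ (F : Type) (_ : Field F) (_ : Finite F) (_ : CharP F 2) (e : G → Fin 2 → F),
      Nat.card F = Nat.card D ∧ NatBlk S (ov Q T) (un Q N) (un Q (brk Q.Mod D)) F e := by
  classical
  have hf : ∀ x : XH Q, (∀ v : Q.Mod, x • v = v) → x = 1 := fun x hx => XH_faith Q x hx
  obtain ⟨F, i1, i2, e, f, up, lo, hB, hrt, hcl, hN⟩ := h.ex
  have two := hB.two h2
  have hchar : CharP F 2 := by
    refine CharTwo.of_one_ne_zero_of_two_eq_zero one_ne_zero ?_
    have := two 1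
    rwa [one_add_one_eq_two] at this
  have hbrk : brk Q.Mod D = e.range := by rw [← hrt]; exact brk_rt_eq hB h2 hf
  -- the points
  let p : (Fin 2 → F) → G := fun w => Q.val (e (w 0) + f (w 1))
  have p_add : ∀ w w', p (w + w') = p w * p w' := fun w w' => by
    change Q.val (e (w 0 + w' 0) + f (w 1 + w' 1)) = _
    have e1 : e (w 0 + w' 0) + f (w 1 + w' 1) = (e (w 0) + f (w 1)) + (e (w' 0) + f (w' 1)) := by
      rw [map_add, map_add]; abel
    rw [e1, Nrm.val_add]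
  have p_inj : ∀ w w', p w = p w' → w = w' := fun w w' hw => by
    obtain ⟨h3, h4⟩ := vec_uniq hB (Nrm.ext hw)
    funext i
    fin_cases i
    · exact h3
    · exact h4
  have hmem : ∀ v, v ∈ un Q N ↔ ∃ w, v = p w := by
    intro v
    constructor
    · rintro ⟨m, hm, rfl⟩
      rw [← hN] at hm
      obtain ⟨_, ⟨a, rfl⟩, _, ⟨b, rfl⟩, rfl⟩ := AddSubgroup.mem_sup.1 hm
      exact ⟨![a, b], rfl⟩
    · rintro ⟨w, rfl⟩
      refine ⟨_, ?_, rfl⟩
      rw [← hN]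
      exact add_mem (AddSubgroup.mem_sup_left ⟨_, rfl⟩) (AddSubgroup.mem_sup_right ⟨_, rfl⟩)
  let co : G → Fin 2 → F := fun v => if hv : ∃ w, v = p w then Classical.choose hv else 0
  have hco : ∀ w, co (p w) = w := by
    intro w
    have hw : ∃ w', p w = p w' := ⟨w, rfl⟩
    change (if hv : ∃ w', p w = p w' then Classical.choose hv else 0) = w
    rw [dif_pos hw]
    exact (p_inj _ _ (Classical.choose_spec hw)).symm
  have hcj : ∀ (x : H) (B : Matrix.SpecialLinearGroup (Fin 2) F), SLA e f C (ph Q x) B → ∀ w,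
      (x : G) * p w * (x : G)⁻¹ = p (B.1.mulVec w) := by
    intro x B hx w
    have h3 := hx.act w
    rw [ph_smul] at h3
    change (x : G) * Q.val (e (w 0) + f (w 1)) * (x : G)⁻¹ = Q.val _
    rw [← Nrm.val_smul, h3]
  refine ⟨F, i1, i2, hchar, co, by rw [← hrt, hB.card_rt h2 hf], ?_⟩
  refine
    { mul := fun v hv w hw => ?_
      inj := fun v hv h0 => ?_
      sur := fun x => ⟨p x, (hmem _).2 ⟨x, rfl⟩, hco x⟩
      act := fun g hg => ?_
      full := fun M => ?_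
      line := fun v => ?_
      root := fun s hs => ?_
      sylow := fun c => ?_ }
  · obtain ⟨a, rfl⟩ := (hmem v).1 hv
    obtain ⟨b, rfl⟩ := (hmem w).1 hw
    rw [← p_add, hco, hco, hco]
  · obtain ⟨a, rfl⟩ := (hmem v).1 hv
    rw [hco] at h0
    rw [h0]
    change Q.val (e 0 + f 0) = 1
    rw [map_zero, map_zero, add_zero, Nrm.val_zero]
  · obtain ⟨x, rfl, hx⟩ := (mem_ov Q).1 hg
    obtain ⟨B, hBx⟩ := sla_of_clo hB (hcl.symm ▸ hx)
    refine ⟨B, fun v hv => ?_⟩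
    obtain ⟨a, rfl⟩ := (hmem v).1 hv
    rw [hcj x B hBx, hco, hco]
  · obtain ⟨x, hx, hBx⟩ := exists_sla hB M
    obtain ⟨x, rfl⟩ := ph_surj Q x
    refine ⟨x, (mem_ov Q).2 ⟨x, rfl, hcl ▸ hx⟩, fun v hv => ?_⟩
    obtain ⟨a, rfl⟩ := (hmem v).1 hv
    rw [hcj x M hBx, hco, hco]
  · rw [hbrk]
    constructor
    · rintro ⟨_, ⟨z, rfl⟩, rfl⟩
      have h3 : Q.val (e z) = p ![z, 0] := by
        change _ = Q.val (e z + f 0)
        rw [map_zero, add_zero]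
      rw [h3]
      exact ⟨(hmem _).2 ⟨_, rfl⟩, by rw [hco]; rfl⟩
    · rintro ⟨hv, h0⟩
      obtain ⟨a, rfl⟩ := (hmem v).1 hv
      rw [hco] at h0
      refine ⟨e (a 0), ⟨_, rfl⟩, ?_⟩
      change _ = Q.val (e (a 0) + f (a 1))
      rw [h0, map_zero, add_zero]
  · obtain ⟨hsS, hsT⟩ := mem_inf.1 hs
    obtain ⟨x, rfl, hx⟩ := (mem_ov Q).1 hsT
    have hxS : ph Q x ∈ im Q S := mem_im.2 ⟨x, hsS, rfl⟩
    have h3 := hnD _ hxS hx
    have h4 : ph Q x ∈ rt up := by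
      refine mem_rt_of hB hf h2 (hcl.symm ▸ hx) ?_ ?_
      · obtain ⟨n, hn⟩ := hS2 ⟨x, hsS⟩
        refine ⟨n, ?_⟩
        rw [← map_pow]
        have h5 : x ^ 2 ^ n = 1 := Subtype.ext (by
          have := congrArg Subtype.val hn
          simpa using this)
        rw [h5, map_one]
      · have h5 : e 1 ∈ brk Q.Mod D := by rw [hbrk]; exact ⟨1, rfl⟩
        rw [brk_conj (ph Q x), h3, hbrk] at h5
        obtain ⟨z, hz⟩ := h5
        exact ⟨z, hz.symm⟩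
    obtain ⟨c, hc⟩ := (hB.mem_rt h2 hf).1 h4
    refine ⟨c, fun v hv => ?_⟩
    obtain ⟨a, rfl⟩ := (hmem v).1 hv
    have h5 : SLA e f C (ph Q x) (Cfsg.Agent.Lib.SL2Mat.up c) := by rw [← hc]; exact sla_up hB c
    rw [hcj x _ h5, hco, hco, up_vec]
  · have h3 : up c ∈ im Q S := hDS (hrt ▸ up_mem c)
    obtain ⟨x, hxS, hx⟩ := mem_im.1 h3
    refine ⟨x, mem_inf.2 ⟨hxS, (mem_ov Q).2 ⟨x, rfl, ?_⟩⟩, fun v hv => ?_⟩
    · rw [hx, ← hcl]
      exact up_mem_clo _ _ _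
    · obtain ⟨a, rfl⟩ := (hmem v).1 hv
      have h5 : SLA e f C (ph Q x) (Cfsg.Agent.Lib.SL2Mat.up c) := by rw [hx]; exact sla_up hB c
      rw [hcj x _ h5, hco, hco, up_vec]

/-- conjugation by `g ∈ N(U)` on `Q.Mod` -/
def gam {g : G} (hg : g ∈ normalizer (U : Set G)) : Q.Mod ≃+ Q.Mod where
  toFun m := Q.of (g * Q.val m * g⁻¹) ((mem_normalizer_iff.1 hg _).1 (Q.val_mem m))
  invFun m := Q.of (g⁻¹ * Q.val m * g) (by
    have h1 := (mem_normalizer_iff.1 hg (g⁻¹ * Q.val m * g)).2 (by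
      have e : g * (g⁻¹ * Q.val m * g) * g⁻¹ = Q.val m := by group
      rw [e]; exact Q.val_mem m)
    exact h1)
  left_inv m := Nrm.ext (by
    rw [Nrm.val_of, Nrm.val_of]; group)
  right_inv m := Nrm.ext (by
    rw [Nrm.val_of, Nrm.val_of]; group)
  map_add' m n := Nrm.ext (by
    rw [Nrm.val_of, Nrm.val_add, Nrm.val_add, Nrm.val_of, Nrm.val_of]; group)

theorem val_gam {g : G} (hg : g ∈ normalizer (U : Set G)) (m : Q.Mod) : Q.val (gam Q hg m) = g * Q.val m * g⁻¹ := rfl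

theorem gam_smul {g : G} (hg : g ∈ normalizer (U : Set G)) (x y : H) (hxy : (y : G) = g * x * g⁻¹) (m : Q.Mod) :
    ph Q y • gam Q hg m = gam Q hg (ph Q x • m) := by
  rw [ph_smul, ph_smul]
  refine Nrm.ext ?_
  rw [Nrm.val_smul, val_gam, val_gam, Nrm.val_smul, hxy]
  group

end blk

/-! ### the theorem -/

section nbs

variable {G : Type u} [Group G] [Finite G] {S : Sylow 2 G} (Q : Nrm (MZ (S : Subgroup G)) (Wd (S : Subgroup G)))
  {FF : Set (Subgroup (XH Q))} {N C : Subgroup (XH Q) → AddSubgroup Q.Mod}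

/-- the groups `E b` -/
def Eb (FF : Set (Subgroup (XH Q))) (N : Subgroup (XH Q) → AddSubgroup Q.Mod) (b : FF) : Subgroup G :=
  MZ (S : Subgroup G) ⊓ ⨅ c : {c : FF // c ≠ b}, centralizer (un Q (N c.1) : Set G)

theorem mem_Eb {b : FF} {g : G} :
    g ∈ Eb Q FF N b ↔ g ∈ MZ (S : Subgroup G) ∧ ∀ c : FF, c ≠ b → g ∈ centralizer (un Q (N c) : Set G) := by
  rw [Eb, mem_inf, mem_iInf]
  exact and_congr_right fun _ => ⟨fun h c hc => h ⟨c, hc⟩, fun h c => h c.1 c.2⟩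

theorem mem_Eb' {b : FF} {h : MZ (S : Subgroup G)} : (h : G) ∈ Eb Q FF N b ↔ ph Q h ∈ EX FF N (b : Subgroup (XH Q)) := by
  rw [mem_Eb]
  constructor
  · rintro ⟨-, h1⟩ D' hD' hne m hm
    exact (mem_cent_un Q).1 (h1 ⟨D', hD'⟩ fun e => hne (congrArg Subtype.val e)) m hm
  · intro h1
    refine ⟨h.2, fun c hc => (mem_cent_un Q).2 fun m hm => ?_⟩
    exact h1 c c.2 (fun e => hc (Subtype.ext e)) m hm

/-- the image of `D` under `g ∈ N_G(S)` -/
theorem permN_le (hSL : (S : Subgroup G) ≤ MZ (S : Subgroup G)) (H : Fam (im Q (S : Subgroup G)) FF N C)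
    (hsup : ⨆ D ∈ FF, N D = ⊤) (h2 : ∀ v : Q.Mod, v + v = 0) {g : G} (hg : g ∈ normalizer ((S : Subgroup G) : Set G))
    {A : Subgroup G} (hA : A ≤ (S : Subgroup G)) (h1 : im Q A ∈ FF) (h3 : im Q (MulAut.conj g • A) ∈ FF) :
    MulAut.conj g • un Q (N (im Q A)) ≤ un Q (N (im Q (MulAut.conj g • A))) ∧
      MulAut.conj g • un Q (brk Q.Mod (im Q A)) ≤ un Q (brk Q.Mod (im Q (MulAut.conj g • A))) := by
  have gM : g ∈ normalizer (MZ (S : Subgroup G) : Set G) := CI.norm_MZ hg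
  have gU : g ∈ normalizer (Wd (S : Subgroup G) : Set G) := CI.norm_zl hg gM
  have hx : ∀ x : MZ (S : Subgroup G), g * x * g⁻¹ ∈ MZ (S : Subgroup G) := fun x =>
    (mem_normalizer_iff.1 gM x).1 x.2
  have k1 : ∀ x ∈ im Q A, ∃ y ∈ im Q (MulAut.conj g • A), ∀ v, y • gam Q gU v = gam Q gU (x • v) := by
    intro x hxA
    obtain ⟨a, ha, rfl⟩ := mem_im.1 hxA
    exact ⟨ph Q ⟨_, hx a⟩, mem_im.2 ⟨⟨_, hx a⟩, ⟨a, ha, rfl⟩, rfl⟩, fun v => gam_smul Q gU a _ rfl v⟩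
  have k2 := tr_le H hsup h2 (fun x hx => XH_faith Q x hx) (gam Q gU) (fun x => by
    obtain ⟨a, rfl⟩ := ph_surj Q x
    exact ⟨ph Q ⟨_, hx a⟩, fun v => gam_smul Q gU a _ rfl v⟩) h1 h3 k1
  constructor
  · rintro _ ⟨_, ⟨m, hm, rfl⟩, rfl⟩
    exact ⟨gam Q gU m, k2 m hm, rfl⟩
  · have k3 : brk Q.Mod (im Q A) ≤ (brk Q.Mod (im Q (MulAut.conj g • A))).comap (gam Q gU).toAddMonoidHom := by
      refine Types.brk_le fun x hxA v => ?_
      obtain ⟨y, hy, hyv⟩ := k1 x hxA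
      change gam Q gU (x • v - v) ∈ brk Q.Mod (im Q (MulAut.conj g • A))
      rw [map_sub, ← hyv]
      exact Types.sub_mem_brk hy _
    rintro _ ⟨_, ⟨m, hm, rfl⟩, rfl⟩
    exact ⟨gam Q gU m, k3 hm, rfl⟩

/-- **The natural blocks.** -/
theorem nbs_of_fam (hSL : (S : Subgroup G) ≤ MZ (S : Subgroup G)) (h2 : ∀ v : Q.Mod, v + v = 0)
    (hno : NO (XH Q) Q.Mod) (H : Fam (im Q (S : Subgroup G)) FF N C) (hsup : ⨆ D ∈ FF, N D = ⊤)
    (hT : Tor (im Q (S : Subgroup G)) FF N C)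
    (hn : ∀ g ∈ normalizer ((S : Subgroup G) : Set G), ∀ D ∈ FF, ∃ A ≤ (S : Subgroup G), im Q A = D ∧
      im Q (MulAut.conj g • A) ∈ FF)
    (hln : ∀ g : XH Q, ∀ D ∈ FF, ∃ D' ∈ FF, ∃ x ∈ EX FF N D', (∀ m, m ∈ N D ↔ g • m ∈ N D') ∧
      MulAut.conj g • D = MulAut.conj x • D') :
    ∃ E D : FF → Subgroup G, NBs (S : Subgroup G) (fun b : FF => un Q (N b)) E D
      (fun b : FF => un Q (brk Q.Mod (b : Subgroup (XH Q)))) fun b : FF => Nat.card (b : Subgroup (XH Q)) := by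
  have hf : ∀ x : XH Q, (∀ v : Q.Mod, x • v = v) → x = 1 := fun x hx => XH_faith Q x hx
  have : Fact (Nat.Prime 2) := ⟨Nat.prime_two⟩
  have hS2 : IsPGroup 2 (im Q (S : Subgroup G)) := by
    rw [← TypesNat.coe_imS Q S hSL]
    exact (TypesNat.imS Q S hSL).isPGroup'
  have hSi : ¬ 2 ∣ (im Q (S : Subgroup G)).index := by
    rw [← TypesNat.coe_imS Q S hSL]
    exact (TypesNat.imS Q S hSL).not_dvd_index' Subgroup.index_ne_zero_of_finite
  obtain ⟨T, hT1, hT2⟩ := exists_T H hsup h2 hf hno hS2 hSi hT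
  -- injectivity
  have hinj : ∀ b c : FF, un Q (N b) = un Q (N c) → b = c := by
    intro b c h
    refine Subtype.ext (H.inj b.2 c.2 ?_)
    ext m
    have h3 : Q.val m ∈ un Q (N b) ↔ Q.val m ∈ un Q (N c) := by rw [h]
    rwa [val_mem_un, val_mem_un] at h3
  have hconj : ∀ g ∈ MZ (S : Subgroup G), ∀ b : FF, ∃ c : FF, MulAut.conj g • un Q (N b) = un Q (N c) ∧
      Nat.card (c : Subgroup (XH Q)) = Nat.card (b : Subgroup (XH Q)) := by
    intro g hg b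
    obtain ⟨D', hD', h3, h4⟩ := H.perm (ph Q ⟨g, hg⟩) b b.2
    exact ⟨⟨D', hD'⟩, un_conj Q (h := ⟨g, hg⟩) h4, h3⟩
  have hE_le : ∀ g ∈ MZ (S : Subgroup G), ∀ b c : FF, MulAut.conj g • un Q (N b) = un Q (N c) →
      MulAut.conj g • Eb Q FF N b ≤ Eb Q FF N c := by
    intro g hg b c hbc
    rintro _ ⟨x, hx, rfl⟩
    change g * x * g⁻¹ ∈ Eb Q FF N c
    obtain ⟨hx1, hx2⟩ := (mem_Eb Q).1 hx
    refine (mem_Eb Q).2 ⟨mul_mem (mul_mem hg hx1) (inv_mem hg), fun d hd => ?_⟩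
    obtain ⟨d', hd', -⟩ := hconj g⁻¹ (inv_mem hg) d
    have h3 : MulAut.conj g • un Q (N d') = un Q (N d) := by
      rw [← hd', ← mul_smul, ← map_mul, mul_inv_cancel, map_one, one_smul]
    have h4 : d' ≠ b := by
      rintro rfl
      exact hd (hinj _ _ (by rw [← h3, hbc]))
    have h5 := hx2 d' h4
    rw [mem_centralizer_iff] at h5 ⊢
    intro y hy
    rw [SetLike.mem_coe, ← h3] at hy
    obtain ⟨z, hz, rfl⟩ := hy
    have h6 := h5 z hz
    change g * z * g⁻¹ * (g * x * g⁻¹) = g * x * g⁻¹ * (g * z * g⁻¹)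
    calc g * z * g⁻¹ * (g * x * g⁻¹) = g * (z * x) * g⁻¹ := by group
      _ = g * (x * z) * g⁻¹ := by rw [h6]
      _ = g * x * g⁻¹ * (g * z * g⁻¹) := by group
  have hE_eq : ∀ g ∈ MZ (S : Subgroup G), ∀ b c : FF, MulAut.conj g • un Q (N b) = un Q (N c) →
      MulAut.conj g • Eb Q FF N b = Eb Q FF N c := by
    intro g hg b c hbc
    refine le_antisymm (hE_le g hg b c hbc) ?_
    have h3 := hE_le g⁻¹ (inv_mem hg) c b (by
      rw [← hbc, ← mul_smul, ← map_mul, inv_mul_cancel, map_one, one_smul])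
    rw [← Subgroup.pointwise_smul_le_pointwise_smul_iff (a := MulAut.conj g⁻¹), ← mul_smul, ← map_mul, inv_mul_cancel,
      map_one, one_smul]
    exact h3
  have hsD : ∀ s ∈ (S : Subgroup G), ∀ b : FF, ∃ c : FF, MulAut.conj s • un Q (N b) = un Q (N c) ∧
      MulAut.conj s • ov Q (T b) = ov Q (T c) ∧
      MulAut.conj s • un Q (brk Q.Mod (b : Subgroup (XH Q))) = un Q (brk Q.Mod (c : Subgroup (XH Q))) := by
    intro s hs b
    let h : MZ (S : Subgroup G) := ⟨s, hSL hs⟩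
    have hsi : ph Q h ∈ im Q (S : Subgroup G) := mem_im.2 ⟨h, hs, rfl⟩
    have hD := H.sinv _ hsi b b.2
    refine ⟨⟨_, hD⟩, un_conj Q (h := h) (cj_N H b.2 hD), ?_, un_conj Q (h := h) (brk_conj _ _)⟩
    have h3 := ov_conj Q h (T b)
    rw [hT2 _ hsi b b.2] at h3
    exact h3
  refine ⟨Eb Q FF N, fun b => ov Q (T b), ?_⟩
  refine
    { dec :=
        { SL := hSL
          LU := Q.nrm
          ab := fun u hu => mem_centralizer_iff.2 fun v hv => Q.ab v hv u hu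
          sup := ?_
          ind := fun b => ?_
          ne := fun b h0 => ?_
          Rnor := fun g _ => ?_
          EL := fun b => inf_le_left
          CE := fun b x hx => ?_
          perm := fun g hg b => ?_
          EN := fun b x hx => ?_
          EC := fun b c hbc x hx => ((mem_Eb Q).1 hx).2 c hbc.symm
          ER := fun b x _ => ?_ }
      memE := fun b g => mem_Eb Q
      DE := fun b x hx => ?_
      nat := fun b => natBlk_of Q S.isPGroup' h2 (hT1 b b.2) (H.le b b.2) fun x hx hxT => ?_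
      perm := fun g hg b => hconj g hg b
      ln := fun s hs b => ?_
      sD := hsD
      permN := fun g hg b => ?_
      lnY := fun g hg b => ?_ }
  · -- sup
    rw [sup_bot_eq, ← un_iSup]
    have h3 : (⨆ b : FF, N b) = ⊤ := by rw [← hsup, iSup_subtype']
    rw [h3, un_top]
  · -- ind
    rw [sup_bot_eq, eq_bot_iff, ← un_inf Q (A := N b) (B := C b) fun m hm hc => (H.nb b b.2).inf_bot hm hc]
    refine inf_le_inf_left _ (iSup_le fun c => un_mono Q ?_)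
    exact H.ind b b.2 c.1 c.1.2 fun e => c.2 (Subtype.ext e)
  · -- ne
    refine (H.nb b b.2).ne_bot ?_
    rw [eq_bot_iff]
    intro m hm
    have h3 : Q.val m ∈ un Q (N b) := ⟨m, hm, rfl⟩
    rw [h0, mem_bot] at h3
    exact AddSubgroup.mem_bot.2 (Nrm.eq_zero_iff.2 h3)
  · rw [mem_normalizer_iff]
    intro x
    rw [mem_bot, mem_bot, conj_eq_one_iff]
  · -- CE
    refine (mem_Eb Q).2 ⟨hx.1, fun c _ => ?_⟩
    exact centralizer_le (un_le Q) hx.2
  · -- perm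
    obtain ⟨c, h3, -⟩ := hconj g hg b
    exact ⟨c, h3, hE_eq g hg b c h3⟩
  · -- EN
    have hxM := ((mem_Eb Q).1 hx).1
    have h3 : ph Q ⟨x, hxM⟩ ∈ EX FF N (b : Subgroup (XH Q)) := (mem_Eb' Q (h := ⟨x, hxM⟩)).1 hx
    have h4 := un_conj Q (h := ⟨x, hxM⟩) ((H.EX_le b.2 h3) b b.2)
    rw [mem_normalizer_iff]
    intro y
    exact Blk.conj_smul h4
  · rw [mem_centralizer_iff]
    intro y hy
    rw [SetLike.mem_coe, mem_bot] at hy
    rw [hy, one_mul, mul_one]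
  · -- DE
    obtain ⟨y, rfl, hy⟩ := (mem_ov Q).1 hx
    rw [mem_Eb', EX_eq H hsup b.2]
    exact (hT1 b b.2).le_fx hy
  · exact cj_self H hsup b.2 hx ((hT1 b b.2).le_fx hxT)
  · obtain ⟨c, -, -, h3⟩ := hsD s hs b
    exact ⟨c, h3⟩
  · -- permN
    obtain ⟨A, hA, h3, h4⟩ := hn g hg b b.2
    have h5 := permN_le Q hSL H hsup h2 hg hA (h3 ▸ b.2) h4
    have hgA : MulAut.conj g • A ≤ (S : Subgroup G) := by
      rintro _ ⟨a, ha, rfl⟩
      exact (mem_normalizer_iff.1 hg a).1 (hA ha)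
    have e1 : MulAut.conj g⁻¹ • MulAut.conj g • A = A := by
      rw [← mul_smul, ← map_mul, inv_mul_cancel, map_one, one_smul]
    have h6 := permN_le Q hSL H hsup h2 (inv_mem hg) hgA h4 (by rw [e1, h3]; exact b.2)
    rw [e1, h3] at h6
    rw [h3] at h5
    have back : ∀ B B' : Subgroup G, MulAut.conj g⁻¹ • B' ≤ B → B' ≤ MulAut.conj g • B := by
      intro B B' h
      rw [← Subgroup.pointwise_smul_le_pointwise_smul_iff (a := MulAut.conj g⁻¹), ← mul_smul, ← map_mul,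
        inv_mul_cancel, map_one, one_smul]
      exact h
    exact ⟨⟨_, h4⟩, le_antisymm h5.1 (back _ _ h6.1), le_antisymm h5.2 (back _ _ h6.2)⟩
  · -- lnY
    obtain ⟨D', hD', x, hx, h3, h4⟩ := hln (ph Q ⟨g, hg⟩) b b.2
    obtain ⟨y, rfl⟩ := ph_surj Q x
    refine ⟨⟨D', hD'⟩, y, (mem_Eb' Q).2 hx, un_conj Q (h := ⟨g, hg⟩) h3, ?_⟩
    have h5 := un_conj Q (h := ⟨g, hg⟩) (brk_conj (V := Q.Mod) (ph Q ⟨g, hg⟩) (b : Subgroup (XH Q)))
    have h6 := un_conj Q (h := y) (brk_conj (V := Q.Mod) (ph Q y) D')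
    rw [h4] at h5
    exact h5.trans h6.symm

end nbs

end Cfsg.Agent.Omega.NOThreeL.RRed.Blk.AsmNBs

end

section


/-!
# `WideTree.OneBlk` (socket of box R)

* **`oneNat : OneNat`** : one class, `Fld S`: natural blocks, `q ≥ 4`;
* **`oneBlk : OneBlk`**.
-/

set_option autoImplicit false
set_option linter.unusedSectionVars false

namespace Cfsg.Agent.Omega.NOThreeL.RRed.WideTree

open Subgroup Cfsg Cfsg.Agent.ZN Cfsg.Agent.Omega.MinPar
open Cfsg.Agent.Omega.NOThreeL.RSplit (Nrm)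
open Cfsg.Agent.Omega.NOThreeL.RRed.NS (brk un)
open Cfsg.Agent.Omega.NOThreeL.RRed.Blk.TypesNat (XH)
open Cfsg.Agent.Omega.NOThreeL.RRed.Blk.Asm
open Cfsg.Agent.Omega.NOThreeL.RRed.Blk.AsmOneBlk (EB one_fam src hn_of)
open Cfsg.Agent.Omega.NOThreeL.RRed.Blk.AsmInp (nrm_box)
open Cfsg.Agent.Omega.NOThreeL.RRed.Blk.AsmCore (im)
open Cfsg.Agent.Omega.NOThreeL.Merge (MZ le_MZ isLoc_MZ)
open Cfsg.Agent.Omega.NOThreeL.RRed.FourTree (Fld)
open scoped Pointwise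

universe u

theorem NBs.congr {G : Type u} [Group G] {S : Subgroup G} {ι : Type u} {N E D l : ι → Subgroup G} {q q' : ι → ℕ}
    (h : NBs S N E D l q) (e : ∀ b, q b = q' b) : NBs S N E D l q' := by
  obtain rfl := funext e
  exact h

theorem Src.congr {G : Type u} [Group G] {S : Subgroup G} {ι : Type u} {N l : ι → Subgroup G} {q q' : ι → ℕ}
    (h : Src S N l q) (e : ∀ b, q b = q' b) : Src S N l q' := by
  obtain rfl := funext e
  exact h

/-- **Natural blocks for one class.** -/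
theorem oneNat : OneNat.{u} := by
  intro G _ _ S hW hm hCM hF _
  have B := hW.toRB
  have Q : Nrm (MZ (S : Subgroup G)) (zl (S : Subgroup G) (MZ (S : Subgroup G))) := nrm_box B
  have hL := isLoc_MZ B.ctx B.full B.data.noff
  have hSL : (S : Subgroup G) ≤ MZ (S : Subgroup G) := hL.le
  obtain ⟨hI, hFam, hGB, ⟨D₀, hD₀⟩, ⟨q, hq, hcard⟩, hsup, hTD⟩ :=
    one_fam B hm (fun U => hCM.irr PUnit.unit U) hF Q
  have h4 : ∀ D ∈ EB S Q, 4 ≤ Nat.card D := fun D hD => (hcard D hD).symm ▸ hq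
  obtain ⟨E, D, h⟩ := Blk.AsmNBs.nbs_of_fam Q hSL hI.two hI.hno hFam hsup
    (fun D hD _ => ⟨D, hD, 1, by rw [map_one, one_smul], hTD D hD⟩)
    (fun g hg D hD => hn_of hg hD)
    (fun g D hD => Blk.Asm.Fam.ln (Blk.TypesNat.imS Q S hSL) hFam hGB le_rfl
      (fun A hA g => Blk.AsmG.EEc Q hSL A hA g) g hD)
  have hs := src B hm hI hFam hGB h4
  exact ⟨EB S Q, inferInstance, _, E, D, _, q, hq, ⟨⟨D₀, hD₀⟩⟩, h.congr fun b => hcard b.1 b.2,
    hs.congr fun b => hcard b.1 b.2⟩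

/-- **`OneBlk`.** -/
theorem oneBlk : OneBlk.{u} := oneBlk_of oneNat

end Cfsg.Agent.Omega.NOThreeL.RRed.WideTree

end
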