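import Cfsg.Agent.Mrg.Omega.NOThreeL.RRed.Blk.AsmTwoC
import Cfsg.Agent.Mrg.Omega.NOThreeL.RRed.Blk.AsmSL
import Cfsg.Agent.Mrg.Omega.NOThreeL.RRed.Blk.AsmCore
import Cfsg.Agent.Mrg.Omega.NOThreeL.RRed.Blk.AsmCard
import Cfsg.Agent.Mrg.Omega.NOThreeL.RRed.NS.Two
import Cfsg.Agent.Mrg.Omega.NOThreeL.RRed.TvOrbs
import Cfsg.Agent.Mrg.Omega.NOThreeL.RRed.LeftThree

section


/-!
# NO-3L, box R: the `𝔽₂`-blocks with three letters, the group `T` (field `sD` of `NBs`)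

`F : Full S M V N E R₀ Om phi`, `|Ω_b| = 3`.

* `nbt` : `Asm.NBT` with `T = im Q (E b)`;
* **`td_two`** : `AsmT.TD (im Q S) (im Q (S ⊓ E b)) (Q.ad (N b)) (Q.ad (Co N R₀ b))`.
-/

set_option autoImplicit false
set_option linter.unusedSectionVars false

namespace Cfsg.Agent.Omega.NOThreeL.RRed.Blk.AsmTwo

open Subgroup Cfsg
open Cfsg.Agent.Omega.NOThreeL.RRed.TvFin (Full)
open Cfsg.Agent.Omega.NOThreeL.RRed.Blk
open Cfsg.Agent.Omega.NOThreeL.RRed.Blk.AsmTwoC (smul_of_norm)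
open Cfsg.Agent.Omega.NOThreeL.RSplit (Nrm)
open Cfsg.Agent.Omega.NOThreeL.RRed.Blk.TypesNat (XH ph im mem_im im_conj im_mono)
open Cfsg.Agent.Omega.NOThreeL.RRed.Blk.AsmT (NBT TD)
open scoped Pointwise

universe u

variable {G : Type u} [Group G] [Finite G] {S : Sylow 2 G} {M V : Subgroup G} {I : Type u} {N E : I → Subgroup G}
    {R₀ : Subgroup G} {Om : I → Type u} [∀ i, Fintype (Om i)] [∀ i, DecidableEq (Om i)] {phi : ∀ i, Finset (Om i) → G}
    (F : Full (S : Subgroup G) M V N E R₀ Om phi) (Q : Nrm M V)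
include F

theorem nbt {b : I} (hc : Fintype.card (Om b) = 3) :
    NBT (im Q ((S : Subgroup G) ⊓ E b)) (im Q (E b)) (Q.ad (N b)) (Q.ad (Co N R₀ b)) := by
  obtain ⟨e, f, up, lo, h1, h2, h3, h4⟩ := bk F Q hc
  exact ⟨ZMod 2, inferInstance, inferInstance, e, f, up, lo, h1, h2, h4, h3⟩

/-- `S` permutes the root groups and the groups `E b` in the same way -/
theorem smul_im {s : XH Q} (hs : s ∈ im Q (S : Subgroup G)) (b : I) :
    ∃ c, MulAut.conj s • im Q ((S : Subgroup G) ⊓ E b) = im Q ((S : Subgroup G) ⊓ E c) ∧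
      MulAut.conj s • im Q (E b) = im Q (E c) := by
  obtain ⟨g, hg, rfl⟩ := mem_im.1 hs
  obtain ⟨c, -, h2⟩ := F.perm g g.2 b
  refine ⟨c, ?_, ?_⟩
  · rw [← im_conj, Subgroup.smul_inf, h2, smul_of_norm (le_normalizer hg)]
  · rw [← im_conj, h2]

theorem td_two {b : I} (hc : Fintype.card (Om b) = 3) :
    TD (im Q (S : Subgroup G)) (im Q ((S : Subgroup G) ⊓ E b)) (Q.ad (N b)) (Q.ad (Co N R₀ b)) := by
  refine ⟨_, nbt F Q hc, fun s hs h => ?_⟩
  obtain ⟨c, h1, h2⟩ := smul_im F Q hs b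
  rw [h1] at h
  rw [h2, im_inj F Q h]

end Cfsg.Agent.Omega.NOThreeL.RRed.Blk.AsmTwo

end

section


/-!
# NO-3L, box R: the active small `P ∈ P*(S)` and the blocks of three letters (helper559)

`F : Full S L V N E R₀ Om phi`, `|Ω_b| = 3` for all `b`.

* `cover`, `even_three` : the even subsets of a set with three elements;
* `same_blk` : two transvections of `L` on `V` which do not commute lie in one `E b`;
* **`nat_blk`** : `M : NatKM K S P V' D k`, `|K| = 2`, `t ∈ S` a transvection on `V` which acts as a root element of the block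
  `j` of `M`: `blk M j = N b`, `YY h j = ⟨Ω_b - {p}⟩ = C_{N b}(S ∩ E b)`, `DD M j = 1` for some `b`;
* **`no_sym`** : `P` is not of symmetric type.
-/

set_option autoImplicit false
set_option linter.unusedSectionVars false

namespace Cfsg.Agent.Omega.NOThreeL.RRed.Blk.SrcTwo

open Subgroup Cfsg Cfsg.Agent.ZN Cfsg.Agent.Omega.MinPar
open Cfsg.Agent.Omega.FFThm Cfsg.Agent.Lib.SL2Mat Cfsg.Agent.Omega.NatPair
open Cfsg.Agent.Omega.FrameFF (cv)
open Cfsg.Agent.Omega.NO3S.ThmB Cfsg.Agent.Omega.NO3S.KeyRad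
open Cfsg.Agent.Omega.NOThreeL.RRed.NS (DD YY mem_YY)
open Cfsg.Agent.Omega.NOThreeL.RRed.TvFin (Full TvV)
open Cfsg.Agent.Omega.NOThreeL.RRed.Blk (Dec Co IsC)
open Cfsg.Agent.Omega.KL.TwoS (Rel Lett)
open scoped Pointwise

universe u

section letters

variable {G : Type u} [Group G] {Ω : Type u} [Fintype Ω] [DecidableEq Ω] {N E : Subgroup G} {φ : Finset Ω → G}

theorem even_three (h3 : Fintype.card Ω = 3) {s : Finset Ω} (hs : Even s.card) :
    s = ∅ ∨ ∃ r, s = Finset.univ.erase r := by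
  have h1 : s.card ≤ 3 := by rw [← h3]; exact Finset.card_le_univ s
  have h2 : s.card = 0 ∨ s.card = 2 := by
    obtain ⟨k, hk⟩ := hs
    omega
  rcases h2 with h | h
  · exact Or.inl (Finset.card_eq_zero.1 h)
  · right
    have h4 : sᶜ.card = 1 := by rw [Finset.card_compl, h3, h]
    obtain ⟨r, hr⟩ := Finset.card_eq_one.1 h4
    refine ⟨r, ?_⟩
    rw [← compl_compl s, hr, Finset.compl_singleton]

theorem pair_eq (h3 : Fintype.card Ω = 3) {x y : Ω} (hxy : x ≠ y) : ∃ r, ({x, y} : Finset Ω) = Finset.univ.erase r := by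
  rcases even_three h3 (s := {x, y}) (by rw [Finset.card_pair hxy]; exact even_two) with h | h
  · exact absurd h (Finset.insert_ne_empty x {y})
  · exact h

theorem symm_erase (h3 : Fintype.card Ω = 3) {p q r : Ω} (hpq : p ≠ q) (hrp : r ≠ p) (hrq : r ≠ q) :
    Finset.univ.erase r = symmDiff (Finset.univ.erase p) (Finset.univ.erase q) := by
  have h1 : ({p, q, r} : Finset Ω) = Finset.univ := by
    refine Finset.eq_univ_of_card _ ?_
    rw [h3, Finset.card_insert_of_notMem, Finset.card_pair (Ne.symm hrq)]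
    simp only [Finset.mem_insert, Finset.mem_singleton, not_or]
    exact ⟨hpq, Ne.symm hrp⟩
  ext x
  have hx : x = p ∨ x = q ∨ x = r := by
    have := Finset.mem_univ x
    rw [← h1] at this
    simpa using this
  rw [Finset.mem_symmDiff]
  rcases hx with rfl | rfl | rfl
  · simp [hpq, Ne.symm hrp]
  · simp [Ne.symm hpq, Ne.symm hrq]
  · simp [hrp, hrq]

theorem cover (L : Lett N E φ) (h3 : Fintype.card Ω = 3) {p q : Ω} (hpq : p ≠ q) {w : G} (hw : w ∈ N) :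
    w = 1 ∨ w = φ (Finset.univ.erase p) ∨ w = φ (Finset.univ.erase q) ∨
      w = φ (Finset.univ.erase p) * φ (Finset.univ.erase q) := by
  obtain ⟨s, hs, rfl⟩ := (L.mem _).1 hw
  rcases even_three h3 hs with rfl | ⟨r, rfl⟩
  · exact Or.inl L.phi_empty
  · by_cases hrp : r = p
    · rw [hrp]; exact Or.inr (Or.inl rfl)
    by_cases hrq : r = q
    · rw [hrq]; exact Or.inr (Or.inr (Or.inl rfl))
    · right; right; right
      rw [← L.mul, symm_erase h3 hpq hrp hrq]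

end letters

variable {G : Type u} [Group G] {S L V : Subgroup G} {I : Type u} {N E : I → Subgroup G} {R₀ : Subgroup G} {Om : I → Type u}
    [∀ i, Fintype (Om i)] [∀ i, DecidableEq (Om i)] {phi : ∀ i, Finset (Om i) → G}

/-- two transvections which do not commute: one block -/
theorem same_blk (F : Full S L V N E R₀ Om phi) (h3 : ∀ b, Fintype.card (Om b) = 3) {t t' c c' : G} (ht : t ∈ L)
    (ht' : t' ∈ L) (hc : c ∈ V) (hc' : c' ∈ V) (hT : TvV V c t) (hT' : TvV V c' t') (hn : t ∉ centralizer (V : Set G))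
    (hn' : t' ∉ centralizer (V : Set G)) (hne : t' * c * t'⁻¹ ≠ c) :
    ∃ b, ∃ p q : Om b, p ≠ q ∧ t ∈ E b ∧ t' ∈ E b ∧ c = phi b (Finset.univ.erase p) ∧
      c' = phi b (Finset.univ.erase q) ∧ t * c * t⁻¹ = c := by
  obtain ⟨b, htE, x, y, hxy, rfl, hr⟩ := F.tvs t ht c hc hT hn
  obtain ⟨b', htE', x', y', hxy', rfl, hr'⟩ := F.tvs t' ht' c' hc' hT' hn'
  have L := F.lett b
  have hcN : phi b {x, y} ∈ N b := (L.mem _).2 ⟨_, by rw [Finset.card_pair hxy]; exact even_two, rfl⟩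
  have hbb : b = b' := by
    by_contra hbb
    exact hne (Blk.cent (F.EC b' b (Ne.symm hbb) htE') hcN)
  subst hbb
  obtain ⟨p, hp⟩ := pair_eq (h3 b) hxy
  obtain ⟨q, hq⟩ := pair_eq (h3 b) hxy'
  refine ⟨b, p, q, ?_, htE, htE', by rw [hp], by rw [hq], ?_⟩
  · rintro rfl
    apply hne
    rw [hp, ← hq, L.pair hr' hxy', Equiv.swap_apply_left, Equiv.swap_apply_right, Finset.pair_comm]
  · rw [L.pair hr hxy, Equiv.swap_apply_left, Equiv.swap_apply_right, Finset.pair_comm]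

section nat

variable {K : Type} [Field K] [CharP K 2] {P V' D : Subgroup G} {k : ℕ} {M : NatKM K S P V' D k} (h : Nb M)

/-- the centre of a root element -/
theorem e_ctr {t c : G} {j : Fin k} {β : K} (hV' : V' ≤ V) (hA : ActsSL M.e V' D t (sg j (up β))) (htP : t ∈ P) (hc : c ∈ V')
    (hT : TvV V c t) (hn : ∃ v ∈ V', t * v * t⁻¹ ≠ v) (h : Nb M) :
    (∀ l, l ≠ j → M.e c l = 0) ∧ M.e c j 1 = 0 ∧ M.e c j 0 ≠ 0 ∧ β ≠ 0 ∧ ∃ v ∈ V', c = t * v * t⁻¹ * v⁻¹ := by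
  obtain ⟨v, hv, hne⟩ := hn
  have h1 : t * v * t⁻¹ = v * c := (hT v (hV' hv)).resolve_left hne
  have h2 : M.e (v * c) = M.e v + M.e c := M.mul v hv c hc
  have h3 : ∀ l, M.e v l + M.e c l = ap (sg j (up β) l) (M.e v l) := by
    intro l
    have := hA.1 v hv l
    rw [h1, h2, Pi.add_apply] at this
    exact this
  have hl : ∀ l, l ≠ j → M.e c l = 0 := by
    intro l hl
    have h4 := h3 l
    rw [sg_ne hl, ap_one] at h4
    exact add_eq_left.1 h4
  have hj := h3 j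
  rw [sg_self] at hj
  have hj1 : M.e c j 1 = 0 := by
    have h4 := congrFun hj 1
    rw [Pi.add_apply, ap_up_1] at h4
    exact add_eq_left.1 h4
  have hβ : β ≠ 0 := by
    intro hβ
    apply hne
    have h8 : sg j (up β) = (1 : Fin k → Matrix.SpecialLinearGroup (Fin 2) K) := by rw [hβ, up_zero, sg_one]
    rw [h8] at hA
    rw [h.comm_of_one htP hA hv]; group
  have hD : c ∉ D := by
    intro hcD
    have h5 : M.e c = 0 := (M.ker c hc).2 hcD
    obtain ⟨w, hw, hwj, -⟩ := Nb.exists_single M j ![0, 1]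
    have h6 : M.e (t * w * t⁻¹) j = M.e w j := by
      rcases hT w (hV' hw) with h7 | h7
      · rw [h7]
      · rw [h7, M.mul w hw c hc, h5, add_zero]
    have h7 := congrFun (hA.1 w hw j) 0
    rw [h6, sg_self, ap_up_0, hwj] at h7
    apply hβ
    simpa using h7.symm
  refine ⟨hl, hj1, fun h0 => hD ((M.ker c hc).1 ?_), hβ, v, hv, ?_⟩
  · funext l
    by_cases hlj : l = j
    · rw [hlj]
      exact vec_eq h0 hj1
    · exact hl l hlj
  · rw [h1, h.cm hv hc]; group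

/-- the second transvection -/
theorem exists_sec {t c : G} {j : Fin k} {β : K} (hV' : V' ≤ V) (hPV : P ≤ normalizer (V : Set G))
    (hA : ActsSL M.e V' D t (sg j (up β))) (htP : t ∈ P) (hc : c ∈ V')
    (hT : TvV V c t) (hn : ∃ v ∈ V', t * v * t⁻¹ ≠ v) (h : Nb M) :
    ∃ t' ∈ P, ∃ c' ∈ V', TvV V c' t' ∧ (∃ v ∈ V', t' * v * t'⁻¹ ≠ v) ∧ (∃ γ, γ ≠ 0 ∧ ActsSL M.e V' D t' (sg j (lo γ))) ∧
      t' * c * t'⁻¹ ≠ c ∧ M.e c' j 0 = 0 ∧ M.e c' j 1 ≠ 0 ∧ ∃ v ∈ V', c' = t' * v * t'⁻¹ * v⁻¹ := by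
  obtain ⟨h1, h2, h3, hβ, v, hv, hcv⟩ := e_ctr hV' hA htP hc hT hn h
  obtain ⟨p, hp, hpA⟩ := M.lift (sg j (wm 1 one_ne_zero))
  have hA' := h.acts_mul (inv_mem hp) (h.acts_mul htP hpA hA) (h.acts_inv hp hpA)
  have e1 : sg j (wm (1 : K) one_ne_zero) * sg j (up β) * (sg j (wm (1 : K) one_ne_zero))⁻¹ = sg j (lo (-β)) := by
    rw [← sg_mul, wm_up, mul_inv_eq_iff_eq_mul, ← sg_mul]
    congr 3
    rw [one_pow, div_one]
  rw [e1] at hA'
  have hT' : TvV V (p * c * p⁻¹) (p * t * p⁻¹) := by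
    intro w hw
    have hw' : p⁻¹ * w * p ∈ V := by
      have := (mem_normalizer_iff.1 (inv_mem (hPV hp)) w).1 hw
      rwa [inv_inv] at this
    have e2 : p * t * p⁻¹ * w * (p * t * p⁻¹)⁻¹ = p * (t * (p⁻¹ * w * p) * t⁻¹) * p⁻¹ := by group
    rcases hT _ hw' with h4 | h4
    · left; rw [e2, h4]; group
    · right; rw [e2, h4]; group
  have hcp : M.e (p * c * p⁻¹) j = ap (wm 1 one_ne_zero) (M.e c j) := by
    rw [hpA.1 c hc j, sg_self]
  have e0 : M.e (p * c * p⁻¹) j 0 = 0 := by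
    rw [hcp, ap_zero', h2, wm_00]; ring
  have e1' : M.e (p * c * p⁻¹) j 1 ≠ 0 := by
    rw [hcp, ap_one', h2, wm_10]
    simpa using h3
  refine ⟨p * t * p⁻¹, mul_mem (mul_mem hp htP) (inv_mem hp), p * c * p⁻¹, h.memV hp hc, hT', ?_, ⟨-β, neg_ne_zero.2 hβ, hA'⟩, ?_,
    e0, e1', p * v * p⁻¹, h.memV hp hv, ?_⟩
  · refine ⟨p * v * p⁻¹, h.memV hp hv, fun h4 => ?_⟩
    have h5 : p * (t * v * t⁻¹) * p⁻¹ = p * v * p⁻¹ := by rw [← h4]; group
    have h6 : t * v * t⁻¹ = v := mul_left_cancel (mul_right_cancel h5)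
    have h7 : c = 1 := by rw [hcv, h6, mul_inv_cancel]
    apply h3
    rw [h7, Nb.e_one (M := M)]; rfl
  · intro h4
    have h5 := congrFun (hA'.1 c hc j) 1
    rw [h4, sg_self, ap_lo_1] at h5
    have h6 : -β * M.e c j 0 = 0 := by
      have h7 : M.e c j 1 = -β * M.e c j 0 + M.e c j 1 := h5
      exact left_eq_add.1 (by rw [add_comm] at h7; exact h7)
    rcases mul_eq_zero.1 h6 with h7 | h7
    · exact hβ (neg_eq_zero.1 h7)
    · exact h3 h7
  · rw [hcv]; group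

theorem inv_sg (j : Fin k) (A : Matrix.SpecialLinearGroup (Fin 2) K) : (sg j A)⁻¹ = sg j A⁻¹ :=
  inv_eq_of_mul_eq_one_right (by rw [← sg_mul, mul_inv_cancel, sg_one])

/-- **`blk M j` is a block of letters** -/
theorem nat_blk (F : Full S L V N E R₀ Om phi) (h3 : ∀ b, Fintype.card (Om b) = 3) (h : Nb M)
    (hK : ∀ x : K, x = 0 ∨ x = 1) (hV' : V' ≤ V) (hPL : P ≤ L) {t c : G} {j : Fin k} {β : K}
    (hA : ActsSL M.e V' D t (sg j (up β))) (htP : t ∈ P) (hc : c ∈ V') (hT : TvV V c t)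
    (hn : ∃ v ∈ V', t * v * t⁻¹ ≠ v) :
    ∃ b, blk M j = N b ∧ DD M j = ⊥ ∧ t ∈ E b ∧ ∃ p, c = phi b (Finset.univ.erase p) ∧ YY h j = zpowers c := by
  obtain ⟨-, h1, h2, hβ, v₁, hv₁, hcv⟩ := e_ctr hV' hA htP hc hT hn h
  obtain ⟨t', ht'P, c', hc', hT', hn', ⟨γ, hγ, hA'⟩, hne, h4, h5, v₂, hv₂, hcv'⟩ :=
    exists_sec hV' (hPL.trans F.LU) hA htP hc hT hn h
  have nc : ∀ x : G, (∃ v ∈ V', x * v * x⁻¹ ≠ v) → x ∉ centralizer (V : Set G) := by
    rintro x ⟨v, hv, hx⟩ hxc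
    exact hx (Blk.cent hxc (hV' hv))
  obtain ⟨b, p, q, hpq, htE, ht'E, hcp, hcq, -⟩ := same_blk F h3 (hPL htP) (hPL ht'P) (hV' hc) (hV' hc') hT hT' (nc t hn)
    (nc t' hn') hne
  have hβ1 : β = 1 := (hK β).resolve_left hβ
  have hγ1 : γ = 1 := (hK γ).resolve_left hγ
  have hcB : c ∈ blk M j := by rw [hcv]; exact mem_blk htP hA hv₁
  have hc'B : c' ∈ blk M j := by rw [hcv']; exact mem_blk ht'P hA' hv₂
  have hcov : ∀ w ∈ N b, w = 1 ∨ w = c ∨ w = c' ∨ w = c * c' := by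
    intro w hw
    have := cover (F.lett b) (h3 b) hpq hw
    rwa [← hcp, ← hcq] at this
  have hecc : M.e (c * c') j = M.e c j + M.e c' j := by rw [M.mul c hc c' hc', Pi.add_apply]
  -- all single factors are induced by `E b`
  have hX : ∀ A : Matrix.SpecialLinearGroup (Fin 2) K, ∃ g ∈ P, g ∈ E b ∧ ActsSL M.e V' D g (sg j A) := by
    intro A
    have hA0 : A ∈ closure (Set.range up ∪ Set.range lo : Set (Matrix.SpecialLinearGroup (Fin 2) K)) := by
      rw [Cfsg.Agent.Omega.NOThreeL.RRed.Blk.SplitNat.closure_up_lo]; exact mem_top A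
    refine closure_induction (p := fun A _ => ∃ g ∈ P, g ∈ E b ∧ ActsSL M.e V' D g (sg j A)) ?_ ?_ ?_ ?_ hA0
    · rintro _ (⟨x, rfl⟩ | ⟨x, rfl⟩)
      · rcases hK x with rfl | rfl
        · exact ⟨1, one_mem _, one_mem _, by rw [up_zero, sg_one]; exact Nb.acts_one⟩
        · exact ⟨t, htP, htE, by rw [← hβ1]; exact hA⟩
      · rcases hK x with rfl | rfl
        · exact ⟨1, one_mem _, one_mem _, by rw [lo_zero, sg_one]; exact Nb.acts_one⟩
        · exact ⟨t', ht'P, ht'E, by rw [← hγ1]; exact hA'⟩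
    · exact ⟨1, one_mem _, one_mem _, by rw [sg_one]; exact Nb.acts_one⟩
    · rintro x y - - ⟨g, hg, hgE, hgA⟩ ⟨g', hg', hgE', hgA'⟩
      exact ⟨g * g', mul_mem hg hg', mul_mem hgE hgE', by rw [sg_mul]; exact h.acts_mul hg' hgA hgA'⟩
    · rintro x - ⟨g, hg, hgE, hgA⟩
      exact ⟨g⁻¹, inv_mem hg, inv_mem hgE, by rw [← inv_sg]; exact h.acts_inv hg hgA⟩
  have hblk : blk M j = N b := by
    apply le_antisymm
    · rw [blk, closure_le]
      rintro _ ⟨g, hg, A, hgA, v, hv, rfl⟩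
      obtain ⟨g', hg', hgE', hgA'⟩ := hX A
      rw [h.same hg hg' hgA hgA' hv]
      obtain ⟨n, hn1, hn2⟩ := F.toDec.ex_comp b (hV' hv)
      have hm : g' * (n⁻¹ * v) * g'⁻¹ = n⁻¹ * v := Blk.cent (LeftThree.cent_Co F.toDec b hgE') hn2
      have e : g' * v * g'⁻¹ * v⁻¹ = (g' * n * g'⁻¹) * (g' * (n⁻¹ * v) * g'⁻¹) * v⁻¹ := by group
      rw [e, hm]
      have e2 : g' * n * g'⁻¹ * (n⁻¹ * v) * v⁻¹ = (g' * n * g'⁻¹) * n⁻¹ := by group
      rw [e2]
      exact mul_mem (Blk.conj_of (F.EN b hgE') hn1) (inv_mem hn1)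
    · intro w hw
      rcases hcov w hw with rfl | rfl | rfl | rfl
      · exact one_mem _
      · exact hcB
      · exact hc'B
      · exact mul_mem hcB hc'B
  refine ⟨b, hblk, ?_, htE, p, hcp, ?_⟩
  · rw [eq_bot_iff]
    rintro w ⟨hw, hwD⟩
    have hw' : w ∈ N b := by rw [← hblk]; exact hw
    have hz : M.e w = 0 := (M.ker w (blk_le h j hw)).2 hwD
    rw [mem_bot]
    rcases hcov w hw' with rfl | rfl | rfl | rfl
    · rfl
    · exfalso; apply h2; rw [hz]; rfl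
    · exfalso; apply h5; rw [hz]; rfl
    · exfalso
      rw [hz] at hecc
      have h6 := congrFun hecc 0
      rw [Pi.add_apply, h4, add_zero] at h6
      exact h2 h6.symm
  · apply le_antisymm
    · rintro w ⟨hw, hw1⟩
      have hw' : w ∈ N b := by rw [← hblk]; exact hw
      rcases hcov w hw' with rfl | rfl | rfl | rfl
      · exact one_mem _
      · exact mem_zpowers _
      · exact absurd hw1 h5
      · exfalso
        rw [hecc, Pi.add_apply, h1, zero_add] at hw1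
        exact h5 hw1
    · rw [zpowers_le]
      exact ⟨hcB, h1⟩

end nat

/-- a permutation of three letters with two fixed letters -/
theorem eq_one_of_two {Ω : Type u} [Fintype Ω] [DecidableEq Ω] (h3 : Fintype.card Ω = 3) {p r : Ω} (hpr : p ≠ r)
    {σ : Equiv.Perm Ω} (hσp : σ p = p) (hσr : σ r = r) : σ = 1 := by
  ext x
  by_contra hx
  have hx' : σ x ≠ x := hx
  have hxp : x ≠ p := fun e => hx' (by rw [e]; exact hσp)
  have hxr : x ≠ r := fun e => hx' (by rw [e]; exact hσr)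
  have h5 : ({p, r, x} : Finset Ω) = Finset.univ := by
    refine Finset.eq_univ_of_card _ ?_
    rw [h3, Finset.card_insert_of_notMem, Finset.card_pair (Ne.symm hxr)]
    simp only [Finset.mem_insert, Finset.mem_singleton, not_or]
    exact ⟨hpr, Ne.symm hxp⟩
  have h6 : σ x ∈ ({p, r, x} : Finset Ω) := by rw [h5]; exact Finset.mem_univ _
  simp only [Finset.mem_insert, Finset.mem_singleton] at h6
  rcases h6 with h6 | h6 | h6
  · exact hxp (σ.injective (h6.trans hσp.symm))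
  · exact hxr (σ.injective (h6.trans hσr.symm))
  · exact hx' h6

/-- an element of `E b` which is trivial on the letters centralises `V` -/
theorem cent_of_one (F : Full S L V N E R₀ Om phi) {b : I} {t : G} (ht : t ∈ E b) (hσ : Rel (phi b) t 1) :
    t ∈ centralizer (V : Set G) := by
  have h5 := (F.lett b).cent_of_one hσ
  rw [mem_centralizer_iff]
  intro v hv
  obtain ⟨n, hn1, hn2⟩ := F.toDec.ex_comp b hv
  have h6 := mem_centralizer_iff.1 h5 n hn1
  have h7 := mem_centralizer_iff.1 (LeftThree.cent_Co F.toDec b ht) _ hn2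
  have e : v = n * (n⁻¹ * v) := by group
  rw [e, mul_assoc, h7, ← mul_assoc, h6, mul_assoc]

/-- the letter fixed by a transposition of `S ⊓ E b` is fixed by `S ⊓ E b` -/
theorem fix_p [Finite G] (F : Full S L V N E R₀ Om phi) (h3 : ∀ b, Fintype.card (Om b) = 3) (hS : IsPGroup 2 S) {b : I} {t : G}
    (htS : t ∈ S) (htE : t ∈ E b) (hn : t ∉ centralizer (V : Set G)) {p : Om b}
    (hc : t * phi b (Finset.univ.erase p) * t⁻¹ = phi b (Finset.univ.erase p)) :
    ∀ s ∈ S ⊓ E b, ∀ σ, Rel (phi b) s σ → σ p = p := by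
  obtain ⟨p₀, hp₀⟩ := Blk.exists_fix (T := S ⊓ E b) (F.lett b) (F.three b) inf_le_right (hS.to_le inf_le_left)
  obtain ⟨σ, hσ⟩ := (F.lett b).act t htE
  have h1 : σ p = p := ((F.lett b).fix_iff hσ p).1 hc
  have h2 : σ p₀ = p₀ := hp₀ t (mem_inf.2 ⟨htS, htE⟩) σ hσ
  have h4 : p₀ = p := by
    by_contra hne
    rw [eq_one_of_two (h3 b) hne h2 h1] at hσ
    exact hn (cent_of_one F htE hσ)
  rw [← h4]
  exact hp₀

/-- `C_{N b}(S ∩ E b) = ⟨Ω_b - {p}⟩` -/
theorem line_eq (F : Full S L V N E R₀ Om phi) (h3 : ∀ b, Fintype.card (Om b) = 3) {b : I} {t : G}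
    (htS : t ∈ S) (htE : t ∈ E b) (hn : t ∉ centralizer (V : Set G)) {p : Om b}
    (hp : ∀ s ∈ S ⊓ E b, ∀ σ, Rel (phi b) s σ → σ p = p) :
    N b ⊓ centralizer ((S ⊓ E b : Subgroup G) : Set G) = zpowers (phi b (Finset.univ.erase p)) := by
  have hN : phi b (Finset.univ.erase p) ∈ N b := ((F.lett b).mem _).2 ⟨_, (F.lett b).even_erase p, rfl⟩
  apply le_antisymm
  · rintro w ⟨hw, hwc⟩
    obtain ⟨s, hs, rfl⟩ := ((F.lett b).mem _).1 hw
    rcases even_three (h3 b) hs with rfl | ⟨r, rfl⟩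
    · rw [(F.lett b).phi_empty]; exact one_mem _
    · obtain ⟨σ, hσ⟩ := (F.lett b).act t htE
      have h1 : σ p = p := hp t (mem_inf.2 ⟨htS, htE⟩) σ hσ
      have h2 : σ r = r := ((F.lett b).fix_iff hσ r).1 (by
        rw [mem_centralizer_iff.1 hwc t (mem_inf.2 ⟨htS, htE⟩)]; group)
      by_cases hrp : r = p
      · rw [hrp]; exact mem_zpowers _
      · exfalso
        rw [eq_one_of_two (h3 b) hrp h2 h1] at hσ
        exact hn (cent_of_one F htE hσ)
  · rw [zpowers_le, mem_inf, mem_centralizer_iff]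
    refine ⟨hN, fun s hs => ?_⟩
    obtain ⟨σ, hσ⟩ := (F.lett b).act s (mem_inf.1 hs).2
    have h1 := ((F.lett b).fix_iff hσ p).2 (hp s hs σ hσ)
    exact mul_inv_eq_iff_eq_mul.1 h1

/-- three transvections: a path of commuting and non-commuting ones needs four letters -/
theorem no_path (F : Full S L V N E R₀ Om phi) (h3 : ∀ b, Fintype.card (Om b) = 3) {t₁ t₂ t₃ c₁ c₂ c₃ : G} (h1 : t₁ ∈ L)
    (h2 : t₂ ∈ L) (h3' : t₃ ∈ L) (hc1 : c₁ ∈ V) (hc2 : c₂ ∈ V) (hc3 : c₃ ∈ V) (T1 : TvV V c₁ t₁) (T2 : TvV V c₂ t₂)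
    (T3 : TvV V c₃ t₃) (n1 : t₁ ∉ centralizer (V : Set G)) (n2 : t₂ ∉ centralizer (V : Set G))
    (n3 : t₃ ∉ centralizer (V : Set G)) (h12 : t₂ * c₁ * t₂⁻¹ ≠ c₁) (h23 : t₃ * c₂ * t₃⁻¹ ≠ c₂)
    (h13 : t₁ * c₃ * t₁⁻¹ = c₃) (hne : c₁ ≠ c₃) : False := by
  obtain ⟨b, p, q, hpq, e1, e2, hp, hq, htc⟩ := same_blk F h3 h1 h2 hc1 hc2 T1 T2 n1 n2 h12
  obtain ⟨b', q', r, hqr, e2', e3, hq', hr, -⟩ := same_blk F h3 h2 h3' hc2 hc3 T2 T3 n2 n3 h23
  have hNb : c₂ ∈ N b := by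
    rw [hq]; exact ((F.lett b).mem _).2 ⟨_, (F.lett b).even_erase q, rfl⟩
  have hNb' : c₂ ∈ N b' := by
    rw [hq']; exact ((F.lett b').mem _).2 ⟨_, (F.lett b').even_erase q', rfl⟩
  have hbb : b' = b := by
    by_contra hbb
    have h4 : c₂ ∈ N b ⊓ Co N R₀ b := mem_inf.2 ⟨hNb, F.toDec.N_le_Co hbb hNb'⟩
    rw [show N b ⊓ Co N R₀ b = ⊥ from F.toDec.ind b, mem_bot] at h4
    have h5 := Blk.erase_ne_one (F.lett b) (F.three b) q
    exact h5 (by rw [← hq, h4])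
  subst hbb
  have Lb := F.lett b'
  obtain ⟨σ, hσ⟩ := Lb.act t₁ e1
  have hσp : σ p = p := (Lb.fix_iff hσ p).1 (by rw [← hp]; exact htc)
  have hσr : σ r = r := (Lb.fix_iff hσ r).1 (by rw [← hr]; exact h13)
  have hpr : p ≠ r := by
    rintro rfl
    exact hne (by rw [hp, hr])
  exact n1 (cent_of_one F e1 (by rw [eq_one_of_two (h3 b') hpr hσp hσr] at hσ; exact hσ))

section sym

variable {P V' D : Subgroup G} {k m : ℕ} {M : SymKM S P V' D k m} (h : Sb M)
include h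

/-- **the symmetric type needs four letters** -/
theorem no_sym (F : Full S L V N E R₀ Om phi) (h3 : ∀ b, Fintype.card (Om b) = 3) (hV' : V' ≤ V) (hPL : P ≤ L) {t c : G}
    {i : Fin k} {x y : Fin (2 ^ m + 1)} (hxy : x ≠ y) (hA : Ac M t (pr i x y)) (htP : t ∈ P) (hc : c ∈ V')
    (hT : TvV V c t) : False := by
  classical
  obtain ⟨z, w, hzw, hzx, hzy, -, hwx, hwy, -⟩ := h.exists_ne x y x
  have hsw : pr i x y i = Equiv.swap x y := sg_self i _
  -- the centre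
  obtain ⟨v, hv, hve⟩ := Sb.exists_pair M i x z
  have h1 := Sb.e_pair hA.1 hv hve
  rw [hsw, Equiv.swap_apply_left, Equiv.swap_apply_of_ne_of_ne hzx hzy] at h1
  have hvne : t * v * t⁻¹ ≠ v := by
    intro h4
    rw [h4, hve] at h1
    have h5 := congrFun (congrFun h1 i) x
    rw [Pi.add_apply, Pi.add_apply, Pi.add_apply, Pi.add_apply, dl_self, dl_ne i (Ne.symm hzx), dl_ne i hxy] at h5
    revert h5; decide
  have hvc := (hT v (hV' hv)).resolve_left hvne
  have hce : M.e c = dl i x + dl i y := by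
    have h4 := M.mul v hv c hc
    rw [← hvc, h1, hve] at h4
    have h5 : M.e c = dl i x + dl i z + (dl i y + dl i z) := by
      rw [h4, ← add_assoc, add_self2, zero_add]
    rw [h5]
    have h6 : dl i x + dl i z + (dl i y + dl i z) = dl i x + dl i y + (dl i z + dl i z) := by abel
    rw [h6, add_self2, add_zero]
  -- the conjugates
  have hcj : ∀ g ∈ P, ∀ τ, Ac M g τ → g * t * g⁻¹ ∈ P ∧ g * c * g⁻¹ ∈ V' ∧ TvV V (g * c * g⁻¹) (g * t * g⁻¹) ∧
      g * t * g⁻¹ ∉ centralizer (V : Set G) ∧ M.e (g * c * g⁻¹) = dl i (τ i x) + dl i (τ i y) ∧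
        Ac M (g * t * g⁻¹) (pr i (τ i x) (τ i y)) := by
    intro g hg τ hτ
    refine ⟨mul_mem (mul_mem hg htP) (inv_mem hg), h.memV hg hc, ?_, ?_, Sb.e_pair hτ.1 hc hce, ?_⟩
    · intro u hu
      have hu' : g⁻¹ * u * g ∈ V := by
        have := (mem_normalizer_iff.1 (inv_mem ((hPL.trans F.LU) hg)) u).1 hu
        rwa [inv_inv] at this
      have e2 : g * t * g⁻¹ * u * (g * t * g⁻¹)⁻¹ = g * (t * (g⁻¹ * u * g) * t⁻¹) * g⁻¹ := by group
      rcases hT _ hu' with h4 | h4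
      · left; rw [e2, h4]; group
      · right; rw [e2, h4]; group
    · intro h4
      apply hvne
      have h5 := Blk.cent h4 (hV' (h.memV hg hv))
      have e2 : g * t * g⁻¹ * (g * v * g⁻¹) * (g * t * g⁻¹)⁻¹ = g * (t * v * t⁻¹) * g⁻¹ := by group
      rw [e2] at h5
      exact mul_left_cancel (mul_right_cancel h5)
    · have h4 := h.ac_mul (inv_mem hg) (h.ac_mul htP hτ hA) (h.ac_inv hg hτ)
      have e2 : τ * pr i x y * τ⁻¹ = pr i (τ i x) (τ i y) := by
        funext l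
        by_cases hl : l = i
        · subst hl
          rw [Pi.mul_apply, Pi.mul_apply, Pi.inv_apply, pr, pr, sg_self, sg_self, Equiv.swap_apply_apply]
        · rw [Pi.mul_apply, Pi.mul_apply, Pi.inv_apply, pr, pr, sg_ne hl, sg_ne hl, mul_one, mul_inv_cancel]
      rw [e2] at h4
      exact h4
  obtain ⟨f, hf1, hf2⟩ := exists_perm hxy (Ne.symm hzy)
  obtain ⟨f', hf1', hf2'⟩ := exists_perm hxy hzw
  obtain ⟨g, hg, hgτ⟩ := M.lift (sg i f)
  obtain ⟨g', hg', hgτ'⟩ := M.lift (sg i f')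
  obtain ⟨a1, a2, a3, a4, a5, a6⟩ := hcj g hg _ hgτ
  obtain ⟨b1, b2, b3, b4, b5, b6⟩ := hcj g' hg' _ hgτ'
  rw [sg_self, hf1, hf2] at a5 a6
  rw [sg_self, hf1', hf2'] at b5 b6
  have tn : t ∉ centralizer (V : Set G) := fun h4 => hvne (Blk.cent h4 (hV' hv))
  have one_ne : (1 : ZMod 2) ≠ 0 := by decide
  refine no_path F h3 (hPL htP) (hPL a1) (hPL b1) (hV' hc) (hV' a2) (hV' b2) hT a3 b3 tn a4 b4 ?_ ?_ ?_ ?_
  · -- `(y z)` moves `{x, y}`
    intro h4
    have h5 := Sb.e_pair a6.1 hc hce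
    rw [h4, hce, pr, sg_self, Equiv.swap_apply_of_ne_of_ne hxy (Ne.symm hzx), Equiv.swap_apply_left] at h5
    have h6 := congrFun (congrFun h5 i) z
    rw [Pi.add_apply, Pi.add_apply, Pi.add_apply, Pi.add_apply, dl_ne i hzx, dl_ne i hzy, dl_self, zero_add, zero_add] at h6
    exact one_ne h6.symm
  · -- `(z w)` moves `{y, z}`
    intro h4
    have h5 := Sb.e_pair b6.1 a2 a5
    rw [h4, a5, pr, sg_self, Equiv.swap_apply_of_ne_of_ne (Ne.symm hzy) (Ne.symm hwy), Equiv.swap_apply_left] at h5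
    have h6 := congrFun (congrFun h5 i) w
    rw [Pi.add_apply, Pi.add_apply, Pi.add_apply, Pi.add_apply, dl_ne i hwy, dl_ne i (Ne.symm hzw), dl_self, zero_add,
      zero_add] at h6
    exact one_ne h6.symm
  · -- `(x y)` fixes `{z, w}`
    rcases hT _ (hV' b2) with h4 | h4
    · exact h4
    exfalso
    have h5 := Sb.e_pair hA.1 b2 b5
    rw [h4, M.mul _ b2 _ hc, b5, hce, pr, sg_self, Equiv.swap_apply_of_ne_of_ne hzx hzy,
      Equiv.swap_apply_of_ne_of_ne hwx hwy] at h5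
    have h6 := congrFun (congrFun (add_eq_left.1 h5) i) x
    rw [Pi.add_apply, Pi.add_apply, dl_self, dl_ne i hxy, add_zero] at h6
    exact one_ne h6
  · intro h4
    rw [← h4, hce] at b5
    have h6 := congrFun (congrFun b5 i) x
    rw [Pi.add_apply, Pi.add_apply, Pi.add_apply, Pi.add_apply, dl_self, dl_ne i hxy, dl_ne i (Ne.symm hzx),
      dl_ne i (Ne.symm hwx), add_zero, add_zero] at h6
    exact one_ne h6

end sym

section main

variable [Finite G] {S : Sylow 2 G} {L P : Subgroup G} {I : Type u} {N E : I → Subgroup G} {R₀ : Subgroup G}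
    {Om : I → Type u} [∀ i, Fintype (Om i)] [∀ i, DecidableEq (Om i)] {phi : ∀ i, Finset (Om i) → G}

open Cfsg.Agent.Omega.NOThreeL.RRed.Blk.AsmCore (EP EE EP_cj)

/-- **A small active `P` and the blocks of three letters**: `P` is natural over `𝔽₂`, its blocks are blocks `N b`. -/
theorem act_two (hG : IsCharacteristicTwoType G) (hL : IsLoc (S : Subgroup G) L) (hP : IsParS (S : Subgroup G) P)
    (hPL : P ≤ L) (no : NoOverM (zl (S : Subgroup G) L) L)
    (F : Full (S : Subgroup G) L (zl (S : Subgroup G) L) N E R₀ Om phi) (h3 : ∀ b, Fintype.card (Om b) = 3)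
    (h2 : Two2 S P) (ne : (EP (S : Subgroup G) P (zl (S : Subgroup G) L)).Nonempty) :
    ∃ (K : Type) (_ : Field K) (_ : Finite K) (_ : CharP K 2) (k : ℕ) (_ : 0 < k)
      (M : NatKM K (S : Subgroup G) P (zl (S : Subgroup G) P) (cv (S : Subgroup G) P) k) (h : Nb M),
      Nat.card K = 2 ∧ (∀ j, DD M j = ⊥) ∧ ∀ j, ∃ b, N b = blk M j ∧
        YY h j = N b ⊓ centralizer (((S : Subgroup G) ⊓ E b : Subgroup G) : Set G) ∧
        (∃ t ∈ (S : Subgroup G) ⊓ E b, t ∉ centralizer (zl (S : Subgroup G) L : Set G)) ∧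
        ∃ p, (∀ s ∈ (S : Subgroup G) ⊓ E b, ∀ σ, Rel (phi b) s σ → σ p = p) ∧
          YY h j = zpowers (phi b (Finset.univ.erase p)) := by
  have hVU : zl (S : Subgroup G) P ≤ zl (S : Subgroup G) L := NOThreeL.Star.zl_mono _ hPL
  have hU2 := FFThm.elem_zl hG S hL
  obtain ⟨A, hA⟩ := ne
  have hAL : A ≤ L := hA.1.1.trans (hP.le.trans hPL)
  have hTt := NS.tt_of_mx hA.1.2 no hAL
  rcases h2 with ⟨K, _, _, k, hK, hk, ⟨M⟩⟩ | ⟨k, m, hk, hm, ⟨M⟩⟩
  · have : Finite K := Nat.finite_of_card_ne_zero (by rw [hK]; norm_num)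
    have h := Inst.nb hG hP M
    obtain ⟨i, O⟩ := hTt.one h hU2 hVU hA.1.1 hA.2
    have key : ∀ j, ∃ b, blk M j = N b ∧ DD M j = ⊥ ∧
        (∃ t ∈ (S : Subgroup G) ⊓ E b, t ∉ centralizer (zl (S : Subgroup G) L : Set G)) ∧
        ∃ p, (∀ s ∈ (S : Subgroup G) ⊓ E b, ∀ σ, Rel (phi b) s σ → σ p = p) ∧
          YY h j = zpowers (phi b (Finset.univ.erase p)) := by
      intro j
      have hPU : P ≤ normalizer (zl (S : Subgroup G) L : Set G) := hPL.trans F.LU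
      obtain ⟨s, hs, hsS, -, O'⟩ := NS.exists_cj h hU2 hVU hPU hA.1.1 hTt O j
      have hA' : ChoiceBase.cj s A ∈ EP (S : Subgroup G) P (zl (S : Subgroup G) L) := by
        have := EP_cj hP.le hs (hPU (hP.le hs)) hA
        rwa [NS.conj_eq_cj] at this
      have g := AsmSmall.gone_of_EP hG hL hP hPL no hA'
      obtain ⟨t, ht, c, hc, hc1, hT, hn⟩ := g.tv hG (Or.inl ⟨K, inferInstance, inferInstance, k, hK, hk, ⟨M⟩⟩)
      obtain ⟨β, hβ⟩ := O'.act t ht
      have htS : t ∈ (S : Subgroup G) := hsS ht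
      have hn' : ∃ v ∈ zl (S : Subgroup G) P, t * v * t⁻¹ ≠ v := by
        by_contra hcon
        push Not at hcon
        apply hn
        apply g.cent
        refine mem_inf.2 ⟨ht, mem_centralizer_iff.2 fun v hv => ?_⟩
        exact (mul_inv_eq_iff_eq_mul.1 (hcon v hv)).symm
      obtain ⟨b, h4, h5, h6, p, h7, h8⟩ := nat_blk F h3 h (two_of_card hK) hVU hPL hβ (hP.le htS) hc hT hn'
      refine ⟨b, h4, h5, ⟨t, mem_inf.2 ⟨htS, h6⟩, hn⟩, p, ?_, by rw [h8, h7]⟩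
      refine fix_p F h3 S.isPGroup' htS h6 hn ?_
      rw [← h7]
      rcases hT c (hVU hc) with h9 | h9
      · exact h9
      · exfalso
        apply hc1
        have h10 : c * c = 1 := by rw [← pow_two]; exact hU2.2 c (hVU hc)
        rw [h10] at h9
        have h11 : t * c * t⁻¹ = t * 1 * t⁻¹ := by rw [h9]; group
        exact mul_left_cancel (mul_right_cancel h11)
    refine ⟨K, inferInstance, inferInstance, inferInstance, k, hk, M, h, hK, fun j => ?_, fun j => ?_⟩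
    · obtain ⟨b, -, h5, -⟩ := key j
      exact h5
    · obtain ⟨b, h4, -, ⟨t, ht, hn⟩, p, hp, h8⟩ := key j
      refine ⟨b, h4.symm, ?_, ⟨t, ht, hn⟩, p, hp, h8⟩
      rw [h8, line_eq F h3 (mem_inf.1 ht).1 (mem_inf.1 ht).2 hn hp]
  · exfalso
    have h := Inst.sb hG hP hm M
    obtain ⟨i, x, y, t, n0, O⟩ := NS.Tt.oneS h hTt hU2 hVU hA.1.1 hA.2
    have g := AsmSmall.gone_of_EP hG hL hP hPL no hA
    obtain ⟨t₀, ht₀, c, hc, hc1, hT, hn⟩ := g.tv hG (Or.inr ⟨k, m, hk, hm, ⟨M⟩⟩)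
    have h4 : t⁻¹ * t₀ ∈ centralizer (zl (S : Subgroup G) L : Set G) := (O.act t₀ ht₀).resolve_left hn
    have hT' : TvV (zl (S : Subgroup G) L) c t := by
      intro w hw
      have h5 := Blk.cent h4 hw
      have h6 : t * w * t⁻¹ = t₀ * w * t₀⁻¹ := by
        have e : t₀ * w * t₀⁻¹ = t * (t⁻¹ * t₀ * w * (t⁻¹ * t₀)⁻¹) * t⁻¹ := by group
        rw [e, h5]
      rw [h6]
      exact hT w hw
    exact no_sym h F h3 hVU hPL O.xy O.tt (hP.le (hA.1.1 O.tA)) hc hT'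

end main

end Cfsg.Agent.Omega.NOThreeL.RRed.Blk.SrcTwo

end
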