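import Cfsg.Agent.Mrg.Omega.NOThreeL.RRed.Blk.AsmCls
import Cfsg.Agent.Mrg.Omega.NOThreeL.RRed.Blk.SrcMix
import Cfsg.Agent.Mrg.Omega.NOThreeL.RRed.Blk.AsmNBs
import Cfsg.Agent.Mrg.Omega.NOThreeL.RRed.Blk.AsmSL
import Cfsg.Agent.Mrg.Omega.NOThreeL.RRed.Blk.AsmCore
import Cfsg.Agent.Mrg.Omega.NOThreeL.RRed.Blk.AsmOf
import Cfsg.Agent.Mrg.Omega.NOThreeL.RRed.Blk.TypesAway
import Cfsg.Agent.Mrg.Omega.NOThreeL.RRed.WideTree
import Cfsg.Agent.PLocal.OffenderStep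

section


/-!
# NO-3L, box R, the left case: the blocks (helper283)

* **`fin`** : if the blocks of letters have three letters: `NBs`, `Src`, `Fits` for the mixed family.
-/

set_option autoImplicit false
set_option linter.unusedSectionVars false

namespace Cfsg.Agent.Omega.NOThreeL.RRed.Blk.AsmLeftB

open Subgroup Cfsg Cfsg.Agent.ZN Cfsg.Agent.Omega.MinPar
open Cfsg.Agent.Omega.FFThm (NatKM SymKM NoOverM)
open Cfsg.Agent.Omega.FrameFF (cv)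
open Cfsg.Agent.Omega.NO3S.ThmB (Nb)
open Cfsg.Agent.Omega.NO3S.KeyRad (blk)
open Cfsg.Agent.Omega.NOThreeL.RSplit (Nrm)
open Cfsg.Agent.Omega.NOThreeL.RRed.NS (fxd brk mem_fxd un val_mem_un DD YY)
open Cfsg.Agent.Omega.NOThreeL.RRed.WideTree (Act MvAct Src NBs Fits CM)
open Cfsg.Agent.Omega.NOThreeL.RTree (RB)
open Cfsg.Agent.Omega.NOThreeL.Merge (MZ le_MZ isLoc_MZ)
open Cfsg.Agent.Omega.NOThreeL.RRed.TvFin (Full)
open Cfsg.Agent.Omega.NOThreeL.RRed.Blk (Dec Co)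
open Cfsg.Agent.Omega.NOThreeL.RRed.Blk.TypesNat (XH ph ph_smul XH_faith ph_eq ph_surj no_XH)
open Cfsg.Agent.Omega.NOThreeL.RRed.Blk.Asm
open Cfsg.Agent.Omega.NOThreeL.RRed.Blk.AsmCore (EP KP im)
open Cfsg.Agent.Omega.NOThreeL.RRed.Blk.AsmG (Inp RRs)
open Cfsg.Agent.Omega.NOThreeL.RRed.Blk.AsmTwo (NF_im NF)
open Cfsg.Agent.Omega.NOThreeL.RRed.Blk.AsmOneBlk (EB nat_fam rrs_sub)
open Cfsg.Agent.Omega.NOThreeL.RRed.Blk.AsmCls
open Cfsg.Agent.Omega.NOThreeL.RRed.Blk.AsmCov (Sml cover atom_of)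
open scoped Pointwise

universe u

variable {G : Type u} [Group G] [Finite G] {S : Sylow 2 G} {ι : Type u} {W : ι → Subgroup G}
  {I : Type u} [Finite I] {N E : I → Subgroup G} {R₀ : Subgroup G} {Om : I → Type u} [∀ i, Fintype (Om i)]
  [∀ i, DecidableEq (Om i)] {phi : ∀ i, Finset (Om i) → G}

/-- the image of a transposition -/
theorem im_atom (Q : Nrm (MZ (S : Subgroup G)) (Wd (S : Subgroup G)))
    (F : Full (S : Subgroup G) (MZ (S : Subgroup G)) (Wd (S : Subgroup G)) N E R₀ Om phi)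
    (h3 : ∀ b, Fintype.card (Om b) = 3) (h2 : ∀ v : Q.Mod, v + v = 0) {b : I} {s : G}
    (hs : s ∈ (S : Subgroup G) ⊓ E b) (hc : Nat.card (im Q (zpowers s)) = 2) :
    im Q (zpowers s) = im Q ((S : Subgroup G) ⊓ E b) := by
  refine Subgroup.eq_of_le_of_card_ge (AsmCore.im_mono Q (zpowers_le.2 hs)) ?_
  rw [hc]
  exact (AsmTwo.card_im F Q (h3 b) h2).le

/-- **The blocks in the left case, three letters.** -/
theorem fin (B : RB S) (mv : MvAct (S : Subgroup G)) (h : CM (S : Subgroup G) W)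
    (no : NoOverM (zl (S : Subgroup G) (MZ (S : Subgroup G))) (MZ (S : Subgroup G)))
    (Q : Nrm (MZ (S : Subgroup G)) (zl (S : Subgroup G) (MZ (S : Subgroup G))))
    (F : Full (S : Subgroup G) (MZ (S : Subgroup G)) (Wd (S : Subgroup G)) N E R₀ Om phi)
    (sm : Sml (S : Subgroup G) Q N E) (h3 : ∀ b, Fintype.card (Om b) = 3) :
    ∃ (κ : Type u) (_ : Finite κ) (N' E' D' l : κ → Subgroup G) (q : κ → ℕ) (side : κ → ι),
      NBs (S : Subgroup G) N' E' D' l q ∧ Src (S : Subgroup G) N' l q ∧ Fits N' W side := by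
  have hSL : (S : Subgroup G) ≤ MZ (S : Subgroup G) := (isLoc_MZ B.ctx B.full B.data.noff).le
  obtain ⟨hI, h4, hGB, hF, hTD⟩ := nat_fam B mv no Q
  have h2 : ∀ v : Q.Mod, v + v = 0 := hI.two
  have hf : ∀ x : XH Q, (∀ v : Q.Mod, x • v = v) → x = 1 := hI.hf
  have hC : Cls (XH Q) (fun i => Q.ad (W i)) := cls_of (irr_of h) Q
  have h₂ : Fam (im Q (S : Subgroup G)) (AsmTwo.FF S E Q) (NF S E Q N) (NF S E Q (Co N R₀)) := AsmTwo.fam F Q h3 h2
  have c2 : ∀ D ∈ AsmTwo.FF S E Q, Nat.card D = 2 := by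
    rintro _ ⟨b, rfl⟩
    exact AsmTwo.card_im F Q (h3 b) h2
  have e2 : AsmTwo.FF S E Q ⊆ EB S Q := by
    rintro _ ⟨b, rfl⟩
    obtain ⟨i, hi⟩ := ClsBlk.exists_le (irr_of h) F b
    obtain ⟨s, hs, h5, h6, -⟩ := atom_of h Q F sm hi
    exact ⟨zpowers s, h5, im_atom Q F h3 h2 hs h6⟩
  have hc₁ : ∀ D ∈ RRs S (MZ (S : Subgroup G)) Q, ∃ i, Cl (fun i => Q.ad (W i)) D i :=
    fun D hD => cl_EE h Q D (rrs_sub hD)
  have hc₂ : ∀ D ∈ AsmTwo.FF S E Q, ∃ i, Cl (fun i => Q.ad (W i)) D i := fun D hD => cl_EE h Q D (e2 hD)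
  have c3 : ∀ D ∈ AsmTwo.FF S E Q, Nat.card D < 4 := fun D hD => by rw [c2 D hD]; omega
  obtain ⟨mF, mC, mT⟩ := Cls.mix (W := fun i => Q.ad (W i)) hC h2 hf hF hGB h4 h₂ e2 c3 hc₁ hc₂
  have hne : ∀ i, ∃ D ∈ RRs S (MZ (S : Subgroup G)) Q ∪ AsmTwo.FF S E Q, Cl (fun i => Q.ad (W i)) D i := by
    intro i
    rcases cover B mv h Q F sm i with ⟨D, hD, hi⟩ | ⟨b, hb⟩
    · exact ⟨D, Or.inl hD, hi⟩
    · obtain ⟨s, hs, h5, h6, h7⟩ := atom_of h Q F sm hb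
      rw [im_atom Q F h3 h2 hs h6] at h7
      exact ⟨_, Or.inr ⟨b, rfl⟩, h7⟩
  have hsup := mT hne
  have hTor : AsmT.Tor (im Q (S : Subgroup G)) (RRs S (MZ (S : Subgroup G)) Q ∪ AsmTwo.FF S E Q)
      (uN (RRs S (MZ (S : Subgroup G)) Q) (NN (EB S Q) Q.Mod) (NF S E Q N))
      (uN (RRs S (MZ (S : Subgroup G)) Q) (CC (EB S Q) Q.Mod) (NF S E Q (Co N R₀))) := by
    rintro D (hD | hD) h5
    · exact ⟨D, Or.inl hD, 1, by rw [map_one, one_smul], by rw [uN_pos hD, uN_pos hD]; exact hTD D hD⟩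
    · rw [c2 D hD] at h5
      omega
  obtain ⟨E', D', hNB⟩ := AsmNBs.nbs_of_fam Q hSL h2 hI.hno mF hsup hTor
    (fun g hg D hD => MixLn.hn_mix F hSL Q h2 h3 hg hD) (fun g D hD => MixLn.hln_mix B mv no Q mF hsup c2 g hD)
  have hcl : ∀ b : ↥(RRs S (MZ (S : Subgroup G)) Q ∪ AsmTwo.FF S E Q), ∃ i, Cl (fun i => Q.ad (W i)) (b : Subgroup (XH Q)) i := by
    rintro ⟨D, hD | hD⟩
    · exact hc₁ D hD
    · exact hc₂ D hD
  choose side hside using hcl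
  refine ⟨↥(RRs S (MZ (S : Subgroup G)) Q ∪ AsmTwo.FF S E Q), inferInstance, _, E', D', _, _, side, hNB,
    SrcMix.src_mixed B mv Q no F h3, fun i => ?_⟩
  have h5 := congrArg (un Q) (mC i (hne i))
  rw [AsmUn.un_ad Q ((irr_of h).le i), AsmUn.un_iSup₂] at h5
  rw [← h5]
  apply le_antisymm
  · refine iSup₂_le fun D hD => ?_
    have h0 : D ≠ ⊥ := fun h0 => (mF.nb D hD.1).move fun d hd m _ => by
      rw [h0, Subgroup.mem_bot] at hd
      rw [hd, one_smul]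
    have h6 : side ⟨D, hD.1⟩ = i := hC.uniq hf (hside ⟨D, hD.1⟩) hD.2 h0
    exact le_iSup (fun b : {b : ↥(RRs S (MZ (S : Subgroup G)) Q ∪ AsmTwo.FF S E Q) // side b = i} =>
      un Q (uN (RRs S (MZ (S : Subgroup G)) Q) (NN (EB S Q) Q.Mod) (NF S E Q N) (b.1 : Subgroup (XH Q)))) ⟨⟨D, hD.1⟩, h6⟩
  · refine iSup_le ?_
    rintro ⟨b, hb⟩
    have h7 : Cl (fun i => Q.ad (W i)) (b : Subgroup (XH Q)) i := by rw [← hb]; exact hside b
    exact le_iSup₂ (f := fun (D : Subgroup (XH Q)) (_ : D ∈ {D | D ∈ RRs S (MZ (S : Subgroup G)) Q ∪ AsmTwo.FF S E Q ∧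
      Cl (fun i => Q.ad (W i)) D i}) => un Q (uN (RRs S (MZ (S : Subgroup G)) Q) (NN (EB S Q) Q.Mod) (NF S E Q N) D))
      (b : Subgroup (XH Q)) ⟨b.2, h7⟩

end Cfsg.Agent.Omega.NOThreeL.RRed.Blk.AsmLeftB

end

section


/-!
# NO-3L, box R: the field `nat` of `NBs` from `NBT`

`Q : Nrm H U`, `S ≤ H` a 2-group, `D ≤ im Q S` the root group of the natural block `N` of `Q.Mod`, `T = clo up lo`.

* `pre Q T` : the preimage of `T ≤ XH Q` in `G`;
* **`natBlk_of`** : `NatBlk S (pre Q T) (un Q N) (un Q [V, D]) F e`, `|F| = |D|`.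
-/

set_option autoImplicit false
set_option linter.unusedSectionVars false

namespace Cfsg.Agent.Omega.NOThreeL.RRed.Blk.AsmNatBlk

open Subgroup Cfsg Cfsg.Agent.ZN
open Cfsg.Agent.Omega.NOThreeL.RSplit (Nrm)
open Cfsg.Agent.Omega.NOThreeL.RRed.NS (fxd brk un val_mem_un)
open Cfsg.Agent.Omega.NOThreeL.RRed.WideTree (NatBlk)
open Cfsg.Agent.Omega.NOThreeL.RRed.Blk.TypesGam (Bk rt up_mem)
open Cfsg.Agent.Omega.NOThreeL.RRed.Blk.TypesClo (clo)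
open Cfsg.Agent.Omega.NOThreeL.RRed.Blk.TypesNat (XH ph ph_smul XH_faith ph_surj two_of)
open Cfsg.Agent.Omega.NOThreeL.RRed.Blk.AsmSL
open Cfsg.Agent.Omega.NOThreeL.RRed.Blk.AsmT (NBT TD)

open scoped Pointwise

universe u

variable {G : Type u} [Group G] {H U : Subgroup G}

/-- the preimage in `G` -/
def pre (Q : Nrm H U) (T : Subgroup (XH Q)) : Subgroup G := (T.comap (ph Q)).map H.subtype

theorem mem_pre {Q : Nrm H U} {T : Subgroup (XH Q)} {x : G} : x ∈ pre Q T ↔ ∃ hx : x ∈ H, ph Q ⟨x, hx⟩ ∈ T := by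
  constructor
  · rintro ⟨y, hy, rfl⟩
    exact ⟨y.2, hy⟩
  · rintro ⟨hx, h⟩
    exact ⟨⟨x, hx⟩, h, rfl⟩

/-- **The field `nat`.** -/
theorem natBlk_of [Finite G] (Q : Nrm H U) (hU2 : IsElementaryAbelian 2 U) {S : Subgroup G} (hSH : S ≤ H)
    (hS2 : IsPGroup 2 S) {D T : Subgroup (XH Q)} {N C : AddSubgroup Q.Mod} (h : NBT D T N C)
    (hD : D ≤ AsmCore.im Q S) :
    ∃ (F : Type) (_ : Field F) (_ : Finite F) (_ : CharP F 2) (e : G → Fin 2 → F),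
      Nat.card F = Nat.card D ∧ NatBlk S (pre Q T) (un Q N) (un Q (brk Q.Mod D)) F e := by
  classical
  obtain ⟨F, i1, i2, e, f, up, lo, hB, rfl, rfl, rfl⟩ := h.ex
  have h2 : ∀ v : Q.Mod, v + v = 0 := two_of Q hU2
  have hf : ∀ x : XH Q, (∀ v : Q.Mod, x • v = v) → x = 1 := fun x hx => XH_faith Q x hx
  have hch : CharP F 2 := by
    refine CharTwo.of_one_ne_zero_of_two_eq_zero one_ne_zero ?_
    have := hB.two h2 1
    rwa [one_add_one_eq_two] at this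
  -- vectors
  let m : (Fin 2 → F) → Q.Mod := fun w => e (w 0) + f (w 1)
  have hm : ∀ w, m w = e (w 0) + f (w 1) := fun _ => rfl
  have m_inj : ∀ w w', m w = m w' → w = w' := fun w w' h1 => by
    obtain ⟨h3, h4⟩ := vec_uniq hB h1
    funext i
    fin_cases i
    · exact h3
    · exact h4
  have m_add : ∀ w w', m w + m w' = m (w + w') := fun w w' => by
    rw [hm, hm, hm, Pi.add_apply, Pi.add_apply, map_add, map_add]
    abel
  let cd : G → Fin 2 → F := fun v => if h : ∃ w, Q.val (m w) = v then h.choose else 0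
  have hcd : ∀ w, cd (Q.val (m w)) = w := fun w => by
    have hex : ∃ w', Q.val (m w') = Q.val (m w) := ⟨w, rfl⟩
    have h1 : cd (Q.val (m w)) = hex.choose := dif_pos hex
    rw [h1]
    exact m_inj _ _ (Nrm.ext hex.choose_spec)
  have hN : ∀ v, v ∈ un Q (e.range ⊔ f.range) ↔ ∃ w, Q.val (m w) = v := fun v => by
    constructor
    · rintro ⟨n, hn, rfl⟩
      obtain ⟨_, ⟨a, rfl⟩, _, ⟨b, rfl⟩, rfl⟩ := AddSubgroup.mem_sup.1 hn
      exact ⟨![a, b], rfl⟩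
    · rintro ⟨w, rfl⟩
      exact (val_mem_un Q).2 (add_mem (AddSubgroup.mem_sup_left ⟨_, rfl⟩) (AddSubgroup.mem_sup_right ⟨_, rfl⟩))
  have hcj : ∀ (g : H) (w : Fin 2 → F), (g : G) * Q.val (m w) * (g : G)⁻¹ = Q.val (ph Q g • m w) := fun g w => by
    rw [ph_smul, Nrm.val_smul]
  have hact : ∀ (g : H) (B : Matrix.SpecialLinearGroup (Fin 2) F), SLA e f C (ph Q g) B → ∀ w,
      (g : G) * Q.val (m w) * (g : G)⁻¹ = Q.val (m (B.1.mulVec w)) := fun g B hgB w => by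
    rw [hcj, hm, hgB.act]
  have hl : ∀ v, v ∈ un Q (brk Q.Mod (rt up)) ↔ ∃ a, Q.val (e a) = v := fun v => by
    rw [Types.Bk.brk_rt hB h2 hf]
    constructor
    · rintro ⟨_, ⟨a, rfl⟩, rfl⟩
      exact ⟨a, rfl⟩
    · rintro ⟨a, rfl⟩
      exact ⟨_, ⟨a, rfl⟩, rfl⟩
  -- a vector fixed by `S ∩ T`
  obtain ⟨a₀, ha₀, hfix⟩ : ∃ a₀ : F, a₀ ≠ 0 ∧ ∀ (s : H), (s : G) ∈ S → ph Q s ∈ clo up lo → ph Q s • e a₀ = e a₀ := by
    have hf2 : Fact (Nat.Prime 2) := ⟨Nat.prime_two⟩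
    have hU : un Q (e.range ⊔ f.range) ≤ U := by
      rintro _ ⟨n, -, rfl⟩
      exact Q.val_mem n
    have hUp : IsPGroup 2 (un Q (e.range ⊔ f.range)) := fun x => ⟨1, Subtype.ext (by
      rw [pow_one]; exact hU2.2 _ (hU x.2))⟩
    have hcj' : ∀ x ∈ S ⊓ pre Q (clo up lo), ∀ v ∈ un Q (e.range ⊔ f.range), x * v * x⁻¹ ∈ un Q (e.range ⊔ f.range) := by
      rintro x ⟨-, hx⟩ v hv
      obtain ⟨hxH, hx1⟩ := mem_pre.1 hx
      obtain ⟨w, rfl⟩ := (hN v).1 hv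
      obtain ⟨B, hxB⟩ := sla_of_clo hB hx1
      exact (hN _).2 ⟨_, (hact ⟨x, hxH⟩ B hxB w).symm⟩
    have hnorm : S ⊓ pre Q (clo up lo) ≤ normalizer (un Q (e.range ⊔ f.range) : Set G) := fun x hx => by
      refine mem_normalizer_iff.2 fun v => ⟨hcj' x hx v, fun hv => ?_⟩
      have h5 := hcj' x⁻¹ (inv_mem hx) _ hv
      have e1 : x⁻¹ * (x * v * x⁻¹) * x⁻¹⁻¹ = v := by group
      rwa [e1] at h5
    have hne : un Q (e.range ⊔ f.range) ≠ ⊥ := fun h5 => by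
      have h6 : Q.val (e 1) ∈ un Q (e.range ⊔ f.range) := (val_mem_un Q).2 (AddSubgroup.mem_sup_left ⟨1, rfl⟩)
      rw [h5, Subgroup.mem_bot] at h6
      have h7 : e 1 = 0 := Nrm.eq_zero_iff.2 h6
      have h8 : e 1 + f 0 = e 0 + f 0 := by rw [h7, map_zero, map_zero]
      exact one_ne_zero (vec_uniq hB h8).1
    have h5 := PLocal.OffenderStep.inf_centralizer_ne_bot _ (S ⊓ pre Q (clo up lo)) hUp (hS2.to_le inf_le_left) hnorm hne
    obtain ⟨⟨z, hz, hzc⟩, hz1⟩ := Subgroup.ne_bot_iff_exists_ne_one.1 h5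
    obtain ⟨w, rfl⟩ := (hN z).1 hz
    have hfx : ∀ s : H, (s : G) ∈ S → ph Q s ∈ clo up lo → ph Q s • m w = m w := fun s hs hsT => by
      refine Nrm.ext ?_
      rw [← hcj, mul_inv_eq_iff_eq_mul]
      exact mem_centralizer_iff.1 hzc _ ⟨hs, mem_pre.2 ⟨s.2, hsT⟩⟩
    -- the second coordinate vanishes
    have hw1 : w 1 = 0 := by
      obtain ⟨s, hs, h6⟩ := hD (up_mem 1)
      have h7 := hfx s hs (by rw [h6]; exact TypesClo.up_mem_clo up lo 1)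
      rw [h6, hm, smul_add, hB.up_e, hB.up_f, one_mul] at h7
      have h8 : e (w 0 + w 1) + f (w 1) = e (w 0) + f (w 1) := by
        rw [map_add, ← h7]
        conv_rhs => rw [h7]
        rw [← h7]
        abel
      have h9 := (vec_uniq hB h8).1
      exact left_eq_add.1 h9.symm
    have hmw : m w = e (w 0) := by rw [hm, hw1, map_zero, add_zero]
    refine ⟨w 0, fun h6 => hz1 (Subtype.ext ?_), fun s hs hsT => ?_⟩
    · change Q.val (m w) = 1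
      rw [hmw, h6, map_zero, Nrm.val_zero]
    · have h6 := hfx s hs hsT
      rwa [hmw] at h6
  refine ⟨F, i1, i2, hch, cd, (hB.card_rt h2 hf).symm, ?_⟩
  refine
    { mul := ?_
      inj := ?_
      sur := ?_
      act := ?_
      full := ?_
      line := ?_
      root := ?_
      sylow := ?_ }
  · intro v hv v' hv'
    obtain ⟨w, rfl⟩ := (hN v).1 hv
    obtain ⟨w', rfl⟩ := (hN v').1 hv'
    rw [← Nrm.val_add, m_add, hcd, hcd, hcd]
  · intro v hv h1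
    obtain ⟨w, rfl⟩ := (hN v).1 hv
    rw [hcd] at h1
    rw [h1, hm, Pi.zero_apply, Pi.zero_apply, map_zero, map_zero, add_zero, Nrm.val_zero]
  · exact fun x => ⟨Q.val (m x), (hN _).2 ⟨x, rfl⟩, hcd x⟩
  · intro g hg
    obtain ⟨hgH, hg1⟩ := mem_pre.1 hg
    obtain ⟨B, hgB⟩ := sla_of_clo hB hg1
    refine ⟨B, fun v hv => ?_⟩
    obtain ⟨w, rfl⟩ := (hN v).1 hv
    rw [hact ⟨g, hgH⟩ B hgB w, hcd, hcd]
  · intro B
    obtain ⟨x, hx, hxB⟩ := exists_sla hB B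
    obtain ⟨g, rfl⟩ := ph_surj Q x
    refine ⟨g, mem_pre.2 ⟨g.2, hx⟩, fun v hv => ?_⟩
    obtain ⟨w, rfl⟩ := (hN v).1 hv
    rw [hact g B hxB w, hcd, hcd]
  · intro v
    rw [hl]
    constructor
    · rintro ⟨a, rfl⟩
      have h1 : e a = m ![a, 0] := by
        rw [hm]
        change e a = e a + f 0
        rw [map_zero, add_zero]
      rw [h1]
      exact ⟨(hN _).2 ⟨_, rfl⟩, by rw [hcd]; rfl⟩
    · rintro ⟨hv, hv1⟩
      obtain ⟨w, rfl⟩ := (hN v).1 hv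
      rw [hcd] at hv1
      exact ⟨w 0, by rw [hm, hv1, map_zero, add_zero]⟩
  · rintro s ⟨hs, hsT⟩
    obtain ⟨hsH, hs1⟩ := mem_pre.1 hsT
    obtain ⟨B, hsB⟩ := sla_of_clo hB hs1
    have h1 := hfix ⟨s, hsH⟩ hs hs1
    have h3 := hsB.act ![a₀, 0]
    simp only [Matrix.cons_val_zero, Matrix.cons_val_one, map_zero, add_zero] at h3
    rw [h1] at h3
    have h4 : e a₀ + f 0 = e (B.1.mulVec ![a₀, 0] 0) + f (B.1.mulVec ![a₀, 0] 1) := by
      rw [map_zero, add_zero]; exact h3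
    obtain ⟨h5, h6⟩ := vec_uniq hB h4
    simp [Matrix.mulVec, dotProduct, Fin.sum_univ_two] at h5 h6
    have h10 : B.1 1 0 = 0 := by
      rcases h6 with h7 | h7
      · exact h7
      · exact absurd h7 ha₀
    have h00 : B.1 0 0 = 1 := by
      have h8 : B.1 0 0 * a₀ = 1 * a₀ := by rw [one_mul]; exact h5.symm
      exact mul_right_cancel₀ ha₀ h8
    have h11 : B.1 1 1 = 1 := by
      have h7 := B.2
      rw [Matrix.det_fin_two, h10, h00, mul_zero, sub_zero, one_mul] at h7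
      exact h7
    have hBe : B = Cfsg.Agent.Lib.SL2Mat.up (B.1 0 1) := by
      refine Cfsg.Agent.Lib.SL2Mat.ext_ent ?_ ?_ ?_ ?_
      · exact h00
      · rfl
      · exact h10
      · exact h11
    refine ⟨B.1 0 1, fun v hv => ?_⟩
    obtain ⟨w, rfl⟩ := (hN v).1 hv
    rw [hact ⟨s, hsH⟩ B hsB w, hcd, hcd, hBe, up_vec]
    rfl
  · intro c
    obtain ⟨s, hs, h6⟩ := hD (up_mem c)
    have h7 : ph Q s ∈ clo up lo := by
      rw [h6]
      exact TypesClo.up_mem_clo up lo c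
    refine ⟨s, ⟨hs, mem_pre.2 ⟨s.2, h7⟩⟩, fun v hv => ?_⟩
    obtain ⟨w, rfl⟩ := (hN v).1 hv
    have h8 : SLA e f C (ph Q s) (Cfsg.Agent.Lib.SL2Mat.up c) := by
      rw [h6]
      exact sla_up hB c
    rw [hact s _ h8 w, hcd, hcd, up_vec]

end Cfsg.Agent.Omega.NOThreeL.RRed.Blk.AsmNatBlk

end
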