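import Cfsg.Agent.Mrg.Omega.NOThreeL.RRed.Blk.AsmTwoC
import Cfsg.Agent.Mrg.Omega.NOThreeL.RRed.Blk.AsmCore
import Cfsg.Agent.Mrg.Omega.NOThreeL.RRed.Blk.AsmCard


/-!
# NO-3L, box R: minimal exact offenders of order 2 modulo the kernel and the letters (piece (M3) of `LeftBlk`)

`F : TvFin.Full S M V N E R₀ Om phi`, `Q : Nrm M V`.

* `mx_of_tv` : a 2-group `A = ⟨s⟩ C_A(V)`, `s` a transvection, is minimal exact; `card_im_two`;
* **`atom`** : `s ∈ S` a transvection: `⟨s⟩ ∈ EE S V`, `|im Q ⟨s⟩| = 2`;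
* **`exists_tv`** : `A ∈ EE S V`, `|im Q A| < 4`: `A = ⟨a⟩ C_A(V)`, `a ∈ E b` a transvection, `[V, A] ≤ N b`;
* **`im_eq`** : if moreover `|Ω_b| = 3`: `im Q A = im Q (S ∩ E b)`; **`mem_EE`** : `S ∩ E b ∈ EE S V`.
-/

set_option autoImplicit false
set_option linter.unusedSectionVars false

namespace Cfsg.Agent.Omega.NOThreeL.RRed.Blk.AsmLet

open Subgroup Cfsg
open Cfsg.Agent.Omega.FFThm (ElemM)
open Cfsg.Agent.Omega.NOThreeL.RRed.TvFin (Full TvV)
open Cfsg.Agent.Omega.NOThreeL.RRed.Blk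
open Cfsg.Agent.Omega.KL.TwoS (Rel Lett)
open Cfsg.Agent.Omega.NOThreeL.RSplit (Nrm)
open Cfsg.Agent.Omega.NOThreeL.RRed.Blk.TypesNat (XH ph ph_smul ph_eq ph_surj mem_ker)
open Cfsg.Agent.Omega.NOThreeL.RRed.Blk.AsmCore (EE im)
open Cfsg.Agent.Omega.NOThreeL.RRed.Blk.AsmCard (card_mul)
open scoped Pointwise

universe u

variable {G : Type u} [Group G]

section gen

variable {V A : Subgroup G}

theorem mem_cent {x : G} : x ∈ centralizer (V : Set G) ↔ ∀ w ∈ V, x * w * x⁻¹ = w := by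
  rw [mem_centralizer_iff]
  constructor
  · intro h w hw
    have h1 : w * x = x * w := h w hw
    rw [← h1, mul_inv_cancel_right]
  · intro h w hw
    exact (mul_inv_eq_iff_eq_mul.1 (h w hw)).symm

theorem conj_cent {x k : G} (hx : x ∈ normalizer (V : Set G)) (hk : k ∈ centralizer (V : Set G)) :
    x * k * x⁻¹ ∈ centralizer (V : Set G) := by
  rw [mem_cent] at hk ⊢
  intro w hw
  have h1 : x⁻¹ * w * x ∈ V := by
    have h2 := (mem_normalizer_iff.1 (inv_mem hx) w).1 hw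
    rwa [inv_inv] at h2
  have h3 := hk _ h1
  calc x * k * x⁻¹ * w * (x * k * x⁻¹)⁻¹ = x * (k * (x⁻¹ * w * x) * k⁻¹) * x⁻¹ := by group
    _ = x * (x⁻¹ * w * x) * x⁻¹ := by rw [h3]
    _ = w := by group

/-- the square of a transvection is trivial -/
theorem sq_cent (hsq : ∀ v ∈ V, v * v = 1) {s c : G} (hc : c ∈ V) (hs : TvV V c s)
    (hab : V ≤ centralizer (V : Set G)) : s ^ 2 ∈ centralizer (V : Set G) := by
  rw [mem_cent]
  intro w hw
  have hcc : c * c = 1 := hsq c hc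
  have hsc : s * c * s⁻¹ = c ∨ c = 1 := by
    rcases hs c hc with h | h
    · exact Or.inl h
    · rw [hcc] at h
      right
      have h1 : s * c = s := mul_inv_eq_one.1 h
      exact mul_eq_left.1 h1
  have e : s ^ 2 * w * (s ^ 2)⁻¹ = s * (s * w * s⁻¹) * s⁻¹ := by rw [pow_two]; group
  rw [e]
  rcases hs w hw with h | h
  · rw [h, h]
  · rw [h]
    have e1 : s * (w * c) * s⁻¹ = (s * w * s⁻¹) * (s * c * s⁻¹) := by group
    rw [e1, h]
    rcases hsc with h1 | h1
    · rw [h1, mul_assoc, hcc, mul_one]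
    · rw [h1]; group

variable [Finite G]

/-- **A 2-group `⟨s⟩ C_A(V)`, `s` a transvection, is minimal exact.** -/
theorem mx_of_tv (hsq : ∀ v ∈ V, v * v = 1) (hab : V ≤ centralizer (V : Set G)) (hAV : A ≤ normalizer (V : Set G))
    (hA2 : IsPGroup 2 A) {s c : G} (hsA : s ∈ A) (hc : c ∈ V) (hs : TvV V c s) (hn : s ∉ centralizer (V : Set G))
    (hall : ∀ t ∈ A, t ∈ centralizer (V : Set G) ∨ s⁻¹ * t ∈ centralizer (V : Set G)) : Mx V A := by
  have hs2 := sq_cent hsq hc hs hab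
  -- `|A : C_A(V)| = 2`
  have h1 : (centralizer (V : Set G)).relIndex A = 2 := by
    rw [relIndex_eq_two_iff_exists_notMem_and]
    refine ⟨s, hsA, hn, fun b hb => ?_⟩
    rcases hall b hb with h2 | h2
    · exact Or.inr h2
    · left
      have h3 := conj_cent (hAV (inv_mem hsA)) h2
      have e : b * s = s ^ 2 * (s⁻¹ * (s⁻¹ * b) * s⁻¹⁻¹) := by rw [pow_two]; group
      rw [e]
      exact mul_mem hs2 h3
  -- `C_V(A) = C_V(s)`
  have hfix : ∀ w ∈ V, s * w * s⁻¹ = w → w ∈ centralizer (A : Set G) := by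
    intro w hw h2
    rw [mem_centralizer_iff]
    intro b hb
    have h3 : s * w = w * s := mul_inv_eq_iff_eq_mul.1 h2
    rcases hall b hb with h4 | h4
    · exact (mem_centralizer_iff.1 h4 w hw).symm
    · have h5 := mem_centralizer_iff.1 h4 w hw
      calc b * w = s * (s⁻¹ * b * w) := by group
        _ = s * (w * (s⁻¹ * b)) := by rw [h5]
        _ = (s * w) * (s⁻¹ * b) := by group
        _ = (w * s) * (s⁻¹ * b) := by rw [h3]
        _ = w * b := by group
  have h2 : (centralizer (A : Set G)).relIndex V = 2 := by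
    rw [relIndex_eq_two_iff_exists_notMem_and]
    obtain ⟨v, hv, hv1⟩ : ∃ v ∈ V, s * v * s⁻¹ ≠ v := by
      by_contra hcon
      push Not at hcon
      exact hn (mem_cent.2 hcon)
    have hv2 := (hs v hv).resolve_left hv1
    refine ⟨v, hv, fun h3 => hv1 ?_, fun w hw => ?_⟩
    · rw [mem_centralizer_iff.1 h3 s hsA]; group
    · rcases hs w hw with h3 | h3
      · exact Or.inr (hfix w hw h3)
      · left
        refine hfix _ (mul_mem hw hv) ?_
        have hcv : c * v = v * c := (mem_centralizer_iff.1 (hab hc) v hv).symm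
        have hcc : c * c = 1 := hsq c hc
        calc s * (w * v) * s⁻¹ = (s * w * s⁻¹) * (s * v * s⁻¹) := by group
          _ = w * c * (v * c) := by rw [h3, hv2]
          _ = w * (c * v) * c := by group
          _ = w * v * (c * c) := by rw [hcv]; group
          _ = w * v := by rw [hcc, mul_one]
  have c1 := card_mul (centralizer (V : Set G)) A
  have c2 := card_mul (centralizer (A : Set G)) V
  rw [h1] at c1
  rw [h2] at c2
  refine
    { sq := fun a ha => ?_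
      comm := fun a ha b hb => ?_
      pg := hA2
      ne := fun h => hn (h hsA)
      exact := by rw [← c1, ← c2]; ring
      min := fun B hB _ hCB => ?_ }
  · rcases hall a ha with h3 | h3
    · exact Subgroup.pow_mem _ h3 2
    · have h4 := conj_cent (hAV (inv_mem hsA)) h3
      have e : a ^ 2 = s ^ 2 * (s⁻¹ * (s⁻¹ * a) * s⁻¹⁻¹) * (s⁻¹ * a) := by rw [pow_two, pow_two]; group
      rw [e]
      exact mul_mem (mul_mem hs2 h4) h3
  · by_cases ha' : a ∈ centralizer (V : Set G)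
    · have h3 := conj_cent (hAV hb) (inv_mem ha')
      have e : a * b * a⁻¹ * b⁻¹ = a * (b * a⁻¹ * b⁻¹) := by group
      rw [e]
      exact mul_mem ha' h3
    by_cases hb' : b ∈ centralizer (V : Set G)
    · exact mul_mem (conj_cent (hAV ha) hb') (inv_mem hb')
    have h3 := (hall a ha).resolve_left ha'
    have h4 := (hall b hb).resolve_left hb'
    have h5 : a⁻¹ * b ∈ centralizer (V : Set G) := by
      have e : a⁻¹ * b = (s⁻¹ * a)⁻¹ * (s⁻¹ * b) := by group
      rw [e]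
      exact mul_mem (inv_mem h3) h4
    have e : a * b * a⁻¹ * b⁻¹ = a * ((a * (a⁻¹ * b) * a⁻¹) * (a⁻¹ * b)⁻¹) * a⁻¹ := by group
    rw [e]
    exact conj_cent (hAV ha) (mul_mem (conj_cent (hAV ha) h5) (inv_mem h5))
  · by_cases hBc : B ≤ centralizer (V : Set G)
    · exact Or.inl hBc
    · right
      obtain ⟨b, hb, hbn⟩ := Set.not_subset.1 hBc
      refine le_antisymm hB fun t ht => ?_
      by_cases ht' : t ∈ centralizer (V : Set G)
      · exact hCB ⟨ht, ht'⟩
      · have h3 := (hall t ht).resolve_left ht'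
        have h4 := (hall b (hB hb)).resolve_left hbn
        have h5 : b⁻¹ * t ∈ centralizer (V : Set G) := by
          have e : b⁻¹ * t = (s⁻¹ * b)⁻¹ * (s⁻¹ * t) := by group
          rw [e]
          exact mul_mem (inv_mem h4) h3
        have e : t = b * (b⁻¹ * t) := by group
        rw [e]
        exact mul_mem hb (hCB (mem_inf.2 ⟨A.mul_mem (A.inv_mem (hB hb)) ht, h5⟩))

/-- `A = ⟨s⟩ C_A(V)` induces a group of order 2 -/
theorem card_im_two {M : Subgroup G} (Q : Nrm M V) (hAM : A ≤ M) {s : G} (hsA : s ∈ A)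
    (hn : s ∉ centralizer (V : Set G))
    (hall : ∀ t ∈ A, t ∈ centralizer (V : Set G) ∨ s⁻¹ * t ∈ centralizer (V : Set G)) : Nat.card (im Q A) = 2 := by
  have h1 : Nat.card (im Q A) ≤ 2 := AsmCard.card_im Q (hAM hsA) hall
  have h2 := AsmCore.card_im (Q := Q) hAM
  have h3 : Nat.card ↥(A ⊓ centralizer (V : Set G)) < Nat.card A := by
    refine lt_of_le_of_ne (card_le_of_le inf_le_left) fun e => hn ?_
    have h4 : A ⊓ centralizer (V : Set G) = A := eq_of_le_of_card_ge inf_le_left e.ge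
    exact (h4.ge hsA).2
  have h5 : 1 < Nat.card (im Q A) := by
    by_contra hcon
    have h6 : Nat.card (im Q A) * Nat.card ↥(A ⊓ centralizer (V : Set G)) ≤
        1 * Nat.card ↥(A ⊓ centralizer (V : Set G)) := Nat.mul_le_mul_right _ (not_lt.1 hcon)
    omega
  omega

/-- the exponent of `V` -/
theorem sq_of {M : Subgroup G} (Q : Nrm M V) (hV2 : ∀ v : Q.Mod, v + v = 0) : ∀ v ∈ V, v * v = 1 := fun v hv => by
  have h := congrArg Q.val (hV2 (Q.of v hv))
  rw [Nrm.val_add, Nrm.val_zero, Nrm.val_of] at h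
  exact h

/-- **A transvection in `S` generates a minimal exact group.** -/
theorem atom {S : Sylow 2 G} {M : Subgroup G} (Q : Nrm M V) (hV2 : ∀ v : Q.Mod, v + v = 0)
    (hab : V ≤ centralizer (V : Set G)) (hSM : (S : Subgroup G) ≤ M) {s c : G} (hs : s ∈ (S : Subgroup G)) (hc : c ∈ V)
    (ht : TvV V c s) (hn : s ∉ centralizer (V : Set G)) :
    zpowers s ∈ EE (S : Subgroup G) V ∧ Nat.card (im Q (zpowers s)) = 2 := by
  have hsq := sq_of Q hV2
  have hsS : zpowers s ≤ (S : Subgroup G) := zpowers_le.2 hs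
  have h2 := sq_cent hsq hc ht hab
  have hall : ∀ t ∈ zpowers s, t ∈ centralizer (V : Set G) ∨ s⁻¹ * t ∈ centralizer (V : Set G) := by
    rintro _ ⟨n, rfl⟩
    obtain ⟨k, hk | hk⟩ := Int.even_or_odd' n
    · left
      change s ^ n ∈ _
      rw [hk, zpow_mul]
      exact zpow_mem (by exact_mod_cast h2) k
    · right
      change s⁻¹ * s ^ n ∈ _
      have e : s⁻¹ * s ^ n = (s ^ (2 : ℤ)) ^ k := by
        rw [hk, ← zpow_mul, zpow_add, zpow_one]
        group
      rw [e]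
      exact zpow_mem (by exact_mod_cast h2) k
  exact ⟨⟨hsS, mx_of_tv hsq hab (hsS.trans (hSM.trans Q.nrm)) (S.2.to_le hsS) (mem_zpowers s) hc ht hn hall⟩,
    card_im_two Q (hsS.trans hSM) (mem_zpowers s) hn hall⟩

/-- **A minimal exact group of order less than 4 modulo its kernel is generated by a transvection, modulo its kernel.** -/
theorem exists_tv_gen {S : Sylow 2 G} {M : Subgroup G} (Q : Nrm M V) (hab : V ≤ centralizer (V : Set G))
    (hSM : (S : Subgroup G) ≤ M) (hA : A ∈ EE (S : Subgroup G) V) (h4 : Nat.card (im Q A) < 4) :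
    ∃ a ∈ A, ∃ c ∈ V, a ∉ centralizer (V : Set G) ∧ TvV V c a ∧
      (∀ t ∈ A, t ∈ centralizer (V : Set G) ∨ a⁻¹ * t ∈ centralizer (V : Set G)) ∧ Nat.card (im Q A) = 2 := by
  have hAM : A ≤ M := hA.1.trans hSM
  have hAV : A ≤ normalizer (V : Set G) := hAM.trans Q.nrm
  have k1 := AsmCore.card_im (Q := Q) hAM
  have k2 := card_mul (centralizer (V : Set G)) A
  have k3 := card_mul (centralizer (A : Set G)) V
  have k4 := hA.2.exact
  have kpos : 0 < Nat.card ↥(A ⊓ centralizer (V : Set G)) := Nat.card_pos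
  have kpos' : 0 < Nat.card ↥(V ⊓ centralizer (A : Set G)) := Nat.card_pos
  -- `|im Q A| = 2`
  have hcard : Nat.card (im Q A) = 2 := by
    obtain ⟨n, hn⟩ := IsPGroup.iff_card.1 hA.2.pg
    have h5 : Nat.card (im Q A) ∣ 2 ^ n := by rw [← hn, ← k1]; exact Dvd.intro _ rfl
    have h6 : Nat.card (im Q A) ≠ 1 := by
      intro e
      rw [e, one_mul] at k1
      apply hA.2.ne
      have h7 : A ⊓ centralizer (V : Set G) = A := eq_of_le_of_card_ge inf_le_left k1.ge
      exact inf_eq_left.1 h7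
    have h8 : Nat.card (im Q A) ≠ 3 := by
      intro e
      rw [e] at h5
      have := (Nat.prime_dvd_prime_iff_eq Nat.prime_three Nat.prime_two).1 (Nat.prime_three.dvd_of_dvd_pow h5)
      omega
    have h9 : 0 < Nat.card (im Q A) := Nat.card_pos
    omega
  have hr : (centralizer (V : Set G)).relIndex A = 2 := by
    rw [← k2, hcard] at k1
    exact (Nat.eq_of_mul_eq_mul_right kpos k1).symm
  have hr' : (centralizer (A : Set G)).relIndex V = 2 := by
    rw [← k2, ← k3, hr] at k4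
    have h5 : (centralizer (A : Set G)).relIndex V *
        (Nat.card ↥(A ⊓ centralizer (V : Set G)) * Nat.card ↥(V ⊓ centralizer (A : Set G))) =
        2 * (Nat.card ↥(A ⊓ centralizer (V : Set G)) * Nat.card ↥(V ⊓ centralizer (A : Set G))) := by
      linarith [k4, mul_comm (Nat.card ↥(A ⊓ centralizer (V : Set G))) (Nat.card ↥(V ⊓ centralizer (A : Set G)))]
    exact Nat.eq_of_mul_eq_mul_right (Nat.mul_pos kpos kpos') h5
  obtain ⟨a, ha, han⟩ := Set.not_subset.1 hA.2.ne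
  have hall : ∀ t ∈ A, t ∈ centralizer (V : Set G) ∨ a⁻¹ * t ∈ centralizer (V : Set G) := by
    intro t ht
    by_cases h : t ∈ centralizer (V : Set G)
    · exact Or.inl h
    · right
      have h5 := mul_mem_iff_of_index_two (H := (centralizer (V : Set G)).subgroupOf A) hr
        (a := ⟨a, ha⟩⁻¹) (b := ⟨t, ht⟩)
      have h6 : ((⟨a, ha⟩ : A)⁻¹ * ⟨t, ht⟩) ∈ (centralizer (V : Set G)).subgroupOf A := by
        rw [h5]
        refine ⟨fun h7 => absurd ?_ han, fun h7 => absurd h7 h⟩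
        exact inv_mem_iff.1 h7
      exact h6
  obtain ⟨v, hv, hv1⟩ : ∃ v ∈ V, a * v * a⁻¹ ≠ v := by
    by_contra hcon
    push Not at hcon
    exact han (mem_cent.2 hcon)
  have hvn : v ∉ centralizer (A : Set G) := fun h => hv1 (by rw [mem_centralizer_iff.1 h a ha]; group)
  have hav : a * v * a⁻¹ ∈ V := (mem_normalizer_iff.1 (hAV ha) v).1 hv
  have hc : v⁻¹ * (a * v * a⁻¹) ∈ V := mul_mem (inv_mem hv) hav
  refine ⟨a, ha, _, hc, han, fun w hw => ?_, hall, hcard⟩
  by_cases h : w ∈ centralizer (A : Set G)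
  · left
    rw [mem_centralizer_iff.1 h a ha]; group
  · right
    have h5 := mul_mem_iff_of_index_two (H := (centralizer (A : Set G)).subgroupOf V) hr'
      (a := ⟨v, hv⟩⁻¹) (b := ⟨w, hw⟩)
    have h6 : ((⟨v, hv⟩ : V)⁻¹ * ⟨w, hw⟩) ∈ (centralizer (A : Set G)).subgroupOf V := by
      rw [h5]
      exact ⟨fun h7 => absurd (inv_mem_iff.1 h7) hvn, fun h7 => absurd h7 h⟩
    have h7 : v⁻¹ * w ∈ centralizer (A : Set G) := h6
    have h8 : a * (v⁻¹ * w) = (v⁻¹ * w) * a := mem_centralizer_iff.1 h7 a ha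
    have h9 : w * (v⁻¹ * (a * v * a⁻¹)) = (v⁻¹ * (a * v * a⁻¹)) * w := (mem_centralizer_iff.1 (hab hc) w hw)
    have h10 : v * (v⁻¹ * (a * v * a⁻¹) * w) = (v⁻¹ * (a * v * a⁻¹) * w) * v :=
      mem_centralizer_iff.1 (hab (mul_mem hc hw)) v hv
    have h11 : v * w = w * v := mem_centralizer_iff.1 (hab hw) v hv
    have e1 : a * w * a⁻¹ = (a * v * a⁻¹) * (v⁻¹ * w) := by
      calc a * w * a⁻¹ = a * v * (v⁻¹ * w) * a⁻¹ := by group
        _ = a * v * a⁻¹ * (a * (v⁻¹ * w)) * a⁻¹ := by group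
        _ = a * v * a⁻¹ * ((v⁻¹ * w) * a) * a⁻¹ := by rw [h8]
        _ = _ := by group
    have h12 : v⁻¹ * (a * v * a⁻¹) = (a * v * a⁻¹) * v⁻¹ := by
      have h13 : (a * v * a⁻¹) * v⁻¹ = v⁻¹ * (a * v * a⁻¹) := mem_centralizer_iff.1 (hab (inv_mem hv)) _ hav
      exact h13.symm
    rw [e1, h9, h12]; group

end gen

section full

variable [Finite G] {S : Sylow 2 G} {M V : Subgroup G} {I : Type u} {N E : I → Subgroup G} {R₀ : Subgroup G}
  {Om : I → Type u} [∀ i, Fintype (Om i)] [∀ i, DecidableEq (Om i)] {phi : ∀ i, Finset (Om i) → G}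
  (F : Full (S : Subgroup G) M V N E R₀ Om phi) (Q : Nrm M V)
include F

/-- **(a)** -/
theorem exists_tv {A : Subgroup G} (hA : A ∈ EE (S : Subgroup G) V) (h4 : Nat.card (im Q A) < 4) :
    ∃ b, ∃ a ∈ A, a ∈ E b ∧ a ∉ centralizer (V : Set G) ∧ (∀ x ∈ A, ∀ v ∈ V, x * v * x⁻¹ * v⁻¹ ∈ N b) ∧
      (∀ t ∈ A, t ∈ centralizer (V : Set G) ∨ a⁻¹ * t ∈ centralizer (V : Set G)) ∧ Nat.card (im Q A) = 2 := by
  obtain ⟨a, ha, c, hc, han, htv, hall, hcard⟩ := exists_tv_gen Q F.ab F.SL hA h4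
  obtain ⟨b, hb, x, y, hxy, hce, -⟩ := F.tvs a (F.SL (hA.1 ha)) c hc htv han
  have hcN : c ∈ N b := ((F.lett b).mem c).2 ⟨{x, y}, by rw [Finset.card_pair hxy]; exact even_two, hce.symm⟩
  refine ⟨b, a, ha, hb, han, fun t ht v hv => ?_, hall, hcard⟩
  have hvc : v * c = c * v := mem_centralizer_iff.1 (F.ab hc) v hv
  rcases hall t ht with h | h
  · rw [mem_cent.1 h v hv, mul_inv_cancel]; exact one_mem _
  · have h1 := mem_cent.1 h v hv
    have e : t * v * t⁻¹ = a * v * a⁻¹ := by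
      have h2 : t * v * t⁻¹ = a * ((a⁻¹ * t) * v * (a⁻¹ * t)⁻¹) * a⁻¹ := by group
      rw [h2, h1]
    rw [e]
    rcases htv v hv with h2 | h2
    · rw [h2, mul_inv_cancel]; exact one_mem _
    · rw [h2, hvc, mul_inv_cancel_right]; exact hcN

include Q

/-- the kernel of `E b` on `V` -/
theorem cent_of_rel {b : I} {t : G} (ht : t ∈ E b) (h : Rel (phi b) t 1) : t ∈ centralizer (V : Set G) := by
  have h1 : ph Q ⟨t, F.EL b ht⟩ = ph Q 1 :=
    AsmTwo.ph_eq_of_rel F Q (b := b) (x := ⟨t, F.EL b ht⟩) (y := 1) ht (one_mem _) h Rel.one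
  rw [map_one] at h1
  exact (mem_ker Q).1 (MonoidHom.mem_ker.2 h1)

theorem cent_of_rel₂ {b : I} {s t : G} (hs : s ∈ E b) (ht : t ∈ E b) {σ : Equiv.Perm (Om b)} (h : Rel (phi b) s σ)
    (h' : Rel (phi b) t σ) : s⁻¹ * t ∈ centralizer (V : Set G) := by
  refine cent_of_rel F Q (mul_mem (inv_mem hs) ht) ?_
  have h1 := h.inv.mul h'
  rwa [inv_mul_cancel] at h1

/-- `S ∩ E b` for `|Ω_b| = 3` -/
theorem exists_s {b : I} (h3 : Fintype.card (Om b) = 3) : ∃ s ∈ (S : Subgroup G) ⊓ E b, ∃ c ∈ V, TvV V c s ∧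
    s ∉ centralizer (V : Set G) ∧
      ∀ t ∈ (S : Subgroup G) ⊓ E b, t ∈ centralizer (V : Set G) ∨ s⁻¹ * t ∈ centralizer (V : Set G) := by
  obtain ⟨s, hs, x, y, hxy, hr⟩ := AsmTwo.exists_tr F b
  obtain ⟨g, hg, hgr, hgt⟩ := F.swap b x y hxy
  have hcN : phi b {x, y} ∈ N b := ((F.lett b).mem _).2 ⟨{x, y}, by rw [Finset.card_pair hxy]; exact even_two, rfl⟩
  have hcV : phi b {x, y} ∈ V := F.toDec.NU b hcN
  have hgs := cent_of_rel₂ F Q hg hs.2 hgr hr
  have htv : TvV V (phi b {x, y}) s := by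
    intro w hw
    have e : s * w * s⁻¹ = g * w * g⁻¹ := by
      have h2 : s * w * s⁻¹ = g * ((g⁻¹ * s) * w * (g⁻¹ * s)⁻¹) * g⁻¹ := by group
      rw [h2, mem_cent.1 hgs w hw]
    rw [e]
    exact hgt w hw
  refine ⟨s, hs, _, hcV, htv, fun hcon => ?_, fun t ht => ?_⟩
  · have h5 : Rel (phi b) s 1 := by
      intro w hw
      have h6 : phi b w ∈ V := F.toDec.NU b (((F.lett b).mem _).2 ⟨w, hw, rfl⟩)
      have e : (1 : Equiv.Perm (Om b)).toEmbedding = Function.Embedding.refl (Om b) := by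
        ext x
        simp
      rw [e, Finset.map_refl]
      exact mem_cent.1 hcon _ h6
    exact hxy (Equiv.swap_eq_one_iff.1 ((F.lett b).unique (F.three b) hr h5))
  · rcases AsmTwo.two_or F h3 hs hxy hr ht with h | h
    · exact Or.inl (cent_of_rel F Q ht.2 h)
    · exact Or.inr (cent_of_rel₂ F Q hs.2 ht.2 hr h)

/-- **(c)** -/
theorem mem_EE (hV2 : ∀ v : Q.Mod, v + v = 0) {b : I} (h3 : Fintype.card (Om b) = 3) :
    (S : Subgroup G) ⊓ E b ∈ EE (S : Subgroup G) V := by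
  obtain ⟨s, hs, c, hc, htv, hn, hall⟩ := exists_s F Q h3
  exact ⟨inf_le_left, mx_of_tv (sq_of Q hV2) F.ab (inf_le_left.trans (F.SL.trans Q.nrm)) (S.2.to_le inf_le_left) hs hc
    htv hn hall⟩

theorem card_im_E {b : I} (h3 : Fintype.card (Om b) = 3) : Nat.card (im Q ((S : Subgroup G) ⊓ E b)) = 2 := by
  obtain ⟨s, hs, c, hc, htv, hn, hall⟩ := exists_s F Q h3
  exact card_im_two Q (inf_le_left.trans F.SL) hs hn hall

theorem im_mem_EE (hV2 : ∀ v : Q.Mod, v + v = 0) {b : I} (h3 : Fintype.card (Om b) = 3) :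
    im Q ((S : Subgroup G) ⊓ E b) ∈ im Q '' EE (S : Subgroup G) V := ⟨_, mem_EE F Q hV2 h3, rfl⟩

/-- **(b)** -/
theorem im_eq {A : Subgroup G} (hA : A ∈ EE (S : Subgroup G) V) (h4 : Nat.card (im Q A) < 4) {b : I} {a : G}
    (ha : a ∈ A) (hab : a ∈ E b) (hn : a ∉ centralizer (V : Set G)) (h3 : Fintype.card (Om b) = 3) :
    im Q A = im Q ((S : Subgroup G) ⊓ E b) := by
  obtain ⟨a', ha', c, hc, han, htv, hall, hcard⟩ := exists_tv_gen Q F.ab F.SL hA h4
  have h5 : im Q A ≤ im Q ((S : Subgroup G) ⊓ E b) := by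
    rintro _ ⟨x, hx, rfl⟩
    have hxA : (x : G) ∈ A := hx
    have h6 := (hall a ha).resolve_left hn
    have haS : a ∈ (S : Subgroup G) := hA.1 ha
    rcases hall x hxA with h7 | h7
    · have h8 : ph Q x = 1 := MonoidHom.mem_ker.1 ((mem_ker Q).2 h7)
      rw [h8]
      exact one_mem _
    · refine ⟨⟨a, F.SL haS⟩, ⟨haS, hab⟩, ?_⟩
      have h8 : a⁻¹ * x ∈ centralizer (V : Set G) := by
        have e : a⁻¹ * x = (a'⁻¹ * a)⁻¹ * (a'⁻¹ * x) := by group
        rw [e]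
        exact mul_mem (inv_mem h6) h7
      have h9 : (⟨a, F.SL haS⟩ : M)⁻¹ * x ∈ (ph Q).ker := (mem_ker Q).2 h8
      rw [MonoidHom.mem_ker, map_mul, map_inv, inv_mul_eq_one] at h9
      exact h9
  refine eq_of_le_of_card_ge h5 ?_
  rw [hcard, card_im_E F Q h3]

/-- (a), (b) together -/
theorem exists_blk {A : Subgroup G} (hA : A ∈ EE (S : Subgroup G) V) (h4 : Nat.card (im Q A) < 4) :
    ∃ b, ∃ a ∈ A, a ∈ E b ∧ a ∉ centralizer (V : Set G) ∧ (∀ x ∈ A, ∀ v ∈ V, x * v * x⁻¹ * v⁻¹ ∈ N b) ∧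
      (Fintype.card (Om b) = 3 → im Q A = im Q ((S : Subgroup G) ⊓ E b)) := by
  obtain ⟨b, a, ha, hb, hn, h1, -, -⟩ := exists_tv F Q hA h4
  exact ⟨b, a, ha, hb, hn, h1, fun h3 => im_eq F Q hA h4 ha hb hn h3⟩

end full

end Cfsg.Agent.Omega.NOThreeL.RRed.Blk.AsmLet
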