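import Cfsg.Agent.Mrg.Omega.NOThreeL.RRed.Blk.AsmCls
import Cfsg.Agent.Mrg.Omega.NOThreeL.RRed.Blk.AsmLet


/-!
# NO-3L, box R: the two facts on transvections (`AsmCov.Sml`)
-/

set_option autoImplicit false

namespace Cfsg.Agent.Omega.NOThreeL.RRed.Blk.AsmSml

open Subgroup Cfsg
open Cfsg.Agent.Omega.NOThreeL.RRed.TvFin (Full TvV)
open Cfsg.Agent.Omega.NOThreeL.RSplit (Nrm)
open Cfsg.Agent.Omega.NOThreeL.RRed.Blk.AsmCov (Sml)

universe u

variable {G : Type u} [Group G] [Finite G] {S : Sylow 2 G} {M V : Subgroup G} {I : Type u} {N E : I → Subgroup G}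
  {R₀ : Subgroup G} {Om : I → Type u} [∀ i, Fintype (Om i)] [∀ i, DecidableEq (Om i)] {phi : ∀ i, Finset (Om i) → G}

/-- **the facts on transvections** -/
theorem sml (F : Full (S : Subgroup G) M V N E R₀ Om phi) (Q : Nrm M V) (hV2 : ∀ v : Q.Mod, v + v = 0) :
    Sml (S : Subgroup G) Q N E where
  blk A hA h4 := by
    obtain ⟨b, a, ha, hb, hn, h1, -⟩ := AsmLet.exists_blk F Q hA h4
    exact ⟨b, a, ha, hb, hn, h1⟩
  atom _ hs _ hc ht hn := AsmLet.atom Q hV2 F.ab F.SL hs hc ht hn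

end Cfsg.Agent.Omega.NOThreeL.RRed.Blk.AsmSml
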