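import Cfsg.Agent.Mrg.Omega.NOThreeL.RRed.Blk.AsmCls
import Cfsg.Agent.Mrg.Omega.NOThreeL.RRed.Blk.AsmLeftB
import Cfsg.Agent.Mrg.Omega.NOThreeL.RRed.HBadOf


/-!
# NO-3L, box R: the natural blocks `D ∈ RRs` satisfy `HBadOf.Kd`

* **`kd_data`** : the atom `A`, `im Q A = D`, and coordinates `e` of the block in which `A`, and every minimal exact `A' ≤ S`
  moving the block, act as root elements;
* **`kd_rrs`** : `Kd S N' b A` for every family `N'` with `N' b` the block of `D` and `N' c ≤ C D` for `c ≠ b`.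
-/

set_option autoImplicit false
set_option linter.unusedSectionVars false

namespace Cfsg.Agent.Omega.NOThreeL.RRed.Blk.KdRR

open Subgroup Cfsg Cfsg.Agent.ZN Cfsg.Agent.Omega.MinPar
open Cfsg.Agent.Omega.FFThm (NatKM NoOverM)
open Cfsg.Agent.Omega.NOThreeL.RSplit (Nrm)
open Cfsg.Agent.Omega.NOThreeL.RRed.NS (fxd brk mem_fxd un conj_eq_cj)
open Cfsg.Agent.Omega.NOThreeL.RRed.Blk.TypesNat (XH ph ph_smul XH_faith ph_eq ph_surj no_XH)
open Cfsg.Agent.Omega.NOThreeL.RRed.Blk.TypesGam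
open Cfsg.Agent.Omega.NOThreeL.RRed.Blk.Asm
open Cfsg.Agent.Omega.NOThreeL.RRed.Blk.AsmG (Inp RRs)
open Cfsg.Agent.Omega.NOThreeL.RRed.Blk.AsmT (NBT TD)
open Cfsg.Agent.Omega.NOThreeL.RRed.Blk.AsmNatBlk (pre mem_pre natBlk_of)
open Cfsg.Agent.Omega.NOThreeL.RRed.Blk.AsmCore (im EP KP im_cj mem_im ph_mem_im)
open Cfsg.Agent.Omega.NOThreeL.RRed.Blk.AsmOneBlk (EB nat_fam)
open Cfsg.Agent.Omega.NOThreeL.RRed.Blk.MixLn (two_le_rt)
open Cfsg.Agent.Omega.NOThreeL.RRed.WideTree (Act MvAct CM Wide NatBlk)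
open Cfsg.Agent.Omega.NOThreeL.RTree (RB)
open Cfsg.Agent.Omega.NOThreeL.Merge (MZ le_MZ isLoc_MZ)
open Cfsg.Agent.Omega.NOThreeL.RRed.LemmaE (Up)
open Cfsg.Agent.Omega.NOThreeL.RRed.HBadOf (Kd kd_nat)
open scoped Pointwise

universe u v

variable {G : Type u} [Group G] [Finite G] {S : Sylow 2 G}

/-- a 2-subgroup of `T` which contains the root group is the root group -/
theorem nbt_inf {X : Type u} {V : Type v} [Group X] [AddCommGroup V] [DistribMulAction X V] [Finite V]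
    {D T : Subgroup X} {N C : AddSubgroup V} (h : NBT D T N C) (hf : ∀ x : X, (∀ v : V, x • v = v) → x = 1)
    (h2 : ∀ v : V, v + v = 0) {S : Subgroup X} (hS : IsPGroup 2 S) (hD : D ≤ S) {x : X} (hx : x ∈ S) (hT : x ∈ T) :
    x ∈ D := by
  obtain ⟨F, i1, i2, e, f, up, lo, hB, rfl, rfl, -⟩ := h.ex
  exact two_le_rt hB hf h2 hS hD hx hT

/-- **The data of `kd_nat`.** -/
theorem kd_data (B : RB S) (mv : MvAct (S : Subgroup G))
    (no : NoOverM (zl (S : Subgroup G) (MZ (S : Subgroup G))) (MZ (S : Subgroup G)))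
    (Q : Nrm (MZ (S : Subgroup G)) (zl (S : Subgroup G) (MZ (S : Subgroup G)))) {D : Subgroup (XH Q)}
    (hD : D ∈ RRs S (MZ (S : Subgroup G)) Q) :
    ∃ (F : Type) (_ : Field F) (_ : CharP F 2) (e : G → Fin 2 → F) (A : Subgroup G),
      im Q A = D ∧ A ≤ (S : Subgroup G) ∧ Mx (Wd (S : Subgroup G)) A ∧
      (∀ v ∈ un Q (NN (EB S Q) Q.Mod D), ∀ w ∈ un Q (NN (EB S Q) Q.Mod D), e (v * w) = e v + e w) ∧
      (∀ v ∈ un Q (NN (EB S Q) Q.Mod D), e v = 0 → v = 1) ∧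
      (∀ x, ∃ v ∈ un Q (NN (EB S Q) Q.Mod D), e v = x) ∧
      A ≤ normalizer (un Q (NN (EB S Q) Q.Mod D) : Set G) ∧
      A ≤ centralizer (un Q (CC (EB S Q) Q.Mod D) : Set G) ∧
      (∀ β, ∃ a ∈ A, Up (un Q (NN (EB S Q) Q.Mod D)) e a β) ∧
      ∀ A' ≤ (S : Subgroup G), Mx (Wd (S : Subgroup G)) A' →
        ¬ A' ≤ centralizer (un Q (NN (EB S Q) Q.Mod D) : Set G) → ∀ a ∈ A', ∃ β, Up (un Q (NN (EB S Q) Q.Mod D)) e a β := by
  obtain ⟨hI, h4, hGB, hF, hTD⟩ := nat_fam B mv no Q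
  have hSL : (S : Subgroup G) ≤ MZ (S : Subgroup G) := (isLoc_MZ B.ctx B.full B.data.noff).le
  have hS2 : IsPGroup 2 (im Q (S : Subgroup G)) := (TypesNat.imS Q S hSL).isPGroup'
  obtain ⟨T, hT, -⟩ := hTD D hD
  obtain ⟨F, i1, i2, i3, e, -, hN⟩ := natBlk_of Q hI.el hSL S.isPGroup' hT (hF.le D hD)
  have hD' := hD
  obtain ⟨-, P, hP, hPL, A, hA, hDA⟩ := hD'
  have hnb := (hGB D hD).nb
  -- elements of minimal exact groups inducing `D` are root elements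
  have key : ∀ A' ≤ (S : Subgroup G), im Q A' = D → ∀ a ∈ A', ∃ β, Up (un Q (NN (EB S Q) Q.Mod D)) e a β := by
    intro A' hA' hi a ha
    have h1 : ph Q ⟨a, hSL (hA' ha)⟩ ∈ T := hT.le (hi ▸ ph_mem_im Q ha)
    exact hN.root a ⟨hA' ha, mem_pre.2 ⟨hSL (hA' ha), h1⟩⟩
  refine ⟨F, i1, i3, e, A, hDA.symm, hA.1.1, hA.1.2, hN.mul, hN.inj, hN.sur, ?_, ?_, ?_, ?_⟩
  · -- `A` normalises `N`
    have hle : ∀ a ∈ A, ∀ v ∈ un Q (NN (EB S Q) Q.Mod D), a * v * a⁻¹ ∈ un Q (NN (EB S Q) Q.Mod D) := by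
      rintro a ha _ ⟨m, hm, rfl⟩
      have haL : a ∈ MZ (S : Subgroup G) := hSL (hA.1.1 ha)
      have h1 : ph Q ⟨a, haL⟩ ∈ D := by rw [hDA]; exact ph_mem_im Q ha
      have h3 := ((hF.EX_le hD (hF.le_EX hD h1)) D hD m).1 hm
      rw [ph_smul] at h3
      exact ⟨_, h3, rfl⟩
    intro a ha
    refine mem_normalizer_iff.2 fun v => ⟨hle a ha v, fun hv => ?_⟩
    have h1 := hle a⁻¹ (inv_mem ha) _ hv
    have e1 : a⁻¹ * (a * v * a⁻¹) * a⁻¹⁻¹ = v := by group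
    rwa [e1] at h1
  · intro a ha
    rw [mem_centralizer_iff]
    rintro _ ⟨m, hm, rfl⟩
    have haL : a ∈ MZ (S : Subgroup G) := hSL (hA.1.1 ha)
    have h1 : ph Q ⟨a, haL⟩ ∈ D := by rw [hDA]; exact ph_mem_im Q ha
    have h3 := mem_fxd.1 (hnb.C_le hm) _ h1
    rw [ph_smul, NS.smul_eq_iff] at h3
    exact (mul_inv_eq_iff_eq_mul.1 h3).symm
  · intro β
    obtain ⟨s, hs, h1⟩ := hN.sylow β
    obtain ⟨hsL, hsT⟩ := mem_pre.1 hs.2
    have h3 : ph Q ⟨s, hsL⟩ ∈ D :=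
      nbt_inf hT hI.hf hI.two hS2 (hF.le D hD) (ph_mem_im Q hs.1) hsT
    rw [hDA] at h3
    obtain ⟨a, ha, h5⟩ := h3
    refine ⟨a, ha, fun v hv => ?_⟩
    obtain ⟨m, hm, rfl⟩ := hv
    have h6 := congrArg Q.val ((ph_eq Q).1 h5 m)
    rw [Nrm.val_smul, Nrm.val_smul] at h6
    have h7 : (a : G) * Q.val m * (a : G)⁻¹ = s * Q.val m * s⁻¹ := h6
    rw [h7]
    exact h1 _ ⟨m, hm, rfl⟩
  · intro A' hA' hM hn
    refine key A' hA' ?_
    by_contra hne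
    apply hn
    intro a ha
    rw [mem_centralizer_iff]
    rintro _ ⟨m, hm, rfl⟩
    have haL : a ∈ MZ (S : Subgroup G) := hSL (hA' ha)
    have h3 := (hGB D hD).oth _ ⟨A', ⟨hA', hM⟩, rfl⟩ hne _ (ph_mem_im Q (a := ⟨a, haL⟩) ha) m hm
    rw [ph_smul, NS.smul_eq_iff] at h3
    exact (mul_inv_eq_iff_eq_mul.1 h3).symm

/-- **`Kd`** -/
theorem kd_rrs (B : RB S) (mv : MvAct (S : Subgroup G))
    (no : NoOverM (zl (S : Subgroup G) (MZ (S : Subgroup G))) (MZ (S : Subgroup G)))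
    (Q : Nrm (MZ (S : Subgroup G)) (zl (S : Subgroup G) (MZ (S : Subgroup G)))) {D : Subgroup (XH Q)}
    (hD : D ∈ RRs S (MZ (S : Subgroup G)) Q) {κ : Type u} {N' : κ → Subgroup G} {b : κ}
    (hb : N' b = un Q (NN (EB S Q) Q.Mod D)) (oth : ∀ c, c ≠ b → N' c ≤ un Q (CC (EB S Q) Q.Mod D)) :
    ∃ A, Kd (S : Subgroup G) N' b A := by
  obtain ⟨F, i1, i3, e, A, h1, h2, h3, mul, inj, sur, nor, cen, all, rt⟩ := kd_data B mv no Q hD
  rw [← hb] at mul inj sur nor all rt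
  exact ⟨A, kd_nat mul inj sur h2 nor (fun c hc => cen.trans (centralizer_le (oth c hc))) all h3 rt⟩

end Cfsg.Agent.Omega.NOThreeL.RRed.Blk.KdRR
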