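import Cfsg.Agent.Mrg.Omega.NOThreeL.RRed.Blk.AsmCls
import Cfsg.Agent.Mrg.Omega.NOThreeL.RRed.Blk.KdRR
import Cfsg.Agent.Mrg.Omega.NOThreeL.RRed.Blk.AsmNBs
import Cfsg.Agent.Mrg.Omega.NOThreeL.RRed.HBadMixOf
import Cfsg.Agent.Mrg.Omega.NOThreeL.RRed.WideTree
import Cfsg.Agent.Mrg.Omega.NOThreeL.RRed.FourNl


/-!
# NO-3L, box R, the left case: the mixed family (natural blocks `RRs`, blocks of letters)

* **`mix_of`** : `Blk.Mix` for `N₁ = un Q (NN D)`, `D ∈ RRs`, and the blocks of letters `N b`;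
* **`three_box`** : the left case: all blocks of letters have three letters.
-/

set_option autoImplicit false
set_option linter.unusedSectionVars false

namespace Cfsg.Agent.Omega.NOThreeL.RRed.Blk.AsmThree

open Subgroup Cfsg Cfsg.Agent.ZN Cfsg.Agent.Omega.MinPar
open Cfsg.Agent.Omega.FFThm (NatKM NoOverM)
open Cfsg.Agent.Omega.NOThreeL.RSplit (Nrm)
open Cfsg.Agent.Omega.NOThreeL.RRed.NS (fxd brk mem_fxd un)
open Cfsg.Agent.Omega.NOThreeL.RRed.TvFin (Full TvV)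
open Cfsg.Agent.Omega.NOThreeL.RRed.Blk.TypesNat (XH ph ph_smul XH_faith ph_eq ph_surj)
open Cfsg.Agent.Omega.NOThreeL.RRed.Blk.Asm
open Cfsg.Agent.Omega.NOThreeL.RRed.Blk.AsmG (Inp RRs)
open Cfsg.Agent.Omega.NOThreeL.RRed.Blk.AsmT (NBT TD)
open Cfsg.Agent.Omega.NOThreeL.RRed.Blk.AsmNatBlk (pre mem_pre natBlk_of)
open Cfsg.Agent.Omega.NOThreeL.RRed.Blk.AsmCore (im)
open Cfsg.Agent.Omega.NOThreeL.RRed.Blk.AsmOneBlk (nat_fam rrs_sub)
open Cfsg.Agent.Omega.NOThreeL.RRed.Blk.AsmCls (irr_of cl_EE)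
open Cfsg.Agent.Omega.NOThreeL.RRed.Blk.AsmCov (Sml cover excl)
open Cfsg.Agent.Omega.NOThreeL.RRed.WideTree (Act MvAct CM Wide NatBlk Left)
open Cfsg.Agent.Omega.NOThreeL.RTree (RB)
open Cfsg.Agent.Omega.NOThreeL.Merge (MZ le_MZ isLoc_MZ)
open scoped Pointwise

universe u v

variable {G : Type u} [Group G] [Finite G] {S : Sylow 2 G} {ι : Type u} {W : ι → Subgroup G}
  {I : Type u} {N E : I → Subgroup G} {R₀ : Subgroup G} {Om : I → Type u} [∀ i, Fintype (Om i)] [∀ i, DecidableEq (Om i)]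
  {phi : ∀ i, Finset (Om i) → G}

/-- the natural blocks in `G` -/
noncomputable abbrev N1 (S : Sylow 2 G) (Q : Nrm (MZ (S : Subgroup G)) (zl (S : Subgroup G) (MZ (S : Subgroup G))))
    (D : ↥(RRs S (MZ (S : Subgroup G)) Q)) : Subgroup G :=
  un Q (NN (AsmOneBlk.EB S Q) Q.Mod (D : Subgroup (XH Q)))

/-- their complements -/
noncomputable abbrev C1 (S : Sylow 2 G) (Q : Nrm (MZ (S : Subgroup G)) (zl (S : Subgroup G) (MZ (S : Subgroup G))))
    (D : ↥(RRs S (MZ (S : Subgroup G)) Q)) : Subgroup G :=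
  un Q (CC (AsmOneBlk.EB S Q) Q.Mod (D : Subgroup (XH Q)))

theorem ne_bot_of {X : Type u} [Group X] {D : Subgroup X} (h : 4 ≤ Nat.card D) : D ≠ ⊥ := by
  rintro rfl
  rw [card_bot] at h
  omega

theorem nbt_inv {X : Type u} {V : Type v} [Group X] [AddCommGroup V] [DistribMulAction X V] {D T : Subgroup X}
    {N C : AddSubgroup V} (h : NBT D T N C) {x : X} (hx : x ∈ T) {m : V} (hm : m ∈ N) : x • m ∈ N := by
  obtain ⟨F, i1, i2, e, f, up, lo, hB, -, h3, h4⟩ := h.ex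
  obtain ⟨B, hxB⟩ := AsmSL.sla_of_clo hB (h3.symm ▸ hx)
  rw [← h4] at hm ⊢
  obtain ⟨_, ⟨a, rfl⟩, _, ⟨b, rfl⟩, rfl⟩ := AddSubgroup.mem_sup.1 hm
  have h5 := hxB.act ![a, b]
  simp only [Matrix.cons_val_zero, Matrix.cons_val_one] at h5
  rw [h5]
  exact add_mem (AddSubgroup.mem_sup_left ⟨_, rfl⟩) (AddSubgroup.mem_sup_right ⟨_, rfl⟩)

/-- **The mixed family** -/
theorem mix_of (B : RB S) (mv : MvAct (S : Subgroup G))
    (no : NoOverM (zl (S : Subgroup G) (MZ (S : Subgroup G))) (MZ (S : Subgroup G))) (h : CM (S : Subgroup G) W)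
    (Q : Nrm (MZ (S : Subgroup G)) (zl (S : Subgroup G) (MZ (S : Subgroup G))))
    (F : Full (S : Subgroup G) (MZ (S : Subgroup G)) (Wd (S : Subgroup G)) N E R₀ Om phi)
    (sm : Sml (S : Subgroup G) Q N E) :
    ∃ (T₁ : ↥(RRs S (MZ (S : Subgroup G)) Q) → Subgroup G) (cls₁ : ↥(RRs S (MZ (S : Subgroup G)) Q) → ι) (cls : I → ι),
      (∀ D : ↥(RRs S (MZ (S : Subgroup G)) Q), Cl (fun i => Q.ad (W i)) D.1 (cls₁ D)) ∧
      Blk.Mix (MZ (S : Subgroup G)) (Wd (S : Subgroup G)) N W (N1 S Q) (C1 S Q) T₁ cls₁ cls := by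
  obtain ⟨hI, h4, hGB, hF, hTD⟩ := nat_fam B mv no Q
  have hSL : (S : Subgroup G) ≤ MZ (S : Subgroup G) := (isLoc_MZ B.ctx B.full B.data.noff).le
  have hirr : ClsBlk.Irr (MZ (S : Subgroup G)) (zl (S : Subgroup G) (MZ (S : Subgroup G))) W := irr_of h
  have h2 : ∀ v : Q.Mod, v + v = 0 := hI.two
  have hC := AsmCls.cls_of hirr Q
  have h1 : ∀ D : ↥(RRs S (MZ (S : Subgroup G)) Q), ∃ T : Subgroup (XH Q), NBT (D : Subgroup (XH Q)) T
      (NN (AsmOneBlk.EB S Q) Q.Mod D) (CC (AsmOneBlk.EB S Q) Q.Mod D) := fun D => by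
    obtain ⟨T, hT, -⟩ := hTD D D.2
    exact ⟨T, hT⟩
  choose T hT using h1
  choose cls₁ hcl₁ using fun D : ↥(RRs S (MZ (S : Subgroup G)) Q) => cl_EE h Q D.1 (rrs_sub D.2)
  choose cls hcl using ClsBlk.exists_le hirr F
  have hcong : ∀ (i : ι) (D : ↥(RRs S (MZ (S : Subgroup G)) Q)),
      Cl (fun i => Q.ad (W i)) (D : Subgroup (XH Q)) i → N1 S Q D ≤ W i := fun i D hD => by
    have h3 := hC.le h2 (hF.nb D.1 D.2) hD
    rw [← AsmUn.un_le_iff (Q := Q), AsmUn.un_ad Q (hirr.le i)] at h3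
    exact h3
  refine ⟨fun D => pre Q (T D), cls₁, cls, hcl₁, ?_⟩
  refine
    { irr := hirr
      ne := ?_
      sup := ?_
      inf := ?_
      oth := ?_
      perm := ?_
      TM := ?_
      TC := ?_
      tr := ?_
      le₁ := fun D => hcong _ D (hcl₁ D)
      le₂ := hcl
      dis := ?_
      cov := ?_ }
  · intro D h0
    exact (hF.nb D D.2).ne_bot ((AsmUn.un_eq_bot Q).1 h0)
  · intro D
    show un Q _ ⊔ un Q _ = _
    rw [← AsmUn.un_sup, (show NN (AsmOneBlk.EB S Q) Q.Mod (D : Subgroup (XH Q)) ⊔ CC (AsmOneBlk.EB S Q) Q.Mod D = ⊤ from ?_),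
      AsmUn.un_top]
    · rfl
    · obtain ⟨F', i1, i2, e, f, up, lo, hB, -, hN⟩ := (hF.nb D D.2).ex
      rw [← hN]
      exact sup_eq_top hB
  · intro D
    show un Q _ ⊓ un Q _ = _
    rw [← AsmUn.un_inf, AsmUn.un_eq_bot, eq_bot_iff]
    rintro m ⟨hm, hm'⟩
    exact AddSubgroup.mem_bot.2 ((hF.nb D D.2).inf_bot hm hm')
  · intro D D' hne
    exact AsmUn.un_mono (hF.ind D D.2 D' D'.2 fun e => hne (Subtype.ext e))
  · intro g hg D
    obtain ⟨D', hD', -, h3⟩ := hF.perm (ph Q ⟨g, hg⟩) D D.2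
    exact ⟨⟨D', hD'⟩, AsmNBs.un_conj (Q := Q) (h := ⟨g, hg⟩) h3⟩
  · intro D x hx
    exact (mem_pre.1 hx).1
  · rintro D x hx
    obtain ⟨hxM, hxT⟩ := mem_pre.1 hx
    have h3 := (AsmNBs.mem_cent_un (Q := Q) (A := CC (AsmOneBlk.EB S Q) Q.Mod D) (h := ⟨x, hxM⟩)).2 fun m hm => by
      have := (hT D).cent hxT hm
      rwa [ph_smul] at this
    exact h3
  · intro D x hx hx1 y hy hy1
    obtain ⟨F', i1, i2, i3, e, -, hN⟩ := natBlk_of Q hI.el hSL S.isPGroup' (hT D) (hF.le D D.2)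
    refine FullSup.NatBlk_trans hN ?_ hx hx1 hy hy1
    have hle : ∀ x ∈ pre Q (T D), ∀ v ∈ un Q (NN (AsmOneBlk.EB S Q) Q.Mod (D : Subgroup (XH Q))),
        x * v * x⁻¹ ∈ un Q (NN (AsmOneBlk.EB S Q) Q.Mod (D : Subgroup (XH Q))) := by
      rintro x hx _ ⟨m, hm, rfl⟩
      obtain ⟨hxM, hxT⟩ := mem_pre.1 hx
      have h3 := nbt_inv (hT D) hxT hm
      rw [ph_smul] at h3
      exact ⟨_, h3, rfl⟩
    intro g hg
    refine mem_normalizer_iff.2 fun v => ⟨hle g hg v, fun hv => ?_⟩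
    have h5 := hle g⁻¹ (inv_mem hg) _ hv
    have e1 : g⁻¹ * (g * v * g⁻¹) * g⁻¹⁻¹ = v := by group
    rwa [e1] at h5
  · intro D b hDb
    exact excl (b := b) (i := cls₁ D) h Q F sm h2 hF hGB rrs_sub h4 D.2 (hcl₁ D) (by rw [hDb]; exact hcl b)
  · intro i
    rcases cover B mv h Q F sm i with ⟨D, hD, hi⟩ | ⟨b, hb⟩
    · left
      refine ⟨⟨D, hD⟩, ?_⟩
      exact hC.uniq hI.hf (hcl₁ ⟨D, hD⟩) hi (ne_bot_of (h4 D hD))
    · right
      exact ⟨b, (ClsBlk.not_le_two hirr F hb (hcl b))⟩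

/-- **The left case: three letters in each block** -/
theorem three_box [Finite I] (B : RB S) (mv : MvAct (S : Subgroup G))
    (no : NoOverM (zl (S : Subgroup G) (MZ (S : Subgroup G))) (MZ (S : Subgroup G))) (h : CM (S : Subgroup G) W)
    (hL : Left (S : Subgroup G) W) (hij : ∃ i j : ι, i ≠ j)
    (Q : Nrm (MZ (S : Subgroup G)) (zl (S : Subgroup G) (MZ (S : Subgroup G))))
    (F : Full (S : Subgroup G) (MZ (S : Subgroup G)) (Wd (S : Subgroup G)) N E R₀ Om phi)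
    (sm : Sml (S : Subgroup G) Q N E)
    (b : I) : Fintype.card (Om b) = 3 := by
  obtain ⟨T₁, cls₁, cls, hcl₁, X⟩ := mix_of B mv no h Q F sm
  obtain ⟨hI, h4, hGB, hF, hTD⟩ := nat_fam B mv no Q
  have hirr : ClsBlk.Irr (MZ (S : Subgroup G)) (zl (S : Subgroup G) (MZ (S : Subgroup G))) W := irr_of h
  have hC := AsmCls.cls_of hirr Q
  have h2 : ∀ v : Q.Mod, v + v = 0 := hI.two
  have sq : ∀ v ∈ Wd (S : Subgroup G), v * v = 1 := fun v hv => by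
    have := (NS.elem_Wd B).2 v hv
    rwa [pow_two] at this
  obtain ⟨D, O, hW⟩ := mix_main sq F X
  refine AsmLeftA.three_of B h hL hij F X.le₁ X.le₂ X.dis D O hW (HBadOf.hBad_mix F X sq (PermRRs.permN_rrs' B mv no Q) fun D => ?_) b
  refine KdRR.kd_rrs B mv no Q D.2 (N' := Sum.elim (N1 S Q) N) (b := Sum.inl D) rfl ?_
  rintro (c | c) hc
  · exact X.oth D c fun e => hc (by rw [e])
  · -- a block of letters lies in the complement
    have h3 : Q.ad (W (cls c)) ≤ CC (AsmOneBlk.EB S Q) Q.Mod D.1 :=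
      (hF.nb D.1 D.2).inv_le h2 (hC.inv (cls c)) (hcl₁ D (cls c) (X.dis D c).symm)
    rw [← AsmUn.un_le_iff (Q := Q), AsmUn.un_ad Q (hirr.le _)] at h3
    exact (X.le₂ c).trans h3

end Cfsg.Agent.Omega.NOThreeL.RRed.Blk.AsmThree
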