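import Cfsg.Agent.Mrg.Omega.NOThreeL.RRed.Blk.AsmLeftB
import Cfsg.Agent.Mrg.Omega.NOThreeL.RRed.Blk.AsmSml
import Cfsg.Agent.Mrg.Omega.NOThreeL.RRed.Blk.AsmThree
import Cfsg.Agent.Mrg.Omega.NOThreeL.RRed.Blk.AsmCls


/-!
# NO-3L, box R: the socket `LeftBlk` (helper283)

* **`leftBlk`** : the left case: natural blocks of all classes.
-/

set_option autoImplicit false
set_option linter.unusedSectionVars false

namespace Cfsg.Agent.Omega.NOThreeL.RRed.Blk.AsmLeftBlk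

open Subgroup Cfsg Cfsg.Agent.ZN Cfsg.Agent.Omega.MinPar
open Cfsg.Agent.Omega.NOThreeL.RRed.WideTree (MvAct CM Left LeftBlk)
open Cfsg.Agent.Omega.NOThreeL.Merge (MZ le_MZ isLoc_MZ)

universe u

/-- **`LeftBlk`** -/
theorem leftBlk : LeftBlk.{u} := by
  intro G _ _ S hW mv ι _ W h hij hL
  have B := hW.toRB
  have hSL : (S : Subgroup G) ≤ MZ (S : Subgroup G) := (isLoc_MZ B.ctx B.full B.data.noff).le
  have no := AsmMain.no B mv
  obtain ⟨I, hI, _, N, E, R₀, Om, _, _, phi, F⟩ := TvFin.blocks_zl hSL (NS.elem_Wd B).2 no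
  have Q := AsmInp.nrm_box B
  have sm := AsmSml.sml F Q (AsmMain.inp_of B mv Q).two
  exact AsmLeftB.fin B mv h no Q F sm (AsmThree.three_box B mv no h hL hij Q F sm)

end Cfsg.Agent.Omega.NOThreeL.RRed.Blk.AsmLeftBlk
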