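import Cfsg.Agent.Mrg.Omega.NOThreeL.RRed.Blk.AsmPair
import Cfsg.Agent.Mrg.Omega.NOThreeL.RRed.Blk.TypesAway


/-!
# NO-3L, box R: natural blocks and `𝔽₂`-blocks in different classes (helper283)

`X` acts on `V = ⨁ W i`, `W i` irreducible (`Cls X W`); `Cl W D i` : `D` is trivial on `W j`, `j ≠ i`.

* `NB.inv_le` : an invariant `W` on which the root group `D` is trivial lies in the complement `C`;
* `Cls.brk_le`, `Cls.cent`, `Cls.uniq`; `Cls.fam` : the members of a family of class `i` are a family;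
  `Cls.fam_sup` : their product is `W i`;
* `Cls.disj` : if the natural blocks with `|D| ≥ 4` are `GB`, no member of `EE` of order at most 3 has the same class;
* **`Cls.mix`** : the union of the two families.
-/

set_option autoImplicit false
set_option linter.unusedSectionVars false

namespace Cfsg.Agent.Omega.NOThreeL.RRed.Blk.Asm

open Cfsg.Agent.Omega.NOThreeL.RRed.NS (fxd brk mem_fxd)
open Cfsg.Agent.Omega.NOThreeL.RRed.Blk.TypesGam Cfsg.Agent.Omega.NOThreeL.RRed.Blk.Types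
open scoped Pointwise

universe u v w

variable {X : Type u} {V : Type v} [Group X] [AddCommGroup V] [DistribMulAction X V]

/-- an invariant subgroup on which `D` is trivial lies in the complement -/
theorem NB.inv_le (h2 : ∀ v : V, v + v = 0) {D : Subgroup X} {N C : AddSubgroup V} (h : NB D N C) {W : AddSubgroup V}
    (hW : ∀ (g : X), ∀ m ∈ W, g • m ∈ W) (hD : ∀ d ∈ D, ∀ m ∈ W, d • m = m) : W ≤ C := by
  obtain ⟨F, _, _, e, f, up, lo, hB, rfl, rfl⟩ := h.ex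
  have key : ∀ x y : F, ∀ c ∈ C, e x + f y + c ∈ W → y = 0 := by
    intro x y c hc hm
    have h1 := hD (up 1) (up_mem (up := up) 1) _ hm
    rw [smul_add, smul_add, hB.up_e, hB.up_f, hB.up_c 1 c hc, one_mul] at h1
    have h3 : e y = 0 := by
      have h4 : e x + (f y + e y) + c = (e x + f y + c) + e y := by abel
      rw [h4] at h1
      exact add_eq_left.1 h1
    have h5 : e y + f 0 ∈ C := by rw [h3, map_zero, add_zero]; exact C.zero_mem
    exact (hB.ind y 0 h5).1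
  intro m hm
  obtain ⟨x, y, c, hc, rfl⟩ := hB.dec m
  have hy := key x y c hc hm
  subst hy
  have h1 := hW (wt up lo 1) _ hm
  rw [map_zero, add_zero, smul_add, hB.wt_e h2 one_ne_zero, hB.wt_c 1 hc, inv_one, one_mul] at h1
  have h3 := key 0 x c hc (by rw [map_zero, zero_add]; exact h1)
  subst h3
  rw [map_zero, map_zero, zero_add, zero_add]
  exact hc

/-- the root group moves the block -/
theorem NB.move {D : Subgroup X} {N C : AddSubgroup V} (h : NB D N C) (hD : ∀ d ∈ D, ∀ m ∈ N, d • m = m) : False := by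
  obtain ⟨F, _, _, e, f, up, lo, hB, rfl, rfl⟩ := h.ex
  have h1 := hD (up 1) (up_mem (up := up) 1) (f 1) (AddSubgroup.mem_sup_right ⟨1, rfl⟩)
  rw [hB.up_f, one_mul] at h1
  have h3 : e 1 + f 0 ∈ C := by rw [map_zero, add_zero, add_eq_left.1 h1]; exact C.zero_mem
  exact one_ne_zero (hB.ind 1 0 h3).1

variable {κ : Type w} {W : κ → AddSubgroup V}

/-- `D` is trivial on `W j`, `j ≠ i` -/
def Cl (W : κ → AddSubgroup V) (D : Subgroup X) (i : κ) : Prop := ∀ j, j ≠ i → ∀ d ∈ D, ∀ m ∈ W j, d • m = m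

/-- `V = ⨁ W i`, `W i` irreducible. -/
structure Cls (X : Type u) {V : Type v} [Group X] [AddCommGroup V] [DistribMulAction X V] (W : κ → AddSubgroup V) :
    Prop where
  inv : ∀ i (g : X), ∀ m ∈ W i, g • m ∈ W i
  irr : ∀ i, ∀ U : AddSubgroup V, U ≤ W i → (∀ (g : X), ∀ m ∈ U, g • m ∈ U) → U ≠ ⊥ → W i ≤ U
  sup : ⨆ i, W i = ⊤
  dis : ∀ i j, i ≠ j → W i ⊓ W j = ⊥

namespace Cls

variable (C : Cls X W)
include C

/-- a property of `V` which holds on the classes -/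
theorem ind {p : V → Prop} (h : ∀ i, ∀ m ∈ W i, p m) (h0 : p 0) (ha : ∀ a b, p a → p b → p (a + b)) (v : V) : p v := by
  have h1 : v ∈ ⨆ i, W i := by rw [C.sup]; exact AddSubgroup.mem_top v
  exact AddSubgroup.iSup_induction W (C := p) h1 h h0 ha

theorem brk_le {D : Subgroup X} {i : κ} (h : Cl W D i) : brk V D ≤ W i := by
  refine Types.brk_le fun d hd v => ?_
  refine C.ind (p := fun v => d • v - v ∈ W i) (fun j m hm => ?_) ?_ (fun a b ha hb => ?_) v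
  · by_cases hj : j = i
    · subst hj
      exact sub_mem (C.inv j d m hm) hm
    · rw [h j hj d hd m hm, sub_self]
      exact zero_mem _
  · rw [smul_zero, sub_self]
    exact zero_mem _
  · have e1 : d • (a + b) - (a + b) = (d • a - a) + (d • b - b) := by rw [smul_add]; abel
    rw [e1]
    exact add_mem ha hb

/-- `D` of class `i`, trivial on `W i`: `D = 1` -/
theorem cent (hf : ∀ x : X, (∀ v : V, x • v = v) → x = 1) {D : Subgroup X} {i : κ} (h : Cl W D i)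
    (h1 : ∀ d ∈ D, ∀ m ∈ W i, d • m = m) : D = ⊥ := by
  rw [eq_bot_iff]
  intro d hd
  rw [Subgroup.mem_bot]
  refine hf d fun v => ?_
  refine C.ind (p := fun v => d • v = v) (fun j m hm => ?_) (smul_zero d) (fun a b ha hb => ?_) v
  · by_cases hj : j = i
    · subst hj; exact h1 d hd m hm
    · exact h j hj d hd m hm
  · rw [smul_add, ha, hb]

theorem uniq (hf : ∀ x : X, (∀ v : V, x • v = v) → x = 1) {D : Subgroup X} {i j : κ} (h : Cl W D i) (h' : Cl W D j)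
    (hD : D ≠ ⊥) : i = j := by
  by_contra hij
  exact hD (C.cent hf h fun d hd m hm => h' i hij d hd m hm)

theorem le (h2 : ∀ v : V, v + v = 0) {D : Subgroup X} {N K : AddSubgroup V} (h : NB D N K) {i : κ} (hc : Cl W D i) :
    N ≤ W i :=
  h.le_of_inv h2 (C.inv i) (C.brk_le hc)

variable {S : Subgroup X} {FF : Set (Subgroup X)} {N K : Subgroup X → AddSubgroup V}

/-- the members of class `i` -/
theorem fam (h2 : ∀ v : V, v + v = 0) (h : Fam S FF N K) (hc : ∀ D ∈ FF, ∃ i, Cl W D i) (i : κ) :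
    Fam S {D | D ∈ FF ∧ Cl W D i} N K where
  le := fun D hD => h.le D hD.1
  nb := fun D hD => h.nb D hD.1
  ind := fun D hD D' hD' hne => h.ind D hD.1 D' hD'.1 hne
  perm := by
    rintro g D ⟨hD, hi⟩
    obtain ⟨D', hD', h1, h3⟩ := h.perm g D hD
    refine ⟨D', ⟨hD', ?_⟩, h1, h3⟩
    obtain ⟨j, hj⟩ := hc D' hD'
    have hij : i = j := by
      by_contra hne
      have h4 : N D' ≤ W i := by
        intro m hm
        have h5 : g⁻¹ • m ∈ N D := (h3 _).2 (by rwa [smul_inv_smul])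
        have h6 := C.inv i g _ (C.le h2 (h.nb D hD) hi h5)
        rwa [smul_inv_smul] at h6
      have h5 : N D' ≤ W i ⊓ W j := le_inf h4 (C.le h2 (h.nb D' hD') hj)
      rw [C.dis i j hne] at h5
      exact (h.nb D' hD').ne_bot (le_bot_iff.1 h5)
    rw [hij]; exact hj
  sinv := by
    rintro s hs D ⟨hD, hi⟩
    refine ⟨h.sinv s hs D hD, fun j hj d hd m hm => ?_⟩
    have h1 := hi j hj _ (mem_cj.1 hd) _ (C.inv j s⁻¹ m hm)
    rw [mul_smul, mul_smul, smul_inv_smul] at h1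
    exact MulAction.injective s⁻¹ h1

/-- the product of the members of class `i` -/
theorem fam_sup (h2 : ∀ v : V, v + v = 0) (h : Fam S FF N K) (hc : ∀ D ∈ FF, ∃ i, Cl W D i) {i : κ}
    (hne : ∃ D ∈ FF, Cl W D i) : ⨆ D ∈ {D | D ∈ FF ∧ Cl W D i}, N D = W i := by
  obtain ⟨D, hD, hi⟩ := hne
  exact (C.fam h2 h hc i).sup_eq h2 ⟨D, hD, hi⟩ (C.inv i) (C.irr i) fun D hD => C.brk_le hD.2

/-- the product of all members -/
theorem fam_top (h2 : ∀ v : V, v + v = 0) (h : Fam S FF N K) (hc : ∀ D ∈ FF, ∃ i, Cl W D i)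
    (hne : ∀ i, ∃ D ∈ FF, Cl W D i) : ⨆ D ∈ FF, N D = ⊤ := by
  rw [eq_top_iff, ← C.sup]
  refine iSup_le fun i => ?_
  rw [← C.fam_sup h2 h hc (hne i)]
  exact iSup₂_le fun D hD => le_iSup₂ (f := fun D (_ : D ∈ FF) => N D) D hD.1

variable {EE FF₁ FF₂ : Set (Subgroup X)} {N₁ K₁ N₂ K₂ : Subgroup X → AddSubgroup V}

/-- big and small members have different classes -/
theorem disj (h2 : ∀ v : V, v + v = 0) (hf : ∀ x : X, (∀ v : V, x • v = v) → x = 1) (h₁ : Fam S FF₁ N₁ K₁)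
    (hGB : ∀ D ∈ FF₁, GB EE D (N₁ D) (K₁ D)) (h4 : ∀ D ∈ FF₁, 4 ≤ Nat.card D) (hcl : ∀ D ∈ FF₁, ∃ i, Cl W D i)
    {D' : Subgroup X} (hE : D' ∈ EE) (h3 : Nat.card D' < 4) (hne : D' ≠ ⊥) {D : Subgroup X} (hD : D ∈ FF₁) {i : κ}
    (hi : Cl W D i) (hi' : Cl W D' i) : False := by
  apply hne
  refine C.cent hf hi' ?_
  have h5 : W i ≤ (fxd D' : AddSubgroup V) := by
    rw [← C.fam_sup h2 h₁ hcl ⟨D, hD, hi⟩]
    refine iSup₂_le fun A hA m hm => ?_
    rw [mem_fxd]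
    refine fun d hd => (hGB A hA.1).oth D' hE ?_ d hd m hm
    rintro rfl
    have := h4 _ hA.1
    omega
  intro d hd m hm
  exact (mem_fxd.1 (h5 hm)) d hd

/-- the hypothesis of `Fam.union` -/
theorem pair (h2 : ∀ v : V, v + v = 0) {D D' : Subgroup X} {N N' K K' : AddSubgroup V} (h : NB D N K) (h' : NB D' N' K')
    {i j : κ} (hij : i ≠ j) (hi : Cl W D i) (hj : Cl W D' j) : D ≠ D' ∧ N' ≤ K ∧ N ≤ K' := by
  refine ⟨?_, ?_, ?_⟩
  · rintro rfl
    exact h'.move fun d hd m hm => hi j (Ne.symm hij) d hd m (C.le h2 h' hj hm)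
  · exact (C.le h2 h' hj).trans (h.inv_le h2 (C.inv j) fun d hd m hm => hi j (Ne.symm hij) d hd m hm)
  · exact (C.le h2 h hi).trans (h'.inv_le h2 (C.inv i) fun d hd m hm => hj i hij d hd m hm)

/-- **The union of the two families.** -/
theorem mix (h2 : ∀ v : V, v + v = 0) (hf : ∀ x : X, (∀ v : V, x • v = v) → x = 1) (h₁ : Fam S FF₁ N₁ K₁)
    (hGB : ∀ D ∈ FF₁, GB EE D (N₁ D) (K₁ D)) (h4 : ∀ D ∈ FF₁, 4 ≤ Nat.card D) (h₂ : Fam S FF₂ N₂ K₂)
    (hE2 : FF₂ ⊆ EE) (h3 : ∀ D ∈ FF₂, Nat.card D < 4) (hc₁ : ∀ D ∈ FF₁, ∃ i, Cl W D i)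
    (hc₂ : ∀ D ∈ FF₂, ∃ i, Cl W D i) :
    Fam S (FF₁ ∪ FF₂) (uN FF₁ N₁ N₂) (uN FF₁ K₁ K₂) ∧
      (∀ i, (∃ D ∈ FF₁ ∪ FF₂, Cl W D i) → ⨆ D ∈ {D | D ∈ FF₁ ∪ FF₂ ∧ Cl W D i}, uN FF₁ N₁ N₂ D = W i) ∧
      ((∀ i, ∃ D ∈ FF₁ ∪ FF₂, Cl W D i) → ⨆ D ∈ FF₁ ∪ FF₂, uN FF₁ N₁ N₂ D = ⊤) := by
  have hU : Fam S (FF₁ ∪ FF₂) (uN FF₁ N₁ N₂) (uN FF₁ K₁ K₂) := by
    refine Fam.union h₁ h₂ fun D hD D' hD' => ?_
    obtain ⟨i, hi⟩ := hc₁ D hD
    obtain ⟨j, hj⟩ := hc₂ D' hD'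
    refine C.pair h2 (h₁.nb D hD) (h₂.nb D' hD') ?_ hi hj
    rintro rfl
    refine C.disj h2 hf h₁ hGB h4 hc₁ (hE2 hD') (h3 D' hD') ?_ hD hi hj
    intro h0
    refine (h₂.nb D' hD').move fun d hd m _ => ?_
    rw [h0, Subgroup.mem_bot] at hd
    rw [hd, one_smul]
  have hc : ∀ D ∈ FF₁ ∪ FF₂, ∃ i, Cl W D i := by
    rintro D (hD | hD)
    · exact hc₁ D hD
    · exact hc₂ D hD
  exact ⟨hU, fun i hi => C.fam_sup h2 hU hc hi, fun hne => C.fam_top h2 hU hc hne⟩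

end Cls

end Cfsg.Agent.Omega.NOThreeL.RRed.Blk.Asm
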