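import Cfsg.Agent.Mrg.Omega.NOThreeL.RRed.Blk.AsmTD


/-!
# NO-3L, box R: `AsmT.exists_T` without `⨆ N D = ⊤` (for `mvAct_of_e1s`, the case `q = 4`)

`F : Fam S FF N C`, `4 ≤ |D|` for `D ∈ FF`.

* `cj_C` : the complements are transported: `conj g • D ∈ FF` ⟹ `(C D)^g = C (D^g)`;
* **`exists_T'`** : `Tor`: there are `T D` with `NBT D (T D) (N D) (C D)` and `(T D)^s = T (D^s)`, `s ∈ S`;
* **`NBT.fix`** : `x ∈ T`, `0 ≠ v ∈ N` fixed by `D` and by `D^x` ⟹ `D^x = D`;
* `NBT.moves` : some `x ∈ T` does not normalise `D`.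
-/

set_option autoImplicit false
set_option linter.unusedSectionVars false

namespace Cfsg.Agent.Omega.NOThreeL.RRed.Blk.AsmTX

open Matrix
open Cfsg.Agent.Omega.NOThreeL.RRed.NS (fxd mem_fxd)
open Cfsg.Agent.Omega.NOThreeL.RRed.Blk.TypesGam
open Cfsg.Agent.Omega.NOThreeL.RRed.Blk.TypesEq
open Cfsg.Agent.Omega.NOThreeL.RRed.Blk.TypesClo
open Cfsg.Agent.Omega.NOThreeL.RRed.Blk.Asm
open Cfsg.Agent.Omega.NOThreeL.RRed.Blk.AsmSL
open Cfsg.Agent.Omega.NOThreeL.RRed.Blk.AsmT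
open scoped Pointwise

universe u v

variable {X : Type u} {V : Type v} [Group X] [AddCommGroup V] [DistribMulAction X V]

/-- **uniqueness of `T`**, `|D| ≥ 4` -/
theorem NBT.uniqE [Finite X] [Finite V] (h2 : ∀ v : V, v + v = 0) (hf : ∀ x : X, (∀ v : V, x • v = v) → x = 1)
    (hno : NO X V) {D T T' : Subgroup X} {N C : AddSubgroup V} (hD4 : 4 ≤ Nat.card D) (h : NBT D T N C)
    (h' : NBT D T' N C) {R E : Subgroup X} (hTE : T ≤ E) (hTE' : T' ≤ E)
    (hR : R ≤ E) (hodd : ¬ 2 ∣ R.relIndex E) (n : Nat.card D = 4 → ∀ x ∈ R, MulAut.conj x • T = T)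
    (n' : Nat.card D = 4 → ∀ x ∈ R, MulAut.conj x • T' = T') : T = T' := by
  obtain ⟨F, i1, i2, e, f, up, lo, a1, a2, a3, a4⟩ := h.ex
  obtain ⟨F', i1', i2', e', f', up', lo', b1, b2, b3, b4⟩ := h'.ex
  have hcF : Nat.card D = Nat.card F := by rw [← a2]; exact a1.card_rt h2 hf
  have hrt : rt up = rt up' := a2.trans b2.symm
  rcases (by omega : Nat.card F = 4 ∨ 4 < Nat.card F) with hF | hF
  · -- `|F| = 4`
    have hD4 : Nat.card D = 4 := hcF.trans hF
    rcases AsmT.exists_swap a1 b1 h2 hf hno hF hrt with h5 | ⟨y, hy, y1, y2⟩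
    · rw [← a3, ← b3, h5]
    · by_contra hne
      rw [a3, b3] at hy y1 y2
      -- the stabiliser of `{T, T'}`
      let K : Subgroup X :=
        { carrier := {x | x ∈ E ∧ MulAut.conj x • T = T ∧ MulAut.conj x • T' = T'}
          one_mem' := ⟨one_mem _, by rw [map_one, one_smul], by rw [map_one, one_smul]⟩
          mul_mem' := by
            rintro a b ⟨p1, p2, p3⟩ ⟨q1, q2, q3⟩
            exact ⟨mul_mem p1 q1, by rw [map_mul, mul_smul, q2, p2], by rw [map_mul, mul_smul, q3, p3]⟩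
          inv_mem' := by
            rintro a ⟨p1, p2, p3⟩
            exact ⟨inv_mem p1, by rw [map_inv, inv_smul_eq_iff, p2], by rw [map_inv, inv_smul_eq_iff, p3]⟩ }
      let W : Subgroup X :=
        { carrier := {x | x ∈ E ∧ ((MulAut.conj x • T = T ∧ MulAut.conj x • T' = T') ∨
            (MulAut.conj x • T = T' ∧ MulAut.conj x • T' = T))}
          one_mem' := ⟨one_mem _, Or.inl ⟨by rw [map_one, one_smul], by rw [map_one, one_smul]⟩⟩
          mul_mem' := by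
            rintro a b ⟨p1, p2⟩ ⟨q1, q2⟩
            refine ⟨mul_mem p1 q1, ?_⟩
            rw [map_mul, mul_smul, mul_smul]
            rcases p2 with ⟨p2, p3⟩ | ⟨p2, p3⟩ <;> rcases q2 with ⟨q2, q3⟩ | ⟨q2, q3⟩ <;> rw [q2, q3]
            · exact Or.inl ⟨p2, p3⟩
            · exact Or.inr ⟨p3, p2⟩
            · exact Or.inr ⟨p2, p3⟩
            · exact Or.inl ⟨p3, p2⟩
          inv_mem' := by
            rintro a ⟨p1, p2⟩
            refine ⟨inv_mem p1, ?_⟩
            rw [map_inv, inv_smul_eq_iff, inv_smul_eq_iff, inv_smul_eq_iff, inv_smul_eq_iff]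
            rcases p2 with ⟨p2, p3⟩ | ⟨p2, p3⟩
            · exact Or.inl ⟨p2.symm, p3.symm⟩
            · exact Or.inr ⟨p3.symm, p2.symm⟩ }
      have hKW : K ≤ W := fun x hx => ⟨hx.1, Or.inl hx.2⟩
      have hWE : W ≤ E := fun x hx => hx.1
      have hRK : R ≤ K := fun x hx => ⟨hR hx, n hD4 x hx, n' hD4 x hx⟩
      have hyW : y ∈ W := ⟨sup_le hTE hTE' hy, Or.inr ⟨y1, y2⟩⟩
      have hind : K.relIndex W = 2 := by
        rw [Subgroup.relIndex, Subgroup.index_eq_two_iff]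
        refine ⟨⟨y, hyW⟩, fun b => ?_⟩
        obtain ⟨b, hb1, hb2⟩ := b
        have e1 : ∀ hb, ((⟨b, hb⟩ * ⟨y, hyW⟩ : W) ∈ K.subgroupOf W) ↔ b * y ∈ K := fun hb => Iff.rfl
        have e2 : ∀ hb, ((⟨b, hb⟩ : W) ∈ K.subgroupOf W) ↔ b ∈ K := fun hb => Iff.rfl
        rw [e1, e2]
        rcases hb2 with ⟨p2, p3⟩ | ⟨p2, p3⟩
        · refine Or.inr ⟨⟨hb1, p2, p3⟩, fun h5 => ?_⟩
          have h6 := h5.2.1
          rw [map_mul, mul_smul, y1, p3] at h6
          exact hne h6.symm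
        · refine Or.inl ⟨⟨mul_mem hb1 hyW.1, ?_, ?_⟩, fun h5 => ?_⟩
          · rw [map_mul, mul_smul, y1, p3]
          · rw [map_mul, mul_smul, y2, p2]
          · have h6 := h5.2.1
            rw [p2] at h6
            exact hne h6.symm
      apply hodd
      rw [← Subgroup.relIndex_mul_relIndex R K (E) hRK (hKW.trans hWE),
        ← Subgroup.relIndex_mul_relIndex K W (E) hKW hWE, hind]
      exact Dvd.dvd.mul_left (Dvd.intro _ rfl) _
  · rw [← a3, ← b3]
    exact a1.clo_eq b1 h2 hf hno hF hrt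

/-! ### one block -/

/-- the fixed points of `D` in `N` -/
theorem fix_e {F : Type} [Field F] {e f : F →+ V} {C : AddSubgroup V} {up lo : F → X} (h : Bk e f C up lo) {v : V}
    (hv : v ∈ e.range ⊔ f.range) (hD : ∀ d ∈ rt up, d • v = v) : ∃ a, v = e a := by
  obtain ⟨_, ⟨a, rfl⟩, _, ⟨b, rfl⟩, rfl⟩ := AddSubgroup.mem_sup.1 hv
  have h1 := hD _ (up_mem 1)
  rw [smul_add, h.up_e, h.up_f, one_mul, ← add_assoc] at h1
  have h3 : e b = 0 := add_eq_left.1 h1
  have h5 := (h.ind b 0 (by rw [h3, map_zero, add_zero]; exact C.zero_mem)).1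
  exact ⟨a, by rw [h5, map_zero, add_zero]⟩

/-- **two root groups of one `T` with a common fixed vector `≠ 0`** -/
theorem NBT.fix [Finite X] (h2 : ∀ v : V, v + v = 0) (hf : ∀ x : X, (∀ v : V, x • v = v) → x = 1)
    {D T : Subgroup X} {N C : AddSubgroup V} (h : NBT D T N C) {x : X} (hx : x ∈ T) {v : V} (hv : v ∈ N) (hv0 : v ≠ 0)
    (hD : ∀ d ∈ D, d • v = v) (hDx : ∀ d ∈ MulAut.conj x • D, d • v = v) : MulAut.conj x • D = D := by
  have hv' := h.norm (inv_mem hx) hv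
  obtain ⟨F, i1, i2, e, f, up, lo, a1, a2, a3, a4⟩ := h.ex
  obtain ⟨a, rfl⟩ := fix_e a1 (by rw [a4]; exact hv) (by rw [a2]; exact hD)
  obtain ⟨a', ha'⟩ := fix_e a1 (by rw [a4]; exact hv') (by
    rw [a2]
    intro d hd
    have h3 := hDx (x * d * x⁻¹) ⟨d, hd, rfl⟩
    rw [mul_smul, mul_smul] at h3
    exact eq_inv_smul_iff.2 h3)
  obtain ⟨B, hB⟩ := sla_of_clo a1 (a3.symm ▸ hx)
  rw [inv_smul_eq_iff] at ha'
  have ha0 : a' ≠ 0 := fun h0 => hv0 (by rw [ha', h0, map_zero, smul_zero])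
  have h3 := hB.act ![a', 0]
  simp only [Matrix.cons_val_zero, Matrix.cons_val_one, map_zero, add_zero] at h3
  rw [← ha'] at h3
  have h4 : e a + f 0 = e (B.1.mulVec ![a', 0] 0) + f (B.1.mulVec ![a', 0] 1) := by rw [map_zero, add_zero]; exact h3
  have h5 := (vec_uniq a1 h4).2
  simp [Matrix.mulVec, dotProduct, Fin.sum_univ_two] at h5
  have h10 : B.1 1 0 = 0 := by
    rcases h5 with h5 | h5
    · exact h5
    · exact absurd h5 ha0
  have hdet : B.1 0 0 * B.1 1 1 = 1 := by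
    have h6 := B.2
    rw [Matrix.det_fin_two, h10, mul_zero, sub_zero] at h6
    exact h6
  have key : ∀ t, x * up t * x⁻¹ = up (B.1 0 0 ^ 2 * t) := by
    intro t
    rw [mul_inv_eq_iff_eq_mul]
    have e1 := hB.mul (sla_up a1 t)
    have e3 := (sla_up a1 (B.1 0 0 ^ 2 * t)).mul hB
    have e4 : B * Cfsg.Agent.Lib.SL2Mat.up t = Cfsg.Agent.Lib.SL2Mat.up (B.1 0 0 ^ 2 * t) * B := by
      apply Subtype.ext
      ext i j
      rw [Matrix.SpecialLinearGroup.coe_mul, Matrix.SpecialLinearGroup.coe_mul, Matrix.mul_apply, Matrix.mul_apply,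
        Fin.sum_univ_two, Fin.sum_univ_two]
      fin_cases i <;> fin_cases j <;>
        simp [Cfsg.Agent.Lib.SL2Mat.up, Cfsg.Agent.Lib.SL2Mat.mk, h10]
      have e5 : B.1 0 0 * t + B.1 0 1 = B.1 0 1 + B.1 0 0 ^ 2 * t * B.1 1 1 := by
        have e6 : B.1 0 0 ^ 2 * t * B.1 1 1 = B.1 0 0 * t * (B.1 0 0 * B.1 1 1) := by ring
        rw [e6, hdet]; ring
      exact e5
    rw [e4] at e1
    exact sla_uniq a1 hf e1 e3
  have hle : MulAut.conj x • D ≤ D := by
    rw [← a2]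
    rintro _ ⟨d, hd, rfl⟩
    obtain ⟨t, rfl⟩ := (a1.mem_rt h2 hf).1 hd
    change x * up t * x⁻¹ ∈ rt up
    rw [key t]
    exact up_mem _
  exact Subgroup.eq_of_le_of_card_ge hle (by rw [Types.card_cj])

/-- some `x ∈ T` does not normalise `D` -/
theorem NBT.moves {D T : Subgroup X} {N C : AddSubgroup V} (h : NBT D T N C) : ∃ x ∈ T, MulAut.conj x • D ≠ D := by
  obtain ⟨F, i1, i2, e, f, up, lo, a1, a2, a3, a4⟩ := h.ex
  refine ⟨lo 1, a3 ▸ lo_mem_clo up lo 1, fun h3 => ?_⟩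
  have h4 : up 1 ∈ MulAut.conj (lo 1) • D := by rw [h3, ← a2]; exact up_mem 1
  rw [← a2, Types.mem_cj] at h4
  have h5 : ∀ d ∈ rt up, d • e 1 = e 1 := by
    have h6 : rt up ≤ MulAction.stabilizer X (e 1) :=
      (Subgroup.closure_le _).2 (by rintro _ ⟨t, rfl⟩; exact MulAction.mem_stabilizer_iff.2 (a1.up_e t 1))
    exact fun d hd => MulAction.mem_stabilizer_iff.1 (h6 hd)
  have h6 := h5 _ h4
  rw [mul_smul, mul_smul, inv_smul_eq_iff, a1.lo_e, mul_one, smul_add, a1.up_e, a1.up_f, mul_one, ← add_assoc] at h6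
  have h7 : e 1 = 0 := add_eq_left.1 h6
  exact one_ne_zero (a1.ind 1 0 (by rw [h7, map_zero, add_zero]; exact C.zero_mem)).1

/-! ### families -/

section fam

variable {S : Subgroup X} {FF : Set (Subgroup X)} {N C : Subgroup X → AddSubgroup V} (H : Fam S FF N C)
include H

/-- `T D` is trivial on the other blocks -/
theorem le_EX {D T : Subgroup X} (hD : D ∈ FF) (h : NBT D T (N D) (C D)) : T ≤ EX FF N D :=
  fun x hx D' hD' hne m hm => h.cent hx (H.ind D hD D' hD' hne hm)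

/-- `E_D` is permuted -/
theorem EX_cj {D : Subgroup X} (hD : D ∈ FF) {g : X} (hg : MulAut.conj g • D ∈ FF) :
    MulAut.conj g • EX FF N D = EX FF N (MulAut.conj g • D) := by
  have key : ∀ {D : Subgroup X} (_ : D ∈ FF) {g : X} (_ : MulAut.conj g • D ∈ FF),
      MulAut.conj g • EX FF N D ≤ EX FF N (MulAut.conj g • D) := by
    rintro D hD g hg _ ⟨x, hx, rfl⟩ D' hD' hne m hm
    obtain ⟨D1, hD1, -, h1⟩ := H.perm g⁻¹ D' hD'
    have hne1 : D1 ≠ D := by
      rintro rfl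
      apply hne
      refine H.inj hD' hg ?_
      ext n
      rw [h1 n, cj_N H hD hg (g⁻¹ • n), smul_inv_smul]
    have h3 := hx D1 hD1 hne1 _ ((h1 m).1 hm)
    change (g * x * g⁻¹) • m = m
    rw [mul_smul, mul_smul, h3, smul_inv_smul]
  apply le_antisymm (key hD hg)
  have e1 : MulAut.conj g⁻¹ • MulAut.conj g • D = D := by
    rw [← mul_smul, ← map_mul, inv_mul_cancel, map_one, one_smul]
  have h1 := key hg (g := g⁻¹) (by rw [e1]; exact hD)
  rw [e1, map_inv] at h1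
  have h3 := (Subgroup.pointwise_smul_le_pointwise_smul_iff (a := MulAut.conj g)).2 h1
  rwa [smul_inv_smul] at h3

/-- `S ∩ E_D` normalises `D` -/
theorem cj_self' {D : Subgroup X} (hD : D ∈ FF) {x : X} (hx : MulAut.conj x • D ∈ FF) (hx1 : x ∈ EX FF N D) :
    MulAut.conj x • D = D := by
  refine H.inj hx hD ?_
  have h3 : x ∈ EO FF N := H.EX_le hD hx1
  ext m
  have h4 := cj_N H hD hx (x⁻¹ • m)
  rw [smul_inv_smul] at h4
  rw [← h4, h3 D hD, smul_inv_smul]

/-- if `x ∈ T D` does not normalise `D`, then `D^x ∉ FF` -/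
theorem notin {D T : Subgroup X} (hD : D ∈ FF) (h : NBT D T (N D) (C D)) {x : X} (hx : x ∈ T)
    (hne : MulAut.conj x • D ≠ D) : MulAut.conj x • D ∉ FF :=
  fun hF => hne (cj_self' H hD hF (le_EX H hD h hx))

variable (h2 : ∀ v : V, v + v = 0) (hf : ∀ x : X, (∀ v : V, x • v = v) → x = 1) (hno : NO X V)
  (h4 : ∀ D ∈ FF, 4 ≤ Nat.card D)
variable [Finite X] [Finite V]
include h2 hf hno h4

/-- the complements are transported -/
theorem cj_C {D : Subgroup X} (hD : D ∈ FF) {g : X} (hg : MulAut.conj g • D ∈ FF) (m : V) :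
    m ∈ C D ↔ g • m ∈ C (MulAut.conj g • D) := by
  have h1 := ((H.nb D hD).conj g).uniq h2 hf hno (H.nb _ hg) (by rw [Types.card_cj]; exact h4 D hD)
  rw [← h1.2, Asm.mem_map, inv_smul_smul]

theorem nbt_cj {D T : Subgroup X} (hD : D ∈ FF) (h : NBT D T (N D) (C D)) {g : X} (hg : MulAut.conj g • D ∈ FF) :
    NBT (MulAut.conj g • D) (MulAut.conj g • T) (N (MulAut.conj g • D)) (C (MulAut.conj g • D)) := by
  have h1 := h.conj g
  have e1 : (N D).map (DistribSMul.toAddMonoidHom V g) = N (MulAut.conj g • D) := by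
    ext m
    rw [Asm.mem_map, cj_N H hD hg, smul_inv_smul]
  have e2 : (C D).map (DistribSMul.toAddMonoidHom V g) = C (MulAut.conj g • D) := by
    ext m
    rw [Asm.mem_map, cj_C H h2 hf hno h4 hD hg, smul_inv_smul]
  rwa [e1, e2] at h1

omit [Finite V] h2 hf hno h4 in
theorem odd_EX (hS : ¬ 2 ∣ S.index) {D : Subgroup X} (hD : D ∈ FF) : ¬ 2 ∣ S.relIndex (EX FF N D) := by
  intro h
  apply hS
  have : (EO FF N).Normal := ⟨fun x hx g => H.EO_norm g hx⟩
  exact h.trans ((relIndex_sub S (H.EX_le hD) fun k hk x hx => H.EX_norm hk hx).trans (relIndex_normal S (EO FF N)))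

/-- the condition on `T` -/
def Good (S : Subgroup X) (FF : Set (Subgroup X)) (N C : Subgroup X → AddSubgroup V) (D T : Subgroup X) : Prop :=
  NBT D T (N D) (C D) ∧ (Nat.card D = 4 → ∀ x ∈ S ⊓ EX FF N D, MulAut.conj x • T = T)

theorem good_uniq (hS : ¬ 2 ∣ S.index) {D T T' : Subgroup X} (hD : D ∈ FF) (h : Good S FF N C D T)
    (h' : Good S FF N C D T') : T = T' := by
  refine NBT.uniqE h2 hf hno (h4 D hD) h.1 h'.1 (R := S ⊓ EX FF N D) (le_EX H hD h.1) (le_EX H hD h'.1)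
    inf_le_right ?_ h.2 h'.2
  rw [Subgroup.inf_relIndex_right]
  exact odd_EX H hS hD

theorem good_exists (hS2 : IsPGroup 2 S) (hS : ¬ 2 ∣ S.index) (hT : Tor S FF N C) {D : Subgroup X} (hD : D ∈ FF) :
    ∃ T, Good S FF N C D T := by
  by_cases h44 : Nat.card D = 4
  swap
  · obtain ⟨T, hT⟩ := AsmT.NB.exists_nbt (H.nb D hD)
    exact ⟨T, hT, fun h => absurd h h44⟩
  obtain ⟨A, hA, m, hm, T, hT1, hT2⟩ := hT D hD h44
  have hmF : MulAut.conj m • A ∈ FF := by rw [hm]; exact hD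
  -- two Sylow subgroups of `E_D ∩ N(D)`
  let W : Subgroup X :=
    { carrier := {x | x ∈ EX FF N D ∧ MulAut.conj x • D = D}
      one_mem' := ⟨one_mem _, by rw [map_one, one_smul]⟩
      mul_mem' := by
        rintro a b ⟨p1, p2⟩ ⟨q1, q2⟩
        exact ⟨mul_mem p1 q1, by rw [map_mul, mul_smul, q2, p2]⟩
      inv_mem' := by
        rintro a ⟨p1, p2⟩
        exact ⟨inv_mem p1, by rw [map_inv, inv_smul_eq_iff, p2]⟩ }
  have hWE : W ≤ EX FF N D := fun x hx => hx.1
  have hE : MulAut.conj m • EX FF N A = EX FF N D := by rw [EX_cj H hA hmF, hm]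
  set P := MulAut.conj m • (S ⊓ EX FF N A) with hP
  set Q := S ⊓ EX FF N D with hQ
  have hPW : P ≤ W := by
    rintro _ ⟨x, hx, rfl⟩
    change MulAut.conj m x ∈ W
    refine ⟨by rw [← hE]; exact ⟨x, hx.2, rfl⟩, ?_⟩
    have h5 := cj_self' H hA (H.sinv x hx.1 A hA) hx.2
    have e : MulAut.conj (MulAut.conj m x) • D = MulAut.conj m • MulAut.conj x • MulAut.conj m⁻¹ • D := by
      rw [← mul_smul, ← mul_smul, ← map_mul, ← map_mul]
      have e0 : MulAut.conj m x = m * x * m⁻¹ := rfl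
      rw [e0]
    have e2 : MulAut.conj m⁻¹ • D = A := by rw [← hm, map_inv, inv_smul_smul]
    rw [e, e2, h5, hm]
  have hQW : Q ≤ W := fun x hx => ⟨hx.2, cj_self' H hD (H.sinv x hx.1 D hD) hx.2⟩
  have hP2 : IsPGroup 2 P := (hS2.to_le inf_le_left).of_equiv (Subgroup.equivSMul (MulAut.conj m) (S ⊓ EX FF N A))
  have hQ2 : IsPGroup 2 Q := hS2.to_le inf_le_left
  have iP : ¬ 2 ∣ P.relIndex W := by
    intro h
    have h5 : P.relIndex W ∣ P.relIndex (EX FF N D) := by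
      rw [← Subgroup.relIndex_mul_relIndex P W _ hPW hWE]
      exact Dvd.intro _ rfl
    have h6 : P.relIndex (EX FF N D) = S.relIndex (EX FF N A) := by
      rw [← hE, hP, relIndex_cj, Subgroup.inf_relIndex_right]
    exact odd_EX H hS hA (h6 ▸ h.trans h5)
  have iQ : ¬ 2 ∣ Q.relIndex W := by
    intro h
    have h5 : Q.relIndex W ∣ Q.relIndex (EX FF N D) := by
      rw [← Subgroup.relIndex_mul_relIndex Q W _ hQW hWE]
      exact Dvd.intro _ rfl
    have h6 : Q.relIndex (EX FF N D) = S.relIndex (EX FF N D) := by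
      rw [hQ, Subgroup.inf_relIndex_right]
    exact odd_EX H hS hD (h6 ▸ h.trans h5)
  obtain ⟨y, hy, hyP⟩ := exists_cj hPW hQW hP2 hQ2 iP iQ
  have e3 : MulAut.conj (y * m) • A = D := by rw [map_mul, mul_smul, hm, hy.2]
  refine ⟨MulAut.conj (y * m) • T, ?_, fun _ x hx => ?_⟩
  · have h5 := nbt_cj H h2 hf hno h4 hA hT1 (g := y * m) (by rw [e3]; exact hD)
    rwa [e3] at h5
  · have hx' : x ∈ MulAut.conj y • P := by rw [hyP]; exact hx
    obtain ⟨_, ⟨z, hz, rfl⟩, rfl⟩ := hx'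
    change MulAut.conj (MulAut.conj y (MulAut.conj m z)) • MulAut.conj (y * m) • T = MulAut.conj (y * m) • T
    have hz1 : MulAut.conj z • T = T := hT2 z hz.1 (cj_self' H hA (H.sinv z hz.1 A hA) hz.2)
    have e4 : MulAut.conj (MulAut.conj y (MulAut.conj m z)) • MulAut.conj (y * m) • T =
        MulAut.conj (y * m) • MulAut.conj z • T := by
      rw [← mul_smul, ← mul_smul, ← map_mul, ← map_mul]
      congr 2
      rw [MulAut.conj_apply, MulAut.conj_apply]; group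
    rw [e4, hz1]

/-- **`S` permutes the groups `T D`** -/
theorem exists_T' (hS2 : IsPGroup 2 S) (hS : ¬ 2 ∣ S.index) (hT : Tor S FF N C) :
    ∃ T : Subgroup X → Subgroup X, (∀ D ∈ FF, NBT D (T D) (N D) (C D)) ∧
      ∀ s ∈ S, ∀ D ∈ FF, MulAut.conj s • T D = T (MulAut.conj s • D) := by
  classical
  have hex := fun D (hD : D ∈ FF) => good_exists H h2 hf hno h4 hS2 hS hT hD
  refine ⟨fun D => if h : D ∈ FF then Classical.choose (hex D h) else D, fun D hD => ?_, fun s hs D hD => ?_⟩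
  · beta_reduce
    rw [dif_pos hD]
    exact (Classical.choose_spec (hex D hD)).1
  · have hD' := H.sinv s hs D hD
    beta_reduce
    rw [dif_pos hD, dif_pos hD']
    refine good_uniq H h2 hf hno h4 hS hD' ?_ (Classical.choose_spec (hex _ hD'))
    obtain ⟨g1, g2⟩ := Classical.choose_spec (hex D hD)
    refine ⟨nbt_cj H h2 hf hno h4 hD g1 hD', fun h44 x hx => ?_⟩
    obtain ⟨hxS, hxf⟩ := Subgroup.mem_inf.1 hx
    have hx1 : s⁻¹ * x * s ∈ S ⊓ EX FF N D := by
      refine Subgroup.mem_inf.2 ⟨mul_mem (mul_mem (inv_mem hs) hxS) hs, ?_⟩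
      rw [← EX_cj H hD hD', Types.mem_cj] at hxf
      exact hxf
    have h6 := g2 (by rwa [Types.card_cj] at h44) _ hx1
    have e : MulAut.conj x • MulAut.conj s • Classical.choose (hex D hD) =
        MulAut.conj s • MulAut.conj (s⁻¹ * x * s) • Classical.choose (hex D hD) := by
      rw [← mul_smul, ← mul_smul, ← map_mul, ← map_mul]
      congr 2
      group
    rw [e, h6]

end fam

end Cfsg.Agent.Omega.NOThreeL.RRed.Blk.AsmTX
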