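import Cfsg.Agent.Mrg.Omega.NOThreeL.RRed.Blk.DecDef
import Cfsg.Agent.Mrg.Omega.NOThreeL.RRed.Blk.AsmOf
import Cfsg.Agent.Mrg.Omega.NOThreeL.RRed.Blk.Def


/-!
# NO-3L, box R: `Blk.Dec` from a family of natural blocks (helper797)

**`dec_of_fam`** : `L` acts on `U`, `X = XH Q` the group induced; a family of natural blocks `Fam (im Q S) FF N C` such that
`⨅ C D` is `X`-invariant gives `Dec S L U N' E' R₀`, `N' = su Q (N D)`, `E' = pre Q (Eg FF N D)`, `R₀ = su Q (⨅ C D)`.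
-/

set_option autoImplicit false
set_option linter.unusedSectionVars false

namespace Cfsg.Agent.Omega.NOThreeL.RRed.Blk.Asm

open Subgroup
open Cfsg.Agent.Omega.NOThreeL.RRed.NS (fxd brk mem_fxd)
open Cfsg.Agent.Omega.NOThreeL.RRed.Blk (Dec)
open Cfsg.Agent.Omega.NOThreeL.RRed.Blk.TypesGam (Bk rt)
open Cfsg.Agent.Omega.NOThreeL.RRed.Blk.Types (mem_cj)
open Cfsg.Agent.Omega.NOThreeL.RSplit (Nrm)
open Cfsg.Agent.Omega.NOThreeL.RRed.Blk.TypesNat (XH ph ph_smul XH_faith ph_eq ph_surj mem_ker im)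
open scoped Pointwise

universe u

variable {G : Type u} [Group G] {L U : Subgroup G} {Q : Nrm L U}

/-- elements of `su` and the action -/
theorem su_cent {W : Subgroup (XH Q)} {M : AddSubgroup Q.Mod} (h : ∀ x ∈ W, ∀ m ∈ M, x • m = m) :
    pre Q W ≤ centralizer (su Q M : Set G) := by
  intro x hx
  obtain ⟨hxL, hxW⟩ := mem_pre.1 hx
  rw [mem_centralizer_iff]
  rintro y ⟨hyU, hyM⟩
  have h1 := h _ hxW _ hyM
  rw [ph_smul] at h1
  have h3 := congrArg Q.val h1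
  rw [Nrm.val_smul, Nrm.val_of] at h3
  exact (mul_inv_eq_iff_eq_mul.1 h3).symm

theorem su_norm {W : Subgroup (XH Q)} {M : AddSubgroup Q.Mod} (h : ∀ x ∈ W, ∀ m, m ∈ M ↔ x • m ∈ M) :
    pre Q W ≤ normalizer (su Q M : Set G) := by
  intro x hx
  obtain ⟨hxL, hxW⟩ := mem_pre.1 hx
  have h1 := conj_su (Q := Q) (W := M) (W' := M) ⟨x, hxL⟩ (h _ hxW)
  rw [mem_normalizer_iff]
  intro y
  have h3 : x * y * x⁻¹ ∈ MulAut.conj x • su Q M ↔ x * y * x⁻¹ ∈ su Q M := by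
    rw [show MulAut.conj x • su Q M = su Q M from h1]
  rw [mem_cj] at h3
  rw [← h3]
  have e1 : x⁻¹ * (x * y * x⁻¹) * x = y := by group
  rw [e1]

theorem mem_pre_top {x : G} (hx : x ∈ L) : x ∈ pre Q ⊤ := mem_pre.2 ⟨hx, mem_top _⟩

theorem dec_of_fam [Finite G] {S : Subgroup G} (SL : S ≤ L) {FF : Set (Subgroup (XH Q))}
    {N C : Subgroup (XH Q) → AddSubgroup Q.Mod} (F : Fam (im Q S) FF N C)
    (hR : ∀ g : XH Q, ∀ m ∈ Rs FF C, g • m ∈ Rs FF C) :
    Dec S L U (fun b : FF => su Q (N b)) (fun b : FF => pre Q (Eg FF N b)) (su Q (Rs FF C)) where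
  SL := SL
  LU := Q.nrm
  ab := by
    intro x hx
    rw [mem_centralizer_iff]
    exact fun y hy => Q.ab y hy x hx
  sup := by
    rw [← su_iSup, ← su_sup]
    have h1 : (⨆ b : FF, N b) ⊔ Rs FF C = ⊤ := by
      rw [eq_top_iff]
      intro v _
      obtain ⟨n, hn, r, hr, rfl⟩ := F.exists_dec v
      refine AddSubgroup.add_mem_sup ?_ hr
      have h3 : (⨆ D ∈ FF, N D) ≤ ⨆ b : FF, N b := iSup₂_le fun D hD => le_iSup (fun b : FF => N b) ⟨D, hD⟩
      exact h3 hn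
    rw [h1, su_top]
  ind := by
    intro b
    have h1 : (⨆ c : {c : FF // c ≠ b}, su Q (N c.1)) ⊔ su Q (Rs FF C) ≤ su Q (C b) := by
      rw [← su_iSup, ← su_sup]
      refine su_mono (sup_le (iSup_le fun c => ?_) fun m hm => mem_Rs.1 hm b b.2)
      exact F.ind b b.2 c.1 c.1.2 fun e => c.2 (Subtype.ext e)
    rw [eq_bot_iff]
    rintro x ⟨⟨hx, hxN⟩, hxC⟩
    obtain ⟨_, hxC'⟩ := h1 hxC
    have h3 := (F.nb b b.2).disj hxN hxC'
    rw [mem_bot]
    exact congrArg Q.val h3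
  ne := by
    intro b h0
    apply (F.nb b b.2).ne_bot
    rw [AddSubgroup.eq_bot_iff_forall]
    intro m hm
    have h1 : Q.val m ∈ su Q (N b) := val_mem_su.2 hm
    rw [h0, mem_bot] at h1
    exact Nrm.eq_zero_iff.2 h1
  Rnor := by
    have h1 : pre Q ⊤ ≤ normalizer (su Q (Rs FF C) : Set G) := su_norm fun x _ m => by
      refine ⟨hR x m, fun hm => ?_⟩
      have h3 := hR x⁻¹ _ hm
      rwa [inv_smul_smul] at h3
    exact fun x hx => h1 (mem_pre_top hx)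
  EL := fun b => pre_le
  CE := fun b => cent_le_pre
  perm := by
    intro g hg b
    obtain ⟨D', hD', -, h1⟩ := F.perm (ph Q ⟨g, hg⟩) b b.2
    exact ⟨⟨D', hD'⟩, conj_su (Q := Q) ⟨g, hg⟩ h1, conj_pre (Q := Q) ⟨g, hg⟩ (Eg_conj h1)⟩
  EN := fun b => su_norm (F.Eg_N (D := b))
  EC := fun b c hbc => su_cent fun x hx m hm =>
    F.Eg_oth b.2 c.2 (fun e => hbc (Subtype.ext e.symm)) hm x hx
  ER := fun b => su_cent fun x hx m hm => F.Eg_R hR hm x hx

end Cfsg.Agent.Omega.NOThreeL.RRed.Blk.Asm
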