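import Cfsg.Agent.Mrg.Omega.NOThreeL.RRed.NS.Three


/-!
# NO-3L, box R: the module facts about the natural blocks of the root groups `D ∈ FF` (#27284, #27328, #27419)

`X` acts on `V` (additive, `v + v = 0`), `T` a Sylow 2-subgroup of `X`, `EO` the normal closure of the root groups `D ∈ FF`,
`NN`, `LL`, `ZZ` the sums of the blocks, lines, radicals, `v ∈ LL` a `T`-fixed vector of full support: `FXM`.
-/

set_option autoImplicit false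

namespace Cfsg.Agent.Omega.NOThreeL.RRed.Blk.FXDef

open Cfsg.Agent.Omega.NOThreeL.RRed.NS (fxd brk mem_fxd)
open scoped Pointwise

universe u v

/-- **The module facts**: all fields but `ZZ ≠ 0`. -/
structure FXM {X : Type u} {V : Type v} [Group X] [AddCommGroup V] [DistribMulAction X V] (T EO : Subgroup X)
    (FF : Set (Subgroup X)) (NN LL ZZ : AddSubgroup V) (v : V) : Prop where
  FT : ∀ D ∈ FF, D ≤ T
  FE : ∀ D ∈ FF, D ≤ EO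
  EOn : ∀ x, ∀ g ∈ EO, x * g * x⁻¹ ∈ EO
  EOgen : ∀ K : Subgroup X, (∀ x, ∀ g ∈ K, x * g * x⁻¹ ∈ K) → T ≤ K → EO ≤ K
  Zinv : ∀ x : X, ∀ m ∈ ZZ, x • m ∈ ZZ
  Linv : ∀ x : X, (∀ D ∈ FF, MulAut.conj x • D ≤ T) → ∀ m ∈ LL, x • m ∈ LL
  LN : LL ≤ NN
  ZN : ZZ ≤ NN
  brk : brk V EO = NN
  fix : ∀ x ∈ EO, ∀ m ∈ ZZ, x • m = m
  cap : ∀ m ∈ NN, (∀ x ∈ EO, x • m = m) → m ∈ ZZ
  alt : ∀ t ∈ T, (∀ m ∈ LL, t • m = m) → ∀ m ∈ ZZ, t • m = m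
  sep : ∀ m ∈ LL, ∀ m' ∈ LL, ∀ x : X, x • m - m' ∈ ZZ → x • m = m'
  vL : v ∈ LL
  v0 : v ≠ 0
  vT : ∀ t ∈ T, t • v = v
  tr : ∀ x : X, ∃ y ∈ EO, y • v = x • v
  gen : NN ≤ AddSubgroup.closure {m | ∃ x ∈ EO, m = x • v - v}

end Cfsg.Agent.Omega.NOThreeL.RRed.Blk.FXDef
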