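import Cfsg.Agent.Mrg.Omega.NOThreeL.RRed.Blk.AsmNDef
import Cfsg.Agent.Mrg.Omega.NOThreeL.RRed.Blk.FXDef
import Cfsg.Agent.Mrg.Omega.NOThreeL.RRed.Blk.AsmPair
import Cfsg.Agent.Mrg.Omega.NOThreeL.RRed.Blk.AsmSL
import Cfsg.Agent.Mrg.Omega.NOThreeL.RRed.NS.Three
import Cfsg.Agent.Mrg.Omega.NOThreeL.RRed.Ex.Lat

section


/-!
# NO-3L, box R, natural blocks with radicals: a fixed vector of full support, generation (#27284 (c), #27575)

Over 19's `FamN`:

* **`exists_v`** : `v = ∑ t D`, `0 ≠ t D ∈ L D`, fixed by the Sylow group (there is an odd number of such vectors);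
* **`gen`** : `⨆ N D` is generated by the `x v - v`, `x ∈ EO`;
* `Linv`, `fix`, `cap`, `brk_EO`.
-/

set_option autoImplicit false
set_option linter.unusedSectionVars false

namespace Cfsg.Agent.Omega.NOThreeL.RRed.Blk.FxVec

open Cfsg.Agent.Omega.NOThreeL.RRed.NS (fxd brk mem_fxd)
open Cfsg.Agent.Omega.NOThreeL.RRed.Blk.TypesGam (rt up_mem)
open Cfsg.Agent.Omega.NOThreeL.RRed.Blk.Types
open Cfsg.Agent.Omega.NOThreeL.RRed.Blk.TypesN
open Cfsg.Agent.Omega.NOThreeL.RRed.Blk.GamD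
open Cfsg.Agent.Omega.NOThreeL.RRed.Blk.Asm (St mem_St mem_map exists_ne)
open Cfsg.Agent.Omega.NOThreeL.RRed.Blk.AsmN
open Cfsg.Agent.Omega.NOThreeL.RRed.Blk.AsmN.FamN
open Cfsg.Agent.Omega.NOThreeL.RRed.Blk.FamX (FX EO mem_EO le_EO)
open Cfsg.Agent.Omega.NOThreeL.RRed.Blk.FxOf
open scoped Pointwise

universe u v w

variable {X : Type u} {V : Type v} [Group X] [AddCommGroup V] [DistribMulAction X V]

/-! ### one block -/

/-- the vectors `x u - u` generate the block -/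
theorem gen_one {F : Type w} [Field F] {e f d : F →+ V} {C : AddSubgroup V} {up lo : F → X}
    (h : BkD e f d C up lo) {c₀ : F} (hc0 : c₀ ≠ 0) (hc1 : c₀ ≠ 1) {a : F} (ha : a ≠ 0) :
    (e.range ⊔ f.range) ⊔ d.range ≤ AddSubgroup.closure {m | ∃ x ∈ clo up lo, m = x • e a - e a} := by
  set M : AddSubgroup V := AddSubgroup.closure {m | ∃ x ∈ clo up lo, m = x • e a - e a} with hM
  have hinv : ∀ y ∈ clo up lo, ∀ m ∈ M, y • m ∈ M := by
    intro y hy
    have h1 : M ≤ M.comap (DistribSMul.toAddMonoidHom V y) := by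
      rw [hM, AddSubgroup.closure_le]
      rintro m ⟨x, hx, rfl⟩
      change y • (x • e a - e a) ∈ M
      have e1 : y • (x • e a - e a) = ((y * x) • e a - e a) - (y • e a - e a) := by
        rw [smul_sub, mul_smul]; abel
      rw [e1]
      exact sub_mem (AddSubgroup.subset_closure ⟨_, mul_mem hy hx, rfl⟩)
        (AddSubgroup.subset_closure ⟨_, hy, rfl⟩)
    exact fun m hm => h1 hm
  have hg : ∀ s, f (s * a) + d (s * a ^ 2) ∈ M := by
    intro s
    have h1 : lo s • e a - e a ∈ M := AddSubgroup.subset_closure ⟨_, lo_clo s, rfl⟩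
    rw [h.lo_e] at h1
    have e1 : e a + f (s * a) + d (s * a ^ 2) - e a = f (s * a) + d (s * a ^ 2) := by abel
    rwa [e1] at h1
  have hk : ∀ s, s ≠ 0 → ∀ b, e b + d (b * s * a) ∈ M := by
    intro s hs b
    have h1 := hinv _ (up_clo (up := up) (lo := lo) (b / (s * a))) _ (hg s)
    have h3 := sub_mem h1 (hg s)
    rw [smul_add, h.up_f, h.up_c _ _ (h.dC _)] at h3
    have e1 : f (s * a) + e (b / (s * a) * (s * a)) + d (b / (s * a) * (s * a) ^ 2) + d (s * a ^ 2)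
        - (f (s * a) + d (s * a ^ 2)) = e (b / (s * a) * (s * a)) + d (b / (s * a) * (s * a) ^ 2) := by abel
    rw [e1] at h3
    have hsa : s * a ≠ 0 := mul_ne_zero hs ha
    have e3 : b / (s * a) * (s * a) = b := div_mul_cancel₀ b hsa
    have e5 : b / (s * a) * (s * a) ^ 2 = b * s * a := by
      rw [pow_two, ← mul_assoc, e3, mul_assoc]
    rwa [e3, e5] at h3
  have hd : ∀ b, d b ∈ M := by
    intro b
    have hc : (1 - c₀) * a ≠ 0 := mul_ne_zero (sub_ne_zero.2 hc1.symm) ha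
    have h1 := sub_mem (hk 1 one_ne_zero (b / ((1 - c₀) * a))) (hk c₀ hc0 (b / ((1 - c₀) * a)))
    rw [add_sub_add_left_eq_sub, ← map_sub] at h1
    have e1 : b / ((1 - c₀) * a) * 1 * a - b / ((1 - c₀) * a) * c₀ * a = b / ((1 - c₀) * a) * ((1 - c₀) * a) := by ring
    rwa [e1, div_mul_cancel₀ b hc] at h1
  refine sup_le (sup_le ?_ ?_) ?_
  · rintro _ ⟨x, rfl⟩
    have h1 := sub_mem (hk 1 one_ne_zero x) (hd (x * 1 * a))
    rwa [add_sub_cancel_right] at h1
  · rintro _ ⟨x, rfl⟩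
    have h1 := sub_mem (hg (x / a)) (hd (x / a * a ^ 2))
    rwa [add_sub_cancel_right, div_mul_cancel₀ x ha] at h1
  · rintro _ ⟨x, rfl⟩
    exact hd x

theorem gen_blk (h2 : ∀ v : V, v + v = 0) (hf : ∀ x : X, (∀ v : V, x • v = v) → x = 1)
    {D : Subgroup X} {N C L Z : AddSubgroup V} (h : NBd D N C L Z) (h4 : 4 ≤ Nat.card D) {u : V} (hu : u ∈ L)
    (hu0 : u ≠ 0) : ∃ K : Subgroup X, K ≤ Subgroup.normalClosure (D : Set X) ∧ (∀ x ∈ K, ∀ c ∈ C, x • c = c) ∧
      N ≤ AddSubgroup.closure {m | ∃ x ∈ K, m = x • u - u} := by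
  obtain ⟨F, _, _, e, f, d, up, lo, hB, rfl, rfl, rfl, rfl⟩ := h.ex
  rw [hB.card_rt h2 hf] at h4
  obtain ⟨c₀, hc0, hc1⟩ := exists_ne h4
  obtain ⟨a, rfl⟩ := hu
  have ha : a ≠ 0 := fun h0 => hu0 (by rw [h0, map_zero])
  have hclo : clo up lo ≤ Subgroup.normalClosure ((rt up : Subgroup X) : Set X) := by
    refine (clo_gen hB h2 hf).trans ((Subgroup.closure_le _).2 ?_)
    rintro x ⟨g, -, y, hy, rfl⟩
    exact Subgroup.normalClosure_normal.conj_mem _ (Subgroup.subset_normalClosure hy) g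
  refine ⟨clo up lo, hclo, fun x hx c hc => ?_, gen_one hB hc0 hc1 ha⟩
  have h1 : c ∈ (fxd (clo up lo) : AddSubgroup V) := by rw [fxd_clo hB]; exact hc
  exact mem_fxd.1 h1 x hx

/-! ### the family -/

/-- `v` is a sum of nonzero vectors of the lines -/
def Full (FF : Set (Subgroup X)) (L : Subgroup X → AddSubgroup V) [Finite X] (v : V) : Prop :=
  ∃ t : Subgroup X → V, (∀ D, t D ∈ L D) ∧ (∀ D ∈ FF, t D ≠ 0) ∧ v = ∑ D ∈ (Set.toFinite FF).toFinset, t D

section fam

variable {T : Sylow 2 X} {EE FF : Set (Subgroup X)} {N C L Z : Subgroup X → AddSubgroup V}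
  (F : FamN (T : Subgroup X) EE FF N C L Z) (h2 : ∀ v : V, v + v = 0)
  (hf : ∀ x : X, (∀ v : V, x • v = v) → x = 1)
include F h2 hf

variable [Finite V]

theorem odd_L {D : Subgroup X} (hD : D ∈ FF) : Odd (Nat.card {u : V // u ∈ L D ∧ u ≠ 0}) := by
  have h1 : Nat.card {u : V // u ∈ L D ∧ u ≠ 0} = Nat.card (L D) - 1 := by
    have h3 : ((L D : Set V) \ {0}).ncard = (L D : Set V).ncard - 1 :=
      Set.ncard_sdiff_singleton_of_mem (zero_mem _)
    exact h3
  have h3 : Nat.card (L D) = Nat.card D := (F.gb D hD).nb.card_L h2 hf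
  have h5 : IsPGroup 2 D := T.isPGroup'.to_le (F.le D hD)
  have h6 := F.four D hD
  have hp : Fact (Nat.Prime 2) := ⟨Nat.prime_two⟩
  have hfin : Finite D := Nat.finite_of_card_ne_zero (by omega)
  obtain ⟨n, hn⟩ := (IsPGroup.iff_card).1 h5
  have h7 : n ≠ 0 := by
    rintro rfl
    rw [hn] at h6
    omega
  rw [h1, h3, hn]
  have h8 : Even (2 ^ n) := (Nat.even_pow' h7).2 even_two
  have h9 : 1 ≤ 2 ^ n := Nat.one_le_two_pow
  exact Nat.Even.sub_odd h9 h8 odd_one

variable [Finite X]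

omit h2 hf [Finite V] in
/-- the other components are in `C D` -/
theorem sub_C {t : Subgroup X → V} (ht : ∀ D, t D ∈ L D) {D : Subgroup X} (hD : D ∈ FF) :
    (∑ D' ∈ (Set.toFinite FF).toFinset, t D') - t D ∈ C D := by
  classical
  rw [← Finset.add_sum_erase _ _ ((Set.toFinite FF).mem_toFinset.2 hD), add_sub_cancel_left]
  refine sum_mem fun D₁ hD₁ => ?_
  have h3 := Finset.mem_erase.1 hD₁
  have h5 := (Set.toFinite FF).mem_toFinset.1 h3.2
  exact F.ind D hD D₁ h5 h3.1 (F.LN h5 (ht D₁))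

/-- membership in `C D` -/
theorem mem_C {t : Subgroup X → V} (ht : ∀ D, t D ∈ L D) {D : Subgroup X} (hD : D ∈ FF) :
    (∑ D' ∈ (Set.toFinite FF).toFinset, t D') ∈ C D ↔ t D = 0 := by
  have h3 := sub_C F ht hD
  constructor
  · intro h
    have h5 := sub_mem h h3
    rw [sub_sub_cancel] at h5
    have h7 : t D ∈ L D ⊓ C D := ⟨ht D, h5⟩
    rw [F.LC h2 hf hD] at h7
    exact AddSubgroup.mem_bot.1 h7
  · intro h
    rwa [h, sub_zero] at h3

/-- the vectors of full support -/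
theorem full_iff {v : V} : Full FF L v ↔ v ∈ sN FF L ∧ ∀ D ∈ FF, v ∉ C D := by
  constructor
  · rintro ⟨t, ht, h0, rfl⟩
    refine ⟨sum_mem fun D hD => ?_, fun D hD h => h0 D hD ((mem_C F h2 hf ht hD).1 h)⟩
    exact (le_iSup₂ (f := fun D (_ : D ∈ FF) => L D) D ((Set.toFinite FF).mem_toFinset.1 hD)) (ht D)
  · rintro ⟨hv, h0⟩
    obtain ⟨t, ht, rfl⟩ := comp hv
    exact ⟨t, ht, fun D hD h => h0 D hD ((mem_C F h2 hf ht hD).2 h), rfl⟩

theorem odd_full : Odd (Nat.card {v : V // Full FF L v}) := by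
  classical
  have hfin : Fintype FF := Fintype.ofFinite FF
  let ex : (∀ D : FF, {u : V // u ∈ L D ∧ u ≠ 0}) → Subgroup X → V := fun θ D =>
    if h : D ∈ FF then ((θ ⟨D, h⟩ : {u : V // u ∈ L D ∧ u ≠ 0}) : V) else 0
  have hex : ∀ θ, ∀ D (h : D ∈ FF), ex θ D = (θ ⟨D, h⟩ : V) := fun θ D h => dif_pos h
  have hexL : ∀ θ, ∀ D, ex θ D ∈ L D := by
    intro θ D
    by_cases h : D ∈ FF
    · rw [hex θ D h]; exact (θ ⟨D, h⟩).2.1
    · have e1 : ex θ D = 0 := dif_neg h
      rw [e1]; exact zero_mem _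
  let φ : (∀ D : FF, {u : V // u ∈ L D ∧ u ≠ 0}) → {v : V // Full FF L v} := fun θ =>
    ⟨∑ D ∈ (Set.toFinite FF).toFinset, ex θ D, ex θ, hexL θ, fun D hD => by
      rw [hex θ D hD]; exact (θ ⟨D, hD⟩).2.2, rfl⟩
  have hφ : Function.Bijective φ := by
    constructor
    · intro θ θ' h
      have h1 : (∑ D ∈ (Set.toFinite FF).toFinset, ex θ D) = ∑ D ∈ (Set.toFinite FF).toFinset, ex θ' D :=
        congrArg Subtype.val h
      have h3 := F.L_uniq h2 hf (hexL θ) (hexL θ') (by rw [h1, sub_self]; exact zero_mem _)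
      funext D
      have h5 := h3 D.1 D.2
      rw [hex θ D.1 D.2, hex θ' D.1 D.2] at h5
      exact Subtype.ext h5
    · rintro ⟨v, t, ht, h0, rfl⟩
      refine ⟨fun D => ⟨t D.1, ht D.1, h0 D.1 D.2⟩, ?_⟩
      refine Subtype.ext (Finset.sum_congr rfl fun D hD => ?_)
      exact (hex (fun D => ⟨t D.1, ht D.1, h0 D.1 D.2⟩) D ((Set.toFinite FF).mem_toFinset.1 hD))
  rw [← Nat.card_congr (Equiv.ofBijective φ hφ), Nat.card_pi]
  refine Finset.prod_induction _ Odd (fun a b ha hb => ha.mul hb) odd_one fun D _ => odd_L F h2 hf D.2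

variable (EEc : ∀ B ∈ EE, ∀ x : X, MulAut.conj x • B ≤ (T : Subgroup X) → MulAut.conj x • B ∈ EE)
include EEc

theorem Linv {x : X} (hx : ∀ D ∈ FF, MulAut.conj x • D ≤ (T : Subgroup X)) {m : V} (hm : m ∈ sN FF L) :
    x • m ∈ sN FF L := by
  have h1 : sN FF L ≤ (sN FF L).comap (DistribSMul.toAddMonoidHom V x) := by
    refine iSup₂_le fun D hD y hy => ?_
    have h3 := (lin F h2 hf EEc hD (hx D hD) y).1 hy
    exact (le_iSup₂ (f := fun D (_ : D ∈ FF) => L D) _ (wc F h2 hf EEc hD (hx D hD)).1) h3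
  exact h1 hm

/-- **A fixed vector of full support.** -/
theorem exists_v : ∃ v : V, Full FF L v ∧ ∀ s ∈ T, s • v = v := by
  have hp : Fact (Nat.Prime 2) := ⟨Nat.prime_two⟩
  have hact : ∀ s : (T : Subgroup X), ∀ v : V, Full FF L v → Full FF L ((s : X) • v) := by
    intro s v hv
    rw [full_iff F h2 hf] at hv ⊢
    refine ⟨Linv F h2 hf EEc (fun D hD y hy => ?_) hv.1, fun D hD h => ?_⟩
    · have hy1 := F.le D hD (mem_cj.1 hy)
      have e1 : y = (s : X) * ((s : X)⁻¹ * y * s) * (s : X)⁻¹ := by group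
      rw [e1]
      exact mul_mem (mul_mem s.2 hy1) (inv_mem s.2)
    · obtain ⟨D', hD', -, -, h3, -⟩ := F.perm (s : X)⁻¹ D hD
      have h5 := (h3 _).1 h
      rw [inv_smul_smul] at h5
      exact hv.2 D' hD' h5
  let _ : MulAction (T : Subgroup X) {v : V // Full FF L v} :=
    { smul := fun s v => ⟨(s : X) • (v : V), hact s v v.2⟩
      one_smul := fun v => Subtype.ext (one_smul _ _)
      mul_smul := fun a b v => Subtype.ext (mul_smul (a : X) (b : X) (v : V)) }
  have hodd := odd_full F h2 hf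
  obtain ⟨v, hv⟩ := T.isPGroup'.nonempty_fixed_point_of_prime_not_dvd_card {v : V // Full FF L v}
    (fun h => (Nat.not_even_iff_odd.2 hodd) (even_iff_two_dvd.2 h))
  exact ⟨v, v.2, fun s hs => congrArg Subtype.val (hv ⟨s, hs⟩)⟩

omit EEc

/-- **Generation.** -/
theorem gen {v : V} (hv : Full FF L v) : sN FF N ≤ AddSubgroup.closure {m | ∃ x ∈ EO FF, m = x • v - v} := by
  obtain ⟨t, ht, h0, rfl⟩ := hv
  refine iSup₂_le fun D hD => ?_
  obtain ⟨K, k1, k3, k5⟩ := gen_blk h2 hf (F.gb D hD).nb (F.four D hD) (ht D) (h0 D hD)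
  refine k5.trans (AddSubgroup.closure_mono ?_)
  rintro m ⟨x, hx, rfl⟩
  refine ⟨x, ?_, ?_⟩
  · rw [EO_eq]; exact ncl_le_EB hD (k1 hx)
  · have h1 := k3 x hx _ (sub_C F ht hD)
    rw [smul_sub, sub_eq_sub_iff_add_eq_add] at h1
    rw [sub_eq_sub_iff_add_eq_add, add_comm, ← h1, add_comm]

theorem fix {x : X} (hx : x ∈ EO FF) {m : V} (hm : m ∈ sN FF Z) : x • m = m := by
  have h1 : sN FF Z ≤ iC FF C := iSup₂_le fun D hD => F.Z_iC h2 hf hD
  have h3 := h1 hm
  rw [← F.fxd_EB h2 hf, ← EO_eq] at h3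
  exact mem_fxd.1 h3 x hx

theorem cap {m : V} (hm : m ∈ sN FF N) (h : ∀ x ∈ EO FF, x • m = m) : m ∈ sN FF Z := by
  have h1 : m ∈ (fxd (EO FF) : AddSubgroup V) := mem_fxd.2 h
  rw [EO_eq, F.fxd_EB h2 hf] at h1
  have h3 : m ∈ sN FF N ⊓ iC FF C := ⟨hm, h1⟩
  rwa [F.N_inf h2 hf] at h3

theorem brk_EO : brk V (EO FF) = sN FF N := by rw [EO_eq, F.brk_EB h2 hf]

end fam

end Cfsg.Agent.Omega.NOThreeL.RRed.Blk.FxVec

end

section


/-!
# NO-3L, box R, nonsplit blocks (#26560, #27284, #27575): the sums over the blocks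

`F : FamN T EE FF N C L Z`, `h : FX T FF N C L Z` (842), `EB FF` the normal closure of the root groups (`EB_eq : EB = EO`).

* `mvP` : the permutation of `FF` by `x`;
* **`sep`** : `m, m' ∈ ⨆ L`, `x m - m' ∈ ⨆ Z` ⟹ `x m = m'`;
* **`Linv`** : `x D x⁻¹ ≤ T` for all `D ∈ FF` ⟹ `x` normalises `⨆ L`;
* **`tr`** : `v = ∑ t D`, `t D ∈ L D`, `t D ≠ 0` ⟹ for all `x` there is `y ∈ EB` with `y v = x v`.
-/

set_option autoImplicit false
set_option linter.unusedSectionVars false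

namespace Cfsg.Agent.Omega.NOThreeL.RRed.Blk.FxSep

open Subgroup
open Cfsg.Agent.Omega.NOThreeL.RRed
open Cfsg.Agent.Omega.NOThreeL.RRed.NS (fxd brk mem_fxd)
open Cfsg.Agent.Omega.NOThreeL.RRed.Blk.Types (mem_cj card_cj)
open Cfsg.Agent.Omega.NOThreeL.RRed.Blk.AsmN (NBd GBd FamN)
open Cfsg.Agent.Omega.NOThreeL.RRed.Blk.AsmN.FamN (sN iC EB comp le_EB)
open Cfsg.Agent.Omega.NOThreeL.RRed.Blk.FamX
open scoped Pointwise

universe u v

variable {X : Type u} {V : Type v} [Group X] [AddCommGroup V] [DistribMulAction X V]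
variable {T : Sylow 2 X} {EE FF : Set (Subgroup X)} {N C L Z : Subgroup X → AddSubgroup V}

theorem EB_eq : EB FF = EO FF := by
  apply le_antisymm
  · refine normalClosure_le_normal ?_
    have h1 : (⨆ D ∈ FF, D : Subgroup X) ≤ EO FF := iSup₂_le fun D hD => le_EO hD
    exact h1
  · refine normalClosure_le_normal ?_
    rintro a ⟨D, hD, ha⟩
    exact le_EB hD ha

/-! ### the permutation of the blocks -/

section perm

variable (h : FX T FF N C L Z)
include h

theorem exists_mvP (x : X) : ∃ π : Subgroup X → Subgroup X, (∀ D ∈ FF, π D ∈ FF ∧ (∀ m, m ∈ N D ↔ x • m ∈ N (π D)) ∧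
    (∀ m, m ∈ C D ↔ x • m ∈ C (π D))) ∧ Set.InjOn π FF := by
  classical
  choose! π hπ using fun D (hD : D ∈ FF) => h.perm x D hD
  refine ⟨π, fun D hD => ⟨(hπ D hD).1, (hπ D hD).2.1, (hπ D hD).2.2.1⟩, fun D hD D' hD' e => ?_⟩
  refine h.inj hD hD' fun m hm => ?_
  rw [(hπ D' hD').2.1, ← e]
  exact ((hπ D hD).2.1 m).1 hm

variable [Finite X]

theorem sum_mvP {π : Subgroup X → Subgroup X} (h1 : ∀ D ∈ FF, π D ∈ FF) (h3 : Set.InjOn π FF) (t : Subgroup X → V) :
    ∑ D ∈ (Set.toFinite FF).toFinset, t (π D) = ∑ D ∈ (Set.toFinite FF).toFinset, t D := by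
  classical
  have hm : ∀ D, D ∈ (Set.toFinite FF).toFinset ↔ D ∈ FF := fun D => (Set.toFinite FF).mem_toFinset
  have hinj : Set.InjOn π ((Set.toFinite FF).toFinset : Set (Subgroup X)) := fun D hD D' hD' e =>
    h3 ((hm D).1 hD) ((hm D').1 hD') e
  have himg : (Set.toFinite FF).toFinset.image π = (Set.toFinite FF).toFinset := by
    refine Finset.eq_of_subset_of_card_le (fun D hD => ?_) ?_
    · obtain ⟨D', hD', rfl⟩ := Finset.mem_image.1 hD
      exact (hm _).2 (h1 _ ((hm _).1 hD'))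
    · rw [Finset.card_image_of_injOn hinj]
  conv_rhs => rw [← himg]
  rw [Finset.sum_image hinj]

end perm

section fam

variable [Finite X] [Finite V] (F : FamN (T : Subgroup X) EE FF N C L Z) (h : FX T FF N C L Z)
include F h

/-- **(sep)** -/
theorem sep {m m' : V} (hm : m ∈ sN FF L) (hm' : m' ∈ sN FF L) {x : X} (hz : x • m - m' ∈ sN FF Z) : x • m = m' := by
  classical
  obtain ⟨t, ht, rfl⟩ := comp hm
  obtain ⟨t', ht', rfl⟩ := comp hm'
  obtain ⟨π, hπ, hinj⟩ := exists_mvP h x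
  have hmem : ∀ D, D ∈ (Set.toFinite FF).toFinset ↔ D ∈ FF := fun D => (Set.toFinite FF).mem_toFinset
  -- the sum without the component `D`
  have hrest : ∀ s : Subgroup X → V, (∀ D, s D ∈ L D) → ∀ D ∈ FF,
      (∑ D' ∈ (Set.toFinite FF).toFinset, s D') - s D ∈ C D := by
    intro s hs D hD
    rw [← Finset.add_sum_erase _ _ ((hmem D).2 hD), add_sub_cancel_left]
    refine sum_mem fun D' hD' => ?_
    have h3 := Finset.mem_erase.1 hD'
    have h5 := (hmem D').1 h3.2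
    exact F.ind D hD D' h5 h3.1 (F.LN h5 (hs D'))
  have key : ∀ D ∈ FF, x • t D = t' (π D) := by
    intro D hD
    obtain ⟨h1, h3, h5⟩ := hπ D hD
    refine h.sec hD h1 h3 (ht D) (ht' _) ?_
    have e1 : x • t D - t' (π D) = (x • (∑ D ∈ (Set.toFinite FF).toFinset, t D) -
        ∑ D ∈ (Set.toFinite FF).toFinset, t' D) - x • ((∑ D ∈ (Set.toFinite FF).toFinset, t D) - t D) +
        ((∑ D ∈ (Set.toFinite FF).toFinset, t' D) - t' (π D)) := by
      rw [smul_sub]; abel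
    rw [e1]
    refine add_mem (sub_mem ?_ ((h5 _).1 (hrest t ht D hD))) (hrest t' ht' _ h1)
    have h6 : sN FF Z ≤ C (π D) := iSup₂_le fun D' hD' =>
      (F.Z_iC h.two h.faith hD').trans (iInf₂_le (π D) h1)
    exact h6 hz
  rw [Finset.smul_sum, ← sum_mvP h (fun D hD => (hπ D hD).1) hinj t']
  exact Finset.sum_congr rfl fun D hD => key D ((hmem D).1 hD)

omit F [Finite V] [Finite X] in
/-- **(Linv)** -/
theorem Linv {x : X} (hx : ∀ D ∈ FF, MulAut.conj x • D ≤ (T : Subgroup X)) {m : V} (hm : m ∈ sN FF L) :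
    x • m ∈ sN FF L := by
  have h1 : sN FF L ≤ (sN FF L).comap (DistribSMul.toAddMonoidHom V x) := by
    refine iSup₂_le fun D hD m hm => ?_
    have h3 := h.wc D hD x (hx D hD)
    exact (le_iSup₂ (f := fun D (_ : D ∈ FF) => L D) _ h3) ((h.lin D hD x h3 m).1 hm)
  exact h1 hm

omit F h [Finite V] in
/-- Frattini -/
theorem exists_fr (hFT : ∀ D ∈ FF, D ≤ (T : Subgroup X)) (x : X) :
    ∃ g ∈ EB FF, ∀ D ∈ FF, MulAut.conj (g * x) • D ≤ (T : Subgroup X) := by
  have h2 : IsPGroup 2 ↥(MulAut.conj x • (EB FF ⊓ (T : Subgroup X)) : Subgroup X) :=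
    (T.isPGroup'.to_le inf_le_right).of_equiv (Subgroup.equivSMul (MulAut.conj x) (EB FF ⊓ (T : Subgroup X)))
  have h1 : MulAut.conj x • (EB FF ⊓ (T : Subgroup X)) ≤ (T : Subgroup X) ⊔ EB FF := by
    intro y hy
    have h3 := (mem_cj.1 hy).1
    have h5 := (AsmN.FamN.EB_normal (FF := FF)).conj_mem _ h3 x
    have e1 : x * (x⁻¹ * y * x) * x⁻¹ = y := by group
    rw [e1] at h5
    exact mem_sup_right h5
  obtain ⟨m, hm, hAm⟩ := NS.exists_conj_le T (le_sup_left : (T : Subgroup X) ≤ (T : Subgroup X) ⊔ EB FF) h2 h1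
  have hm' : m⁻¹ ∈ (T : Subgroup X) ⊔ EB FF := inv_mem hm
  obtain ⟨s, hs, e, he, h3⟩ := (mem_sup_of_normal_right).1 hm'
  refine ⟨e, he, fun D hD y hy => ?_⟩
  have h5 : e⁻¹ * y * e ∈ MulAut.conj x • (EB FF ⊓ (T : Subgroup X)) := by
    rw [mem_cj]
    have h6 := mem_cj.1 hy
    have e1 : (e * x)⁻¹ * y * (e * x) = x⁻¹ * (e⁻¹ * y * e) * x := by group
    rw [e1] at h6
    exact ⟨le_EB hD h6, hFT D hD h6⟩
  have h6 : m⁻¹ * (e⁻¹ * y * e) * m ∈ (T : Subgroup X) := mem_cj.1 (hAm h5)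
  have e2 : m = e⁻¹ * s⁻¹ := by rw [← inv_inv m, ← h3, mul_inv_rev]
  have e3 : m⁻¹ * (e⁻¹ * y * e) * m = s * y * s⁻¹ := by rw [e2]; group
  rw [e3] at h6
  have h7 := mul_mem (mul_mem (inv_mem hs) h6) hs
  have e4 : s⁻¹ * (s * y * s⁻¹) * s = y := by group
  rwa [e4] at h7

/-- **(tr)** -/
theorem tr {t : Subgroup X → V} (ht : ∀ D, t D ∈ L D) (h0 : ∀ D ∈ FF, t D ≠ 0) (x : X) :
    ∃ y ∈ EB FF, y • (∑ D ∈ (Set.toFinite FF).toFinset, t D) = x • ∑ D ∈ (Set.toFinite FF).toFinset, t D := by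
  classical
  have hmem : ∀ D, D ∈ (Set.toFinite FF).toFinset ↔ D ∈ FF := fun D => (Set.toFinite FF).mem_toFinset
  obtain ⟨g, hg, h1⟩ := exists_fr (T := T) (FF := FF) h.le x
  -- `(g x) v = ∑ t' D`
  set π : Subgroup X → Subgroup X := fun D => MulAut.conj (g * x) • D with hπ
  have hπF : ∀ D ∈ FF, π D ∈ FF := fun D hD => h.wc D hD _ (h1 D hD)
  have hinj : Set.InjOn π FF := fun D _ D' _ e => smul_left_cancel _ e
  set t' : Subgroup X → V := fun D => (g * x) • t (MulAut.conj (g * x)⁻¹ • D) with ht'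
  have e0 : ∀ D, t' (π D) = (g * x) • t D := by
    intro D
    simp only [ht', hπ, smul_smul, ← map_mul, inv_mul_cancel, map_one, one_smul]
  have hD' : ∀ D ∈ FF, ∃ D₁ ∈ FF, π D₁ = D := by
    intro D hD
    have hsurj : (Set.toFinite FF).toFinset.image π = (Set.toFinite FF).toFinset := by
      refine Finset.eq_of_subset_of_card_le (fun D hD => ?_) ?_
      · obtain ⟨D', hD', rfl⟩ := Finset.mem_image.1 hD
        exact (hmem _).2 (hπF _ ((hmem _).1 hD'))
      · rw [Finset.card_image_of_injOn fun D hD D' hD' e => hinj ((hmem D).1 hD) ((hmem D').1 hD') e]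
    have h3 := (hmem D).2 hD
    rw [← hsurj] at h3
    obtain ⟨D₁, h5, h6⟩ := Finset.mem_image.1 h3
    exact ⟨D₁, (hmem _).1 h5, h6⟩
  -- cut off outside of `FF`
  set t'' : Subgroup X → V := fun D => if D ∈ FF then t' D else 0 with ht''
  have ha : ∀ D, t'' D ∈ L D := by
    intro D
    by_cases hD : D ∈ FF
    · obtain ⟨D₁, h3, rfl⟩ := hD' D hD
      simp only [ht'', if_pos hD, e0]
      exact (h.lin D₁ h3 _ (hπF D₁ h3) _).1 (ht D₁)
    · simp only [ht'', if_neg hD]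
      exact zero_mem _
  have hb : ∀ D ∈ FF, t'' D ≠ 0 := by
    intro D hD
    obtain ⟨D₁, h3, rfl⟩ := hD' D hD
    simp only [ht'', if_pos hD, e0]
    intro h5
    exact h0 D₁ h3 ((smul_eq_zero_iff_eq _).1 h5)
  obtain ⟨y, hy, -, h3⟩ := F.full h.two h.faith ht ha h0 hb
  refine ⟨g⁻¹ * y, mul_mem (inv_mem hg) hy, ?_⟩
  have e1 : ∑ D ∈ (Set.toFinite FF).toFinset, t'' D = (g * x) • ∑ D ∈ (Set.toFinite FF).toFinset, t D := by
    rw [Finset.smul_sum, ← sum_mvP h hπF hinj t'']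
    refine Finset.sum_congr rfl fun D hD => ?_
    have h5 := hπF D ((hmem D).1 hD)
    simp only [ht'', if_pos h5, e0]
  rw [mul_smul, h3, e1, mul_smul, inv_smul_smul]

end fam

end Cfsg.Agent.Omega.NOThreeL.RRed.Blk.FxSep

end

section


/-!
# NO-3L, box R, natural blocks with radicals: from 19's `FamN` to 892's record `FXM` (#27284, #27575)

**`fxm_of`**.
-/

set_option autoImplicit false
set_option linter.unusedSectionVars false

namespace Cfsg.Agent.Omega.NOThreeL.RRed.Blk.FxmOf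

open Cfsg.Agent.Omega.NOThreeL.RRed.NS (fxd brk mem_fxd)
open Cfsg.Agent.Omega.NOThreeL.RRed.Blk.AsmN
open Cfsg.Agent.Omega.NOThreeL.RRed.Blk.AsmN.FamN
open Cfsg.Agent.Omega.NOThreeL.RRed.Blk.FamX (FX EO mem_EO le_EO)
open Cfsg.Agent.Omega.NOThreeL.RRed.Blk.FXDef (FXM)
open scoped Pointwise

universe u v

variable {X : Type u} {V : Type v} [Group X] [AddCommGroup V] [DistribMulAction X V]

/-- **The module facts from the family.** -/
theorem fxm_of [Finite X] [Finite V] {T : Sylow 2 X} {EE FF : Set (Subgroup X)}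
    {N C L Z : Subgroup X → AddSubgroup V} (F : FamN (T : Subgroup X) EE FF N C L Z)
    (EEc : ∀ B ∈ EE, ∀ x : X, MulAut.conj x • B ≤ (T : Subgroup X) → MulAut.conj x • B ∈ EE)
    (h2 : ∀ v : V, v + v = 0) (hf : ∀ x : X, (∀ v : V, x • v = v) → x = 1) (hne : FF.Nonempty) :
    ∃ v : V, FXM (T : Subgroup X) (EO FF) FF (sN FF N) (sN FF L) (sN FF Z) v ∧
      ∀ D ∈ FF, ∃ x ∈ L D, x ≠ 0 ∧ v - x ∈ C D := by
  have h := FxOf.fx_of F h2 hf EEc
  obtain ⟨v, hv, hvT⟩ := FxVec.exists_v F h2 hf EEc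
  have hv' := (FxVec.full_iff F h2 hf).1 hv
  refine ⟨v,
    { FT := F.le
      FE := fun D hD => le_EO hD
      EOn := fun x g hg => (inferInstance : (EO FF).Normal).conj_mem g hg x
      EOgen := fun K hK hTK => ?_
      Zinv := fun x m hm => F.inv_Z x hm
      Linv := fun x hx m hm => FxVec.Linv F h2 hf EEc hx hm
      LN := iSup₂_le fun D hD => (F.LN hD).trans (le_iSup₂ (f := fun D (_ : D ∈ FF) => N D) D hD)
      ZN := iSup₂_le fun D hD => (F.ZN h2 hf hD).trans (le_iSup₂ (f := fun D (_ : D ∈ FF) => N D) D hD)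
      brk := FxVec.brk_EO F h2 hf
      fix := fun x hx m hm => FxVec.fix F h2 hf hx hm
      cap := fun m hm h0 => FxVec.cap F h2 hf hm h0
      alt := fun t ht hL m hm => ?_
      sep := fun m hm m' hm' x hz => FxSep.sep F h hm hm' hz
      vL := hv'.1
      v0 := ?_
      vT := hvT
      tr := fun x => ?_
      gen := FxVec.gen F h2 hf hv }, fun D hD => ?_⟩
  · have hn : K.Normal := ⟨fun g hg x => hK x g hg⟩
    refine Subgroup.normalClosure_le_normal ?_
    rintro a ⟨D, hD, ha⟩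
    exact hTK (F.le D hD ha)
  · have h3 := h.alt ht fun D hD w hw => hL w ((le_iSup₂ (f := fun D (_ : D ∈ FF) => L D) D hD) hw)
    have h5 : sN FF Z ≤ (fxd (Subgroup.zpowers t) : AddSubgroup V) := by
      refine iSup₂_le fun D hD z hz => mem_fxd.2 fun x hx => ?_
      obtain ⟨n, rfl⟩ := Subgroup.mem_zpowers_iff.1 hx
      have h7 : t ∈ MulAction.stabilizer X z := MulAction.mem_stabilizer_iff.2 (h3 D hD z hz)
      exact MulAction.mem_stabilizer_iff.1 (Subgroup.zpow_mem _ h7 n)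
    exact mem_fxd.1 (h5 hm) t (Subgroup.mem_zpowers t)
  · rintro rfl
    obtain ⟨D, hD⟩ := hne
    exact hv'.2 D hD (zero_mem _)
  · obtain ⟨t, ht, h0, rfl⟩ := hv
    obtain ⟨y, hy, h3⟩ := FxSep.tr F h ht h0 x
    exact ⟨y, by rw [FxOf.EO_eq]; exact hy, h3⟩
  · obtain ⟨t, ht, h0, rfl⟩ := hv
    exact ⟨t D, ht D, h0 D hD, FxVec.sub_C F ht hD⟩

end Cfsg.Agent.Omega.NOThreeL.RRed.Blk.FxmOf

end

section


/-!
# NO-3L, box R, blocks with a radical: two blocks with the same root group have the same radical (helper855 #26560, (SW))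

`X` acts faithfully on `V` (additive, `v + v = 0`), no over-offender (`NO`), `EE` : minimal exact subgroups of `S`.
`GB1 EE A` : `A` is the root group of a natural block `(e, f, d)` (`BkD`), which the other members of `EE` centralise.

* `GB1.comm` : all members of `EE` commute with `A`;
* **`comm`** : so with the conjugates of `A` in `EE` (gallery over `Ps`);
* `swap_or` : two blocks `(e, f, d)`, `(e', f', d')` with the same root group : `d'(F') = d(F)` or `d'(F') = e(F)`, `e'(F') = d(F)`.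
-/

set_option autoImplicit false
set_option linter.unusedSectionVars false

namespace Cfsg.Agent.Omega.NOThreeL.RRed.Blk.Uni

open Cfsg.Agent.Omega.NOThreeL.RRed.NS (fxd brk mem_fxd)
open Cfsg.Agent.Omega.NOThreeL.RRed.Blk.TypesGam (NO rt up_mem)
open Cfsg.Agent.Omega.NOThreeL.RRed.Blk.GamD
open Cfsg.Agent.Omega.NOThreeL.RRed.Blk.Types
open Cfsg.Agent.Omega.NOThreeL.RRed.Blk.Asm (Es sit)
open scoped Pointwise

universe u v w

variable {X : Type u} {V : Type v} [Group X] [AddCommGroup V] [DistribMulAction X V]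

/-! ### one block -/

section blk

variable {F : Type w} [Field F] {e f d : F →+ V} {C : AddSubgroup V} {up lo : F → X}
variable (h : BkD e f d C up lo)
include h

theorem rt_el (h2 : ∀ v : V, v + v = 0) (hf : ∀ x : X, (∀ v : V, x • v = v) → x = 1) : El (rt up) where
  sq := by
    intro x hx
    obtain ⟨t, rfl⟩ := (h.mem_rt h2 hf).1 hx
    rw [h.up_add hf, h.two h2, h.up_zero hf]
  cm := by
    intro x hx y hy
    obtain ⟨t, rfl⟩ := (h.mem_rt h2 hf).1 hx
    obtain ⟨s, rfl⟩ := (h.mem_rt h2 hf).1 hy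
    rw [h.up_add hf, h.up_add hf, add_comm]

/-- the commutators -/
theorem up_sub (t x y : F) {c : V} (hc : c ∈ C) : up t • (e x + f y + c) - (e x + f y + c) = e (t * y) + d (t * y ^ 2) := by
  rw [smul_add, smul_add, h.up_e, h.up_f, h.up_c _ c hc]
  abel

theorem brk_rt_le (h2 : ∀ v : V, v + v = 0) (hf : ∀ x : X, (∀ v : V, x • v = v) → x = 1) :
    brk V (rt up) ≤ e.range ⊔ d.range := by
  refine brk_le fun a ha m => ?_
  obtain ⟨t, rfl⟩ := (h.mem_rt h2 hf).1 ha
  obtain ⟨x, y, c, hc, rfl⟩ := h.dec m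
  rw [up_sub h t x y hc]
  exact AddSubgroup.add_mem_sup ⟨_, rfl⟩ ⟨_, rfl⟩

theorem cov_iff (h2 : ∀ v : V, v + v = 0) (hf : ∀ x : X, (∀ v : V, x • v = v) → x = 1) (m : V) :
    (∃ a ∈ rt up, ∃ v : V, a • v - v = m) ↔ ∃ t y, m = e (t * y) + d (t * y ^ 2) := by
  constructor
  · rintro ⟨a, ha, v, rfl⟩
    obtain ⟨t, rfl⟩ := (h.mem_rt h2 hf).1 ha
    obtain ⟨x, y, c, hc, rfl⟩ := h.dec v
    exact ⟨t, y, up_sub h t x y hc⟩
  · rintro ⟨t, y, rfl⟩
    refine ⟨up t, up_mem t, f y, ?_⟩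
    rw [h.up_f]; abel

theorem n0 {r s : F} (e1 : e r + d s = 0) : r = 0 ∧ d s = 0 := by
  have h1 : e r + f 0 ∈ C := by
    rw [map_zero, add_zero, ← add_neg_cancel_right (e r) (d s), e1, zero_add]
    exact C.neg_mem (h.dC _)
  obtain ⟨rfl, -⟩ := h.ind r 0 h1
  rw [map_zero, zero_add] at e1
  exact ⟨rfl, e1⟩

theorem e_inj : Function.Injective e := by
  rw [injective_iff_map_eq_zero]
  intro r hr
  exact (n0 h (r := r) (s := 0) (by rw [map_zero, add_zero, hr])).1

/-- the commutators of `A` in coordinates -/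
theorem cv_of {r s : F} (hr : r ≠ 0) (hs : s ≠ 0) : ∃ a ∈ rt up, ∃ v : V, a • v - v = e r + d s := by
  refine ⟨up (r * r / s), up_mem _, f (s / r), ?_⟩
  rw [h.up_f, add_assoc, add_sub_cancel_left]
  congr 2 <;> field_simp

theorem of_cv (h2 : ∀ v : V, v + v = 0) (hf : ∀ x : X, (∀ v : V, x • v = v) → x = 1) {m : V}
    (hm : ∃ a ∈ rt up, ∃ v : V, a • v - v = m) : m = 0 ∨ ∃ r s, r ≠ 0 ∧ s ≠ 0 ∧ m = e r + d s := by
  obtain ⟨t, y, rfl⟩ := (cov_iff h h2 hf m).1 hm
  by_cases h0 : t * y = 0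
  · left
    have e1 : t * y ^ 2 = t * y * y := by ring
    rw [e1, h0, zero_mul, map_zero, map_zero, add_zero]
  · right
    obtain ⟨ht, hy⟩ := mul_ne_zero_iff.1 h0
    exact ⟨_, _, h0, mul_ne_zero ht (pow_ne_zero 2 hy), rfl⟩

theorem n1 (h2 : ∀ v : V, v + v = 0) (hf : ∀ x : X, (∀ v : V, x • v = v) → x = 1) {m : V} (hm : m ∈ d.range)
    (hc : ∃ a ∈ rt up, ∃ v : V, a • v - v = m) : m = 0 := by
  rcases of_cv h h2 hf hc with h0 | ⟨r, s, hr, -, e1⟩
  · exact h0
  · exfalso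
    obtain ⟨s', rfl⟩ := hm
    have e2 : e r + d (s - s') = 0 := by
      rw [map_sub, ← add_sub_assoc, ← e1, sub_self]
    exact hr (n0 h e2).1

theorem n2 (h2 : ∀ v : V, v + v = 0) (hf : ∀ x : X, (∀ v : V, x • v = v) → x = 1) (hd : Function.Injective d) {m : V}
    (hm : m ∈ e.range) (hc : ∃ a ∈ rt up, ∃ v : V, a • v - v = m) : m = 0 := by
  rcases of_cv h h2 hf hc with h0 | ⟨r, s, -, hs, e1⟩
  · exact h0
  · exfalso
    obtain ⟨r', rfl⟩ := hm
    have e2 : e (r - r') + d s = 0 := by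
      rw [map_sub, sub_add_eq_add_sub, ← e1, sub_self]
    exact hs (hd (by rw [(n0 h e2).2, map_zero]))

theorem n3 (hd : ¬ Function.Injective d) {m : V} (hm : m ∈ e.range) : ∃ a ∈ rt up, ∃ v : V, a • v - v = m := by
  rw [injective_iff_map_eq_zero] at hd
  push Not at hd
  obtain ⟨s, hs, hs0⟩ := hd
  obtain ⟨r, rfl⟩ := hm
  by_cases hr : r = 0
  · exact ⟨1, one_mem _, 0, by rw [hr, map_zero, one_smul, sub_zero]⟩
  · have h1 := cv_of h hr hs0
    rwa [hs, add_zero] at h1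

theorem n4 {m : V} (hm : m ∈ e.range ⊔ d.range) (hc : ¬ ∃ a ∈ rt up, ∃ v : V, a • v - v = m) :
    m ∈ e.range ∨ m ∈ d.range := by
  obtain ⟨_, ⟨r, rfl⟩, _, ⟨s, rfl⟩, rfl⟩ := AddSubgroup.mem_sup.1 hm
  by_cases hr : r = 0
  · right
    rw [hr, map_zero, zero_add]
    exact ⟨s, rfl⟩
  · by_cases hs : s = 0
    · left
      rw [hs, map_zero, add_zero]
      exact ⟨r, rfl⟩
    · exact absurd (cv_of h hr hs) hc

theorem n5 : e.range ⊓ d.range = ⊥ := by
  rw [eq_bot_iff]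
  rintro _ ⟨⟨r, rfl⟩, ⟨s, hs⟩⟩
  have e1 : e r + d (-s) = 0 := by rw [map_neg, hs, add_neg_cancel]
  rw [(n0 h e1).1, map_zero]
  exact zero_mem _

theorem n6 (h2 : ∀ v : V, v + v = 0) (hf : ∀ x : X, (∀ v : V, x • v = v) → x = 1) [Finite F] (h4 : 2 < Nat.card F) :
    brk V (rt up) = e.range ⊔ d.range := by
  refine le_antisymm (brk_rt_le h h2 hf) ?_
  have key : ∀ r s, r ≠ 0 → s ≠ 0 → e r + d s ∈ brk V (rt up) := by
    intro r s hr hs
    obtain ⟨a, ha, v, e1⟩ := cv_of h hr hs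
    rw [← e1]
    exact sub_mem_brk ha v
  have hd : ∀ u, d u ∈ brk V (rt up) := by
    intro u
    by_cases hu : u = 0
    · rw [hu, map_zero]; exact zero_mem _
    obtain ⟨s, hs0, hsu⟩ : ∃ s : F, s ≠ 0 ∧ s ≠ u := by
      by_contra hcon
      push Not at hcon
      have hs : (Set.univ : Set F) ⊆ {0, u} := by
        intro x _
        rcases eq_or_ne x 0 with h | h
        · exact Or.inl h
        · exact Or.inr (hcon x h)
      have h3 := Set.ncard_le_ncard hs (Set.toFinite _)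
      rw [Set.ncard_univ, Set.ncard_pair (Ne.symm hu)] at h3
      omega
    have e1 : d u = (e 1 + d s) - (e 1 + d (s - u)) := by
      rw [map_sub]; abel
    rw [e1]
    exact sub_mem (key _ _ one_ne_zero hs0) (key _ _ one_ne_zero (sub_ne_zero.2 hsu))
  refine sup_le ?_ ?_
  · rintro _ ⟨r, rfl⟩
    by_cases hr : r = 0
    · rw [hr, map_zero]; exact zero_mem _
    have e1 : e r = (e r + d 1) - d 1 := by abel
    rw [e1]
    exact sub_mem (key _ _ hr one_ne_zero) (hd 1)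
  · rintro _ ⟨u, rfl⟩
    exact hd u

theorem card_e : Nat.card e.range = Nat.card F :=
  (Nat.card_congr (AddMonoidHom.ofInjective (e_inj h)).toEquiv).symm

end blk

/-- a subgroup in the union of two -/
theorem le_or_le' {A B C : AddSubgroup V} (h : ∀ x ∈ A, x ∈ B ∨ x ∈ C) : A ≤ B ∨ A ≤ C := by
  by_contra hcon
  push Not at hcon
  obtain ⟨h1, h2⟩ := hcon
  obtain ⟨x, hx, hxB⟩ := SetLike.not_le_iff_exists.1 h1
  obtain ⟨y, hy, hyC⟩ := SetLike.not_le_iff_exists.1 h2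
  have hxC : x ∈ C := (h x hx).resolve_left hxB
  have hyB : y ∈ B := (h y hy).resolve_right hyC
  rcases h (x + y) (add_mem hx hy) with h3 | h3
  · exact hxB (by simpa using sub_mem h3 hyB)
  · exact hyC (by simpa using sub_mem h3 hxC)

section two

variable {F : Type w} [Field F] [Finite F] {F' : Type*} [Field F'] [Finite F'] {e f d : F →+ V} {C : AddSubgroup V}
  {up lo : F → X} {e' f' d' : F' →+ V} {C' : AddSubgroup V} {up' lo' : F' → X}

/-- `d'(F') ≤ d(F)` or `d'(F') ≤ e(F)` -/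
theorem step (b : BkD e f d C up lo) (b' : BkD e' f' d' C' up' lo') (h2 : ∀ v : V, v + v = 0)
    (hf : ∀ x : X, (∀ v : V, x • v = v) → x = 1) (h4 : 2 < Nat.card F) (h4' : 2 < Nat.card F')
    (hr : rt up' = rt up) : d'.range ≤ e.range ∨ d'.range ≤ d.range := by
  have hY : e'.range ⊔ d'.range = e.range ⊔ d.range := by rw [← n6 b h2 hf h4, ← n6 b' h2 hf h4', hr]
  refine le_or_le' fun x hx => ?_
  by_cases hc : ∃ a ∈ rt up, ∃ v : V, a • v - v = x
  · rw [n1 b' h2 hf hx (by rw [hr]; exact hc)]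
    exact Or.inl (zero_mem _)
  · exact n4 b (hY ▸ (le_sup_right : d'.range ≤ _) hx) hc

/-- `d = 0` for one block implies `d = 0` for the other -/
theorem step0 (b : BkD e f d C up lo) (b' : BkD e' f' d' C' up' lo') (h2 : ∀ v : V, v + v = 0)
    (hf : ∀ x : X, (∀ v : V, x • v = v) → x = 1) (h4 : 2 < Nat.card F) (h4' : 2 < Nat.card F')
    (hr : rt up' = rt up) (hd : ¬ Function.Injective d) : d'.range ≤ d.range := by
  rcases step b b' h2 hf h4 h4' hr with h1 | h1
  · intro x hx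
    have h3 := n3 b hd (h1 hx)
    rw [n1 b' h2 hf hx (by rw [hr]; exact h3)]
    exact zero_mem _
  · exact h1

/-- **the two blocks have the same radical, or the radical and the line are interchanged** -/
theorem swap_or (b : BkD e f d C up lo) (b' : BkD e' f' d' C' up' lo') (h2 : ∀ v : V, v + v = 0)
    (hf : ∀ x : X, (∀ v : V, x • v = v) → x = 1) (h4 : 2 < Nat.card F) (h4' : 2 < Nat.card F')
    (hr : rt up' = rt up) :
    d'.range = d.range ∨ (Function.Injective d ∧ Function.Injective d' ∧ d'.range = e.range ∧ e'.range = d.range) := by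
  have hq : Nat.card F' = Nat.card F := by rw [← b.card_rt h2 hf, ← b'.card_rt h2 hf, hr]
  have : Finite d.range := Finite.of_surjective _ d.rangeRestrict_surjective
  have : Finite d'.range := Finite.of_surjective _ d'.rangeRestrict_surjective
  have : Finite e.range := Finite.of_surjective _ e.rangeRestrict_surjective
  have : Finite e'.range := Finite.of_surjective _ e'.rangeRestrict_surjective
  by_cases hd : Function.Injective d
  swap
  · by_cases hd' : Function.Injective d'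
    swap
    · exact Or.inl (le_antisymm (step0 b b' h2 hf h4 h4' hr hd) (step0 b' b h2 hf h4' h4 hr.symm hd'))
    · -- `d'` injective, `d` not
      exfalso
      have h1 := step0 b b' h2 hf h4 h4' hr hd
      -- `|d(F)| < |F|`, `|d'(F')| = |F|`
      have c1 : Nat.card d'.range = Nat.card F' := (Nat.card_congr (AddMonoidHom.ofInjective hd').toEquiv).symm
      have c2 : Nat.card d'.range ≤ Nat.card d.range := AddSubgroup.card_le_of_le h1
      have c3 : Nat.card d.range < Nat.card F := by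
        refine lt_of_le_of_ne (Nat.card_le_card_of_surjective d.rangeRestrict d.rangeRestrict_surjective) fun h3 => hd ?_
        have h5 : Function.Bijective d.rangeRestrict :=
          (Nat.bijective_iff_surjective_and_card _).2 ⟨d.rangeRestrict_surjective, h3.symm⟩
        intro x y hxy
        exact h5.1 (Subtype.ext hxy)
      omega
  · by_cases hd' : Function.Injective d'
    swap
    · exfalso
      have h1 := step0 b' b h2 hf h4' h4 hr.symm hd'
      have c1 : Nat.card d.range = Nat.card F := (Nat.card_congr (AddMonoidHom.ofInjective hd).toEquiv).symm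
      have c2 : Nat.card d.range ≤ Nat.card d'.range := AddSubgroup.card_le_of_le h1
      have c3 : Nat.card d'.range < Nat.card F' := by
        refine lt_of_le_of_ne (Nat.card_le_card_of_surjective d'.rangeRestrict d'.rangeRestrict_surjective) fun h3 => hd' ?_
        have h5 : Function.Bijective d'.rangeRestrict :=
          (Nat.bijective_iff_surjective_and_card _).2 ⟨d'.rangeRestrict_surjective, h3.symm⟩
        intro x y hxy
        exact h5.1 (Subtype.ext hxy)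
      omega
    · have c1 : Nat.card d.range = Nat.card F := (Nat.card_congr (AddMonoidHom.ofInjective hd).toEquiv).symm
      have c2 : Nat.card d'.range = Nat.card F' := (Nat.card_congr (AddMonoidHom.ofInjective hd').toEquiv).symm
      have c3 := card_e b
      have c4 := card_e b'
      rcases step b b' h2 hf h4 h4' hr with h1 | h1
      · right
        have e1 : d'.range = e.range := AddSubgroup.eq_of_le_of_card_ge h1 (by omega)
        refine ⟨hd, hd', e1, ?_⟩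
        rcases step b' b h2 hf h4' h4 hr.symm with h3 | h3
        · exact (AddSubgroup.eq_of_le_of_card_ge h3 (by omega)).symm
        · exfalso
          rw [e1] at h3
          have h5 : e.range ⊓ d.range = d.range := inf_eq_right.2 h3
          rw [n5 b] at h5
          rw [← h5, AddSubgroup.card_bot] at c1
          omega
      · left
        exact AddSubgroup.eq_of_le_of_card_ge h1 (by omega)

end two

/-- `A` is the root group of a natural block (with radical), which the other members of `EE` centralise. -/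
def GB1 (V : Type v) [AddCommGroup V] [DistribMulAction X V] (EE : Set (Subgroup X)) (A : Subgroup X) : Prop :=
  ∃ (F : Type) (_ : Field F) (_ : Finite F) (e f d : F →+ V) (C : AddSubgroup V) (up lo : F → X),
    BkD e f d C up lo ∧ rt up = A ∧ ∀ B ∈ EE, B ≠ A → ∀ b ∈ B, ∀ n ∈ (e.range ⊔ f.range) ⊔ d.range, b • n = n

section comm

variable (h2 : ∀ v : V, v + v = 0) (hf : ∀ x : X, (∀ v : V, x • v = v) → x = 1)
  {S : Subgroup X} {EE : Set (Subgroup X)} (E : Es S EE V)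
include h2 hf E

/-- all members of `EE` commute with `A` -/
theorem comm_blk {F : Type w} [Field F] {e f d : F →+ V} {C : AddSubgroup V} {up lo : F → X}
    (h : BkD e f d C up lo) {A : Subgroup X} (hr : rt up = A) (hA : A ∈ EE)
    (oth : ∀ B ∈ EE, B ≠ A → ∀ b ∈ B, ∀ n ∈ (e.range ⊔ f.range) ⊔ d.range, b • n = n) :
    ∀ B ∈ EE, ∀ a ∈ A, ∀ b ∈ B, a * b = b * a := by
  intro B hB a ha b hb
  by_cases hBA : B = A
  · exact (E.el A hA).cm a ha b (hBA ▸ hb)
  have hfN : ∀ y, f y ∈ (e.range ⊔ f.range) ⊔ d.range := fun y =>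
    (le_sup_left : e.range ⊔ f.range ≤ _) ((le_sup_right : f.range ≤ _) ⟨y, rfl⟩)
  have heN : ∀ y, e y ∈ (e.range ⊔ f.range) ⊔ d.range := fun y =>
    (le_sup_left : e.range ⊔ f.range ≤ _) ((le_sup_left : e.range ≤ _) ⟨y, rfl⟩)
  have hdN : ∀ y, d y ∈ (e.range ⊔ f.range) ⊔ d.range := fun y => (le_sup_right : d.range ≤ _) ⟨y, rfl⟩
  have hb1 := oth B hB hBA b hb
  have hb2 : ∀ n ∈ (e.range ⊔ f.range) ⊔ d.range, b⁻¹ • n = n := fun n hn => by
    rw [inv_smul_eq_iff, hb1 n hn]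
  have act : ∀ t, (b * up t * b⁻¹) • f 1 = f 1 + e t + d t := by
    intro t
    rw [mul_smul, mul_smul, hb2 _ (hfN 1), h.up_f, mul_one, one_pow, mul_one]
    exact hb1 _ (add_mem (add_mem (hfN 1) (heN t)) (hdN t))
  have hcj : MulAut.conj b • A = A := by
    by_contra hne
    have h3 := oth _ (E.nS b (E.le B hB hb) A hA) hne (b * up 1 * b⁻¹) (by
      rw [mem_cj]
      have e1 : b⁻¹ * (b * up 1 * b⁻¹) * b = up 1 := by group
      rw [e1, ← hr]
      exact up_mem 1) _ (hfN 1)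
    rw [act 1, add_assoc, add_eq_left] at h3
    exact one_ne_zero (n0 h h3).1
  rw [← hr] at ha
  obtain ⟨t, rfl⟩ := (h.mem_rt h2 hf).1 ha
  have h3 : b * up t * b⁻¹ ∈ rt up := by
    rw [hr, ← hcj, mem_cj]
    have e1 : b⁻¹ * (b * up t * b⁻¹) * b = up t := by group
    rw [e1, ← hr]
    exact ha
  obtain ⟨s, hs⟩ := (h.mem_rt h2 hf).1 h3
  have h5 := act t
  rw [← hs, h.up_f, mul_one, one_pow, mul_one] at h5
  have h6 : e (s - t) + d (s - t) = 0 := by
    rw [map_sub, map_sub]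
    have e1 : e s - e t + (d s - d t) = (f 1 + e s + d s) - (f 1 + e t + d t) := by abel
    rw [e1, h5, sub_self]
  have h7 : s = t := sub_eq_zero.1 (n0 h h6).1
  rw [h7] at hs
  exact (mul_inv_eq_iff_eq_mul.1 hs.symm).symm

theorem GB1.comm {A : Subgroup X} (g : GB1 V EE A) (hA : A ∈ EE) : ∀ B ∈ EE, ∀ a ∈ A, ∀ b ∈ B, a * b = b * a := by
  obtain ⟨F, _, _, e, f, d, C, up, lo, h, hr, oth⟩ := g
  exact comm_blk h2 hf E h hr hA oth

end comm

/-- the hypothesis on the members `P` of `Ps` : inactive or active -/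
def PsH (V : Type v) [AddCommGroup V] [DistribMulAction X V] (S : Subgroup X) (EE Ps : Set (Subgroup X)) : Prop :=
  ∀ P ∈ Ps, (∀ g ∈ P, ∀ A ∈ EE, MulAut.conj g • A ∈ EE) ∨ ∃ (K : Subgroup X) (EP : Set (Subgroup X)), P ≤ K ⊔ S ∧
    EP ⊆ EE ∧ (∀ A ∈ EP, A ≤ K) ∧ (∀ A ∈ EE, A ∈ EP ∨ ∀ a ∈ A, ∀ m ∈ brk V K, a • m = m) ∧
    ∀ A ∈ EP, 4 ≤ Nat.card A → GB1 V EE A

section gal

variable [Finite X] [Finite V] (h2 : ∀ v : V, v + v = 0) (hf : ∀ x : X, (∀ v : V, x • v = v) → x = 1) (hno : NO X V)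
  {S : Subgroup X} {EE : Set (Subgroup X)} (E : Es S EE V)
include h2 hf hno E

/-- **(T0)** -/
theorem cj_of {K B : Subgroup X} (hB : B ∈ EE) (hBK : ∀ a ∈ B, ∀ m ∈ brk V K, a • m = m) {g : X} (hg : g ∈ K) :
    MulAut.conj g • B = B := by
  have key : ∀ x ∈ K, ∀ n : V, n ∈ (fxd B : AddSubgroup V) → x • n ∈ (fxd B : AddSubgroup V) := by
    intro x hx n hn
    have e1 : x • n = (x • n - n) + n := by abel
    rw [e1]
    exact add_mem (mem_fxd.2 fun a ha => hBK a ha _ (sub_mem_brk hx n)) hn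
  refine (sit h2 hf hno).cj_eq le_top (E.el B hB) (E.exact B hB) (E.quad B hB) (Subgroup.mem_top g) fun m => ?_
  constructor
  · exact fun h => key _ (inv_mem hg) m h
  · intro h
    have := key _ hg _ h
    rwa [smul_inv_smul] at this

omit hf hno [Finite X] in
/-- `|[V, B]| ≤ 3` if `|B| ≤ 3` -/
theorem card_brk {B : Subgroup X} (hB : B ∈ EE) (h3 : Nat.card B ≤ 3) : Nat.card (brk V B) ≤ 3 := by
  by_cases hb : ∃ b ∈ B, b ≠ 1
  · obtain ⟨b, hb, hb1⟩ := hb
    -- `B = {1, b}`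
    have hB2 : ∀ x ∈ B, x = 1 ∨ x = b := by
      intro x hx
      by_contra hcon
      push Not at hcon
      obtain ⟨hx1, hxb⟩ := hcon
      have : Finite B := Nat.finite_of_card_ne_zero (by
        intro h0
        have := E.exact B hB
        rw [h0, zero_mul] at this
        have := Nat.card_pos (α := V)
        omega)
      have h4 : 4 ≤ Nat.card B := by
        have hs : ({1, b, x, x * b} : Set X) ⊆ (B : Set X) := by
          intro y hy
          rcases hy with rfl | rfl | rfl | rfl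
          · exact one_mem _
          · exact hb
          · exact hx
          · exact mul_mem hx hb
        have h5 := Set.ncard_le_ncard hs (Set.toFinite _)
        have hbb := (E.el B hB).sq b hb
        have e1 : x * b ≠ 1 := fun h => hxb (by
          have : x * b = b * b := by rw [h, hbb]
          exact mul_right_cancel this)
        have e2 : x * b ≠ b := fun h => hx1 (by simpa using h)
        have e3 : x * b ≠ x := fun h => hb1 (by simpa using h)
        rw [Set.ncard_insert_of_notMem (by simp [Ne.symm hb1, Ne.symm hx1, Ne.symm e1]) (Set.toFinite _),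
          Set.ncard_insert_of_notMem (by simp [Ne.symm hxb, Ne.symm e2]) (Set.toFinite _),
          Set.ncard_pair (Ne.symm e3)] at h5
        exact h5
      omega
    let φ : V →+ V := DistribSMul.toAddMonoidHom V b - AddMonoidHom.id V
    have hφ : ∀ v, φ v = b • v - v := fun v => rfl
    have h4 : brk V B ≤ φ.range := by
      refine brk_le fun a ha m => ?_
      rcases hB2 a ha with rfl | rfl
      · rw [one_smul, sub_self]; exact zero_mem _
      · exact ⟨m, hφ m⟩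
    have h5 : (fxd B : AddSubgroup V) = φ.ker := by
      ext v
      rw [mem_fxd, AddMonoidHom.mem_ker, hφ, sub_eq_zero]
      constructor
      · exact fun h => h b hb
      · intro h a ha
        rcases hB2 a ha with rfl | rfl
        · exact one_smul _ _
        · exact h
    have h6 := E.exact B hB
    have h7 := φ.ker.card_mul_index
    have h8 : φ.ker.index = Nat.card φ.range := AddSubgroup.index_ker φ
    have h9 : 0 < Nat.card φ.ker := Nat.card_pos
    have h10 : Nat.card φ.range ≤ Nat.card B := by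
      rw [h5, ← h7, h8, mul_comm (Nat.card B)] at h6
      exact Nat.le_of_mul_le_mul_left h6 h9
    exact (AddSubgroup.card_le_of_le h4).trans (h10.trans h3)
  · push Not at hb
    have h4 : brk V B ≤ ⊥ := by
      refine brk_le fun a ha m => ?_
      rw [hb a ha, one_smul, sub_self]
      exact zero_mem _
    rw [le_bot_iff.1 h4, AddSubgroup.card_bot]
    omega

/-- the commutators of an element of a conjugate of `A` -/
theorem four_le {A : Subgroup X} (g : GB1 V EE A) (h4 : 4 ≤ Nat.card A) {x z : X} (hz : z ∈ MulAut.conj x • A)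
    (hz1 : z ≠ 1) {W : AddSubgroup V} (hW : ∀ v, z • v - v ∈ W) : 4 ≤ Nat.card W := by
  obtain ⟨F, _, _, e, f, d, C, up, lo, h, hr, -⟩ := g
  rw [← hr, h.card_rt h2 hf] at h4
  rw [mem_cj, ← hr] at hz
  obtain ⟨t, ht⟩ := (h.mem_rt h2 hf).1 hz
  have ht0 : t ≠ 0 := by
    intro h0
    rw [h0, h.up_zero hf] at ht
    apply hz1
    have e1 : z = x * (x⁻¹ * z * x) * x⁻¹ := by group
    rw [e1, ← ht]; group
  have hzt : z = x * up t * x⁻¹ := by rw [ht]; group
  have key : ∀ y : F, z • (x • f y) - x • f y = x • (e (t * y) + d (t * y ^ 2)) := by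
    intro y
    rw [hzt, mul_smul, mul_smul, inv_smul_smul, h.up_f, ← smul_sub]
    congr 1
    abel
  refine h4.trans (Nat.card_le_card_of_injective (fun y : F => (⟨_, hW (x • f y)⟩ : W)) fun y y' hy => ?_)
  have h5 : z • (x • f y) - x • f y = z • (x • f y') - x • f y' := congrArg Subtype.val hy
  rw [key, key] at h5
  have h6 := smul_left_cancel _ h5
  have h7 : e (t * y - t * y') + d (t * y ^ 2 - t * y' ^ 2) = 0 := by
    rw [map_sub, map_sub]
    have e1 : e (t * y) - e (t * y') + (d (t * y ^ 2) - d (t * y' ^ 2)) =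
        (e (t * y) + d (t * y ^ 2)) - (e (t * y') + d (t * y' ^ 2)) := by abel
    rw [e1, h6, sub_self]
  have h8 := (n0 h h7).1
  exact mul_left_cancel₀ ht0 (sub_eq_zero.1 h8)

/-- **all members of `EE` commute with the conjugates of `A` in `EE`** -/
theorem comm {Ps : Set (Subgroup X)} (hPs : PsH V S EE Ps) (htop : sSup Ps = ⊤) {A : Subgroup X} (hA : A ∈ EE)
    (h4 : 4 ≤ Nat.card A) (g : GB1 V EE A) :
    ∀ x : X, MulAut.conj x • A ∈ EE → ∀ B ∈ EE, ∀ a ∈ MulAut.conj x • A, ∀ b ∈ B, a * b = b * a := by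
  by_contra hcon
  push Not at hcon
  obtain ⟨x₀, hx₀⟩ := hcon
  let Q : X → Prop := fun x => MulAut.conj x • A ∈ EE ∧ ∃ B ∈ EE, ∃ a ∈ MulAut.conj x • A, ∃ b ∈ B, a * b ≠ b * a
  have hQ₀ : Q x₀ := ⟨hx₀.1, hx₀.2⟩
  -- a single element
  have hcj : ∀ (y : X), (∀ B ∈ EE, MulAut.conj y • B ∈ EE) → ∀ x, Q x → Q (y * x) := by
    rintro y hy x ⟨h1, B, hB, a, ha, b, hb, hab⟩
    refine ⟨by rw [map_mul, mul_smul]; exact hy _ h1, _, hy B hB, y * a * y⁻¹, ?_, y * b * y⁻¹, ?_, fun h5 => hab ?_⟩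
    · rw [map_mul, mul_smul, mem_cj]
      have e1 : y⁻¹ * (y * a * y⁻¹) * y = a := by group
      rw [e1]; exact ha
    · rw [mem_cj]
      have e1 : y⁻¹ * (y * b * y⁻¹) * y = b := by group
      rw [e1]; exact hb
    · have e1 : y * (a * b) * y⁻¹ = y * (b * a) * y⁻¹ := by
        calc y * (a * b) * y⁻¹ = y * a * y⁻¹ * (y * b * y⁻¹) := by group
          _ = y * b * y⁻¹ * (y * a * y⁻¹) := h5
          _ = y * (b * a) * y⁻¹ := by group
      exact mul_left_cancel (mul_right_cancel e1)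
  have hS : ∀ s ∈ S, ∀ x, Q x → Q (s * x) := fun s hs => hcj s fun B hB => E.nS s hs B hB
  -- the elements of `K`
  have hK : ∀ (K : Subgroup X) (EP : Set (Subgroup X)), EP ⊆ EE → (∀ A ∈ EP, A ≤ K) →
      (∀ A ∈ EE, A ∈ EP ∨ ∀ a ∈ A, ∀ m ∈ brk V K, a • m = m) → (∀ A ∈ EP, 4 ≤ Nat.card A → GB1 V EE A) →
      ∀ k ∈ K, ∀ x, Q x → Q (k * x) := by
    rintro K EP hEP hEK hd hg k hk x ⟨h1, B, hB, a, ha, b, hb, hab⟩
    have hc4 : 4 ≤ Nat.card ↥(MulAut.conj x • A) := by rw [card_cj]; exact h4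
    rcases hd _ h1 with h5 | h5
    · exact absurd ((hg _ h5 hc4).comm h2 hf E h1 B hB a ha b hb) hab
    have hcK : ∀ y ∈ K, MulAut.conj y • MulAut.conj x • A = MulAut.conj x • A := fun y hy =>
      cj_of h2 hf hno E h1 h5 hy
    rcases hd _ hB with h6 | h6
    · exfalso
      by_cases hB4 : 4 ≤ Nat.card B
      · exact hab ((hg _ h6 hB4).comm h2 hf E hB _ h1 b hb a ha).symm
      · -- `|B| ≤ 3`
        have hBK := hEK B h6
        have hbr : brk V B ≤ brk V K := brk_le fun y hy m => sub_mem_brk (hBK hy) m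
        have hfx : ∀ y ∈ MulAut.conj x • A, ∀ m ∈ brk V B, y • m = m := fun y hy m hm => h5 y hy m (hbr hm)
        set z : X := b * a * b⁻¹ * a⁻¹ with hz
        have hzA : z ∈ MulAut.conj x • A := by
          refine mul_mem ?_ (inv_mem ha)
          rw [← hcK b (hBK hb)]
          rw [mem_cj]
          have e1 : b⁻¹ * (b * a * b⁻¹) * b = a := by group
          rw [e1]; exact ha
        have hz1 : z ≠ 1 := by
          intro h7
          apply hab
          rw [hz] at h7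
          have e1 : b * a = a * b := by
            calc b * a = (b * a * b⁻¹ * a⁻¹) * (a * b) := by group
              _ = a * b := by rw [h7, one_mul]
          exact e1.symm
        have hzW : ∀ v, z • v - v ∈ brk V B := by
          intro v
          have e1 : z • v - v = (b • (a * b⁻¹ * a⁻¹) • v - (a * b⁻¹ * a⁻¹) • v) + a • (b⁻¹ • (a⁻¹ • v) - a⁻¹ • v) := by
            rw [smul_sub, smul_inv_smul, hz]
            simp only [mul_smul]
            abel
          rw [e1]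
          refine add_mem (sub_mem_brk hb _) ?_
          have h7 : b⁻¹ • (a⁻¹ • v) - a⁻¹ • v ∈ brk V B := sub_mem_brk (inv_mem hb) _
          rw [hfx a ha _ h7]
          exact h7
        have h7 := four_le h2 hf hno E g h4 hzA hz1 hzW
        have h8 := card_brk h2 E hB (by omega)
        omega
    · have hBK : MulAut.conj k • B = B := cj_of h2 hf hno E hB h6 hk
      refine ⟨by rw [map_mul, mul_smul, hcK k hk]; exact h1, B, hB, a, ?_, b, hb, hab⟩
      rw [map_mul, mul_smul, hcK k hk]; exact ha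
  let T : Subgroup X :=
    { carrier := {y | ∀ x, Q x ↔ Q (y * x)}
      one_mem' := fun x => by rw [one_mul]
      mul_mem' := fun {p q} hp hq x => by rw [hq x, hp (q * x), mul_assoc]
      inv_mem' := fun {p} hp x => by rw [hp (p⁻¹ * x), mul_inv_cancel_left] }
  have hT : ∀ {R : Subgroup X}, (∀ y ∈ R, ∀ x, Q x → Q (y * x)) → R ≤ T := by
    intro R hR y hy x
    refine ⟨hR y hy x, fun h5 => ?_⟩
    have h6 := hR y⁻¹ (inv_mem hy) _ h5
    rwa [inv_mul_cancel_left] at h6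
  have hle : (⊤ : Subgroup X) ≤ T := by
    rw [← htop]
    refine sSup_le fun P hP => ?_
    rcases hPs P hP with h5 | ⟨K, EP, h5, h6, h7, h8, h9⟩
    · exact hT fun y hy => hcj y (h5 y hy)
    · exact h5.trans (sup_le (hT (hK K EP h6 h7 h8 h9)) (hT hS))
  have h5 : Q (x₀⁻¹ * x₀) := (hle (Subgroup.mem_top x₀⁻¹) x₀).1 hQ₀
  rw [inv_mul_cancel] at h5
  obtain ⟨-, B, hB, a, ha, b, hb, hab⟩ := h5
  rw [map_one, one_smul] at ha
  exact hab (g.comm h2 hf E hA B hB a ha b hb)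

end gal

end Cfsg.Agent.Omega.NOThreeL.RRed.Blk.Uni

end

section


/-!
# NO-3L, box R, nonsplit blocks (#26560, #26972): two commuting exact groups

* `index_inf_mul` : `|V : A ⊓ C| |V : A ⊔ C| = |V : A| |V : C|`;
* **`sum_top`** : no over-offender, `B`, `B'` elementary abelian, commuting, exact, `B ∩ B' = 1`: `V = C_V(B) + C_V(B')`.
-/

set_option autoImplicit false
set_option linter.unusedSectionVars false

namespace Cfsg.Agent.Omega.NOThreeL.RRed.Blk.Uni

open Subgroup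
open Cfsg.Agent.Omega.NOThreeL.RRed.NS (fxd mem_fxd)
open Cfsg.Agent.Omega.NOThreeL.RRed.Blk.TypesGam (NO)

universe u v

theorem index_inf_mul {V : Type v} [AddCommGroup V] (A C : AddSubgroup V) :
    (A ⊓ C).index * (A ⊔ C).index = A.index * C.index := by
  have h1 : (A ⊓ C).relIndex C * C.index = (A ⊓ C).index := AddSubgroup.relIndex_mul_index inf_le_right
  have h2 : A.relIndex (C ⊔ A) * (C ⊔ A).index = A.index := AddSubgroup.relIndex_mul_index le_sup_right
  rw [AddSubgroup.inf_relIndex_right] at h1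
  rw [AddSubgroup.relIndex_sup_right] at h2
  rw [← h1, ← h2, sup_comm A C]
  ring

variable {X : Type u} {V : Type v} [Group X] [AddCommGroup V] [DistribMulAction X V]

/-- the product of two commuting subgroups -/
theorem mem_sup_comm {A B : Subgroup X} (hAB : ∀ a ∈ A, ∀ b ∈ B, a * b = b * a) {x : X} :
    x ∈ A ⊔ B ↔ ∃ a ∈ A, ∃ b ∈ B, a * b = x := by
  constructor
  · intro hx
    have h1 : A ≤ normalizer (B : Set X) := by
      have h2 : A ≤ centralizer (B : Set X) := fun a ha => mem_centralizer_iff.2 fun b hb => (hAB a ha b hb).symm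
      exact h2.trans (centralizer_le_normalizer _)
    have h2 : x ∈ ((A ⊔ B : Subgroup X) : Set X) := hx
    rw [coe_mul_of_left_le_normalizer_right _ _ h1] at h2
    obtain ⟨a, ha, b, hb, e⟩ := h2
    exact ⟨a, ha, b, hb, e⟩
  · rintro ⟨a, ha, b, hb, rfl⟩
    exact mul_mem (mem_sup_left ha) (mem_sup_right hb)

theorem card_sup [Finite X] {A B : Subgroup X} (h0 : A ⊓ B = ⊥) :
    Nat.card A * Nat.card B ≤ Nat.card (A ⊔ B : Subgroup X) := by
  rw [← Nat.card_prod]
  refine Nat.card_le_card_of_injective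
    (fun p : A × B => (⟨p.1 * p.2, mul_mem (mem_sup_left p.1.2) (mem_sup_right p.2.2)⟩ : (A ⊔ B : Subgroup X))) ?_
  rintro ⟨⟨a, ha⟩, b, hb⟩ ⟨⟨a', ha'⟩, b', hb'⟩ e
  have e1 : a * b = a' * b' := congrArg Subtype.val e
  have e2 : a'⁻¹ * a = b' * b⁻¹ := by
    rw [eq_mul_inv_iff_mul_eq, mul_assoc, e1, inv_mul_cancel_left]
  have h1 : a'⁻¹ * a ∈ A ⊓ B := by
    refine mem_inf.2 ⟨A.mul_mem (A.inv_mem ha') ha, ?_⟩
    rw [e2]
    exact B.mul_mem hb' (B.inv_mem hb)
  rw [h0, Subgroup.mem_bot] at h1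
  have h2 : a = a' := (inv_mul_eq_one.1 h1).symm
  subst h2
  have h3 : b = b' := mul_left_cancel e1
  subst h3
  rfl

/-- **Two commuting exact groups which meet trivially.** -/
theorem sum_top [Finite X] [Finite V] (hno : NO X V) {B B' : Subgroup X} (c : ∀ x ∈ B, ∀ y ∈ B, x * y = y * x)
    (s : ∀ x ∈ B, x * x = 1) (c' : ∀ x ∈ B', ∀ y ∈ B', x * y = y * x) (s' : ∀ x ∈ B', x * x = 1)
    (cc : ∀ x ∈ B, ∀ y ∈ B', x * y = y * x) (h : Nat.card V ≤ Nat.card B * Nat.card (fxd B : AddSubgroup V))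
    (h' : Nat.card V ≤ Nat.card B' * Nat.card (fxd B' : AddSubgroup V)) (h0 : B ⊓ B' = ⊥) :
    (fxd B : AddSubgroup V) ⊔ fxd B' = ⊤ := by
  have key : ∀ {A : Subgroup X}, Nat.card V ≤ Nat.card A * Nat.card (fxd A : AddSubgroup V) →
      (fxd A : AddSubgroup V).index ≤ Nat.card A := by
    intro A hA
    rw [← AddSubgroup.card_mul_index (fxd A : AddSubgroup V), mul_comm (Nat.card A)] at hA
    exact Nat.le_of_mul_le_mul_left hA Nat.card_pos
  have hi := key h
  have hi' := key h'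
  have hc : ∀ x ∈ B ⊔ B', ∀ y ∈ B ⊔ B', x * y = y * x := by
    intro x hx y hy
    obtain ⟨a, ha, b, hb, rfl⟩ := (mem_sup_comm cc).1 hx
    obtain ⟨a', ha', b', hb', rfl⟩ := (mem_sup_comm cc).1 hy
    calc a * b * (a' * b') = a * (b * a') * b' := by group
      _ = a * (a' * b) * b' := by rw [cc a' ha' b hb]
      _ = (a * a') * (b * b') := by group
      _ = (a' * a) * (b' * b) := by rw [c a ha a' ha', c' b hb b' hb']
      _ = a' * (a * b') * b := by group
      _ = a' * (b' * a) * b := by rw [cc a ha b' hb']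
      _ = _ := by group
  have hs : ∀ x ∈ B ⊔ B', x * x = 1 := by
    intro x hx
    obtain ⟨a, ha, b, hb, rfl⟩ := (mem_sup_comm cc).1 hx
    calc a * b * (a * b) = a * (b * a) * b := by group
      _ = a * (a * b) * b := by rw [cc a ha b hb]
      _ = (a * a) * (b * b) := by group
      _ = 1 := by rw [s a ha, s' b hb, one_mul]
  have hfx : (fxd (B ⊔ B') : AddSubgroup V) = fxd B ⊓ fxd B' := by
    apply le_antisymm
    · exact fun m hm => ⟨fun a ha => hm a (mem_sup_left ha), fun a ha => hm a (mem_sup_right ha)⟩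
    · rintro m ⟨h1, h2⟩ x hx
      obtain ⟨a, ha, b, hb, rfl⟩ := (mem_sup_comm cc).1 hx
      rw [mul_smul, h2 b hb, h1 a ha]
  have h1 := hno (B ⊔ B') hc hs
  rw [hfx] at h1
  have h2 := index_inf_mul (fxd B : AddSubgroup V) (fxd B')
  have h3 := card_sup h0
  rw [← AddSubgroup.index_eq_one]
  have hB : 0 < Nat.card B := Nat.card_pos
  have hB' : 0 < Nat.card B' := Nat.card_pos
  have h4 : ((fxd B : AddSubgroup V) ⊔ fxd B').index ≠ 0 := AddSubgroup.index_ne_zero_of_finite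
  have h5 : Nat.card B * Nat.card B' * ((fxd B : AddSubgroup V) ⊔ fxd B').index ≤ Nat.card B * Nat.card B' * 1 := by
    calc Nat.card B * Nat.card B' * ((fxd B : AddSubgroup V) ⊔ fxd B').index
        ≤ (fxd B ⊓ fxd B' : AddSubgroup V).index * ((fxd B : AddSubgroup V) ⊔ fxd B').index :=
          Nat.mul_le_mul_right _ (h3.trans h1)
      _ = (fxd B : AddSubgroup V).index * (fxd B' : AddSubgroup V).index := h2
      _ ≤ Nat.card B * Nat.card B' := Nat.mul_le_mul hi hi'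
      _ = _ := (mul_one _).symm
  have h6 := Nat.le_of_mul_le_mul_left h5 (Nat.mul_pos hB hB')
  omega

end Cfsg.Agent.Omega.NOThreeL.RRed.Blk.Uni

end

section


/-!
# NO-3L, box R, nonsplit blocks (#26560, #26972): the frame over the lines of the conjugates of `A`

`X` acts faithfully on the elementary abelian 2-group `V`, no over-offender; `S` Sylow in `X`, `EE` a set of exact
quadratic subgroups of `S`, closed under conjugation into `S`; `A ∈ EE` has no exact proper subgroup; the conjugates of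
`A` in `EE` commute with all members of `EE`.

* `EA EE A` : the conjugates of `A` in `EE`; `Ln V EE A` : their lines `[V, B]`;
* `Hy` : the hypotheses;
* `Hy.disj` : `B ≠ B'` in `EA`: `B ∩ B' = 1`; `Hy.cent` : `B` centralises `[V, B']`;
* **`Hy.frame`** : `NS.Frame S ⊥ (EA EE A) (lines)`;
* **`Hy.clo_cent`** : `A ≤ K = ⟨A^K⟩`, `[V, K] ≤ C_V(B)`: `K` centralises `[V, B]`.
-/

set_option autoImplicit false
set_option linter.unusedSectionVars false

namespace Cfsg.Agent.Omega.NOThreeL.RRed.Blk.UniFrame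

open Subgroup
open Cfsg.Agent.Omega.NOThreeL.RRed.NS (fxd brk mem_fxd)
open Cfsg.Agent.Omega.NOThreeL.RRed.Blk.TypesGam (NO)
open Cfsg.Agent.Omega.NOThreeL.RRed.Blk.Types
open Cfsg.Agent.Omega.NOThreeL.RRed.Blk.Asm (Es)
open scoped Pointwise

universe u v

variable {X : Type u} {V : Type v} [Group X] [AddCommGroup V] [DistribMulAction X V]

/-- the conjugates of `A` in `EE` -/
def EA (EE : Set (Subgroup X)) (A : Subgroup X) : Set (Subgroup X) := {B | B ∈ EE ∧ ∃ x : X, B = MulAut.conj x • A}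

/-- their lines -/
abbrev Ln (V : Type v) [AddCommGroup V] [DistribMulAction X V] (EE : Set (Subgroup X)) (A : Subgroup X) : Type v :=
  {Y : AddSubgroup V // ∃ B ∈ EA EE A, brk V B = Y}

theorem card_mul_le [Finite X] (B B' : Subgroup X) :
    Nat.card B * Nat.card B' ≤ Nat.card (B ⊔ B' : Subgroup X) * Nat.card (B ⊓ B' : Subgroup X) := by
  have h1 : Nat.card (B ⊓ B' : Subgroup X) * (B ⊓ B').relIndex B' = Nat.card B' := by
    have := Subgroup.relIndex_mul_relIndex (⊥ : Subgroup X) (B ⊓ B') B' bot_le inf_le_right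
    rwa [relIndex_bot_left, relIndex_bot_left] at this
  have h2 : Nat.card B * B.relIndex (B ⊔ B') = Nat.card (B ⊔ B' : Subgroup X) := by
    have := Subgroup.relIndex_mul_relIndex (⊥ : Subgroup X) B (B ⊔ B') bot_le le_sup_left
    rwa [relIndex_bot_left, relIndex_bot_left] at this
  have h3 : B.relIndex B' ≤ B.relIndex (B ⊔ B') :=
    relIndex_le_of_le_right le_sup_right index_ne_zero_of_finite
  rw [inf_relIndex_right] at h1
  rw [← h1, ← h2]
  calc Nat.card B * (Nat.card (B ⊓ B' : Subgroup X) * B.relIndex B')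
      = Nat.card B * B.relIndex B' * Nat.card (B ⊓ B' : Subgroup X) := by ring
    _ ≤ Nat.card B * B.relIndex (B ⊔ B') * Nat.card (B ⊓ B' : Subgroup X) :=
        Nat.mul_le_mul_right _ (Nat.mul_le_mul_left _ h3)

/-- The hypotheses. -/
structure Hy (V : Type v) [AddCommGroup V] [DistribMulAction X V] (S : Sylow 2 X) (EE : Set (Subgroup X))
    (A : Subgroup X) : Prop where
  h2 : ∀ v : V, v + v = 0
  hf : ∀ x : X, (∀ v : V, x • v = v) → x = 1
  hno : NO X V
  E : Es (S : Subgroup X) EE V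
  EEc : ∀ B ∈ EE, ∀ x : X, MulAut.conj x • B ≤ S → MulAut.conj x • B ∈ EE
  hA : A ∈ EE
  noex : ∀ B ≤ A, B ≠ ⊥ → B ≠ A → Nat.card B * Nat.card (fxd B : AddSubgroup V) < Nat.card V
  ne : A ≠ ⊥
  cm : ∀ x : X, MulAut.conj x • A ∈ EE → ∀ B ∈ EE, ∀ a ∈ MulAut.conj x • A, ∀ b ∈ B, a * b = b * a

namespace Hy

variable [Finite X] [Finite V] {S : Sylow 2 X} {EE : Set (Subgroup X)} {A : Subgroup X} (h : Hy V S EE A)
include h

theorem comm {B B' : Subgroup X} (hB : B ∈ EA EE A) (hB' : B' ∈ EE) : ∀ a ∈ B, ∀ b ∈ B', a * b = b * a := by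
  obtain ⟨hB, x, rfl⟩ := hB
  exact h.cm x hB B' hB'

/-- no exact proper subgroup in a conjugate of `A` -/
theorem noex' {x : X} {D : Subgroup X} (hD : D ≤ MulAut.conj x • A) (h0 : D ≠ ⊥) (h1 : D ≠ MulAut.conj x • A) :
    Nat.card D * Nat.card (fxd D : AddSubgroup V) < Nat.card V := by
  set D' : Subgroup X := MulAut.conj x⁻¹ • D with hD'
  have e : MulAut.conj x • D' = D := by rw [hD', smul_smul, ← map_mul, mul_inv_cancel, map_one, one_smul]
  have h2 : D' ≤ A := by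
    have h3 := Subgroup.pointwise_smul_le_pointwise_smul_iff (a := MulAut.conj x⁻¹).2 hD
    rwa [smul_smul, ← map_mul, inv_mul_cancel, map_one, one_smul] at h3
  have h3 : D' ≠ ⊥ := by
    intro h4
    rw [h4] at e
    apply h0
    rw [← e, eq_bot_iff]
    intro y hy
    rw [mem_cj, mem_bot] at hy
    rw [mem_bot]
    have e1 : y = x * (x⁻¹ * y * x) * x⁻¹ := by group
    rw [e1, hy]
    group
  have h4 : D' ≠ A := by
    intro h5
    rw [h5] at e
    exact h1 e.symm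
  have h5 := h.noex D' h2 h3 h4
  have h6 : Nat.card D' = Nat.card D := by rw [hD', card_cj]
  have h7 : Nat.card (fxd D' : AddSubgroup V) = Nat.card (fxd D : AddSubgroup V) := by
    rw [← e]
    refine Nat.card_congr ⟨fun m => ⟨x • (m : V), ?_⟩, fun m => ⟨x⁻¹ • (m : V), ?_⟩, fun m => ?_, fun m => ?_⟩
    · rw [fxd_cj, inv_smul_smul]; exact m.2
    · exact (fxd_cj x D').1 m.2
    · exact Subtype.ext (inv_smul_smul _ _)
    · exact Subtype.ext (smul_inv_smul _ _)
  rwa [h6, h7] at h5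

/-- **different conjugates meet trivially** -/
theorem disj {B B' : Subgroup X} (hB : B ∈ EA EE A) (hB' : B' ∈ EA EE A) (hne : B ≠ B') : B ⊓ B' = ⊥ := by
  by_contra h0
  have hc := h.comm hB hB'.1
  have el := h.E.el B hB.1
  have el' := h.E.el B' hB'.1
  have els := el.sup el' hc
  have ex := Sit.index_le (h.E.exact B hB.1)
  have ex' := Sit.index_le (h.E.exact B' hB'.1)
  have h1 := h.hno (B ⊔ B') els.cm els.sq
  have h1' : Nat.card (B ⊔ B' : Subgroup X) ≤ ((fxd B : AddSubgroup V) ⊓ fxd B').index := by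
    refine h1.trans (Nat.le_of_dvd (Nat.pos_of_ne_zero AddSubgroup.index_ne_zero_of_finite)
      (AddSubgroup.index_dvd_of_le fun m hm => mem_fxd_sup (AddSubgroup.mem_inf.1 hm).1 (AddSubgroup.mem_inf.1 hm).2))
  have h2 := Uni.index_inf_mul (fxd B : AddSubgroup V) (fxd B')
  have h3 := card_mul_le B B'
  have hle : (fxd B : AddSubgroup V) ⊔ fxd B' ≤ fxd (B ⊓ B') :=
    sup_le (fun m hm a ha => hm a (mem_inf.1 ha).1) fun m hm a ha => hm a (mem_inf.1 ha).2
  have h4 : (fxd (B ⊓ B') : AddSubgroup V).index ≤ ((fxd B : AddSubgroup V) ⊔ fxd B').index :=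
    Nat.le_of_dvd (Nat.pos_of_ne_zero AddSubgroup.index_ne_zero_of_finite) (AddSubgroup.index_dvd_of_le hle)
  have h5 : Nat.card (B ⊔ B' : Subgroup X) * (fxd (B ⊓ B') : AddSubgroup V).index ≤
      Nat.card (B ⊔ B' : Subgroup X) * Nat.card (B ⊓ B' : Subgroup X) := by
    calc Nat.card (B ⊔ B' : Subgroup X) * (fxd (B ⊓ B') : AddSubgroup V).index
        ≤ ((fxd B : AddSubgroup V) ⊓ fxd B').index * ((fxd B : AddSubgroup V) ⊔ fxd B').index :=
          Nat.mul_le_mul h1' h4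
      _ = (fxd B : AddSubgroup V).index * (fxd B' : AddSubgroup V).index := h2
      _ ≤ Nat.card B * Nat.card B' := Nat.mul_le_mul ex ex'
      _ ≤ _ := h3
  have h6 : (fxd (B ⊓ B') : AddSubgroup V).index ≤ Nat.card (B ⊓ B' : Subgroup X) :=
    Nat.le_of_mul_le_mul_left h5 Nat.card_pos
  have h7 : Nat.card V ≤ Nat.card (B ⊓ B' : Subgroup X) * Nat.card (fxd (B ⊓ B') : AddSubgroup V) := by
    rw [← (fxd (B ⊓ B') : AddSubgroup V).card_mul_index, mul_comm]
    exact Nat.mul_le_mul_right _ h6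
  obtain ⟨x, hx⟩ := hB.2
  obtain ⟨y, hy⟩ := hB'.2
  have h8 : B ⊓ B' = B := by
    by_contra h9
    have := h.noex' (x := x) (D := B ⊓ B') (hx ▸ inf_le_left) h0 (hx ▸ h9)
    omega
  have h9 : B ≤ B' := inf_eq_left.1 h8
  apply hne
  refine Subgroup.eq_of_le_of_card_ge h9 ?_
  rw [hx, hy, card_cj, card_cj]

/-- **`B` centralises `[V, B']`** -/
theorem cent {B B' : Subgroup X} (hB : B ∈ EA EE A) (hB' : B' ∈ EA EE A) : brk V B' ≤ (fxd B : AddSubgroup V) := by
  by_cases hne : B = B'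
  · rw [← hne]
    exact h.E.quad B hB.1
  have hc := h.comm hB hB'.1
  have el := h.E.el B hB.1
  have el' := h.E.el B' hB'.1
  have htop := Uni.sum_top h.hno el.cm el.sq el'.cm el'.sq hc (h.E.exact B hB.1) (h.E.exact B' hB'.1)
    (h.disj hB hB' hne)
  refine brk_le fun b' hb' m => ?_
  have hm : m ∈ (fxd B : AddSubgroup V) ⊔ fxd B' := by rw [htop]; exact AddSubgroup.mem_top _
  obtain ⟨n, hn, n', hn', rfl⟩ := AddSubgroup.mem_sup.1 hm
  rw [mem_fxd]
  intro b hb
  have e1 : b' • (n + n') - (n + n') = b' • n - n := by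
    rw [smul_add, hn' b' hb']
    abel
  rw [e1, smul_sub, ← mul_smul, hc b hb b' hb', mul_smul, hn b hb]

theorem ne' {B : Subgroup X} (hB : B ∈ EA EE A) : ¬ B ≤ ⊥ := by
  obtain ⟨-, x, rfl⟩ := hB
  intro h1
  apply h.ne
  rw [eq_bot_iff]
  intro a ha
  have h2 : x * a * x⁻¹ ∈ MulAut.conj x • A := by
    rw [mem_cj]
    have e : x⁻¹ * (x * a * x⁻¹) * x = a := by group
    rwa [e]
  have h3 := mem_bot.1 (h1 h2)
  rw [mem_bot]
  have e : a = x⁻¹ * (x * a * x⁻¹) * x := by group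
  rw [e, h3]
  group

theorem mem_A : A ∈ EA EE A := ⟨h.hA, 1, by rw [map_one, one_smul]⟩

/-- **the frame** -/
theorem frame : NS.Frame S (⊥ : Subgroup X) (EA EE A) (fun Y : Ln V EE A => Y.1) where
  JN := inferInstance
  EES B hB := h.E.le B hB.1
  EEc B hB x hx := by
    obtain ⟨y, hy⟩ := hB.2
    exact ⟨h.EEc B hB.1 x hx, x * y, by rw [hy, smul_smul, ← map_mul]⟩
  typ B hB _ := ⟨⟨brk V B, B, hB, rfl⟩, rfl⟩
  ex b := by
    obtain ⟨Y, B, hB, e⟩ := b
    exact ⟨B, hB, h.ne' hB, e⟩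
  cent B hB c y hy a ha := by
    obtain ⟨Y, B', hB', e⟩ := c
    have h1 : y ∈ brk V B' := by rw [e]; exact hy
    exact h.cent hB hB' h1 a ha
  inj _ _ e := Subtype.ext e

/-- **(T1)** -/
theorem clo_cent {K : Subgroup X} (gen : K ≤ closure {y | ∃ g ∈ K, ∃ a ∈ A, y = g * a * g⁻¹}) {B : Subgroup X}
    (hB : B ∈ EA EE A) (hK : brk V K ≤ (fxd B : AddSubgroup V)) : brk V B ≤ (fxd K : AddSubgroup V) := by
  have hs := Asm.sit h.h2 h.hf h.hno
  refine (hs.cent (D := B) le_top (h.E.el B hB.1) (h.E.exact B hB.1) (h.E.quad B hB.1) le_top hK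
    (gen.trans (closure_mono ?_))).2
  rintro y ⟨g, hg, a, ha, rfl⟩
  exact ⟨g, hg, a, fun d hd => (h.comm hB h.hA d hd a ha).symm, rfl⟩

/-- **(T1)**, the commuting form -/
theorem clo_comm {K : Subgroup X} (gen : K ≤ closure {y | ∃ g ∈ K, ∃ a ∈ A, y = g * a * g⁻¹}) {B : Subgroup X}
    (hB : B ∈ EA EE A) (hK : brk V K ≤ (fxd B : AddSubgroup V)) : ∀ k ∈ K, ∀ b ∈ B, k * b = b * k := by
  have hs := Asm.sit h.h2 h.hf h.hno
  refine (hs.cent (D := B) le_top (h.E.el B hB.1) (h.E.exact B hB.1) (h.E.quad B hB.1) le_top hK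
    (gen.trans (closure_mono ?_))).1
  rintro y ⟨g, hg, a, ha, rfl⟩
  exact ⟨g, hg, a, fun d hd => (h.comm hB h.hA d hd a ha).symm, rfl⟩

end Hy

end Cfsg.Agent.Omega.NOThreeL.RRed.Blk.UniFrame

end

section


/-!
# NO-3L, box R, blocks with a radical: two blocks with the same root group have the same radical (helper855 #26560, (SW))

* `hy` : 426's hypotheses `UniFrame.Hy` from `Uni.PsH`, `GB1`;
* `bl` : `NS.Bl` for the line of `A`;
* **`eq_Z`** : `BkD e f d C up lo`, `BkD e' f' d' C' up' lo'` with the same root group `A ∈ EE`, `|A| ≥ 4`, the other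
  members of `EE` centralise both blocks : `d'(F') = d(F)` (`eq_Z_hy`); the same for `GBd`.
-/

set_option autoImplicit false
set_option linter.unusedSectionVars false

namespace Cfsg.Agent.Omega.NOThreeL.RRed.Blk.UniZ

open Cfsg.Agent.Omega.NOThreeL.RRed.NS (fxd brk mem_fxd GB mem_GB Frame Bl)
open Cfsg.Agent.Omega.NOThreeL.RRed.Blk.TypesGam (NO rt up_mem)
open Cfsg.Agent.Omega.NOThreeL.RRed.Blk.GamD
open Cfsg.Agent.Omega.NOThreeL.RRed.Blk.Types
open Cfsg.Agent.Omega.NOThreeL.RRed.Blk.Asm (Es sit)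
open Cfsg.Agent.Omega.NOThreeL.RRed.Blk.AsmN (clo clo_cent lo_clo brk_clo_le NBd GBd)
open Cfsg.Agent.Omega.NOThreeL.RRed.Blk.UniFrame (EA Ln Hy)
open Cfsg.Agent.Omega.NOThreeL.RRed.Blk.Uni
open scoped Pointwise

universe u v w w'

variable {X : Type u} {V : Type v} [Group X] [AddCommGroup V] [DistribMulAction X V]

section blk

variable {F : Type w} [Field F] {e f d : F →+ V} {C : AddSubgroup V} {up lo : F → X}
variable (h : BkD e f d C up lo)
include h

theorem mem_fxd_of {t : F} (ht : t ≠ 0) {v : V} (hv : up t • v = v) (h2 : ∀ v : V, v + v = 0)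
    (hf : ∀ x : X, (∀ v : V, x • v = v) → x = 1) : v ∈ (fxd (rt up) : AddSubgroup V) := by
  obtain ⟨x, y, c, hc, rfl⟩ := h.dec v
  have h1 := up_sub h t x y hc
  rw [hv, sub_self] at h1
  have hy : y = 0 := (mul_eq_zero.1 (n0 h h1.symm).1).resolve_left ht
  intro a ha
  obtain ⟨s, rfl⟩ := (h.mem_rt h2 hf).1 ha
  have h3 := up_sub h s x y hc
  subst hy
  have e1 : e (s * 0) + d (s * 0 ^ 2) = 0 := by
    rw [zero_pow two_ne_zero, mul_zero, map_zero, map_zero, add_zero]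
  exact sub_eq_zero.1 (h3.trans e1)

/-- `A` has no exact proper subgroup -/
theorem noex [Finite X] [Finite V] [Finite F] (h2 : ∀ v : V, v + v = 0) (hf : ∀ x : X, (∀ v : V, x • v = v) → x = 1)
    (hno : NO X V) : ∀ B ≤ rt up, B ≠ ⊥ → B ≠ rt up → Nat.card B * Nat.card (fxd B : AddSubgroup V) < Nat.card V := by
  intro B hB hB0 hne
  have h1 : (fxd B : AddSubgroup V) ≤ fxd (rt up) := by
    obtain ⟨⟨b, hb⟩, hb1⟩ := Subgroup.ne_bot_iff_exists_ne_one.1 hB0
    intro v hv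
    obtain ⟨t, ht⟩ := (h.mem_rt h2 hf).1 (hB hb)
    refine mem_fxd_of h (t := t) (fun h0 => hb1 ?_) (by rw [ht]; exact hv _ hb) h2 hf
    apply Subtype.ext
    change b = 1
    rw [← ht, h0, h.up_zero hf]
  have h3 : Nat.card B < Nat.card (rt up) := by
    refine lt_of_le_of_ne (Subgroup.card_le_of_le hB) fun hc => hne (Subgroup.eq_of_le_of_card_ge hB hc.ge)
  have h4 := (sit h2 hf hno).no (rt up) le_top (rt_el h h2 hf).sq (rt_el h h2 hf).cm
  have h5 : 0 < Nat.card (fxd (rt up) : AddSubgroup V) := Nat.card_pos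
  calc Nat.card B * Nat.card (fxd B : AddSubgroup V) ≤ Nat.card B * Nat.card (fxd (rt up) : AddSubgroup V) :=
        Nat.mul_le_mul_left _ (AddSubgroup.card_le_of_le h1)
    _ < Nat.card (rt up) * Nat.card (fxd (rt up) : AddSubgroup V) := Nat.mul_lt_mul_of_pos_right h3 h5
    _ ≤ Nat.card V := h4

/-- `|V : C_V(A)| ≤ |F|` -/
theorem index_le [Finite V] [Finite F] (h2 : ∀ v : V, v + v = 0) (hf : ∀ x : X, (∀ v : V, x • v = v) → x = 1) :
    (fxd (rt up) : AddSubgroup V).index ≤ Nat.card F := by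
  obtain ⟨px, py, pc, hv, hpc⟩ := h.proj'
  have h1 : py.ker ≤ (fxd (rt up) : AddSubgroup V) := by
    intro v hv0
    rw [AddMonoidHom.mem_ker] at hv0
    refine mem_fxd_of h one_ne_zero ?_ h2 hf
    have h3 := up_sub h 1 (px v) (py v) (hpc v)
    rw [← hv v, hv0, mul_zero, one_mul, zero_pow two_ne_zero, map_zero, map_zero, add_zero, sub_eq_zero] at h3
    exact h3
  calc (fxd (rt up) : AddSubgroup V).index ≤ py.ker.index :=
        Nat.le_of_dvd (Nat.pos_of_ne_zero AddSubgroup.index_ne_zero_of_finite) (AddSubgroup.index_dvd_of_le h1)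
    _ = Nat.card py.range := AddSubgroup.index_ker py
    _ ≤ Nat.card F := Nat.card_le_card_of_injective _ Subtype.val_injective

/-- the block has order `q³` -/
theorem card_blk [Finite V] [Finite F] (hd : Function.Injective d) :
    Nat.card F ^ 3 ≤ Nat.card ((e.range ⊔ f.range) ⊔ d.range : AddSubgroup V) := by
  have e1 : Nat.card F ^ 3 = Nat.card (F × F × F) := by
    rw [Nat.card_prod, Nat.card_prod]; ring
  rw [e1]
  refine Nat.card_le_card_of_injective (fun p : F × F × F =>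
    (⟨e p.1 + f p.2.1 + d p.2.2, AddSubgroup.add_mem_sup (AddSubgroup.add_mem_sup ⟨_, rfl⟩ ⟨_, rfl⟩) ⟨_, rfl⟩⟩ :
      ((e.range ⊔ f.range) ⊔ d.range : AddSubgroup V))) ?_
  rintro ⟨x, y, z⟩ ⟨x', y', z'⟩ hp
  obtain ⟨h1, h3, h4⟩ := h.uniq (h.dC _) (h.dC _) (congrArg Subtype.val hp)
  simp only at h1 h3 h4
  rw [h1, h3, hd h4]

/-- a vector of the block which is fixed by `A` and the opposite root group -/
theorem mem_d {v : V} (hv : v ∈ (e.range ⊔ f.range) ⊔ d.range) (h1 : up 1 • v = v) (h3 : lo 1 • v = v) :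
    v ∈ d.range := by
  obtain ⟨_, hv', _, ⟨z, rfl⟩, rfl⟩ := AddSubgroup.mem_sup.1 hv
  obtain ⟨_, ⟨x, rfl⟩, _, ⟨y, rfl⟩, rfl⟩ := AddSubgroup.mem_sup.1 hv'
  have h4 := up_sub h 1 x y (h.dC z)
  rw [h1, sub_self] at h4
  have hy := (n0 h h4.symm).1
  rw [one_mul] at hy
  have h5 := up_sub h.swap 1 y x (h.dC z)
  rw [add_comm (f y), h3, sub_self] at h5
  have hx := (n0 h.swap h5.symm).1
  rw [one_mul] at hx
  rw [hx, hy, map_zero, map_zero, add_zero, zero_add]
  exact ⟨z, rfl⟩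

/-- every vector of the block can be moved into `e(F) + d(F)` -/
theorem tr_blk {v : V} (hv : v ∈ (e.range ⊔ f.range) ⊔ d.range) (h2 : ∀ v : V, v + v = 0) :
    ∃ g ∈ rt up ⊔ rt lo, g • v ∈ e.range ⊔ d.range := by
  have hF := h.two h2
  have key : ∀ x y, x ≠ 0 → ∀ c ∈ d.range, lo (y / x) • (e x + f y + c) ∈ e.range ⊔ d.range := by
    intro x y hx c hc
    obtain ⟨z, rfl⟩ := hc
    have e1 : lo (y / x) • (e x + f y + d z) = e x + (d (y / x * x ^ 2) + d z) := by
      rw [smul_add, smul_add, h.lo_e, h.lo_f, h.lo_c _ _ (h.dC z), div_mul_cancel₀ _ hx]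
      have e3 : f y + f y = 0 := by rw [← map_add, hF, map_zero]
      calc e x + f y + d (y / x * x ^ 2) + f y + d z = e x + (d (y / x * x ^ 2) + d z) + (f y + f y) := by abel
        _ = _ := by rw [e3, add_zero]
    rw [e1, ← map_add]
    exact AddSubgroup.add_mem_sup ⟨_, rfl⟩ ⟨_, rfl⟩
  obtain ⟨_, hv', _, ⟨z, rfl⟩, rfl⟩ := AddSubgroup.mem_sup.1 hv
  obtain ⟨_, ⟨x, rfl⟩, _, ⟨y, rfl⟩, rfl⟩ := AddSubgroup.mem_sup.1 hv'
  by_cases hx : x = 0
  · by_cases hy : y = 0
    · refine ⟨1, one_mem _, ?_⟩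
      rw [one_smul, hy, map_zero, add_zero]
      exact AddSubgroup.add_mem_sup ⟨_, rfl⟩ ⟨_, rfl⟩
    · refine ⟨lo (y / y) * up 1, mul_mem ((le_sup_right : rt lo ≤ _) (up_mem _)) ((le_sup_left : rt up ≤ _) (up_mem 1)), ?_⟩
      have e1 : up 1 • (e x + f y + d z) = e y + f y + d (1 * y ^ 2 + z) := by
        rw [smul_add, smul_add, h.up_e, h.up_f, h.up_c _ _ (h.dC z), hx, map_zero, map_add, one_mul]
        abel
      rw [mul_smul, e1]
      exact key y y hy _ ⟨_, rfl⟩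
  · exact ⟨lo (y / x), (le_sup_right : rt lo ≤ _) (up_mem _), key x y hx _ ⟨_, rfl⟩⟩

end blk

section main

variable [Finite X] [Finite V]

/-- the other members centralise `f`-, `e`- and `d`-part; the block group centralises their lines -/
theorem cent_clo {F : Type w} [Field F] {e f d : F →+ V} {C : AddSubgroup V} {up lo : F → X}
    (h : BkD e f d C up lo) (h2 : ∀ v : V, v + v = 0) (hf : ∀ x : X, (∀ v : V, x • v = v) → x = 1) (hno : NO X V)
    {S : Sylow 2 X} {EE : Set (Subgroup X)} {A : Subgroup X} (H : Hy V S EE A) (hr : rt up = A)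
    (oth : ∀ B ∈ EE, B ≠ A → ∀ b ∈ B, ∀ n ∈ (e.range ⊔ f.range) ⊔ d.range, b • n = n) {B : Subgroup X}
    (hB : B ∈ EA EE A) (hBA : B ≠ A) : brk V B ≤ fxd (clo up lo) := by
  refine (clo_cent h h2 hf hno (H.E.el B hB.1) (H.E.exact B hB.1) (H.E.quad B hB.1) (oth B hB.1 hBA) ?_).2
  intro δ hδ m hm
  rw [hr] at hδ
  exact mem_fxd.1 (H.cent H.mem_A hB hm) δ hδ

/-- a member with the line of `A` is `A` -/
theorem eq_of_line {F : Type w} [Field F] [Finite F] {e f d : F →+ V} {C : AddSubgroup V} {up lo : F → X}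
    (h : BkD e f d C up lo) (h2 : ∀ v : V, v + v = 0) (hf : ∀ x : X, (∀ v : V, x • v = v) → x = 1) (hno : NO X V)
    (h4 : 2 < Nat.card F) {S : Sylow 2 X} {EE : Set (Subgroup X)} {A : Subgroup X} (H : Hy V S EE A) (hr : rt up = A)
    (oth : ∀ B ∈ EE, B ≠ A → ∀ b ∈ B, ∀ n ∈ (e.range ⊔ f.range) ⊔ d.range, b • n = n) {B : Subgroup X}
    (hB : B ∈ EA EE A) (hBA : brk V B = brk V A) : B = A := by
  by_contra hne
  have h1 := cent_clo h h2 hf hno H hr oth hB hne
  rw [hBA, ← hr, n6 h h2 hf h4] at h1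
  have h3 := mem_fxd.1 (h1 ((le_sup_left : e.range ≤ _) ⟨1, rfl⟩)) (lo 1) (lo_clo 1)
  have h5 : e 1 + f 1 + d 1 = e 1 := by
    rw [h.lo_e, mul_one, one_mul, one_pow] at h3
    exact h3
  rw [add_assoc, add_eq_left] at h5
  exact one_ne_zero (n0 h.swap h5).1

/-- **(SW)** two blocks with the same root group have the same radical -/
theorem eq_Z_hy {F : Type w} [Field F] [Finite F] {F' : Type w'} [Field F'] [Finite F'] {e f d : F →+ V}
    {C : AddSubgroup V} {up lo : F → X} {e' f' d' : F' →+ V} {C' : AddSubgroup V} {up' lo' : F' → X}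
    (h : BkD e f d C up lo) (h' : BkD e' f' d' C' up' lo') (h2 : ∀ v : V, v + v = 0)
    (hf : ∀ x : X, (∀ v : V, x • v = v) → x = 1) (hno : NO X V) (h4 : 2 < Nat.card F)
    {S : Sylow 2 X} {EE : Set (Subgroup X)} {A : Subgroup X} (H : Hy V S EE A) (hr : rt up = A) (hr' : rt up' = A)
    (oth : ∀ B ∈ EE, B ≠ A → ∀ b ∈ B, ∀ n ∈ (e.range ⊔ f.range) ⊔ d.range, b • n = n)
    (oth' : ∀ B ∈ EE, B ≠ A → ∀ b ∈ B, ∀ n ∈ (e'.range ⊔ f'.range) ⊔ d'.range, b • n = n)
    (SD : ∀ s ∈ S, (∀ m ∈ brk V A, s • m ∈ brk V A) → ∀ m ∈ d.range, s • m ∈ d.range) : d'.range = d.range := by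
  have hq : Nat.card F' = Nat.card F := by rw [← h.card_rt h2 hf, ← h'.card_rt h2 hf, hr, hr']
  have h4' : 2 < Nat.card F' := hq ▸ h4
  rcases swap_or h h' h2 hf h4 h4' (hr'.trans hr.symm) with h1 | ⟨hd, hd', hZ, hL⟩
  · exact h1
  exfalso
  have hY : brk V A = e.range ⊔ d.range := by rw [← hr]; exact n6 h h2 hf h4
  let b : Ln V EE A := ⟨brk V A, A, H.mem_A, rfl⟩
  have Fr := H.frame
  have hb : b.1 = e.range ⊔ d.range := hY
  -- the block
  have B : Bl S (⊥ : Subgroup X) (EA EE A) (fun Y : Ln V EE A => Y.1) b d.range e.range := by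
    refine ⟨?_, ?_, by rw [inf_comm]; exact n5 h, ?_, ?_⟩
    · rw [hb]; exact le_sup_right
    · rw [hb]; exact le_sup_left
    · intro s hs hsY
      refine NS.smul_eq_of_le fun m hm => ?_
      rw [NS.mem_smul'] at hm
      have h5 := SD s hs (fun m hm => by
        have h6 : s • m ∈ s • brk V A := by rw [NS.mem_smul', inv_smul_smul]; exact hm
        have h7 : s • brk V A = brk V A := hsY
        rwa [h7] at h6) _ hm
      rwa [smul_inv_smul] at h5
    · intro B hB _ hBY m hm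
      have hBA : B = A := eq_of_line h h2 hf hno h4 H hr oth hB hBY
      rw [hb] at hm
      rw [hBA, ← hr]
      constructor
      · intro hc
        rcases of_cv h h2 hf hc with h5 | ⟨r, s, hr0, hs0, e1⟩
        · exact Or.inl h5
        · right
          constructor
          · intro h6
            have h7 := n1 h h2 hf h6 hc
            rw [e1] at h7
            exact hr0 (n0 h h7).1
          · intro h6
            have h7 := n2 h h2 hf hd h6 hc
            rw [e1] at h7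
            exact hr0 (n0 h h7).1
      · rintro (h5 | ⟨h5, h6⟩)
        · exact ⟨1, one_mem _, 0, by rw [h5, smul_zero, sub_zero]⟩
        · by_contra hc
          exact (n4 h hm hc).elim h6 h5
  -- `E`, `E'` are in `G_b`
  have hG1 : rt lo ≤ GB (fun Y : Ln V EE A => Y.1) b := by
    intro x hx c hc y hy
    obtain ⟨Y, B₁, hB₁, rfl⟩ := c
    have hne : B₁ ≠ A := fun h5 => hc (Subtype.ext (congrArg (brk V) h5))
    obtain ⟨t, rfl⟩ := (h.swap.mem_rt h2 hf).1 hx
    exact mem_fxd.1 (cent_clo h h2 hf hno H hr oth hB₁ hne hy) _ (lo_clo t)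
  have hG2 : rt lo' ≤ GB (fun Y : Ln V EE A => Y.1) b := by
    intro x hx c hc y hy
    obtain ⟨Y, B₁, hB₁, rfl⟩ := c
    have hne : B₁ ≠ A := fun h5 => hc (Subtype.ext (congrArg (brk V) h5))
    obtain ⟨t, rfl⟩ := (h'.swap.mem_rt h2 hf).1 hx
    exact mem_fxd.1 (cent_clo h' h2 hf hno H hr' oth' hB₁ hne hy) _ (lo_clo t)
  -- a vector of `Z` fixed by `S ∩ G_b`
  obtain ⟨x, hx, hx0, hxT⟩ : ∃ x ∈ d.range, x ≠ 0 ∧ ∀ t ∈ (S : Subgroup X) ⊓ GB (fun Y : Ln V EE A => Y.1) b, t • x = x := by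
    set T : Subgroup X := (S : Subgroup X) ⊓ GB (fun Y : Ln V EE A => Y.1) b with hT
    have hTd : ∀ t ∈ T, ∀ m ∈ d.range, t • m ∈ d.range := by
      intro t ht m hm
      have h5 := (Fr.T_l B ht).1
      have h6 : t • m ∈ t • d.range := by rw [NS.mem_smul', inv_smul_smul]; exact hm
      rwa [h5] at h6
    let _ : MulAction T d.range :=
      { smul := fun t m => ⟨(t : X) • (m : V), hTd t t.2 m m.2⟩
        one_smul := fun m => Subtype.ext (one_smul X (m : V))
        mul_smul := fun s t m => Subtype.ext (mul_smul (s : X) (t : X) (m : V)) }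
    have hTp : IsPGroup 2 T := S.isPGroup'.to_le inf_le_left
    have h20 : (2 : ℕ) ∣ Nat.card d.range := by
      have h5 : addOrderOf (⟨d 1, 1, rfl⟩ : d.range) = 2 := by
        refine addOrderOf_eq_prime ?_ fun h0 => one_ne_zero (hd ?_)
        · apply Subtype.ext
          change 2 • d 1 = 0
          rw [two_smul, h2]
        · rw [map_zero]
          exact congrArg Subtype.val h0
      rw [← h5]
      exact addOrderOf_dvd_natCard _
    have : Fact (Nat.Prime 2) := ⟨Nat.prime_two⟩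
    have hfix : (0 : d.range) ∈ MulAction.fixedPoints T d.range := fun t => Subtype.ext (smul_zero (t : X))
    obtain ⟨y, hy, hy0⟩ := hTp.exists_fixed_point_of_prime_dvd_card_of_fixed_point d.range h20 hfix
    refine ⟨y, y.2, fun h5 => hy0 (Subtype.ext h5.symm), fun t ht => ?_⟩
    exact congrArg Subtype.val (hy ⟨t, ht⟩)
  have hne : ¬ A ≤ (⊥ : Subgroup X) := fun h5 => H.ne (le_bot_iff.1 h5)
  have hup1 : up 1 ∈ A := by rw [← hr]; exact up_mem 1
  refine Fr.false_of B (x := x) (A := A) (A₁ := rt lo) (A₂ := rt lo') (V := (e.range ⊔ f.range) ⊔ d.range)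
    (q := Nat.card F) H.mem_A hne rfl hG1 hG2 hx hx0 hxT ?_ ?_ ?_ (card_blk h hd) ?_ ?_ ?_ ?_ ?_
  · rw [← hr]; exact index_le h h2 hf
  · exact index_le h.swap h2 hf
  · rw [← hq]; exact index_le h'.swap h2 hf
  · rw [hb]
    exact sup_le_sup le_sup_left le_rfl
  · intro v hv hv1 hv2
    exact mem_d h hv (hv1 _ hup1) (hv2 _ (up_mem 1))
  · rintro _ ⟨z, rfl⟩ a ha
    obtain ⟨t, rfl⟩ := (h.swap.mem_rt h2 hf).1 ha
    exact h.lo_c t _ (h.dC z)
  · intro v hv
    rw [hb, ← hr]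
    exact tr_blk h hv h2
  · intro z hz hz0
    rw [← hL] at hz
    obtain ⟨r, rfl⟩ := hz
    refine ⟨lo' 1, up_mem 1, fun h5 => ?_⟩
    rw [← hL, h'.lo_e, one_mul, one_mul] at h5
    obtain ⟨u, hu⟩ := h5
    have h6 : f' r + e' (r - u) + d' (r ^ 2) = 0 := by
      rw [map_sub, ← sub_eq_zero.2 hu.symm]; abel
    have h7 : e' (r - u) + f' r ∈ C' := by
      have e1 : e' (r - u) + f' r = - d' (r ^ 2) := by
        rw [eq_neg_iff_add_eq_zero, ← h6]; abel
      rw [e1]
      exact C'.neg_mem (h'.dC _)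
    apply hz0
    rw [(h'.ind _ _ h7).2, map_zero]

/-- 426's hypotheses -/
theorem hy (h2 : ∀ v : V, v + v = 0) (hf : ∀ x : X, (∀ v : V, x • v = v) → x = 1) (hno : NO X V) {S : Sylow 2 X}
    {EE : Set (Subgroup X)} (E : Es (S : Subgroup X) EE V) (EEc : ∀ B ∈ EE, ∀ x : X, MulAut.conj x • B ≤ S →
      MulAut.conj x • B ∈ EE) {Ps : Set (Subgroup X)} (hPs : PsH V (S : Subgroup X) EE Ps) (htop : sSup Ps = ⊤)
    {A : Subgroup X} (hA : A ∈ EE) (h4 : 4 ≤ Nat.card A) (g : GB1 V EE A) : Hy V S EE A where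
  h2 := h2
  hf := hf
  hno := hno
  E := E
  EEc := EEc
  hA := hA
  noex := by
    obtain ⟨F, _, _, e, f, d, C, up, lo, h, rfl, -⟩ := g
    exact noex h h2 hf hno
  ne := by
    rintro rfl
    rw [Subgroup.card_bot] at h4
    omega
  cm := comm h2 hf hno E hPs htop hA h4 g

theorem GB1.of_GBd {EE : Set (Subgroup X)} {A : Subgroup X} {N C L Z : AddSubgroup V} (g : GBd EE A N C L Z) :
    GB1 V EE A := by
  obtain ⟨F, i1, i2, e, f, d, up, lo, h, hr, rfl, -, -⟩ := g.nb.ex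
  exact ⟨F, i1, i2, e, f, d, C, up, lo, h, hr, g.oth⟩

/-- **(SW)** for `GBd` -/
theorem eq_Z {S : Sylow 2 X} {EE : Set (Subgroup X)} {A : Subgroup X} (H : Hy V S EE A) (h4 : 4 ≤ Nat.card A)
    {N C L Z N' C' L' Z' : AddSubgroup V} (g : GBd EE A N C L Z) (g' : GBd EE A N' C' L' Z')
    (SD : ∀ s ∈ S, (∀ m ∈ brk V A, s • m ∈ brk V A) → ∀ m ∈ Z, s • m ∈ Z) : Z' = Z := by
  obtain ⟨F, i1, i2, e, f, d, up, lo, h, hr, rfl, rfl, rfl⟩ := g.nb.ex
  obtain ⟨F', i1', i2', e', f', d', up', lo', h', hr', rfl, rfl, rfl⟩ := g'.nb.ex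
  have h5 : 2 < Nat.card F := by
    rw [← h.card_rt H.h2 H.hf, hr]; omega
  exact eq_Z_hy h h' H.h2 H.hf H.hno h5 H hr hr' g.oth g'.oth SD

end main

end Cfsg.Agent.Omega.NOThreeL.RRed.Blk.UniZ

end

section


/-!
# NO-3L, box R, blocks with a radical (#26560): (UNI), two `GBd` with the same root group are equal

`uni_of` : all inputs of `UniZ.hy`.
-/

set_option autoImplicit false
set_option linter.unusedSectionVars false

namespace Cfsg.Agent.Omega.NOThreeL.RRed.Blk.UniAll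

open Cfsg.Agent.Omega.NOThreeL.RRed.NS (fxd brk mem_fxd)
open Cfsg.Agent.Omega.NOThreeL.RRed.Blk.TypesGam (NO)
open Cfsg.Agent.Omega.NOThreeL.RRed.Blk.Asm (Es)
open Cfsg.Agent.Omega.NOThreeL.RRed.Blk.AsmN (NBd GBd)
open Cfsg.Agent.Omega.NOThreeL.RRed.Blk.UniFrame (Hy)
open Cfsg.Agent.Omega.NOThreeL.RRed.Blk.Uni (PsH)
open scoped Pointwise

universe u v

variable {X : Type u} {V : Type v} [Group X] [AddCommGroup V] [DistribMulAction X V] [Finite X] [Finite V]

/-- **(UNI)** -/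
theorem uni {S : Sylow 2 X} {EE : Set (Subgroup X)} {A : Subgroup X} (H : Hy V S EE A) (h4 : 4 ≤ Nat.card A)
    {N C L Z N' C' L' Z' : AddSubgroup V} (g : GBd EE A N C L Z) (g' : GBd EE A N' C' L' Z')
    (SD : ∀ s ∈ S, (∀ m ∈ brk V A, s • m ∈ brk V A) → ∀ m ∈ Z, s • m ∈ Z) :
    N' = N ∧ C' = C ∧ L' = L ∧ Z' = Z := by
  have h1 := UniZ.eq_Z H h4 g g' SD
  subst h1
  obtain ⟨h3, h5, h6⟩ := g.nb.eq_of H.h2 H.hf H.hno h4 g'.nb
  exact ⟨h3.symm, h5.symm, h6.symm, rfl⟩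

/-- **(UNI)**, all inputs -/
theorem uni_of (h2 : ∀ v : V, v + v = 0) (hf : ∀ x : X, (∀ v : V, x • v = v) → x = 1) (hno : NO X V) {S : Sylow 2 X}
    {EE : Set (Subgroup X)} (E : Es (S : Subgroup X) EE V) (EEc : ∀ B ∈ EE, ∀ x : X, MulAut.conj x • B ≤ S →
      MulAut.conj x • B ∈ EE) {Ps : Set (Subgroup X)} (hPs : PsH V (S : Subgroup X) EE Ps) (htop : sSup Ps = ⊤)
    {A : Subgroup X} (hA : A ∈ EE) (h4 : 4 ≤ Nat.card A) {N C L Z : AddSubgroup V} (g : GBd EE A N C L Z)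
    (SD : ∀ s ∈ S, (∀ m ∈ brk V A, s • m ∈ brk V A) → ∀ m ∈ Z, s • m ∈ Z) :
    ∀ N' C' L' Z' : AddSubgroup V, GBd EE A N' C' L' Z' → N' = N ∧ C' = C ∧ L' = L ∧ Z' = Z :=
  fun _ _ _ _ g' => uni (UniZ.hy h2 hf hno E EEc hPs htop hA h4 (UniZ.GB1.of_GBd g)) h4 g g' SD

end Cfsg.Agent.Omega.NOThreeL.RRed.Blk.UniAll

end

section


/-!
# NO-3L, box R, blocks with a radical (#26560): `AsmN.mainN` with (UNI) from `UniAll.uni_of`

* `psH_of` : the hypothesis of `mainN` on the members of `Ps` gives `Uni.PsH`;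
* **`mainSD`** : `mainN` with (UNI) replaced by (SD) for one block of every `A ∈ RR`.
-/

set_option autoImplicit false
set_option linter.unusedSectionVars false

namespace Cfsg.Agent.Omega.NOThreeL.RRed.Blk.AsmNSD

open Cfsg.Agent.Omega.NOThreeL.RRed.NS (fxd brk mem_fxd)
open Cfsg.Agent.Omega.NOThreeL.RRed.Blk.TypesGam (NO)
open Cfsg.Agent.Omega.NOThreeL.RRed.Blk.Asm
open Cfsg.Agent.Omega.NOThreeL.RRed.Blk.AsmN
open Cfsg.Agent.Omega.NOThreeL.RRed.Blk.Uni (PsH)
open scoped Pointwise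

universe u v

variable {X : Type u} {V : Type v} [Group X] [AddCommGroup V] [DistribMulAction X V] [Finite X] [Finite V]

theorem psH_of {S : Subgroup X} {EE Ps : Set (Subgroup X)}
    (hPs : ∀ P ∈ Ps, (∀ g ∈ P, ∀ A ∈ EE, MulAut.conj g • A ∈ EE) ∨ ∃ K EP, AcN S EE P K EP V) : PsH V S EE Ps := by
  intro P hP
  rcases hPs P hP with h | ⟨K, EP, h⟩
  · exact Or.inl h
  · refine Or.inr ⟨K, EP, h.gen, h.EPE, h.EPK, h.dich, fun A hA h4 => ?_⟩
    obtain ⟨N, C, L, Z, h1, -⟩ := h.gb hA h4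
    exact UniZ.GB1.of_GBd h1

/-- **The natural blocks with radicals.** -/
theorem mainSD (h2 : ∀ v : V, v + v = 0) (hf : ∀ x : X, (∀ v : V, x • v = v) → x = 1) (hno : NO X V)
    {S : Sylow 2 X} {EE : Set (Subgroup X)} (E : Es (S : Subgroup X) EE V)
    (EEc : ∀ B ∈ EE, ∀ x : X, MulAut.conj x • B ≤ S → MulAut.conj x • B ∈ EE) {Ps : Set (Subgroup X)}
    (hPs : ∀ P ∈ Ps, (∀ g ∈ P, ∀ A ∈ EE, MulAut.conj g • A ∈ EE) ∨ ∃ K EP, AcN (S : Subgroup X) EE P K EP V)
    (htop : sSup Ps = ⊤) {RR : Set (Subgroup X)} (hRE : RR ⊆ EE) (hR4 : ∀ A ∈ RR, 4 ≤ Nat.card A)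
    (hRG : ∀ A ∈ RR, ∃ N C L Z : AddSubgroup V, GBd EE A N C L Z ∧
      ∀ s ∈ S, (∀ m ∈ brk V A, s • m ∈ brk V A) → ∀ m ∈ Z, s • m ∈ Z) :
    ∃ N C L Z : Subgroup X → AddSubgroup V, FamN (S : Subgroup X) EE (FFs EE RR) N C L Z := by
  refine mainN h2 hf hno E hPs htop hRE hR4 (fun A hA => ?_) fun A hA N C L Z N' C' L' Z' h h' => ?_
  · obtain ⟨N, C, L, Z, h, -⟩ := hRG A hA
    exact ⟨N, C, L, Z, h⟩
  · obtain ⟨N0, C0, L0, Z0, g, SD⟩ := hRG A hA
    have u := UniAll.uni_of h2 hf hno E EEc (psH_of hPs) htop (hRE hA) (hR4 A hA) g SD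
    obtain ⟨a1, a2, a3, a4⟩ := u _ _ _ _ h
    obtain ⟨b1, b2, b3, b4⟩ := u _ _ _ _ h'
    exact ⟨a1.trans b1.symm, a2.trans b2.symm, a3.trans b3.symm, a4.trans b4.symm⟩

/-- the same for the members `≥ 4` of the `EP`'s of active `P`'s -/
theorem mainP (h2 : ∀ v : V, v + v = 0) (hf : ∀ x : X, (∀ v : V, x • v = v) → x = 1) (hno : NO X V)
    {S : Sylow 2 X} {EE : Set (Subgroup X)} (E : Es (S : Subgroup X) EE V)
    (EEc : ∀ B ∈ EE, ∀ x : X, MulAut.conj x • B ≤ S → MulAut.conj x • B ∈ EE) {Ps : Set (Subgroup X)}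
    (hPs : ∀ P ∈ Ps, (∀ g ∈ P, ∀ A ∈ EE, MulAut.conj g • A ∈ EE) ∨ ∃ K EP, AcN (S : Subgroup X) EE P K EP V)
    (htop : sSup Ps = ⊤) {RR : Set (Subgroup X)}
    (hRP : ∀ A ∈ RR, ∃ P K EP, AcN (S : Subgroup X) EE P K EP V ∧ A ∈ EP) (hR4 : ∀ A ∈ RR, 4 ≤ Nat.card A)
    (hSD : ∀ A ∈ RR, ∃ N C L Z : AddSubgroup V, NBd A N C L Z ∧
      (∀ P K EP, AcN (S : Subgroup X) EE P K EP V → A ∈ EP → (∀ B ∈ EP, B ≠ A → ∀ b ∈ B, ∀ m ∈ N, b • m = m) ∧
        N ≤ brk V K) ∧
      ∀ s ∈ S, (∀ m ∈ brk V A, s • m ∈ brk V A) → ∀ m ∈ Z, s • m ∈ Z) :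
    ∃ N C L Z : Subgroup X → AddSubgroup V, FamN (S : Subgroup X) EE (FFs EE RR) N C L Z := by
  refine mainSD h2 hf hno E EEc hPs htop (fun A hA => ?_) hR4 fun A hA => ?_
  · obtain ⟨P, K, EP, h, h1⟩ := hRP A hA
    exact h.EPE h1
  · obtain ⟨P, K, EP, h, h1⟩ := hRP A hA
    obtain ⟨N, C, L, Z, h3, h5, h6⟩ := hSD A hA
    obtain ⟨h7, h8⟩ := h5 P K EP h h1
    refine ⟨N, C, L, Z, ⟨h3, fun A' hA' hne a ha m hm => ?_⟩, h6⟩
    rcases h.dich A' hA' with h9 | h9
    · exact h7 A' h9 hne a ha m hm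
    · exact h9 a ha m (h8 hm)

end Cfsg.Agent.Omega.NOThreeL.RRed.Blk.AsmNSD

end

section


/-!
# NO-3L, box R: LEMMA (L1) of THEOREM EX (helper245, #26554; `Ex/A.lean`, `Gy.l1`) for one parabolic `P`

* **`l1`** : two exact groups `B, B' ≤ S` which move `W`; `b' = b` on `W`: `b' = b`.
-/

set_option autoImplicit false
set_option linter.unusedSectionVars false

namespace Cfsg.Agent.Omega.NOThreeL.RRed.Blk.L1N

open Subgroup
open scoped Pointwise
open Cfsg.Agent.Omega.NOThreeL.RRed.NS (fxd brk mem_fxd)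
open Cfsg.Agent.Omega.NOThreeL.RRed.Blk.Types (Sit El mem_cj card_cj fxd_cj brk_cj mem_sup_comm mem_fxd_sup sub_mem_brk brk_le)
open Cfsg.Agent.Omega.NOThreeL.RRed.Ex

universe u v

variable {H : Type u} {M : Type v} [Group H] [AddCommGroup M] [DistribMulAction H M]

theorem brk_W {S P : Subgroup H} {W : AddSubgroup M} (SP : S ≤ P) (WP : ∀ p ∈ P, ∀ w ∈ W, p • w ∈ W) {B : Subgroup H}
    (hB : B ≤ S) (fB : ∀ m : M, ∃ w ∈ W, ∃ c ∈ (fxd B : AddSubgroup M), m = w + c) {b : H} (hb : b ∈ B) (m : M) :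
    b • m - m ∈ W := by
  obtain ⟨w, hw, c, hc, rfl⟩ := fB m
  rw [smul_add, hc b hb, add_sub_add_right_eq_sub]
  exact sub_mem (WP _ (SP (hB hb)) _ hw) hw

/-- **(L1)** -/
theorem l1 [Finite H] [Finite M] (sit : Sit M (⊤ : Subgroup H)) {S P : Subgroup H} {W : AddSubgroup M} (SP : S ≤ P)
    (WP : ∀ p ∈ P, ∀ w ∈ W, p • w ∈ W) {B B' : Subgroup H} (hB : B ≤ S) (hB' : B' ≤ S) (eB : El B) (eB' : El B')
    (xB : Xa M B) (xB' : Xa M B') (hm : ¬ Fx W B)
    (split : ∀ A ≤ S, El A → Xa M A → ¬ Fx W A → Xa M (cw W A))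
    (fB : ∀ m : M, ∃ w ∈ W, ∃ c ∈ (fxd B : AddSubgroup M), m = w + c)
    (fB' : ∀ m : M, ∃ w ∈ W, ∃ c ∈ (fxd B' : AddSubgroup M), m = w + c)
    (q11 : brk M B ≤ fxd B) (q12 : brk M B ≤ fxd B') (q21 : brk M B' ≤ fxd B)
    (out : ∀ b ∈ B, ∀ m : M, b • m ≠ m → ∃ p ∈ P, ∃ c ∈ B, (p * c * p⁻¹) • (b • m - m) ∉ (fxd B : AddSubgroup M))
    {b b' : H} (hb : b ∈ B) (hb' : b' ∈ B') (h : ∀ w ∈ W, b' • w = b • w) : b' = b := by
  have hc : ∀ b ∈ B, ∀ b' ∈ B', b * b' = b' * b := fun b hb b' hb' =>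
    sit.comm_of (mem_top _) (mem_top _) (fun m => mem_fxd.1 (q12 (sub_mem_brk hb m)) b' hb')
      (fun m => mem_fxd.1 (q21 (sub_mem_brk hb' m)) b hb)
  have hE : El (B ⊔ B') := eB.sup eB' hc
  have hX : Xa M (B ⊔ B') := (latt sit eB eB' hc xB xB').1
  have hS : B ⊔ B' ≤ S := sup_le hB hB'
  have hmv : ¬ Fx W (B ⊔ B') := fun h1 => hm fun a ha => h1 a (mem_sup_left ha)
  set D : Subgroup H := cw W (B ⊔ B') with hD
  have hDX : Xa M D := split _ hS hE hX hmv
  have hDE : El D := El.mono hE cw_le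
  have hDS : D ≤ S := cw_le.trans hS
  have hWD : W ≤ (fxd D : AddSubgroup M) := fun w hw d hd => hd.2 w hw
  have hbr : ∀ x ∈ B ⊔ B', ∀ m : M, x • m - m ∈ W ∧ x • m - m ∈ (fxd B : AddSubgroup M) := by
    intro x hx m
    obtain ⟨y, hy, z, hz, rfl⟩ := (mem_sup_comm hc).1 hx
    have e : (y * z) • m - m = (y • (z • m) - z • m) + (z • m - m) := by rw [mul_smul]; abel
    rw [e]
    exact ⟨add_mem (brk_W SP WP hB fB hy _) (brk_W SP WP hB' fB' hz _),
      add_mem (q11 (sub_mem_brk hy _)) (q21 (sub_mem_brk hz _))⟩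
  have hbD : brk M D ≤ fxd D := brk_le fun a ha m => hWD (hbr a (cw_le ha) m).1
  have hbb : b' * b⁻¹ ∈ D := ⟨mul_mem (mem_sup_right hb') (inv_mem (mem_sup_left hb)), fun w hw => by
    have h1 : b⁻¹ • w ∈ W := WP _ (inv_mem (SP (hB hb))) _ hw
    rw [mul_smul, h _ h1, smul_inv_smul]⟩
  by_contra hne
  have hne1 : b' * b⁻¹ ≠ 1 := fun e => hne (mul_inv_eq_one.1 e)
  obtain ⟨v, hv⟩ : ∃ v : M, (b' * b⁻¹) • v ≠ v := by
    by_contra hcon
    push Not at hcon
    exact hne1 (sit.faith _ (mem_top _) hcon)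
  obtain ⟨w, hw, c, hcc, rfl⟩ := fB' v
  have e1 : (b' * b⁻¹) • (w + c) - (w + c) = b • c - c := by
    rw [smul_add, hbb.2 w hw, add_sub_add_left_eq_sub, ← hc _ (inv_mem hb) _ hb', mul_smul, hcc _ hb',
      El.inv_eq eB hb]
  have e2 : b • c ≠ c := by
    intro e
    rw [e, sub_self] at e1
    exact hv (sub_eq_zero.1 e1)
  obtain ⟨p, hp, c', hc', hout⟩ := out b hb c e2
  set g : H := p * c' * p⁻¹ with hg
  have hgP : g ∈ P := mul_mem (mul_mem hp (SP (hB hc'))) (inv_mem hp)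
  have hgW : ∀ m : M, g • m - m ∈ W := by
    intro m
    have h1 : g • m - m = p • (c' • (p⁻¹ • m) - p⁻¹ • m) := by
      rw [smul_sub, smul_inv_smul, hg, mul_smul, mul_smul]
    rw [h1]
    exact WP _ hp _ (brk_W SP WP hB fB hc' _)
  have hgW' : ∀ m : M, g⁻¹ • m - m ∈ W := by
    intro m
    have h1 : g⁻¹ • m - m = - (g⁻¹ • (g • m - m)) := by
      rw [smul_sub, inv_smul_smul]; abel
    rw [h1]
    exact neg_mem (WP _ (inv_mem hgP) _ (hgW m))
  have hcj : MulAut.conj g • D = D := by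
    refine sit.cj_eq le_top hDE hDX hbD (mem_top g) fun m => ?_
    constructor
    · intro h1
      have e : g⁻¹ • m = (g⁻¹ • m - m) + m := by abel
      rw [e]
      exact add_mem (hWD (hgW' m)) h1
    · intro h1
      have e : m = g⁻¹ • m - (g⁻¹ • m - m) := by abel
      rw [e]
      exact sub_mem h1 (hWD (hgW' m))
  apply hout
  rw [← e1]
  have h1 : g * (b' * b⁻¹) * g⁻¹ ∈ D := by rw [← hcj]; exact mem_cj_of hbb
  have h2 := (hbr _ (cw_le h1) (g • (w + c))).2
  have e : (g * (b' * b⁻¹) * g⁻¹) • g • (w + c) - g • (w + c) = g • ((b' * b⁻¹) • (w + c) - (w + c)) := by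
    rw [smul_sub, ← mul_smul, ← mul_smul]
    congr 2
    group
  rwa [e] at h2

end Cfsg.Agent.Omega.NOThreeL.RRed.Blk.L1N

end
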