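import Cfsg.Agent.Mrg.Omega.NOThreeL.RRed.Blk.UniOf
import Cfsg.Agent.Mrg.Omega.NOThreeL.RRed.Blk.AcNSame
import Cfsg.Agent.Mrg.Omega.NOThreeL.RRed.Blk.AcNAt
import Cfsg.Agent.Mrg.Omega.NOThreeL.RRed.Blk.AsmCard
import Cfsg.Agent.Mrg.Omega.NOThreeL.RRed.Blk.AsmInp
import Cfsg.Agent.Mrg.Omega.NOThreeL.RRed.Blk.TypesNormN


/-!
# NO-3L, box R: the inputs `InN` (second hand of helper263's `typ_nat`, `acN_of`)

* `oth_nat` : the other members of `EE` centralise a natural block;  `cent_D` : `K` centralises `cv S P`;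
* `typ_nat` : the field `typ` for natural `P`, `|F| ≥ 4`, from `NormC` (helper426);
* **`acN_of`**, **`inN_of`**.
-/

set_option autoImplicit false
set_option linter.unusedSectionVars false

namespace Cfsg.Agent.Omega.NOThreeL.RRed.Blk.InNEnd

open Subgroup Cfsg Cfsg.Agent.ZN Cfsg.Agent.Omega.MinPar
open Cfsg.Agent.Omega.FFThm Cfsg.Agent.Lib.SL2Mat
open Cfsg.Agent.Omega.FrameFF (cv)
open Cfsg.Agent.Omega.NO3S.ThmB Cfsg.Agent.Omega.NO3S.KeyRad
open Cfsg.Agent.Omega.NOThreeL.Merge (MZ le_MZ isLoc_MZ)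
open Cfsg.Agent.Omega.NOThreeL.RSplit (Nrm)
open Cfsg.Agent.Omega.NOThreeL.RRed.NS (fxd brk mem_fxd DD YY DD_le_YY smul_eq_iff exists_p)
open Cfsg.Agent.Omega.NOThreeL.RRed.Blk.TypesGam (rt NO)
open Cfsg.Agent.Omega.NOThreeL.RRed.Blk.TypesNat (XH ph ph_smul XH_faith ph_eq)
open Cfsg.Agent.Omega.NOThreeL.RRed.Blk.AsmCore
open Cfsg.Agent.Omega.NOThreeL.RRed.Blk.AsmAct (KP_blk)
open Cfsg.Agent.Omega.NOThreeL.RRed.Blk.AcNSame (same_im)
open Cfsg.Agent.Omega.NOThreeL.RRed.Blk.AsmN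
open Cfsg.Agent.Omega.NOThreeL.RRed.Blk.FamOf (InN IsRt no_norm)
open scoped Pointwise

universe u

variable {G : Type u} [Group G]

/-- **`norm_C`** (helper426, helper263) -/
def NormC [Finite G] (S : Sylow 2 G) (L P : Subgroup G) : Prop :=
  ∀ (F : Type) [Field F] [Finite F] [CharP F 2] (k : ℕ)
    (M : NatKM F (S : Subgroup G) P (zl (S : Subgroup G) P) (cv (S : Subgroup G) P) k), 2 < Nat.card F →
    ∀ A ∈ EP (S : Subgroup G) P (zl (S : Subgroup G) L), ∀ j, NO3S.ThmB.One M (zl (S : Subgroup G) L) A j →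
    ∀ p ∈ P, ActsSL M.e (zl (S : Subgroup G) P) (cv (S : Subgroup G) P) p (sg j (NS.wl F)) →
    ∀ x ∈ KP (S : Subgroup G) P (zl (S : Subgroup G) L), ∀ w ∈ zl (S : Subgroup G) L,
      w ∈ centralizer ((A ⊔ MulAut.conj p • A : Subgroup G) : Set G) →
        x * w * x⁻¹ ∈ centralizer ((A ⊔ MulAut.conj p • A : Subgroup G) : Set G)

section main

variable [Finite G] {S : Sylow 2 G} {L P H : Subgroup G} (hc : IsCharacteristicTwoType G)
  (hL : IsLoc (S : Subgroup G) L) (hP : IsParS (S : Subgroup G) P) (hPL : P ≤ L) (LH : L ≤ H)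
  (noH : NoOverM (zl (S : Subgroup G) L) H) (Q : Nrm H (zl (S : Subgroup G) L))
include hc hL hP hPL LH noH

section nat

variable {F : Type} [Field F] [Finite F] [CharP F 2] {k : ℕ}
  (M : NatKM F (S : Subgroup G) P (zl (S : Subgroup G) P) (cv (S : Subgroup G) P) k)
include M

/-- **the other members of `EE` centralise a natural block** -/
theorem oth_nat {A : Subgroup G} (hA : A ∈ EP (S : Subgroup G) P (zl (S : Subgroup G) L)) {j : Fin k}
    (O : NO3S.ThmB.One M (zl (S : Subgroup G) L) A j) :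
    ∀ B ∈ im Q '' AsmCore.EE (S : Subgroup G) (zl (S : Subgroup G) L), B ≠ im Q A → ∀ a ∈ B, ∀ m ∈ Q.ad (blk M j),
      a • m = m := by
  have h := Inst.nb hc hP M
  rintro _ ⟨B, hB, rfl⟩ hne _ ⟨b, hb, rfl⟩ m hm
  have hmb : Q.val m ∈ blk M j := hm
  have hmV : Q.val m ∈ zl (S : Subgroup G) P := blk_le h j hmb
  have hb' : (b : G) ∈ B := hb
  rw [ph_smul, smul_eq_iff]
  by_cases hBC : B ≤ centralizer (zl (S : Subgroup G) P : Set G)
  · rw [← mem_centralizer_iff.1 (hBC hb') _ hmV, mul_inv_cancel_right]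
  · obtain ⟨i, O'⟩ := AsmAct.one_of hc hL hP hPL (fun B hB => noH B (hB.trans LH)) M ⟨hB, hBC⟩
    have hij : i ≠ j := by
      rintro rfl
      exact hne (same_im hc hL hP hPL LH noH Q M hA ⟨hB, hBC⟩ O O')
    obtain ⟨β, hβ⟩ := O'.act b hb'
    rw [cent_sg h (hP.le (hB.1 hb')) hβ hmV (e_blk h hij hmb), mul_inv_cancel_right]

omit LH noH in
/-- `K` centralises `cv S P` -/
theorem cent_D (no : NoOverM (zl (S : Subgroup G) L) L) {x d : G}
    (hx : x ∈ KP (S : Subgroup G) P (zl (S : Subgroup G) L)) (hd : d ∈ cv (S : Subgroup G) P) :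
    x * d * x⁻¹ = d := by
  have h := Inst.nb hc hP M
  have key : KP (S : Subgroup G) P (zl (S : Subgroup G) L) ≤ centralizer (cv (S : Subgroup G) P : Set G) := by
    rw [KP, closure_le]
    rintro _ ⟨p, hp, A, hA, a, ha, rfl⟩
    rw [SetLike.mem_coe, mem_centralizer_iff]
    intro w hw
    obtain ⟨i, O⟩ := AsmAct.one_of hc hL hP hPL no M hA
    have hw' : p⁻¹ * w * p ∈ cv (S : Subgroup G) P := by
      have := (mem_normalizer_iff.1 (h.DP' (inv_mem hp)) w).1 hw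
      rwa [inv_inv] at this
    have h0 : M.e (p⁻¹ * w * p) = 0 := (M.ker _ hw'.1).2 hw'
    have h1 := (O.cen _ hw'.1).2 (by rw [h0]; rfl) a ha
    calc w * (p * a * p⁻¹) = p * ((p⁻¹ * w * p) * a) * p⁻¹ := by group
      _ = p * (a * (p⁻¹ * w * p)) * p⁻¹ := by rw [h1]
      _ = p * a * p⁻¹ * w := by group
  rw [← mem_centralizer_iff.1 (key hx) d hd, mul_inv_cancel_right]

/-- **the field `typ` for natural `P`** -/
theorem typ_nat (hF : 4 ≤ Nat.card F) (hC : NormC S L P) {A : Subgroup G}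
    (hA : A ∈ EP (S : Subgroup G) P (zl (S : Subgroup G) L)) :
    ∃ N C L' Z : AddSubgroup Q.Mod, NBd (im Q A) N C L' Z ∧
      N ≤ brk Q.Mod (im Q (KP (S : Subgroup G) P (zl (S : Subgroup G) L))) ∧
      (∀ k ∈ im Q (KP (S : Subgroup G) P (zl (S : Subgroup G) L)), ∀ m ∈ N, k • m ∈ N) ∧
      (∀ k ∈ im Q (KP (S : Subgroup G) P (zl (S : Subgroup G) L)), ∀ m ∈ C, k • m ∈ C) ∧
      (∀ k ∈ im Q (KP (S : Subgroup G) P (zl (S : Subgroup G) L)), ∀ m ∈ Z, k • m = m) ∧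
      ∀ A' ∈ im Q '' EP (S : Subgroup G) P (zl (S : Subgroup G) L), A' ≠ im Q A → ∀ a ∈ A', ∀ m ∈ N, a • m = m := by
  have h := Inst.nb hc hP M
  have hVU := NOThreeL.Star.zl_mono (S : Subgroup G) hPL
  have hAP : A ≤ P := hA.1.1.trans hP.le
  have hPH : P ≤ H := hPL.trans LH
  have hU2 := FFThm.elem_zl hc S hL
  have no : NoOverM (zl (S : Subgroup G) L) L := fun B hB => noH B (hB.trans LH)
  obtain ⟨j, O⟩ := AsmAct.one_of hc hL hP hPL no M hA
  obtain ⟨p, hp, hpA⟩ := exists_p M j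
  have hF2 : 2 < Nat.card F := by omega
  obtain ⟨e, f, d, up, lo, hb, h1, h2, h3, h4, h5, h6⟩ := AcNAt.exists_bkD_at h hF2 Q hPH hVU O hAP hp hpA
  have hb' := TypesNat.mapD hb (ph Q) (ph_smul Q)
  have hrt : rt (fun t => ph Q (up t)) = im Q A := by
    apply le_antisymm
    · rw [rt, closure_le]
      rintro _ ⟨t, rfl⟩
      exact ph_mem_im Q (h1 t)
    · rintro _ ⟨a, ha, rfl⟩
      obtain ⟨t, ht⟩ := h3 a ha
      rw [(ph_eq Q).2 ht]
      exact subset_closure ⟨t, rfl⟩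
  have hAK : im Q A ≤ im Q (KP (S : Subgroup G) P (zl (S : Subgroup G) L)) := im_mono Q (le_KP hA)
  have hlo : ∀ t, ph Q (lo t) ∈ im Q (KP (S : Subgroup G) P (zl (S : Subgroup G) L)) := fun t => by
    refine ph_mem_im Q ?_
    have h7 := NS.mem_conj.1 (h2 t)
    have e1 : (lo t : G) = p * (p⁻¹ * lo t * p) * p⁻¹ := by group
    rw [e1]
    exact mem_KP hp hA h7
  refine ⟨Q.ad (blk M j), Q.ad (centralizer ((A ⊔ MulAut.conj p • A : Subgroup G) : Set G)), e.range,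
    Q.ad (DD M j), ⟨F, inferInstance, inferInstance, e, f, d, _, _, hb', hrt, h5, rfl, h6⟩, ?_, ?_, ?_, ?_, ?_⟩
  · obtain ⟨c₀, hc0, hc1⟩ := Asm.exists_ne hF
    have hde := AsmN.de_le_brk hb' hc0 hc1
    rw [hrt] at hde
    have hmono : brk Q.Mod (im Q A) ≤ brk Q.Mod (im Q (KP (S : Subgroup G) P (zl (S : Subgroup G) L))) :=
      Types.brk_le fun a ha m => Types.sub_mem_brk (hAK ha) m
    rw [← h5]
    refine sup_le (sup_le ?_ ?_) ?_
    · rintro _ ⟨x, rfl⟩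
      exact hmono (hde x).2
    · rintro _ ⟨x, rfl⟩
      have h7 := Types.sub_mem_brk (M := Q.Mod) (hlo x) (e 1)
      rw [hb'.lo_e, mul_one, one_pow, mul_one] at h7
      have e1 : e 1 + f x + d x - e 1 = f x + d x := by abel
      rw [e1] at h7
      have h8 := sub_mem h7 (hmono (hde x).1)
      rwa [add_sub_cancel_right] at h8
    · rintro _ ⟨x, rfl⟩
      exact hmono (hde x).1
  · rintro _ ⟨x, hx, rfl⟩ m hm
    rw [ph_smul]
    exact (mem_normalizer_iff.1 (KP_blk hc hL hP hPL no M j hx) _).1 hm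
  · rintro _ ⟨x, hx, rfl⟩ m hm
    rw [ph_smul]
    exact hC F k M hF2 A hA j O p hp hpA x hx _ (Q.val_mem m) hm
  · rintro _ ⟨x, hx, rfl⟩ m hm
    rw [ph_smul, smul_eq_iff]
    exact cent_D hc hL hP hPL M no hx hm.2
  · rintro A' ⟨B, hB, rfl⟩ hne a ha m hm
    exact oth_nat hc hL hP hPL LH noH Q M hA O _ ⟨B, hB.1, rfl⟩ hne a ha m hm

end nat

/-- **`acN_of`** -/
theorem acN_of (ne : (EP (S : Subgroup G) P (zl (S : Subgroup G) L)).Nonempty) (hC : NormC S L P) :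
    AcN (im Q (S : Subgroup G)) (im Q '' AsmCore.EE (S : Subgroup G) (zl (S : Subgroup G) L)) (im Q P)
      (im Q (KP (S : Subgroup G) P (zl (S : Subgroup G) L)))
      (im Q '' EP (S : Subgroup G) P (zl (S : Subgroup G) L)) Q.Mod where
  gen := AcNOf.gen hc hP hPL LH Q ne
  EPE := AcNOf.EPE Q
  EPK := AcNOf.EPK Q
  dich := AcNOf.dich hc hL hP hPL (fun B hB => noH B (hB.trans LH)) Q
  genK := AcNOf.genK hc hP hPL LH Q ne
  typ := by
    have no : NoOverM (zl (S : Subgroup G) L) L := fun B hB => noH B (hB.trans LH)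
    rintro _ ⟨A, hA, rfl⟩ h4
    rcases AsmInp.type_of hc hL no hP hPL ne with h2 | ⟨F, i1, i2, i3, k, hF, hk, ⟨M⟩⟩
    · have h3 := AsmCard.card_le_two hc (AsmSmall.gone_of_EP hc hL hP hPL no hA) hA.1.2 h2
        (FFThm.elem_zl hc S hL).2 Q (((hA.1.1.trans hP.le).trans hPL).trans LH)
      have h5 : Nat.card (im Q A) ≤ 2 := h3
      omega
    · exact typ_nat hc hL hP hPL LH noH Q M hF hC hA

end main

/-- **`InN` from `NormC`** -/
theorem inN_of [Finite G] {S : Sylow 2 G} (hc : IsCharacteristicTwoType G)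
    (hL : IsLoc (S : Subgroup G) (MZ (S : Subgroup G)))
    (no : NoOverM (zl (S : Subgroup G) (MZ (S : Subgroup G))) (MZ (S : Subgroup G)))
    (hC : ∀ P, IsParS (S : Subgroup G) P → NormC S (MZ (S : Subgroup G)) P)
    (Q : Nrm (normalizer (MZ (S : Subgroup G) : Set G)) (zl (S : Subgroup G) (MZ (S : Subgroup G)))) : InN S Q where
  ac P hP ne := acN_of hc hL hP (le_MZ hP) le_normalizer (no_norm hL.le no) Q ne (hC P hP)
  oth D N Z h := by
    obtain ⟨P, hP, F, i1, i2, i3, k, M, A, j, hF, hA, rfl, O, rfl, rfl⟩ := h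
    exact oth_nat hc hL hP (le_MZ hP) le_normalizer (no_norm hL.le no) Q M hA O

end Cfsg.Agent.Omega.NOThreeL.RRed.Blk.InNEnd
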