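import Cfsg.Agent.Mrg.Omega.NOThreeL.RRed.Blk.AsmInp


/-!
# NO-3L, box R: every `z ∈ Z` with a component in a natural block is moved by an active `P` ((M3n) of #27316)

`U = zl S L`, `FF` : the family of `AsmG.Inp.main` for `RR = RRs S L Q` (all natural blocks with `|D| ≥ 4`), `SPL` known,
`MvAct` is NOT used.

* `HOut` : the group `H = ⟨T_(D^s) : s ∈ S⟩ S` (module level, helper208), `T_D ≅ SL₂(F)`;
* **`mv_big`** : `z ∈ Z`, `z ∉ C D`, `D ∈ FF`: some active `R ∈ P*(S)`, `R ≤ L`, moves `z`.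
-/

set_option autoImplicit false
set_option linter.unusedSectionVars false

namespace Cfsg.Agent.Omega.NOThreeL.RRed.Blk.MvNat

open Subgroup Cfsg Cfsg.Agent.ZN Cfsg.Agent.Omega.MinPar
open Cfsg.Agent.Omega.FFThm
open Cfsg.Agent.Omega.FrameFF (cv)
open Cfsg.Agent.Omega.NO3S.ThmB Cfsg.Agent.Omega.NO3S.KeyRad
open Cfsg.Agent.Omega.NOThreeL.RSplit (Nrm)
open Cfsg.Agent.Omega.NOThreeL.RRed.NS (fxd brk mem_fxd smul_eq_iff conj_eq_cj)
open Cfsg.Agent.Omega.NOThreeL.RRed.Blk.TypesNat (XH ph ph_smul XH_faith ph_eq ph_surj)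
open Cfsg.Agent.Omega.NOThreeL.RRed.Blk.TypesGam (Bk rt)
open Cfsg.Agent.Omega.NOThreeL.RRed.Blk.Asm
open Cfsg.Agent.Omega.NOThreeL.RRed.Blk.AsmG
open Cfsg.Agent.Omega.NOThreeL.RRed.Blk.AsmInp
open Cfsg.Agent.Omega.NOThreeL.RRed.Blk.AsmCore (EE im EP KP im_cj ph_mem_im im_mono le_KP_sup KP_le)
open scoped Pointwise

universe u v

/-- the group `H`, module level -/
structure HOut {X : Type u} {V : Type v} [Group X] [AddCommGroup V] [DistribMulAction X V] (S : Subgroup X)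
    (FF : Set (Subgroup X)) (C : Subgroup X → AddSubgroup V) (D : Subgroup X) (H : Subgroup X) : Prop where
  SH : S ≤ H
  mv : ∃ x ∈ H, MulAut.conj x • D ∉ FF
  stab : ∀ x ∈ H, ∀ z : V, (∀ s ∈ S, s • z = z) → (∀ s ∈ S, s • (x • z) = x • z) → z ∉ C D →
    ∀ B ∈ FF, MulAut.conj x • B ∈ FF

section main

variable {G : Type u} [Group G] [Finite G] {S : Sylow 2 G} {L : Subgroup G}
  {Q : Nrm L (zl (S : Subgroup G) L)}

local notation "EEi" => im Q '' AsmCore.EE (S : Subgroup G) (zl (S : Subgroup G) L)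

theorem St_le : St EEi ≤ St (FFs EEi (RRs S L Q)) := by
  intro g hg A
  refine ⟨conj_FFs hg, fun hA => ?_⟩
  have h1 := conj_FFs (inv_mem hg) hA
  rwa [← mul_smul, ← map_mul, inv_mul_cancel, map_one, one_smul] at h1

/-- the preimage in `G` -/
def pre (Q : Nrm L (zl (S : Subgroup G) L)) (H : Subgroup (XH Q)) : Subgroup G := (H.comap (ph Q)).map L.subtype

theorem mem_pre {H : Subgroup (XH Q)} {x : G} : x ∈ pre Q H ↔ ∃ hx : x ∈ L, ph Q ⟨x, hx⟩ ∈ H := by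
  constructor
  · rintro ⟨y, hy, rfl⟩
    exact ⟨y.2, hy⟩
  · rintro ⟨hx, h⟩
    exact ⟨⟨x, hx⟩, h, rfl⟩

theorem le_pre {H : Subgroup (XH Q)} {R : Subgroup G} (hR : R ≤ L) (h : im Q R ≤ H) : R ≤ pre Q H := fun x hx =>
  mem_pre.2 ⟨hR hx, h (ph_mem_im Q (a := ⟨x, hR hx⟩) hx)⟩

theorem im_le_of_pre {H : Subgroup (XH Q)} {R : Subgroup G} (h : R ≤ pre Q H) : im Q R ≤ H := by
  rintro _ ⟨x, hx, rfl⟩
  obtain ⟨_, h1⟩ := mem_pre.1 (h hx)
  exact h1

/-- elements of `L` which normalise `S` -/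
theorem norm_St {n : L} (hn : (n : G) ∈ normalizer ((S : Subgroup G) : Set G)) : ph Q n ∈ St EEi := by
  have key : ∀ n : L, (n : G) ∈ normalizer ((S : Subgroup G) : Set G) → ∀ A ∈ EEi, MulAut.conj (ph Q n) • A ∈ EEi := by
    rintro n hn _ ⟨A, hA, rfl⟩
    refine ⟨MulAut.conj (n : G) • A, ⟨?_, ?_⟩, im_cj Q n⟩
    · intro x hx
      have h4 := hA.1 (NS.mem_conj.1 hx)
      have h6 := (mem_normalizer_iff.1 hn _).1 h4
      have e : (n : G) * ((n : G)⁻¹ * x * n) * (n : G)⁻¹ = x := by group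
      rwa [e] at h6
    · rw [conj_eq_cj]
      exact CI.mx_conj hA.2 (Q.nrm n.2)
  intro A
  refine ⟨key n hn A, fun hA => ?_⟩
  have h1 := key n⁻¹ (inv_mem hn) _ hA
  rwa [map_inv, ← mul_smul, ← map_mul, inv_mul_cancel, map_one, one_smul] at h1

/-- **(M3n)**: `z ∈ Z` with a component in the block of `D` is moved by an active `R`. -/
theorem mv_big (hL : IsLoc (S : Subgroup G) L) (h : Inp S L Q) {D : Subgroup (XH Q)}
    (hD : D ∈ FFs EEi (RRs S L Q)) {H : Subgroup (XH Q)}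
    (HO : HOut (im Q (S : Subgroup G)) (FFs EEi (RRs S L Q)) (CC EEi Q.Mod) D H) {z : G}
    (hz : z ∈ zc (S : Subgroup G)) (hzU : z ∈ zl (S : Subgroup G) L) (hzD : Q.of z hzU ∉ CC EEi Q.Mod D) :
    ∃ R, IsParS (S : Subgroup G) R ∧ R ≤ L ∧ (EP (S : Subgroup G) R (zl (S : Subgroup G) L)).Nonempty ∧
      ¬ R ≤ centralizer ({z} : Set G) := by
  have hSL := hL.le
  obtain ⟨hFE, h4, hGB, hFam⟩ := h.main (RR := RRs S L Q) le_rfl
  -- `z` is fixed by `S`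
  have hzS : ∀ s ∈ im Q (S : Subgroup G), s • Q.of z hzU = Q.of z hzU := by
    rintro _ ⟨s, hs, rfl⟩
    rw [ph_smul, smul_eq_iff, Nrm.val_of]
    have h5 := (ChoiceBase.mem_zc.1 hz).2.2 (s : G) hs
    rw [h5]; group
  -- `R`
  have hH : IsLoc (S : Subgroup G) (pre Q H) := hL.of_le S (le_pre hSL HO.SH) fun x hx => (mem_pre.1 hx).1
  obtain ⟨R, hR, hRH, hRM⟩ := hH.exists_not_le S (M := pre Q (St (FFs EEi (RRs S L Q))))
    (by
      rintro n ⟨hn, hnS⟩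
      obtain ⟨hnL, -⟩ := mem_pre.1 hn
      exact mem_pre.2 ⟨hnL, St_le (norm_St (n := ⟨n, hnL⟩) hnS)⟩)
    (by
      intro hcon
      obtain ⟨x, hx, hxD⟩ := HO.mv
      obtain ⟨g, rfl⟩ := ph_surj Q x
      obtain ⟨_, h5⟩ := mem_pre.1 (hcon (mem_pre.2 ⟨g.2, hx⟩ : (g : G) ∈ pre Q H))
      exact hxD ((h5 D).1 hD))
  have hRL : R ≤ L := fun x hx => (mem_pre.1 (hRH hx)).1
  have hRHi : im Q R ≤ H := im_le_of_pre hRH
  have hRSt : ¬ im Q R ≤ St (FFs EEi (RRs S L Q)) := fun h5 => hRM (le_pre hRL h5)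
  -- `R` moves `z` out of `Z`
  have hmv : ¬ ∀ r ∈ R, r * z * r⁻¹ ∈ zc (S : Subgroup G) := by
    intro hcon
    refine hRSt (le_St ?_)
    rintro _ ⟨r, hr, rfl⟩ B hB
    refine HO.stab _ (hRHi (ph_mem_im Q hr)) (Q.of z hzU) hzS ?_ hzD B hB
    rintro _ ⟨s, hs, rfl⟩
    have h6 := (ChoiceBase.mem_zc.1 (hcon r hr)).2.2 (s : G) hs
    rw [ph_smul, ph_smul, smul_eq_iff, Nrm.val_smul, Nrm.val_of, h6]
    group
  have hRS : IsParS (S : Subgroup G) R :=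
    ⟨hR, fun hn => hmv fun r hr => (mem_normalizer_iff.1 (hn hr) z).1 hz⟩
  refine ⟨R, hRS, hRL, ?_, fun hRz => hmv fun r hr => ?_⟩
  · by_contra hcon
    exact hRSt ((le_St (inact h.hc Q hRS hcon)).trans St_le)
  · have h6 := mem_centralizer_singleton_iff.1 (hRz hr)
    have e1 : r * z * r⁻¹ = z := by rw [h6]; group
    rw [e1]; exact hz

end main

end Cfsg.Agent.Omega.NOThreeL.RRed.Blk.MvNat
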