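import Cfsg.Agent.Mrg.Omega.NOThreeL.RRed.Blk.Split
import Cfsg.Agent.Mrg.Omega.NOThreeL.VF.Core
import Cfsg.Agent.Mrg.Omega.IId.SymWrD.Zero


/-!
# NO-3L, box R, BLOCK THEOREM: `zl S L = N × C_U(O²(P))`, even-subset modules of `S_{2^m+1}`
-/

set_option autoImplicit false
set_option linter.unusedSectionVars false

namespace Cfsg.Agent.Omega.NOThreeL.RRed.Blk.SplitSym

open Subgroup Cfsg Cfsg.Agent.ZN Cfsg.Agent.Omega.MinPar Cfsg.Agent.Omega.FFThm
open Cfsg.Agent.Omega.FrameFF (cv)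
open Cfsg.Agent.Omega.NOThreeL.VF.Q (Sit RootM k_def cj_eq k_eq_one k_one k_mul_left k_cj)
open Cfsg.Agent.Omega.NOThreeL.VF.Q.S (z2_add_self z2_neg const_eq_zero exists_even rt rt_zero rt_one rt_mem z2_cases)
open Cfsg.Agent.Omega.NOThreeL.RRed.Blk.SplitAbs
open Cfsg.Agent.Omega.NOThreeL.RRed.Blk.SplitAbs.Ns
open Cfsg.Agent.Omega.NOThreeL.RRed.Blk.Split
open Cfsg.Agent.ZN.ChoiceSit (Syl)
open Cfsg.Agent.MinSimple.VModule (oddGen oddGen_le le_normalizer_oddGen oddGen_le_of_sup zc_le_zl)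

universe u

/-- permutations act on functions -/
@[reducible] def sym (α : Type*) : DistribMulAction (Equiv.Perm α) (α → ZMod 2) where
  smul τ y := fun x => y (τ⁻¹ x)
  one_smul _ := rfl
  mul_smul τ ρ y := by
    funext x
    change y ((τ * ρ)⁻¹ x) = y (ρ⁻¹ (τ⁻¹ x))
    rw [mul_inv_rev]; rfl
  smul_zero _ := rfl
  smul_add _ _ _ := rfl

attribute [local instance] sym

theorem smul_apply {α : Type*} (τ : Equiv.Perm α) (y : α → ZMod 2) (x : α) : (τ • y) x = y (τ⁻¹ x) := rfl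

theorem smul_apply' {α : Type*} (τ : Equiv.Perm α) (y : α → ZMod 2) (x : α) : (τ • y) (τ x) = y x :=
  congrArg y (τ.symm_apply_apply x)

abbrev PN (m : ℕ) : Type := Equiv.Perm (Fin (2 ^ m + 1))

/-- the even functions -/
def Ev (m : ℕ) : AddSubgroup (Fin (2 ^ m + 1) → ZMod 2) where
  carrier := {y | ∑ x, y x = 0}
  zero_mem' := by simp
  add_mem' := by
    intro a b ha hb
    change ∑ x, (a x + b x) = 0
    rw [Finset.sum_add_distrib]
    change ∑ x, a x = 0 at ha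
    change ∑ x, b x = 0 at hb
    rw [ha, hb, add_zero]
  neg_mem' := by
    intro a ha
    change ∑ x, (-a x) = 0
    change ∑ x, a x = 0 at ha
    rw [Finset.sum_neg_distrib, ha, neg_zero]

theorem mem_Ev {m : ℕ} {y : Fin (2 ^ m + 1) → ZMod 2} : y ∈ Ev m ↔ ∑ x, y x = 0 := Iff.rfl

variable {G : Type u} [Group G] {P N : Subgroup G} {n m : ℕ} {e : G → Fin n → Fin (2 ^ m + 1) → ZMod 2}

theorem act_iff {g : G} {B : Fin n → PN m} : Act e N g B ↔ ActsSym e N g 1 B := by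
  constructor
  · intro h v hv i x
    change e (g * v * g⁻¹) i (B i x) = e v i x
    rw [h v hv i, smul_apply']
  · intro h v hv i
    funext y
    obtain ⟨x, rfl⟩ := (B i).surjective y
    rw [smul_apply']
    exact h v hv i x

abbrev upd (i : Fin n) (q : PN m) : Fin n → PN m := Function.update 1 i q

theorem upd_self (i : Fin n) (q : PN m) : upd i q i = q := Function.update_self _ _ _

theorem upd_ne {i j : Fin n} (h : j ≠ i) (q : PN m) : upd i q j = 1 := Function.update_of_ne h _ _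

theorem upd_mul (i : Fin n) (q r : PN m) : upd i q * upd i r = upd i (q * r) := by
  rw [upd, upd, ← Function.update_mul, mul_one]

theorem upd_inv (i : Fin n) (q : PN m) : (upd i q)⁻¹ = upd i q⁻¹ := by
  rw [upd, ← Function.update_inv, inv_one]

variable (h : Ns (PN m) (Ev m) P N n e)
include h

/-- a transposition centralises `v` iff the two coordinates agree -/
theorem swap_eq_one {g v : G} (hg : g * v * g⁻¹ ∈ N) (hv : v ∈ N) {i₀ : Fin n} {x₀ y₀ : Fin (2 ^ m + 1)}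
    (hA : Act e N g (upd i₀ (Equiv.swap x₀ y₀))) : VF.Q.k g v = 1 ↔ e v i₀ x₀ + e v i₀ y₀ = 0 := by
  rw [h.k_eq_one_iff hg hv hA]
  constructor
  · intro h1
    have h2 := congrFun (h1 i₀) x₀
    rw [upd_self, smul_apply, Equiv.swap_inv, Equiv.swap_apply_left] at h2
    rw [h2, z2_add_self]
  · intro h1 i
    have h2 : e v i₀ x₀ = e v i₀ y₀ := by
      rw [eq_neg_of_add_eq_zero_left h1, z2_neg]
    by_cases hi : i = i₀
    · subst hi
      funext x
      rw [upd_self, smul_apply, Equiv.swap_inv]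
      by_cases hx : x = x₀
      · rw [hx, Equiv.swap_apply_left, h2]
      · by_cases hy : x = y₀
        · rw [hy, Equiv.swap_apply_right, h2]
        · rw [Equiv.swap_apply_of_ne_of_ne hx hy]
    · rw [upd_ne hi, one_smul]

/-- the kernel -/
theorem ker_of (hm : 1 ≤ m) {i₀ : Fin n} {x₀ y₀ : Fin (2 ^ m + 1)} (hxy : x₀ ≠ y₀) {u : G} (hu : u ∈ N)
    (h0 : ∀ p ∈ P, e (p * u * p⁻¹) i₀ x₀ + e (p * u * p⁻¹) i₀ y₀ = 0) : u = 1 := by
  have h1 : ∀ p ∈ P, e (p * u * p⁻¹) i₀ = 0 := by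
    intro p hp
    refine const_eq_zero hm (h.mem _ (h.cj hp hu) i₀) fun x => ?_
    by_cases hx0 : x = 0
    · rw [hx0]
    obtain ⟨ρ, hρ1, hρ2⟩ : ∃ ρ : Equiv.Perm (Fin (2 ^ m + 1)), ρ x = x₀ ∧ ρ 0 = y₀ := by
      refine ⟨Equiv.swap (Equiv.swap x x₀ 0) y₀ * Equiv.swap x x₀, ?_, ?_⟩
      · rw [Equiv.Perm.mul_apply, Equiv.swap_apply_left, Equiv.swap_apply_of_ne_of_ne _ hxy]
        intro h2
        have h3 := congrArg (Equiv.swap x x₀) h2
        rw [Equiv.swap_apply_self, Equiv.swap_apply_right] at h3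
        exact hx0 h3
      · rw [Equiv.Perm.mul_apply, Equiv.swap_apply_left]
    obtain ⟨g, hg, hA⟩ := h.lift (upd i₀ ρ)
    have h2 := h0 (g * p) (P.mul_mem hg hp)
    have e1 : g * p * u * (g * p)⁻¹ = g * (p * u * p⁻¹) * g⁻¹ := by group
    have h3 : ∀ z, e (g * (p * u * p⁻¹) * g⁻¹) i₀ (ρ z) = e (p * u * p⁻¹) i₀ z := by
      intro z
      have h4 := congrFun (hA _ (h.cj hp hu) i₀) (ρ z)
      rw [upd_self, smul_apply'] at h4
      exact h4
    rw [e1, ← hρ1, ← hρ2, h3, h3] at h2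
    rw [eq_neg_of_add_eq_zero_left h2, z2_neg]
  refine h.inj u hu (funext fun j => ?_)
  obtain ⟨t, ht, h2⟩ := h.trans j i₀
  exact (h2 u hu).1 (h1 t ht)

variable {M₀ W : Subgroup G}

theorem rootM (s : Sit M₀ W N) (PM : P ≤ M₀) {i₀ : Fin n} {x₀ y₀ z₀ : Fin (2 ^ m + 1)} (hxy : x₀ ≠ y₀)
    (hxz : z₀ ≠ x₀) (hyz : z₀ ≠ y₀) {t p : G} (htP : t ∈ P) (htA : Act e N t (upd i₀ (Equiv.swap x₀ y₀)))
    (htW : ∀ w ∈ W, VF.Q.k t w ∈ N) (hp : p ∈ P) (hpA : Act e N p (upd i₀ (Equiv.swap x₀ z₀))) :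
    RootM M₀ W N (ZMod 2) (rt t) (p * t * p⁻¹) fun v => e v i₀ x₀ + e v i₀ y₀ := by
  have hlP : p * t * p⁻¹ ∈ P := P.mul_mem (P.mul_mem hp htP) (P.inv_mem hp)
  have hk1 : ∀ v : G, VF.Q.k (rt t 0) v = 1 := fun v => by rw [rt_zero, k_one]
  refine
  { mem := fun b => PM (rt_mem htP b)
    aW := fun b w hw => ?_
    lM := PM hlP
    lW := kN_cj h.nor s PM hp htW
    f_mul := fun u hu v hv => ?_
    add := fun b b' v hv => ?_
    zero := fun v hv h0 b => ?_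
    inj := fun b hb v hv h0 => ?_
    disj := fun b c v hv v' hv' h0 => ?_ }
  · rcases z2_cases b with rfl | rfl
    · rw [hk1]; exact N.one_mem
    · rw [rt_one]; exact htW w hw
  · rw [h.mul u hu v hv]
    simp only [Pi.add_apply]
    ring
  · rcases z2_cases b with rfl | rfl
    · rw [zero_add, hk1, one_mul]
    · rcases z2_cases b' with rfl | rfl
      · rw [add_zero, hk1, mul_one]
      · rw [z2_add_self, hk1, rt_one]
        exact (s.sq _ (s.VW (htW _ (s.VW hv)))).symm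
  · rcases z2_cases b with rfl | rfl
    · exact hk1 v
    · rw [rt_one]
      exact (swap_eq_one h (h.cj htP hv) hv htA).2 h0
  · rcases z2_cases b with rfl | rfl
    · exact absurd rfl hb
    · rw [rt_one] at h0
      exact (swap_eq_one h (h.cj htP hv) hv htA).1 h0
  · rcases z2_cases b with rfl | rfl
    · exact hk1 v
    rcases z2_cases c with rfl | rfl
    · rw [hk1] at h0
      rw [h0]; group
    rw [rt_one] at h0 ⊢
    -- compare the coordinates `(i₀, z₀)`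
    have hu : VF.Q.k t v' ∈ N := htW _ (s.VW hv')
    have hl : Act e N (p * t * p⁻¹) (upd i₀ (Equiv.swap z₀ y₀)) := by
      have h1 := act_mul (fun v hv => h.cj (P.inv_mem hp) hv) (act_mul (fun v hv => h.cj htP hv) hpA htA)
        (act_inv (fun v hv => h.cj' hp hv) hpA)
      rwa [upd_inv, upd_mul, upd_mul, ← Equiv.swap_apply_apply, Equiv.swap_apply_left,
        Equiv.swap_apply_of_ne_of_ne hxy.symm hyz.symm] at h1
    have h1 : e (p * t * p⁻¹ * VF.Q.k t v' * (p * t * p⁻¹)⁻¹) i₀ z₀ = e (VF.Q.k t v') i₀ y₀ := by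
      rw [hl _ hu i₀, upd_self, smul_apply, Equiv.swap_inv, Equiv.swap_apply_left]
    have h3 : e (VF.Q.k t v) i₀ z₀ = 0 := by
      rw [h.e_k (h.cj htP hv) hv htA, upd_self, Pi.sub_apply, smul_apply, Equiv.swap_inv,
        Equiv.swap_apply_of_ne_of_ne hxz hyz, sub_self]
    have h5 : e (VF.Q.k t v') i₀ y₀ = e v' i₀ x₀ + e v' i₀ y₀ := by
      rw [h.e_k (h.cj htP hv') hv' htA, upd_self, Pi.sub_apply, smul_apply, Equiv.swap_inv,
        Equiv.swap_apply_right, sub_eq_add_neg, z2_neg]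
    rw [h0, h1, h5, ← swap_eq_one h (h.cj htP hv') hv' htA] at h3
    rw [h0, h3]; group

/-- **even-subset modules** -/
theorem main [Finite G] (hm : 1 ≤ m) (s : Sit M₀ W N) (PM : P ≤ M₀) (no : NoOverM W M₀) {i₀ : Fin n}
    {x₀ y₀ z₀ : Fin (2 ^ m + 1)} (hxy : x₀ ≠ y₀) (hxz : z₀ ≠ x₀) (hyz : z₀ ≠ y₀) {t : G} (htP : t ∈ P)
    (htA : Act e N t (upd i₀ (Equiv.swap x₀ y₀))) (htW : ∀ w ∈ W, VF.Q.k t w ∈ N)
    (hsplit : ∀ w ∈ W, ∃ v ∈ N, VF.Q.k t (v⁻¹ * w) = 1) {w : G} (hw : w ∈ W) :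
    ∃ v ∈ N, ∀ (d : G) (A : Fin n → PN m), Cl M₀ W N e d A → VF.Q.k d (v⁻¹ * w) = 1 := by
  obtain ⟨p, hp, hpA⟩ := h.lift (upd i₀ (Equiv.swap x₀ z₀))
  have hX : closure (Set.range fun j : Fin (2 ^ m) => Equiv.swap j.castSucc j.succ) = (⊤ : Subgroup (PN m)) := by
    rw [eq_top_iff]
    intro x _
    have h1 : x ∈ Submonoid.closure (Set.range fun j : Fin (2 ^ m) => Equiv.swap j.castSucc j.succ) := by
      rw [Equiv.Perm.mclosure_swap_castSucc_succ]; trivial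
    exact (Submonoid.closure_le (S := (closure (Set.range fun j : Fin (2 ^ m) =>
      Equiv.swap j.castSucc j.succ)).toSubmonoid)).2 subset_closure h1
  refine h.main s PM no Finite.one_lt_card (rootM h s PM hxy hxz hyz htP htA htW hp hpA)
    (fun u hu h0 => ker_of h hm hxy hu h0) (i₀ := i₀) hX (fun w hw => ?_) hw
  -- the adjacent transpositions
  have h1 : ∀ j : Fin (2 ^ m), ∃ x ∈ P, (∀ w ∈ W, VF.Q.k x w ∈ N) ∧
      Act e N x (upd i₀ (Equiv.swap j.castSucc j.succ)) ∧ ∃ v ∈ N, VF.Q.k x (v⁻¹ * w) = 1 := by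
    intro j
    have hjj : j.castSucc ≠ j.succ := (Fin.castSucc_lt_succ (i := j)).ne
    obtain ⟨ρ, hρ1, hρ2⟩ : ∃ ρ : Equiv.Perm (Fin (2 ^ m + 1)), ρ x₀ = j.castSucc ∧ ρ y₀ = j.succ := by
      refine ⟨Equiv.swap (Equiv.swap x₀ j.castSucc y₀) j.succ * Equiv.swap x₀ j.castSucc, ?_, ?_⟩
      · rw [Equiv.Perm.mul_apply, Equiv.swap_apply_left, Equiv.swap_apply_of_ne_of_ne _ hjj]
        intro h2
        have h3 := congrArg (Equiv.swap x₀ j.castSucc) h2
        rw [Equiv.swap_apply_self, Equiv.swap_apply_right] at h3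
        exact hxy h3
      · rw [Equiv.Perm.mul_apply, Equiv.swap_apply_left]
    obtain ⟨g, hg, hgA⟩ := h.lift (upd i₀ ρ)
    refine ⟨g * t * g⁻¹, P.mul_mem (P.mul_mem hg htP) (P.inv_mem hg), kN_cj h.nor s PM hg htW, ?_, ?_⟩
    · have h2 := act_mul (fun v hv => h.cj (P.inv_mem hg) hv) (act_mul (fun v hv => h.cj htP hv) hgA htA)
        (act_inv (fun v hv => h.cj' hg hv) hgA)
      rwa [upd_inv, upd_mul, upd_mul, ← Equiv.swap_apply_apply, hρ1, hρ2] at h2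
    · have hw' : g⁻¹ * w * g ∈ W := by
        have := s.cj_mem (M₀.inv_mem (PM hg)) hw
        rwa [inv_inv] at this
      obtain ⟨v, hv, hc⟩ := hsplit _ hw'
      refine ⟨g * v * g⁻¹, h.cj hg hv, ?_⟩
      have e1 : (g * v * g⁻¹)⁻¹ * w = g * (v⁻¹ * (g⁻¹ * w * g)) * g⁻¹ := by group
      rw [e1, k_cj, hc]
      group
  choose x hxP hxW hxA y hy hyc using h1
  obtain ⟨d, hd0, hd⟩ := exists_even hm fun j => e (y j) i₀ j.castSucc + e (y j) i₀ j.succ
  obtain ⟨v, hv, hev⟩ := h.surj (fun _ => d) fun _ => hd0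
  refine ⟨v, hv, ?_⟩
  rintro _ ⟨j, rfl⟩
  refine ⟨x j, ⟨PM (hxP j), hxW j, hxA j⟩, ?_⟩
  have hx : v⁻¹ * y j ∈ N := N.mul_mem (N.inv_mem hv) (hy j)
  have hz : (y j)⁻¹ * w ∈ W := W.mul_mem (W.inv_mem (s.VW (hy j))) hw
  have e1 : v⁻¹ * w = (v⁻¹ * y j) * ((y j)⁻¹ * w) := by group
  have h3 : VF.Q.k (x j) (v⁻¹ * y j) = 1 := by
    rw [swap_eq_one h (h.cj (hxP j) hx) hx (hxA j), h.mul _ (N.inv_mem hv) _ (hy j), h.e_inv hv, hev]
    have h4 := hd j
    have h5 := z2_add_self (e (y j) i₀ j.castSucc + e (y j) i₀ j.succ)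
    simp only [Pi.add_apply, Pi.neg_apply, z2_neg]
    linear_combination h4 + h5
  rw [e1, s.k_mul_right (PM (hxP j)) (s.VW hx) hz, h3, hyc j, one_mul]

omit h in
/-- `SymK` with `D = 1`. -/
theorem ns_of {T P V : Subgroup G} {k m : ℕ} (M : SymK T P V ⊥ k m)
    (hPV : P ≤ normalizer (V : Set G)) (TP : T ≤ P) : Ns (PN m) (Ev m) P V k M.e := by
  have hn : ∀ h ∈ P, ∀ v ∈ V, h * v * h⁻¹ ∈ V := fun g hg v hv => (mem_normalizer_iff.1 (hPV hg) v).1 hv
  have h01 : (0 : Fin (2 ^ m + 1)) ≠ Fin.last (2 ^ m) := by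
    intro h1
    have h2 := congrArg Fin.val h1
    rw [Fin.val_last, Fin.val_zero] at h2
    have : 0 < 2 ^ m := Nat.two_pow_pos m
    omega
  refine
  { ne := ⟨Pi.single 0 1 + Pi.single (Fin.last (2 ^ m)) 1, ?_, fun h0 => ?_⟩
    mem := fun v hv i => M.even v hv i
    mul := M.mul
    surj := fun x hx => M.surj x hx
    inj := fun v hv h0 => mem_bot.1 ((M.ker v hv).1 h0)
    nor := hPV
    lift := fun A => ?_
    norm := fun g hg x hx A hA => ?_
    perm := fun g hg => ?_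
    trans := fun i j => ?_ }
  · rw [mem_Ev]
    simp only [Pi.add_apply, Finset.sum_add_distrib, Finset.sum_pi_single', Finset.mem_univ, if_true]
    exact z2_add_self 1
  · have h1 := congrFun h0 0
    rw [Pi.add_apply, Pi.single_eq_same, Pi.single_eq_of_ne h01, add_zero] at h1
    exact one_ne_zero h1
  · obtain ⟨g, hg, h1, -⟩ := M.lift A
    exact ⟨g, hg, act_iff.2 h1⟩
  · obtain ⟨σ, τ, hg1⟩ := M.perm g hg
    exact ⟨_, act_iff.2 (VF.Q.S.acts_conj hn hg hx hg1 (act_iff.1 hA))⟩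
  · obtain ⟨σ, τ, h1⟩ := M.perm g hg
    refine ⟨σ, fun v hv i => ⟨fun h0 => ?_, fun h0 => ?_⟩⟩
    · funext x
      rw [← h1 v hv i x, h0]; rfl
    · funext y
      obtain ⟨x, rfl⟩ := (τ i).surjective y
      rw [h1 v hv i x, h0]; rfl
  · obtain ⟨t, ht, σ, τ, h1, h2⟩ := M.trans i j
    refine ⟨t, TP ht, fun v hv => ⟨fun h0 => ?_, fun h0 => ?_⟩⟩
    · funext x
      rw [← h1 v hv i x, h2, h0]; rfl
    · funext y
      obtain ⟨x, rfl⟩ := (τ i).surjective y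
      rw [← h2, h1 v hv i x, h0]; rfl

omit h in
/-- `SymK` : `V_P` splits. -/
theorem splitBy [Finite G] (hc : IsCharacteristicTwoType G) {S : Sylow 2 G} {P : Subgroup G}
    (hP : IsPar (S : Subgroup G) P) {k m : ℕ} (hk : 0 < k) (hm : 1 ≤ m)
    (M : SymK (S : Subgroup G) P (zl (S : Subgroup G) P) (cv (S : Subgroup G) P) k m) :
    (∀ g ∈ P, ∀ d ∈ cv (S : Subgroup G) P, g * d = d * g) ∧
      ∃ V₀, RTreeA.SplitBy (S : Subgroup G) P (cv (S : Subgroup G) P) V₀ := by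
  have hT : Syl (S : Subgroup G) P := ⟨hP.le, S.isPGroup', fun Q _ hQ hle => S.is_maximal' hQ hle⟩
  obtain ⟨h1, A, hAV, hsup, hinf, hAN⟩ := IId.SymWrD.exists_compl M hk hm hT (hP.isLoc.char2 S hc)
  exact ⟨h1, A, hAV, hAN, hinf, hsup.ge⟩

omit h in
/-- **BLOCK THEOREM, `U = N × C_U(O²(P))`, even-subset modules.** -/
theorem sp [Finite G] (hc : IsCharacteristicTwoType G) {S : Sylow 2 G} {L P A V₀ : Subgroup G}
    (hL : IsLoc (S : Subgroup G) L) (hP : IsParS (S : Subgroup G) P) (hPL : P ≤ L)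
    (no : NoOverM (zl (S : Subgroup G) L) L) (noP : NoOverM (zl (S : Subgroup G) P) P)
    (hA : A ≤ (S : Subgroup G)) (off : OffM (zl (S : Subgroup G) L) A)
    (hne : ¬ A ≤ centralizer (zl (S : Subgroup G) P : Set G))
    (hAC : A ⊓ centralizer (zl (S : Subgroup G) P : Set G) ≤ centralizer (zl (S : Subgroup G) L : Set G))
    {k m : ℕ} (hk : 0 < k) (hm : 1 ≤ m)
    (M : SymKM (S : Subgroup G) P (zl (S : Subgroup G) P) (cv (S : Subgroup G) P) k m)
    (hV : RTreeA.SplitBy (S : Subgroup G) P (cv (S : Subgroup G) P) V₀) :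
    Sp L P (zl (S : Subgroup G) L) V₀ A := by
  classical
  have hSP : (S : Subgroup G) ≤ P := hP.le
  have hAP : A ≤ P := hA.trans hSP
  have hVW : zl (S : Subgroup G) P ≤ zl (S : Subgroup G) L :=
    MinSimple.VModule.zl_le (zc_le_zl _ _) (hPL.trans (le_normalizer_zl _ _))
  have hE := FFThm.elem_zl hc S hL
  have ab : ∀ x ∈ zl (S : Subgroup G) L, ∀ y ∈ zl (S : Subgroup G) L, x * y = y * x :=
    fun x hx y hy => congrArg Subtype.val (hE.1.is_comm.comm ⟨x, hx⟩ ⟨y, hy⟩)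
  have sq : ∀ x ∈ zl (S : Subgroup G) L, x * x = 1 := fun x hx => by rw [← pow_two]; exact hE.2 x hx
  have s0 : Sit L (zl (S : Subgroup G) L) (zl (S : Subgroup G) P) := ⟨ab, sq, hVW, le_normalizer_zl _ _⟩
  have hHD := (splitBy hc hP.toIsPar hk hm M.toSymK).1
  obtain ⟨hV1, hV2, hV3, hV4⟩ := hV
  have s : Sit L (zl (S : Subgroup G) L) V₀ := ⟨ab, sq, hV1.trans hVW, le_normalizer_zl _ _⟩
  have DV : cv (S : Subgroup G) P ≤ zl (S : Subgroup G) P := inf_le_left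
  have habV : ∀ x ∈ zl (S : Subgroup G) P, ∀ y ∈ zl (S : Subgroup G) P, x * y = y * x :=
    fun x hx y hy => ab x (hVW hx) y (hVW hy)
  have hsup : V₀ ⊔ cv (S : Subgroup G) P = zl (S : Subgroup G) P := le_antisymm (sup_le hV1 DV) hV4
  have h : Ns (PN m) (Ev m) P V₀ k M.e :=
    ns_of (IId.SymWrD.compl M.toSymK hSP habV hsup hV3 hV2 hHD) hV2 hSP
  have offV := s0.offM_of off hne hAC
  obtain ⟨hAD, hI⟩ := M.offM A hA offV
  have hdec : ∀ v ∈ zl (S : Subgroup G) P, ∃ x ∈ V₀, ∃ d ∈ cv (S : Subgroup G) P, v = x * d := by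
    intro v hv
    refine mem_sup_of (fun x hx => ?_) (hV4 hv)
    exact centralizer_le_normalizer _ (mem_centralizer_iff.2 fun y hy => habV y (DV hy) x (hV1 hx))
  have hsplit : ∀ w ∈ zl (S : Subgroup G) L, ∃ v ∈ V₀, ∀ a ∈ A, VF.Q.k a (v⁻¹ * w) = 1 := by
    intro w hw
    obtain ⟨v, hv, h1⟩ := s0.exists_split off hAC (noP A hAP offV.toElemM) hw
    obtain ⟨x, hx, d, hd, rfl⟩ := hdec v hv
    refine ⟨x, hx, fun a ha => k_eq_one.2 ?_⟩
    have e1 : x⁻¹ * w = d * ((x * d)⁻¹ * w) := by group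
    have h3 := mem_centralizer_iff.1 h1 a ha
    have h4 := hAD a ha d hd
    rw [e1]
    calc a * (d * ((x * d)⁻¹ * w)) = (a * d) * ((x * d)⁻¹ * w) := by group
      _ = d * (a * ((x * d)⁻¹ * w)) := by rw [h4]; group
      _ = d * ((x * d)⁻¹ * w) * a := by rw [h3]; group
  have hkA : ∀ a ∈ A, ∀ w ∈ zl (S : Subgroup G) L, VF.Q.k a w ∈ V₀ := by
    intro a ha w hw
    obtain ⟨v, hv, h1⟩ := hsplit w hw
    have e1 : w = v * (v⁻¹ * w) := by group
    rw [e1, s.k_mul_right (hPL (hAP ha)) (s.VW hv) (mul_mem (inv_mem (s.VW hv)) hw), h1 a ha, mul_one, k_def]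
    exact mul_mem (h.cj (hAP ha) hv) (inv_mem hv)
  have hres : ∀ {g : G} {τ : Fin k → PN m}, ActsSym M.e (zl (S : Subgroup G) P) g 1 τ → Act M.e V₀ g τ :=
    fun h1 => act_iff.2 fun v hv i x => h1 v (hV1 hv) i x
  -- a transposition in `A`
  obtain ⟨t, ht, i₀, x₀, y₀, hxy, htA⟩ : ∃ t ∈ A, ∃ (i₀ : Fin k) (x₀ y₀ : Fin (2 ^ m + 1)), x₀ ≠ y₀ ∧
      Act M.e V₀ t (upd i₀ (Equiv.swap x₀ y₀)) := by
    by_contra hcon
    apply hne
    intro x hx
    obtain ⟨τ, hτ, h1⟩ := hI x hx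
    have hτ1 : τ = 1 := by
      funext i
      ext z
      by_cases hz : τ i z = z
      · rw [hz]; rfl
      · exfalso
        obtain ⟨-, b, hb, hbA⟩ := h1 i z hz
        refine hcon ⟨b, hb, i, z, τ i z, Ne.symm hz, hres ?_⟩
        convert hbA using 2
    subst hτ1
    rw [mem_centralizer_iff]
    intro v hv
    obtain ⟨y, hy, d, hd, rfl⟩ := hdec v hv
    have h3 : VF.Q.k x y = 1 := by
      refine h.k_one_of hy (h.cj (hAP hx) hy) (funext fun i => ?_)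
      rw [hres hτ y hy i, Pi.one_apply, one_smul]
    have h4 := k_eq_one.1 h3
    have h5 := hAD x hx d hd
    calc y * d * x = y * (x * d) := by rw [h5]; group
      _ = x * (y * d) := by rw [← mul_assoc, ← h4]; group
  obtain ⟨z₀, hz1, hz2⟩ : ∃ z₀ : Fin (2 ^ m + 1), z₀ ≠ x₀ ∧ z₀ ≠ y₀ := by
    have h1 : 2 < Fintype.card (Fin (2 ^ m + 1)) := by
      rw [Fintype.card_fin]
      have : 2 ^ 1 ≤ 2 ^ m := Nat.pow_le_pow_right (by norm_num) hm
      omega
    have h2 : ({x₀, y₀} : Finset (Fin (2 ^ m + 1))).card < Fintype.card (Fin (2 ^ m + 1)) :=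
      lt_of_le_of_lt (Finset.card_le_two) h1
    obtain ⟨z, hz⟩ := Finset.exists_mem_notMem_of_card_lt_card (t := Finset.univ) (s := {x₀, y₀})
      (by rw [Finset.card_univ]; exact h2)
    refine ⟨z, fun h3 => hz.2 (by rw [h3]; simp), fun h3 => hz.2 (by rw [h3]; simp)⟩
  obtain ⟨p, hp, hpA⟩ := h.lift (upd i₀ (Equiv.swap x₀ z₀))
  have R := rootM h s hPL hxy hz1 hz2 (hAP ht) htA (hkA t ht) hp hpA
  refine sp_of h s hPL (fun w hw => ?_) (fun d hd h1 h2 w hw => ?_) hAP hkA (fun x hx => ?_) ?_ ?_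
  · exact main h hm s hPL no hxy hz1 hz2 (hAP ht) htA (hkA t ht) (fun w hw => by
      obtain ⟨v, hv, h1⟩ := hsplit w hw
      exact ⟨v, hv, h1 t ht⟩) hw
  · exact lemD h.nor s hPL no Finite.one_lt_card R (fun u hu h0 => ker_of h hm hxy hu h0) hd h1 h2 hw
  · obtain ⟨τ, hτ, -⟩ := hI x hx
    exact ⟨τ, hres hτ⟩
  · refine oddGen_le_ncl hP.toIsMinPar hA fun h1 => hne ?_
    rw [← hP.inf_centralizer S hc] at h1
    exact h1.trans inf_le_right
  · have h1 : V₀ ⊓ centralizer (oddGen P : Set G) ≤ V₀ ⊓ cv (S : Subgroup G) P :=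
      le_inf inf_le_left (le_inf (inf_le_left.trans hV1) inf_le_right)
    rw [hV3] at h1
    exact le_bot_iff.1 h1

end Cfsg.Agent.Omega.NOThreeL.RRed.Blk.SplitSym
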